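import Groth.Prelude.Def_RelSpec

/-!
# Quasi-coherent algebras from data on the affine opens

Given a functor `F` on the affine opens of `S` to commutative rings, under the structure sheaf (`α`), which is
coequifibered (localization on basic opens), we build a quasi-coherent algebra `ofAffine H : RelSpec.QCAlg S`
(the direct image of the structure sheaf of the scheme glued from the `Spec F(U)`), with a natural isomorphism
`gammaRestrict H` of its restriction to the affine opens with `F`, compatible with structure maps.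
Also: extension of homomorphisms from the affine opens (`homOfAffine`, `hom_ext_affine`).
-/

set_option autoImplicit false
universe u

open CategoryTheory CategoryTheory.Limits AlgebraicGeometry TopologicalSpace Opposite

noncomputable section

namespace Groth.Agent.Lib.Helper74.OfAffine

open RelSpec

variable {S : Scheme.{u}} {F : S.AffineZariskiSiteᵒᵖ ⥤ CommRingCat.{u}}
  {α : (Scheme.AffineZariskiSite.toOpensFunctor S).op ⋙ S.presheaf ⟶ F} (H : α.Coequifibered)

/-- The relative gluing datum: the affine schemes `Spec F(U)` over the affine opens `U` of `S`. -/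
def glueData : (Scheme.AffineZariskiSite.directedCover S).RelativeGluingData :=
  Scheme.AffineZariskiSite.relativeGluingData H

instance : ((glueData H).functor ⋙ Scheme.forget).IsLocallyDirected :=
  Scheme.Cover.RelativeGluingData.instIsLocallyDirectedI₀CompFunctorForgetOfIsThin ..

/-- The glued scheme. -/
def spec : Scheme.{u} := (glueData H).glued

/-- The structure morphism. -/
def π : spec H ⟶ S := (glueData H).toBase

/-- The charts. -/
def ι (U : S.Opens) (hU : IsAffineOpen U) : Spec (F.obj (op ⟨U, hU⟩)) ⟶ spec H :=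
  (glueData H).cover.f ⟨U, hU⟩

variable (U : S.Opens) (hU : IsAffineOpen U)

variable (α) in
/-- The structure map over an affine open, with its source in syntactic form `Γ(S, U)`. -/
abbrev αApp : Γ(S, U) ⟶ F.obj (op ⟨U, hU⟩) := α.app (op ⟨U, hU⟩)

instance : IsOpenImmersion (ι H U hU) := (glueData H).cover.map_prop _

theorem ι_π : ι H U hU ≫ π H = Spec.map (αApp α U hU) ≫ hU.fromSpec :=
  colimit.ι_desc _ _

theorem π_preimage : π H ⁻¹ᵁ U = (ι H U hU).opensRange := by
  simpa using! (glueData H).toBase_preimage_eq_opensRange_ι ⟨U, hU⟩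

theorem top_le_preimage : (⊤ : (Spec (F.obj (op ⟨U, hU⟩))).Opens) ≤ ι H U hU ⁻¹ᵁ (π H ⁻¹ᵁ U) := by
  rw [← Scheme.Hom.comp_preimage, ι_π, Scheme.Hom.comp_preimage, hU.fromSpec_preimage_self]
  exact le_top

instance isAffineHom_π : IsAffineHom (π H) where
  isAffine_preimage U hU := by
    rw [π_preimage H U hU]
    exact isAffineOpen_opensRange (ι H U hU)

/-- Sections over the preimage of an affine open are `F(U)`. -/
def gammaAff : Γ(spec H, π H ⁻¹ᵁ U) ⟶ F.obj (op ⟨U, hU⟩) :=
  (ι H U hU).appLE (π H ⁻¹ᵁ U) ⊤ (top_le_preimage H U hU) ≫ (Scheme.ΓSpecIso (F.obj (op ⟨U, hU⟩))).hom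

theorem ι_res {U V : S.AffineZariskiSite} (i : V ⟶ U) :
    Spec.map (F.map i.op) ≫ ι H U.1 U.2 = ι H V.1 V.2 :=
  colimit.w (glueData H).functor i

theorem gammaAff_eq {U : S.Opens} (hU : IsAffineOpen U) {W : (spec H).Opens} (hW : W = π H ⁻¹ᵁ U)
    (e : ⊤ ≤ ι H U hU ⁻¹ᵁ W) :
    (spec H).presheaf.map (eqToHom hW).op ≫ (ι H U hU).appLE W ⊤ e ≫
      (Scheme.ΓSpecIso (F.obj (op ⟨U, hU⟩))).hom = gammaAff H U hU := by
  subst hW; simp [gammaAff]

theorem isIso_gammaAff : IsIso (gammaAff H U hU) := by
  have hW : (ι H U hU) ''ᵁ ⊤ = π H ⁻¹ᵁ U := by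
    rw [π_preimage H U hU]
    exact (Scheme.Hom.image_top_eq_opensRange _)
  have e : ⊤ ≤ ι H U hU ⁻¹ᵁ ((ι H U hU) ''ᵁ ⊤) := by
    rw [Scheme.Hom.preimage_image_eq]
  rw [← gammaAff_eq H hU hW e]
  have h1 : IsIso ((ι H U hU).appLE ((ι H U hU) ''ᵁ ⊤) ⊤ e) := by
    rw [← Scheme.Hom.appIso_hom']
    infer_instance
  infer_instance

set_option backward.isDefEq.respectTransparency false in
/-- The identifications `gammaAff` over the affine opens, as a natural transformation on the affine opens of `S`. -/
def gammaRestrict : (Scheme.AffineZariskiSite.toOpensFunctor S).op ⋙ ((π H).base _* (spec H).presheaf) ⟶ F where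
  app U := gammaAff H U.unop.1 U.unop.2
  naturality U V i := by
    change (spec H).presheaf.map (homOfLE ((π H).preimage_mono (Scheme.AffineZariskiSite.toOpens_mono i.unop.le))).op ≫
        gammaAff H V.unop.1 V.unop.2 =
      gammaAff H U.unop.1 U.unop.2 ≫ F.map i
    simp only [gammaAff, Category.assoc, ← Scheme.ΓSpecIso_naturality]
    simp only [← Category.assoc]
    congr 1
    simp only [Scheme.Hom.appTop, Scheme.Hom.appLE, Category.assoc]
    have h1 := (Scheme.Hom.comp_app
      (Spec.map (F.map i))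
      (ι H U.unop.1 U.unop.2) (π H ⁻¹ᵁ U.unop.1)).symm
    have hres : Spec.map (F.map i) ≫ ι H U.unop.1 U.unop.2 = ι H V.unop.1 V.unop.2 := ι_res H i.unop
    rw [Scheme.Hom.naturality_assoc, Scheme.Hom.naturality, reassoc_of% h1,
      Scheme.Hom.congr_app hres, Category.assoc, ← Functor.map_comp, ← Functor.map_comp]
    rfl

instance (V : S.AffineZariskiSiteᵒᵖ) : IsIso ((gammaRestrict H).app V) := isIso_gammaAff H V.unop.1 V.unop.2

instance : IsIso (gammaRestrict H) := NatIso.isIso_of_isIso_app _

set_option backward.isDefEq.respectTransparency false in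
/-- Over an affine open, `gammaAff` is compatible with the two structure maps from the structure sheaf. -/
theorem π_app_gammaAff : (π H).app U ≫ gammaAff H U hU = α.app (op ⟨U, hU⟩) := by
  have h1 := Scheme.Hom.congr_app (ι_π H U hU) U
  have h2 := (Scheme.Hom.comp_app (ι H U hU) (π H) U).symm
  have hk : ∀ k : (op ⊤ : (Spec (F.obj (op ⟨U, hU⟩))).Opensᵒᵖ) ⟶ op ⊤,
      (Spec (F.obj (op ⟨U, hU⟩))).presheaf.map k = 𝟙 _ := fun k => by
    rw [Subsingleton.elim k (𝟙 _)]; exact CategoryTheory.Functor.map_id _ _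
  simp only [gammaAff, Scheme.Hom.appLE, Category.assoc]
  rw [reassoc_of% h2, h1, Scheme.Hom.comp_app, hU.fromSpec_app_self]
  simp only [Category.assoc]
  rw [Scheme.Hom.naturality_assoc]
  simp only [← Functor.map_comp_assoc]
  erw [hk, Category.id_comp]
  rw [← cancel_epi (Scheme.ΓSpecIso Γ(S, U)).hom, Iso.hom_inv_id_assoc]
  erw [Scheme.ΓSpecIso_naturality]

/-- The quasi-coherent algebra attached to the affine-local data. -/
def ofAffine : QCAlg S := QCAlg.directImage (π H)

theorem str_gammaRestrict :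
    (Scheme.AffineZariskiSite.toOpensFunctor S).op.whiskerLeft (ofAffine H).str ≫ gammaRestrict H = α := by
  ext V : 2
  exact π_app_gammaAff H V.unop.1 V.unop.2

section homs

/-- Two sections of a sheaf of rings on `S` agreeing on all affine opens inside `U` are equal. -/
theorem section_ext (B : QCAlg S) {U : S.Opens} (s t : B.presheaf.obj (op U))
    (h : ∀ (V : S.Opens) (_ : IsAffineOpen V) (hVU : V ≤ U),
      B.presheaf.map (homOfLE hVU).op s = B.presheaf.map (homOfLE hVU).op t) : s = t := by
  refine TopCat.Sheaf.eq_of_locally_eq' (⟨B.presheaf, B.isSheaf⟩ : TopCat.Sheaf CommRingCat.{u} S.carrier)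
    (fun V : {V : S.affineOpens // V.1 ≤ U} => (V.1.1 : S.Opens)) U (fun V => homOfLE V.2) ?_ s t
    (fun V => h V.1.1 V.1.2 V.2)
  intro x hx
  obtain ⟨V, hV, hxV, hVU⟩ := Opens.isBasis_iff_nbhd.mp S.isBasis_affineOpens hx
  exact Opens.mem_iSup.mpr ⟨⟨⟨V, hV⟩, hVU⟩, hxV⟩

/-- Homomorphisms of quasi-coherent algebras agreeing over the affine opens are equal. -/
theorem hom_ext_affine {A B : QCAlg S} {f g : A ⟶ B}
    (h : ∀ (U : S.Opens) (_ : IsAffineOpen U), f.hom.app (op U) = g.hom.app (op U)) : f = g := by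
  apply QCAlg.hom_ext
  apply (Functor.IsCoverDense.restrictHomEquivHom (G := Scheme.AffineZariskiSite.toOpensFunctor S)
    (K := Opens.grothendieckTopology S) (ℱ := A.presheaf)
    (ℱ' := (⟨B.presheaf, B.isSheaf⟩ : TopCat.Sheaf CommRingCat.{u} S.carrier))).symm.injective
  ext U : 2
  exact h U.unop.1 U.unop.2

/-- A homomorphism of quasi-coherent algebras from its restriction to the affine opens. -/
def homMkAffine (A B : QCAlg S)
    (η : (Scheme.AffineZariskiSite.toOpensFunctor S).op ⋙ A.presheaf ⟶
      (Scheme.AffineZariskiSite.toOpensFunctor S).op ⋙ B.presheaf)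
    (hη : (Scheme.AffineZariskiSite.toOpensFunctor S).op.whiskerLeft A.str ≫ η =
      (Scheme.AffineZariskiSite.toOpensFunctor S).op.whiskerLeft B.str) : A ⟶ B where
  hom := Functor.IsCoverDense.restrictHomEquivHom (G := Scheme.AffineZariskiSite.toOpensFunctor S)
    (K := Opens.grothendieckTopology S) (ℱ := A.presheaf)
    (ℱ' := (⟨B.presheaf, B.isSheaf⟩ : TopCat.Sheaf CommRingCat.{u} S.carrier)) η
  comm := by
    apply (Functor.IsCoverDense.restrictHomEquivHom (G := Scheme.AffineZariskiSite.toOpensFunctor S)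
      (K := Opens.grothendieckTopology S) (ℱ := S.presheaf)
      (ℱ' := (⟨B.presheaf, B.isSheaf⟩ : TopCat.Sheaf CommRingCat.{u} S.carrier))).symm.injective
    have h0 := (Functor.IsCoverDense.restrictHomEquivHom (G := Scheme.AffineZariskiSite.toOpensFunctor S)
      (K := Opens.grothendieckTopology S) (ℱ := A.presheaf)
      (ℱ' := (⟨B.presheaf, B.isSheaf⟩ : TopCat.Sheaf CommRingCat.{u} S.carrier))).symm_apply_apply η
    ext U : 2
    have h1 := NatTrans.congr_app h0 U
    have h2 := NatTrans.congr_app hη U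
    change A.str.app (op U.unop.1) ≫ _ = B.str.app (op U.unop.1)
    exact (congr_arg (A.str.app (op U.unop.1) ≫ ·) h1).trans h2

theorem homMkAffine_app (A B : QCAlg S) (η) (hη) (U : S.Opens) (hU : IsAffineOpen U) :
    (homMkAffine A B η hη).hom.app (op U) = η.app (op ⟨U, hU⟩) :=
  NatTrans.congr_app ((Functor.IsCoverDense.restrictHomEquivHom (G := Scheme.AffineZariskiSite.toOpensFunctor S)
    (K := Opens.grothendieckTopology S) (ℱ := A.presheaf)
    (ℱ' := (⟨B.presheaf, B.isSheaf⟩ : TopCat.Sheaf CommRingCat.{u} S.carrier))).symm_apply_apply η) (op ⟨U, hU⟩)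

/-- Homomorphisms out of `ofAffine H` from natural transformations out of `F`. -/
def homOfAffine (B : QCAlg S) (η : F ⟶ (Scheme.AffineZariskiSite.toOpensFunctor S).op ⋙ B.presheaf)
    (hη : α ≫ η = (Scheme.AffineZariskiSite.toOpensFunctor S).op.whiskerLeft B.str) : ofAffine H ⟶ B :=
  homMkAffine (ofAffine H) B (gammaRestrict H ≫ η) (by
    rw [← Category.assoc, str_gammaRestrict, hη])

theorem homOfAffine_app (B : QCAlg S) (η) (hη) (U : S.Opens) (hU : IsAffineOpen U) :
    (homOfAffine H B η hη).hom.app (op U) = gammaAff H U hU ≫ η.app (op ⟨U, hU⟩) :=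
  homMkAffine_app _ _ _ _ U hU

end homs

section modhoms

variable (E : S.Modules) (B : QCAlg S)

/-- Affine-local data for a module map `E ⟶ B.toModule`. -/
structure AffModData where
  /-- the maps on sections over affine opens -/
  app : ∀ (U : S.Opens) (_ : IsAffineOpen U), Γ(E, U) →+ B.presheaf.obj (op U)
  /-- naturality for the restriction to a basic open (the only morphisms of the affine site) -/
  nat : ∀ (U : S.Opens) (hU : IsAffineOpen U) (f : Γ(S, U)) (m : Γ(E, U)),
    app (S.basicOpen f) (hU.basicOpen f) (E.presheaf.map (homOfLE (S.basicOpen_le f)).op m) =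
      B.presheaf.map (homOfLE (S.basicOpen_le f)).op (app U hU m)
  lin : ∀ (U : S.Opens) (hU : IsAffineOpen U) (r : Γ(S, U)) (m : Γ(E, U)),
    app U hU (r • m) = (B.str.app (op U)).hom r * app U hU m

variable {E B} (d : AffModData E B)

/-- The natural transformation on the affine opens. -/
def AffModData.restr : (Scheme.AffineZariskiSite.toOpensFunctor S).op ⋙ E.presheaf ⟶
    (Scheme.AffineZariskiSite.toOpensFunctor S).op ⋙ B.toAb where
  app U := AddCommGrpCat.ofHom (d.app U.unop.1 U.unop.2)
  naturality := by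
    rintro ⟨U⟩ ⟨V⟩ ⟨⟨⟨f, hf⟩⟩⟩
    obtain rfl : U.basicOpen f = V := Subtype.ext hf
    ext m
    exact d.nat U.1 U.2 f m

/-- The extension to all opens, as a map of presheaves of abelian groups. -/
def AffModData.presheafHom : E.presheaf ⟶ B.toAb :=
  Functor.IsCoverDense.restrictHomEquivHom (G := Scheme.AffineZariskiSite.toOpensFunctor S)
    (K := Opens.grothendieckTopology S) (ℱ := E.presheaf)
    (ℱ' := (⟨B.toAb, B.isSheaf_toAb⟩ : TopCat.Sheaf AddCommGrpCat.{u} S.carrier)) d.restr

theorem AffModData.presheafHom_app (U : S.Opens) (hU : IsAffineOpen U) :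
    d.presheafHom.app (op U) = AddCommGrpCat.ofHom (d.app U hU) :=
  NatTrans.congr_app ((Functor.IsCoverDense.restrictHomEquivHom (G := Scheme.AffineZariskiSite.toOpensFunctor S)
    (K := Opens.grothendieckTopology S) (ℱ := E.presheaf)
    (ℱ' := (⟨B.toAb, B.isSheaf_toAb⟩ : TopCat.Sheaf AddCommGrpCat.{u} S.carrier))).symm_apply_apply d.restr)
    (op ⟨U, hU⟩)

theorem AffModData.presheafHom_apply (U : S.Opens) (hU : IsAffineOpen U) (m : Γ(E, U)) :
    (d.presheafHom.app (op U)).hom m = d.app U hU m := by
  rw [d.presheafHom_app U hU]; rfl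

theorem AffModData.presheafHom_res {U V : S.Opens} (h : V ≤ U) (m : Γ(E, U)) :
    (d.presheafHom.app (op V)).hom (E.presheaf.map (homOfLE h).op m) =
      B.presheaf.map (homOfLE h).op ((d.presheafHom.app (op U)).hom m) :=
  congr($(d.presheafHom.naturality (homOfLE h).op).hom m)

theorem AffModData.presheafHom_lin (U : S.Opens) (r : Γ(S, U)) (m : Γ(E, U)) :
    (d.presheafHom.app (op U)).hom (r • m) =
      (B.str.app (op U)).hom r * (d.presheafHom.app (op U)).hom m := by
  refine section_ext B _ _ fun V hV hVU => ?_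
  rw [← d.presheafHom_res hVU, map_mul, ← d.presheafHom_res hVU, Scheme.Modules.map_smul,
    d.presheafHom_apply V hV, d.presheafHom_apply V hV, d.lin V hV]
  congr 1
  exact congr($(B.str.naturality (homOfLE hVU).op).hom r)

/-- The module map with the given restrictions to the affine opens. -/
def AffModData.toHom : E ⟶ B.toModule :=
  ⟨PresheafOfModules.homMk (M₁ := E.val) (M₂ := B.toModule.val) d.presheafHom
    fun U r m => d.presheafHom_lin U.unop r m⟩

theorem AffModData.toHom_app (U : S.Opens) (hU : IsAffineOpen U) (m : Γ(E, U)) :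
    (d.toHom.app U).hom m = d.app U hU m :=
  d.presheafHom_apply U hU m

/-- Module maps into a quasi-coherent algebra that agree over the affine opens are equal. -/
theorem mod_hom_ext_affine {f g : E ⟶ B.toModule}
    (h : ∀ (U : S.Opens) (_ : IsAffineOpen U) (m : Γ(E, U)), (f.app U).hom m = (g.app U).hom m) : f = g := by
  refine Scheme.Modules.hom_ext _ _ fun U => ?_
  ext m
  refine section_ext B _ _ fun V hV hVU => ?_
  have hf := congr($(f.mapPresheaf.naturality (homOfLE hVU).op).hom m)
  have hg := congr($(g.mapPresheaf.naturality (homOfLE hVU).op).hom m)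
  exact hf.symm.trans ((h V hV _).trans hg)

end modhoms

end Groth.Agent.Lib.Helper74.OfAffine
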