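import Mathlib.Topology.Spectral.Basic
import Mathlib.Topology.Spectral.ConstructibleTopology
import Mathlib.Topology.Inseparable
import Mathlib.Topology.Constructible

set_option autoImplicit false
universe u v

namespace Groth.Agent.Lib.Helper74

open Topology TopologicalSpace Set

variable {X : Type u} {Y : Type v} [TopologicalSpace X] [TopologicalSpace Y]

theorem isConstructible_sdiff_union_induction {p : Set X → Prop}
    (sdiff : ∀ U V : Set X, IsOpen U → IsRetrocompact U → IsOpen V → IsRetrocompact V → p (U \ V))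
    (union : ∀ s t : Set X, IsConstructible s → IsConstructible t → p s → p t → p (s ∪ t))
    {s : Set X} (hs : IsConstructible s) : p s := by
  induction s, hs using BooleanSubalgebra.closure_sdiff_sup_induction with
  | isSublattice =>
    exact ⟨fun s hs t ht ↦ ⟨hs.1.union ht.1, hs.2.union ht.2⟩,
      fun s hs t ht ↦ ⟨hs.1.inter ht.1, hs.2.inter_isOpen ht.2 ht.1⟩⟩
  | bot_mem => exact ⟨isOpen_empty, .empty⟩
  | top_mem => exact ⟨isOpen_univ, .univ⟩
  | sdiff U hU V hV => exact sdiff U V hU.1 hU.2 hV.1 hV.2
  | sup s hs t ht hs' ht' => exact union s t hs ht hs' ht'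

theorem IsConstructible_isRetrocompact {s : Set X} (hs : IsConstructible s) :
    IsRetrocompact s := by
  refine isConstructible_sdiff_union_induction (p := fun s => IsRetrocompact s) ?_ ?_ hs
  · intro U V hU hUr hV hVr W hWc hWo
    have h1 : IsCompact (U ∩ W) := hUr hWc hWo
    have : (U \ V) ∩ W = (U ∩ W) ∩ Vᶜ := by
      ext x; simp only [mem_inter_iff, mem_sdiff, mem_compl_iff]; tauto
    rw [this]
    exact h1.inter_right hV.isClosed_compl
  · intro s t _ _ hs ht
    exact hs.union ht

theorem exists_isCompact_isOpen_preimage_eq [PrespectralSpace X] {f : Y → X} (hf : IsInducing f)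
    {W : Set Y} (hWo : IsOpen W) (hWc : IsCompact W) :
    ∃ W' : Set X, IsOpen W' ∧ IsCompact W' ∧ f ⁻¹' W' = W := by
  obtain ⟨O, hO, rfl⟩ := hf.isOpen_iff.mp hWo
  have h1 : IsCompact (f '' (f ⁻¹' O)) := hWc.image hf.continuous
  obtain ⟨W', hW'c, hW'o, h2, h3⟩ :=
    PrespectralSpace.exists_isCompact_and_isOpen_between h1 hO (image_preimage_subset f O)
  refine ⟨W', hW'o, hW'c, ?_⟩
  apply subset_antisymm
  · exact preimage_mono h3
  · intro y hy
    exact h2 ⟨y, hy, rfl⟩

theorem isRetrocompact_preimage_of_isInducing_isSpectralMap [PrespectralSpace X] {f : Y → X}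
    (hf : IsInducing f) (hf' : IsSpectralMap f) {s : Set X} (hs : IsOpen s)
    (hsr : IsRetrocompact s) : IsRetrocompact (f ⁻¹' s) := by
  intro W hWc hWo
  obtain ⟨W', hW'o, hW'c, rfl⟩ := exists_isCompact_isOpen_preimage_eq hf hWo hWc
  rw [← preimage_inter]
  exact hf'.isCompact_preimage_of_isOpen (hs.inter hW'o) (hsr hW'c hW'o)

theorem isConstructible_preimage_of_isInducing_isSpectralMap [PrespectralSpace X] {f : Y → X}
    (hf : IsInducing f) (hf' : IsSpectralMap f) {s : Set X} (hs : IsConstructible s) :
    IsConstructible (f ⁻¹' s) :=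
  hs.preimage hf.continuous fun _ ho hr =>
    isRetrocompact_preimage_of_isInducing_isSpectralMap hf hf' ho hr

theorem isConstructible_preimage_val_of_isRetrocompact [PrespectralSpace X]
    (T : Set X) (hT : IsRetrocompact T) (E : Set X) (hE : IsConstructible E) :
    IsConstructible ((Subtype.val : T → X) ⁻¹' E) :=
  isConstructible_preimage_of_isInducing_isSpectralMap IsInducing.subtypeVal
    (IsRetrocompact_iff_isSpectralMap_subtypeVal.mp hT) hE

theorem isConstructible_image_val_sdiff_of_isOpen {U V : Set X} (hU : IsOpen U)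
    (hUr : IsRetrocompact U) (hV : IsOpen V) (hVr : IsRetrocompact V)
    (F : Set ↥(U \ V)) (hF : IsOpen F) (hFr : IsRetrocompact F) :
    IsConstructible ((Subtype.val : ↥(U \ V) → X) '' F) := by
  obtain ⟨O, hO, rfl⟩ := IsInducing.subtypeVal.isOpen_iff.mp hF
  have key : (Subtype.val : ↥(U \ V) → X) '' (Subtype.val ⁻¹' O) = (U ∩ (O ∪ V)) \ V := by
    rw [Subtype.image_preimage_coe]
    ext x
    simp only [mem_inter_iff, mem_sdiff, mem_union]
    tauto
  rw [key]
  refine IsConstructible.sdiff (IsRetrocompact.isConstructible (hU.inter (hO.union hV)) ?_)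
    (hVr.isConstructible hV)
  intro W hWc hWo
  have h1 : IsCompact (U ∩ V ∩ W) := (hUr.inter_isOpen hVr hV) hWc hWo
  have h2 : IsCompact ((U \ V) ∩ W) := by
    have : (U \ V) ∩ W = (U ∩ W) ∩ Vᶜ := by
      ext x; simp only [mem_inter_iff, mem_sdiff, mem_compl_iff]; tauto
    rw [this]
    exact (hUr hWc hWo).inter_right hV.isClosed_compl
  have h3 : IsCompact ((Subtype.val : ↥(U \ V) → X) ⁻¹' W) := by
    rw [Subtype.isCompact_iff, Subtype.image_preimage_coe]
    exact h2
  have h4 : IsCompact ((Subtype.val : ↥(U \ V) → X) ⁻¹' O ∩ Subtype.val ⁻¹' W) :=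
    hFr h3 (hWo.preimage continuous_subtype_val)
  have h5 := h4.image continuous_subtype_val
  rw [← preimage_inter, Subtype.image_preimage_coe] at h5
  have : U ∩ (O ∪ V) ∩ W = ((U \ V) ∩ (O ∩ W)) ∪ (U ∩ V ∩ W) := by
    ext x
    simp only [mem_inter_iff, mem_sdiff, mem_union]
    tauto
  rw [this]
  exact h5.union h1

theorem isConstructible_image_val_sdiff {U V : Set X} (hU : IsOpen U)
    (hUr : IsRetrocompact U) (hV : IsOpen V) (hVr : IsRetrocompact V)
    (F : Set ↥(U \ V)) (hF : IsConstructible F) :
    IsConstructible ((Subtype.val : ↥(U \ V) → X) '' F) := by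
  induction hF using IsConstructible.empty_union_induction with
  | open_retrocompact F hFo hFr =>
    exact isConstructible_image_val_sdiff_of_isOpen hU hUr hV hVr F hFo hFr
  | union s hs t ht hs' ht' => rw [image_union]; exact hs'.union ht'
  | compl s hs hs' =>
    rw [← range_sdiff_image Subtype.val_injective, Subtype.range_coe]
    exact ((hUr.isConstructible hU).sdiff (hVr.isConstructible hV)).sdiff hs'

theorem isSpectralMap_inclusion [PrespectralSpace X] {S T : Set X} (h : S ⊆ T)
    (hS : IsRetrocompact S) : IsSpectralMap (Set.inclusion h) := by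
  refine ⟨continuous_inclusion h, fun W hWo hWc => ?_⟩
  obtain ⟨W', hW'o, hW'c, rfl⟩ :=
    exists_isCompact_isOpen_preimage_eq (IsInducing.subtypeVal (t := T)) hWo hWc
  rw [← preimage_comp]
  exact (IsRetrocompact_iff_isSpectralMap_subtypeVal.mp hS).isCompact_preimage_of_isOpen hW'o hW'c

theorem prespectralSpace_of_isRetrocompact [PrespectralSpace X] {T : Set X}
    (hT : IsRetrocompact T) : PrespectralSpace T :=
  PrespectralSpace.of_isInducing Subtype.val IsInducing.subtypeVal
    (IsRetrocompact_iff_isSpectralMap_subtypeVal.mp hT)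

theorem isConstructible_image_val [PrespectralSpace X] {E : Set X} (hE : IsConstructible E) :
    ∀ F : Set E, IsConstructible F → IsConstructible ((Subtype.val : E → X) '' F) := by
  refine isConstructible_sdiff_union_induction
    (p := fun E => ∀ F : Set E, IsConstructible F → IsConstructible ((Subtype.val : E → X) '' F))
    ?_ ?_ hE
  · intro U V hU hUr hV hVr F hF
    exact isConstructible_image_val_sdiff hU hUr hV hVr F hF
  · intro s t hs ht ps pt F hF
    have : PrespectralSpace ↥(s ∪ t) :=
      prespectralSpace_of_isRetrocompact (IsConstructible_isRetrocompact (hs.union ht))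
    have h1 := ps _ (isConstructible_preimage_of_isInducing_isSpectralMap
      (IsEmbedding.inclusion subset_union_left).isInducing
      (isSpectralMap_inclusion (T := s ∪ t) subset_union_left (IsConstructible_isRetrocompact hs)) hF)
    have h2 := pt _ (isConstructible_preimage_of_isInducing_isSpectralMap
      (IsEmbedding.inclusion subset_union_right).isInducing
      (isSpectralMap_inclusion (T := s ∪ t) subset_union_right (IsConstructible_isRetrocompact ht)) hF)
    have : (Subtype.val : ↥(s ∪ t) → X) '' F =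
        (Subtype.val : s → X) '' (Set.inclusion subset_union_left ⁻¹' F) ∪
        (Subtype.val : t → X) '' (Set.inclusion subset_union_right ⁻¹' F) := by
      ext x
      constructor
      · rintro ⟨⟨y, hy⟩, hyF, rfl⟩
        rcases hy with hy | hy
        · left
          exact ⟨⟨y, hy⟩, hyF, rfl⟩
        · right
          exact ⟨⟨y, hy⟩, hyF, rfl⟩
      · rintro (⟨⟨y, hy⟩, hyF, rfl⟩ | ⟨⟨y, hy⟩, hyF, rfl⟩)
        · exact ⟨_, hyF, rfl⟩
        · exact ⟨_, hyF, rfl⟩
    rw [this]
    exact h1.union h2

theorem isConstructible_iff_of_finite_constructible_cover [PrespectralSpace X]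
    {ι : Type*} [Finite ι] (C : ι → Set X) (hC : ∀ j, IsConstructible (C j))
    (hcov : ⋃ j, C j = Set.univ) (E : Set X) :
    IsConstructible E ↔ ∀ j, IsConstructible ((Subtype.val : C j → X) ⁻¹' E) := by
  constructor
  · intro hE j
    exact isConstructible_preimage_val_of_isRetrocompact _ (IsConstructible_isRetrocompact (hC j)) E hE
  · intro h
    have : E = ⋃ j, (Subtype.val : C j → X) '' ((Subtype.val : C j → X) ⁻¹' E) := by
      simp_rw [Subtype.image_preimage_coe, ← iUnion_inter, hcov, univ_inter]
    rw [this]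
    exact IsConstructible.iUnion fun j => isConstructible_image_val (hC j) _ (h j)

theorem isConstructible_of_isLocallyClosed_isCompact
    [PrespectralSpace X] [QuasiSeparatedSpace X]
    (T : Set X) (hT : IsLocallyClosed T) (hTc : IsCompact T) (hTr : IsRetrocompact Tᶜ) :
    IsConstructible T := by
  obtain ⟨U, Z, hU, hZ, rfl⟩ := hT
  obtain ⟨U', hU'c, hU'o, h1, h2⟩ :=
    PrespectralSpace.exists_isCompact_and_isOpen_between hTc hU inter_subset_left
  have h3 : U ∩ Z = U' \ (U' ∩ Zᶜ) := by
    ext x
    simp only [mem_inter_iff, mem_sdiff, mem_compl_iff]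
    constructor
    · intro hx
      exact ⟨h1 hx, fun h => h.2 hx.2⟩
    · intro hx
      have : x ∈ Z := by
        by_contra hxZ
        exact hx.2 ⟨hx.1, hxZ⟩
      exact ⟨h2 hx.1, this⟩
  have h4 : IsCompact (U' ∩ Zᶜ) := by
    have := hTr hU'c hU'o
    have h5 : (U ∩ Z)ᶜ ∩ U' = U' ∩ Zᶜ := by
      ext x
      simp only [mem_inter_iff, mem_compl_iff]
      constructor
      · intro hx
        exact ⟨hx.2, fun hxZ => hx.1 ⟨h2 hx.2, hxZ⟩⟩
      · intro hx
        exact ⟨fun h => hx.2 h.2, hx.1⟩
    rwa [h5] at this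
  rw [h3]
  exact (hU'c.isConstructible hU'o).sdiff (h4.isConstructible (hU'o.inter hZ.isOpen_compl))

end Groth.Agent.Lib.Helper74
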