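import Mathlib.Topology.Spectral.Basic
import Mathlib.Topology.Spectral.ConstructibleTopology
import Mathlib.Topology.Inseparable
import Mathlib.Topology.Constructible
import Groth.Agent.Lib.Helper74.Constr

set_option autoImplicit false
universe u

namespace Groth.Agent.Lib.Helper74

open Topology TopologicalSpace

variable {X : Type u} [tX : TopologicalSpace X]

theorem constructibleTopology_le [PrespectralSpace X] : constructibleTopology X ≤ tX := by
  intro U hU
  obtain ⟨S, hS, rfl⟩ := PrespectralSpace.isTopologicalBasis.open_eq_sUnion hU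
  refine @isOpen_sUnion X (constructibleTopology X) S ?_
  intro s hs
  exact (hS hs).2.isOpen_constructibleTopology_of_isOpen (hS hs).1

theorem isOpen_cons_of_isOpen [PrespectralSpace X] {U : Set X} (hU : IsOpen U) :
    IsOpen[constructibleTopology X] U := constructibleTopology_le U hU

theorem isClosed_cons_of_isClosed [PrespectralSpace X] {Z : Set X} (hZ : IsClosed Z) :
    IsClosed[constructibleTopology X] Z := by
  rw [← @isOpen_compl_iff X Z (constructibleTopology X)]
  exact isOpen_cons_of_isOpen hZ.isOpen_compl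

theorem isClosed_cons_of_isCompact_isOpen {U : Set X} (hU : IsOpen U) (hc : IsCompact U) :
    IsClosed[constructibleTopology X] U := by
  rw [← @isOpen_compl_iff X U (constructibleTopology X)]
  apply TopologicalSpace.isOpen_generateFrom_of_mem
  right
  exact ⟨hU.isClosed_compl, by simpa using hc⟩

theorem isOpen_cons_of_isCompact_isOpen {U : Set X} (hU : IsOpen U) (hc : IsCompact U) :
    IsOpen[constructibleTopology X] U :=
  hc.isOpen_constructibleTopology_of_isOpen hU

theorem compactSpace_cons [SpectralSpace X] :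
    @CompactSpace X (constructibleTopology X) := by
  have h : CompactSpace (WithConstructibleTopology X) := inferInstance
  exact @Function.Surjective.compactSpace _ _ _ (constructibleTopology X)
      (WithTopology.ofTopology) (WithTopology.continuous_ofTopology _) h
      (WithTopology.ofTopology_surjective _)

theorem exists_isCompact_isOpen_mem_not_mem [T0Space X] [PrespectralSpace X] {x y : X}
    (hxy : x ≠ y) :
    ∃ U : Set X, IsOpen U ∧ IsCompact U ∧ ((x ∈ U ∧ y ∉ U) ∨ (y ∈ U ∧ x ∉ U)) := by
  obtain ⟨V, hV, hxy'⟩ := exists_isOpen_xor_mem hxy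
  rcases hxy' with ⟨hx, hy⟩ | ⟨hy, hx⟩
  · obtain ⟨U, ⟨hU1, hU2⟩, hxU, hUV⟩ :=
      PrespectralSpace.isTopologicalBasis.exists_subset_of_mem_open hx hV
    exact ⟨U, hU1, hU2, Or.inl ⟨hxU, fun h => hy (hUV h)⟩⟩
  · obtain ⟨U, ⟨hU1, hU2⟩, hyU, hUV⟩ :=
      PrespectralSpace.isTopologicalBasis.exists_subset_of_mem_open hy hV
    exact ⟨U, hU1, hU2, Or.inr ⟨hyU, fun h => hx (hUV h)⟩⟩

theorem t2Space_cons [T0Space X] [PrespectralSpace X] :
    @T2Space X (constructibleTopology X) := by
  rw [t2Space_iff]
  intro x y hxy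
  obtain ⟨U, hU1, hU2, h⟩ := exists_isCompact_isOpen_mem_not_mem hxy
  have h1 := isOpen_cons_of_isCompact_isOpen hU1 hU2
  have h2 := (isClosed_cons_of_isCompact_isOpen hU1 hU2)
  rw [← @isOpen_compl_iff X U (constructibleTopology X)] at h2
  rcases h with ⟨hx, hy⟩ | ⟨hy, hx⟩
  · exact ⟨U, Uᶜ, h1, h2, hx, hy, disjoint_compl_right⟩
  · exact ⟨Uᶜ, U, h2, h1, hx, hy, disjoint_compl_left⟩

theorem isCompact_cons_of_isClosed_cons [SpectralSpace X] {E : Set X}
    (hE : IsClosed[constructibleTopology X] E) : @IsCompact X (constructibleTopology X) E :=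
  @IsClosed.isCompact X (constructibleTopology X) E compactSpace_cons hE

theorem isCompact_of_isCompact_cons [PrespectralSpace X] {E : Set X}
    (hE : @IsCompact X (constructibleTopology X) E) : IsCompact E := by
  have := @IsCompact.image X X (constructibleTopology X) tX E id hE
    (continuous_id_of_le constructibleTopology_le)
  simpa using this

theorem isCompact_of_isClosed_cons [SpectralSpace X] {E : Set X}
    (hE : IsClosed[constructibleTopology X] E) : IsCompact E :=
  isCompact_of_isCompact_cons (isCompact_cons_of_isClosed_cons hE)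

theorem nonempty_iInter_of_directed_cons [SpectralSpace X] {ι : Type*} [Nonempty ι]
    (t : ι → Set X) (hd : Directed (· ⊇ ·) t) (hne : ∀ i, (t i).Nonempty)
    (hc : ∀ i, IsClosed[constructibleTopology X] (t i)) : (⋂ i, t i).Nonempty :=
  @IsCompact.nonempty_iInter_of_directed_nonempty_isCompact_isClosed X (constructibleTopology X)
    ι _ t hd hne (fun i => isCompact_cons_of_isClosed_cons (hc i)) hc

theorem exists_mem_specializes_of_mem_closure [SpectralSpace X] {E : Set X}
    (hE : IsClosed[constructibleTopology X] E) {x : X} (hx : x ∈ closure E) :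
    ∃ e ∈ E, e ⤳ x := by
  let ι := {U : Set X // IsOpen U ∧ IsCompact U ∧ x ∈ U}
  have : Nonempty ι := ⟨⟨Set.univ, isOpen_univ, isCompact_univ, Set.mem_univ x⟩⟩
  have hne : (⋂ i : ι, (i.1 ∩ E)).Nonempty := by
    apply nonempty_iInter_of_directed_cons
    · intro U V
      refine ⟨⟨U.1 ∩ V.1, U.2.1.inter V.2.1,
        U.2.2.1.inter_of_isOpen V.2.2.1 U.2.1 V.2.1, U.2.2.2, V.2.2.2⟩, ?_, ?_⟩
      · intro y hy
        exact ⟨hy.1.1, hy.2⟩
      · intro y hy
        exact ⟨hy.1.2, hy.2⟩
    · intro U
      exact mem_closure_iff.mp hx U.1 U.2.1 U.2.2.2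
    · intro U
      exact @IsClosed.inter X _ _ (constructibleTopology X)
        (isClosed_cons_of_isCompact_isOpen U.2.1 U.2.2.1) hE
  obtain ⟨e, he⟩ := hne
  rw [Set.mem_iInter] at he
  have hι : ι := Classical.arbitrary ι
  refine ⟨e, (he hι).2, ?_⟩
  rw [specializes_iff_forall_open]
  intro s hs hxs
  obtain ⟨U, ⟨hU1, hU2⟩, hxU, hUs⟩ :=
    PrespectralSpace.isTopologicalBasis.exists_subset_of_mem_open hxs hs
  exact hUs (he ⟨U, hU1, hU2, hxU⟩).1

theorem isClosed_of_isClosed_cons_of_stableUnderSpecialization [SpectralSpace X] {E : Set X}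
    (hE : IsClosed[constructibleTopology X] E) (hs : StableUnderSpecialization E) :
    IsClosed E := by
  rw [← closure_subset_iff_isClosed]
  intro x hx
  obtain ⟨e, he, hex⟩ := exists_mem_specializes_of_mem_closure hE hx
  exact hs hex he

theorem isOpen_of_isOpen_cons_of_stableUnderGeneralization [SpectralSpace X] {E : Set X}
    (hE : IsOpen[constructibleTopology X] E) (hs : StableUnderGeneralization E) :
    IsOpen E := by
  rw [← isClosed_compl_iff]
  apply isClosed_of_isClosed_cons_of_stableUnderSpecialization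
  · exact @IsOpen.isClosed_compl X (constructibleTopology X) E hE
  · exact stableUnderSpecialization_compl_iff.mpr hs

theorem isClosed_cons_inter {A B : Set X} (hA : IsClosed[constructibleTopology X] A)
    (hB : IsClosed[constructibleTopology X] B) : IsClosed[constructibleTopology X] (A ∩ B) :=
  @IsClosed.inter X _ _ (constructibleTopology X) hA hB

theorem exists_common_generalization_or_disjoint_nhds [SpectralSpace X] (x y : X) :
    (∃ z : X, z ⤳ x ∧ z ⤳ y) ∨
    (∃ U V : Set X, IsOpen U ∧ IsOpen V ∧ x ∈ U ∧ y ∈ V ∧ Disjoint U V) := by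
  by_cases h : ∃ U V : Set X, IsOpen U ∧ IsOpen V ∧ x ∈ U ∧ y ∈ V ∧ Disjoint U V
  · exact Or.inr h
  left
  let ι := {U : Set X // IsOpen U ∧ IsCompact U ∧ x ∈ U} × {V : Set X // IsOpen V ∧ IsCompact V ∧ y ∈ V}
  have : Nonempty ι := ⟨⟨⟨Set.univ, isOpen_univ, isCompact_univ, Set.mem_univ x⟩,
    ⟨Set.univ, isOpen_univ, isCompact_univ, Set.mem_univ y⟩⟩⟩
  have hne : (⋂ i : ι, (i.1.1 ∩ i.2.1)).Nonempty := by
    apply nonempty_iInter_of_directed_cons
    · intro U V
      refine ⟨⟨⟨U.1.1 ∩ V.1.1, U.1.2.1.inter V.1.2.1,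
        U.1.2.2.1.inter_of_isOpen V.1.2.2.1 U.1.2.1 V.1.2.1, U.1.2.2.2, V.1.2.2.2⟩,
        ⟨U.2.1 ∩ V.2.1, U.2.2.1.inter V.2.2.1,
        U.2.2.2.1.inter_of_isOpen V.2.2.2.1 U.2.2.1 V.2.2.1, U.2.2.2.2, V.2.2.2.2⟩⟩, ?_, ?_⟩
      · intro z hz
        exact ⟨hz.1.1, hz.2.1⟩
      · intro z hz
        exact ⟨hz.1.2, hz.2.2⟩
    · intro U
      by_contra hUV
      rw [Set.not_nonempty_iff_eq_empty] at hUV
      exact h ⟨U.1.1, U.2.1, U.1.2.1, U.2.2.1, U.1.2.2.2, U.2.2.2.2,
        Set.disjoint_iff_inter_eq_empty.mpr hUV⟩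
    · intro U
      exact isClosed_cons_inter (isClosed_cons_of_isCompact_isOpen U.1.2.1 U.1.2.2.1)
        (isClosed_cons_of_isCompact_isOpen U.2.2.1 U.2.2.2.1)
  obtain ⟨z, hz⟩ := hne
  rw [Set.mem_iInter] at hz
  refine ⟨z, ?_, ?_⟩
  · rw [specializes_iff_forall_open]
    intro s hs hxs
    obtain ⟨U, ⟨hU1, hU2⟩, hxU, hUs⟩ :=
      PrespectralSpace.isTopologicalBasis.exists_subset_of_mem_open hxs hs
    exact hUs (hz ⟨⟨U, hU1, hU2, hxU⟩, ⟨Set.univ, isOpen_univ, isCompact_univ, Set.mem_univ y⟩⟩).1
  · rw [specializes_iff_forall_open]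
    intro s hs hys
    obtain ⟨U, ⟨hU1, hU2⟩, hyU, hUs⟩ :=
      PrespectralSpace.isTopologicalBasis.exists_subset_of_mem_open hys hs
    exact hUs (hz ⟨⟨Set.univ, isOpen_univ, isCompact_univ, Set.mem_univ x⟩, ⟨U, hU1, hU2, hyU⟩⟩).2

theorem exists_subset_of_directed_iInter_subset [SpectralSpace X]
    {I : Type*} [Nonempty I] (U : I → Set X) (hU : ∀ i, IsClosed[constructibleTopology X] (U i))
    (hdir : ∀ i j, ∃ k, U k ⊆ U i ∩ U j) (V : Set X) (hV : IsOpen[constructibleTopology X] V)
    (hUV : (⋂ i, U i) ⊆ V) : ∃ i, U i ⊆ V := by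
  by_contra hcon
  push Not at hcon
  have hne : (⋂ i, (U i ∩ Vᶜ)).Nonempty := by
    apply nonempty_iInter_of_directed_cons
    · intro i j
      obtain ⟨k, hk⟩ := hdir i j
      refine ⟨k, ?_, ?_⟩
      · intro z hz
        exact ⟨(hk hz.1).1, hz.2⟩
      · intro z hz
        exact ⟨(hk hz.1).2, hz.2⟩
    · intro i
      obtain ⟨z, hz1, hz2⟩ := Set.not_subset.mp (hcon i)
      exact ⟨z, hz1, hz2⟩
    · intro i
      exact isClosed_cons_inter (hU i) (@IsOpen.isClosed_compl X (constructibleTopology X) V hV)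
  obtain ⟨z, hz⟩ := hne
  rw [Set.mem_iInter] at hz
  exact (hz (Classical.arbitrary I)).2 (hUV (Set.mem_iInter.mpr fun i => (hz i).1))

theorem continuous_cons_of_isSpectralMap {Y : Type*} [TopologicalSpace Y] {f : X → Y}
    (hf : IsSpectralMap f) :
    @Continuous X Y (constructibleTopology X) (constructibleTopology Y) f := by
  rw [constructibleTopology, continuous_generateFrom_iff]
  rintro s (⟨hs1, hs2⟩ | ⟨hs1, hs2⟩)
  · exact (hf.isCompact_preimage_of_isOpen hs1 hs2).isOpen_constructibleTopology_of_isOpen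
      (hs1.preimage hf.continuous)
  · apply IsCompact.isOpen_constructibleTopology_of_isClosed
    · rw [← Set.preimage_compl]
      exact hf.isCompact_preimage_of_isOpen hs1.isOpen_compl hs2
    · exact hs1.preimage hf.continuous

theorem isClosedMap_cons_of_isSpectralMap {Y : Type*} [TopologicalSpace Y] [SpectralSpace X]
    [T0Space Y] [PrespectralSpace Y] {f : X → Y} (hf : IsSpectralMap f) :
    @IsClosedMap X Y (constructibleTopology X) (constructibleTopology Y) f :=
  @Continuous.isClosedMap X Y (constructibleTopology X) (constructibleTopology Y)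
    compactSpace_cons t2Space_cons f (continuous_cons_of_isSpectralMap hf)

theorem isHomeomorph_of_isSpectralMap_bijective {Y : Type*} [TopologicalSpace Y]
    [SpectralSpace X] [SpectralSpace Y] (f : X → Y) (hf : IsSpectralMap f)
    (hb : Function.Bijective f) (hlift : GeneralizingMap f ∨ SpecializingMap f) :
    IsHomeomorph f := by
  refine ⟨hf.continuous, ?_, hb⟩
  rw [PrespectralSpace.isTopologicalBasis.isOpenMap_iff]
  rintro U ⟨hU1, hU2⟩
  have hcl := isClosedMap_cons_of_isSpectralMap hf
  have h1 : IsClosed[constructibleTopology Y] (f '' U) :=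
    hcl U (isClosed_cons_of_isCompact_isOpen hU1 hU2)
  have h2 : IsClosed[constructibleTopology Y] (f '' Uᶜ) :=
    hcl Uᶜ (isClosed_cons_of_isClosed hU1.isClosed_compl)
  rcases hlift with hg | hs
  · apply isOpen_of_isOpen_cons_of_stableUnderGeneralization
    · rw [Set.image_compl_eq hb] at h2
      rw [← @isClosed_compl_iff Y (constructibleTopology Y)]
      exact h2
    · exact hU1.stableUnderGeneralization.image hg
  · rw [← isClosed_compl_iff, ← Set.image_compl_eq hb]
    apply isClosed_of_isClosed_cons_of_stableUnderSpecialization h2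
    exact hU1.isClosed_compl.stableUnderSpecialization.image hs

theorem isClopen_cons_of_isConstructible [CompactSpace X] {s : Set X} (hs : IsConstructible s) :
    @IsClopen X (constructibleTopology X) s := by
  induction hs using IsConstructible.empty_union_induction with
  | open_retrocompact U hUo hUr =>
    exact ⟨isClosed_cons_of_isCompact_isOpen hUo hUr.isCompact,
      isOpen_cons_of_isCompact_isOpen hUo hUr.isCompact⟩
  | union s hs t ht hs' ht' => exact @IsClopen.union X (constructibleTopology X) s t hs' ht'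
  | compl s hs hs' => exact @IsClopen.compl X (constructibleTopology X) s hs'

theorem generalizations_eq_sInter [PrespectralSpace X] {E : Set X} (hE : IsCompact E) :
    {x | ∃ e ∈ E, x ⤳ e} = ⋂₀ {U : Set X | IsOpen U ∧ IsCompact U ∧ E ⊆ U} := by
  apply Set.Subset.antisymm
  · rintro x ⟨e, he, hxe⟩ U ⟨hU1, _, hU3⟩
    exact hxe.mem_open hU1 (hU3 he)
  · intro x hx
    by_contra hcon
    simp only [Set.mem_ofPred_eq, not_exists, not_and] at hcon
    have h1 : ∀ e (he : e ∈ E), ∃ U : Set X, IsOpen U ∧ IsCompact U ∧ e ∈ U ∧ x ∉ U := by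
      intro e he
      obtain ⟨S, hS, heS, hxS⟩ := not_specializes_iff_exists_open.mp (hcon e he)
      obtain ⟨U, ⟨hU1, hU2⟩, heU, hUS⟩ :=
        PrespectralSpace.isTopologicalBasis.exists_subset_of_mem_open heS hS
      exact ⟨U, hU1, hU2, heU, fun h => hxS (hUS h)⟩
    choose U hU1 hU2 hU3 hU4 using h1
    obtain ⟨t, ht⟩ := hE.elim_nhds_subcover' U (fun e he => (hU1 e he).mem_nhds (hU3 e he))
    have h2 : x ∈ ⋃ e ∈ t, U e.1 e.2 := by
      apply hx
      refine ⟨isOpen_biUnion fun e _ => hU1 e.1 e.2,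
        t.isCompact_biUnion fun e _ => hU2 e.1 e.2, ht⟩
    simp only [Set.mem_iUnion] at h2
    obtain ⟨e, _, hxe⟩ := h2
    exact hU4 e.1 e.2 hxe

theorem isSpectralMap_of_isInducing_of_isClosed_cons_range {Y : Type*} [TopologicalSpace Y]
    [SpectralSpace X] {f : Y → X} (hf : IsInducing f)
    (hr : IsClosed[constructibleTopology X] (Set.range f)) : IsSpectralMap f := by
  refine ⟨hf.continuous, fun U hU1 hU2 => ?_⟩
  have h1 : IsCompact (U ∩ Set.range f) :=
    isCompact_of_isClosed_cons (isClosed_cons_inter (isClosed_cons_of_isCompact_isOpen hU1 hU2) hr)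
  have h2 : f ⁻¹' U = f ⁻¹' (U ∩ Set.range f) := by
    ext y
    simp
  rw [h2]
  exact hf.isCompact_preimage' h1 Set.inter_subset_right

theorem spectralSpace_of_isEmbedding_of_isClosed_cons_range {Y : Type*} [TopologicalSpace Y]
    [SpectralSpace X] {f : Y → X} (hf : IsEmbedding f)
    (hr : IsClosed[constructibleTopology X] (Set.range f)) : SpectralSpace Y := by
  have hsp := isSpectralMap_of_isInducing_of_isClosed_cons_range hf.isInducing hr
  have hpre : PrespectralSpace Y := PrespectralSpace.of_isInducing f hf.isInducing hsp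
  have hT0 : T0Space Y := hf.t0Space
  have hcomp : CompactSpace Y := by
    rw [← isCompact_univ_iff]
    have := hf.isInducing.isCompact_preimage' (isCompact_of_isClosed_cons hr) subset_rfl
    rwa [Set.preimage_range] at this
  have hqs : QuasiSeparatedSpace Y := by
    refine ⟨fun U V hU1 hU2 hV1 hV2 => ?_⟩
    obtain ⟨U', hU'1, hU'2, rfl⟩ := exists_isCompact_isOpen_preimage_eq hf.isInducing hU1 hU2
    obtain ⟨V', hV'1, hV'2, rfl⟩ := exists_isCompact_isOpen_preimage_eq hf.isInducing hV1 hV2
    rw [← Set.preimage_inter]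
    exact hsp.isCompact_preimage_of_isOpen (hU'1.inter hV'1)
      (hU'2.inter_of_isOpen hV'2 hU'1 hV'1)
  have hsob : QuasiSober Y := by
    rw [quasiSober_iff]
    intro Z hZi hZc
    obtain ⟨C, hC, rfl⟩ := hf.isInducing.isClosed_iff.mp hZc
    have h1 : IsClosed[constructibleTopology X] (f '' (f ⁻¹' C)) := by
      rw [Set.image_preimage_eq_inter_range]
      exact isClosed_cons_inter (isClosed_cons_of_isClosed hC) hr
    have h2 : IsIrreducible (closure (f '' (f ⁻¹' C))) :=
      (hZi.image f hf.continuous.continuousOn).closure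
    obtain ⟨η, hη⟩ := QuasiSober.sober h2 isClosed_closure
    obtain ⟨e, he, heη⟩ := exists_mem_specializes_of_mem_closure h1 hη.mem
    have h3 : η ⤳ e := hη.specializes (subset_closure he)
    have h4 : e = η := (heη.antisymm h3).eq
    obtain ⟨z, hz, hze⟩ := he
    refine ⟨z, ?_⟩
    rw [isGenericPoint_def]
    apply Set.Subset.antisymm
    · exact (hC.preimage hf.continuous).closure_subset_iff.mpr (Set.singleton_subset_iff.mpr hz)
    · rw [hf.isInducing.closure_eq_preimage_closure_image, Set.image_singleton, hze, h4, hη.def]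
      intro y hy
      exact subset_closure ⟨y, hy, rfl⟩
  exact { toT0Space := hT0, toCompactSpace := hcomp, toQuasiSober := hsob,
          toQuasiSeparatedSpace := hqs, toPrespectralSpace := hpre }

theorem spectralSpace_subtype_of_isClosed_cons [SpectralSpace X] {E : Set X}
    (hE : IsClosed[constructibleTopology X] E) : SpectralSpace E := by
  apply spectralSpace_of_isEmbedding_of_isClosed_cons_range (f := (Subtype.val : E → X))
    IsEmbedding.subtypeVal
  rwa [Subtype.range_coe]

end Groth.Agent.Lib.Helper74
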