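import Groth.Agent.Lib.Helper74.FiberLoc
import Mathlib.RingTheory.Flat.TorsionFree
import Mathlib.RingTheory.Flat.Stability
import Mathlib.RingTheory.Ideal.AssociatedPrime.Finiteness

set_option autoImplicit false
universe u
open FlatCA TensorProduct

namespace Groth.Agent.Lib.Helper74.FiberAss

attribute [local instance] Algebra.TensorProduct.rightAlgebra

local macro "ann" R:term:max m:term:max : term =>
  `(Submodule.annihilator (Submodule.span $R (Singleton.singleton $m : Set _)))

variable {R : Type u} [CommRing R] (S : Type u) [CommRing S] [Algebra R S] (N : Type u)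
  [AddCommGroup N] [Module S N] [Module R N] [IsScalarTower R S N] (p : Ideal R) [p.IsPrime]

omit [p.IsPrime] in
theorem mem_map_smul_top_iff (n : N) :
    n ∈ (p.map (algebraMap R S)) • (⊤ : Submodule S N) ↔ n ∈ p • (⊤ : Submodule R N) := by
  have h := Submodule.restrictScalars_map_smul_eq (S := R) (R := S) p (⊤ : Submodule S N)
  rw [Submodule.restrictScalars_top] at h
  rw [← h, Submodule.restrictScalars_mem]

theorem smul_mem_smul_top_of_flat [Module.Flat R N] {r : R} (hr : r ∉ p) {n : N}
    (h : r • n ∈ p • (⊤ : Submodule R N)) : n ∈ p • (⊤ : Submodule R N) := by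
  have hmem : Ideal.Quotient.mk p r ∈ nonZeroDivisors (R ⧸ p) := by
    rw [mem_nonZeroDivisors_iff_ne_zero, ne_eq, Ideal.Quotient.eq_zero_iff_mem]
    exact hr
  have hreg := Module.Flat.isSMulRegular_of_nonZeroDivisors (R := R ⧸ p)
    (M := (R ⧸ p) ⊗[R] N) hmem
  have h1 : (Ideal.Quotient.mk p r) • ((1 : R ⧸ p) ⊗ₜ[R] n) = 0 := by
    rw [TensorProduct.smul_tmul', smul_eq_mul, mul_one]
    apply (TensorProduct.quotTensorEquivQuotSMul N p).injective
    rw [TensorProduct.quotTensorEquivQuotSMul_mk_tmul, map_zero, Submodule.Quotient.mk_eq_zero]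
    exact h
  have h2 : ((1 : R ⧸ p) ⊗ₜ[R] n) = 0 := hreg (by
    change (Ideal.Quotient.mk p r) • ((1 : R ⧸ p) ⊗ₜ[R] n) = (Ideal.Quotient.mk p r) • 0
    rw [h1, smul_zero])
  have h3 := congrArg (TensorProduct.quotTensorEquivQuotSMul N p) h2
  rw [TensorProduct.quotTensorEquivQuotSMul_mk_one_tmul, map_zero,
    Submodule.Quotient.mk_eq_zero] at h3
  exact h3

theorem regular_quotient_of_flat [Module.Flat R N] :
    ∀ t ∈ TS S p, IsSMulRegular (N ⧸ (p.map (algebraMap R S)) • (⊤ : Submodule S N)) t := by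
  rintro _ ⟨r, hr, rfl⟩ x y hxy
  obtain ⟨n₁, rfl⟩ := Submodule.Quotient.mk_surjective _ x
  obtain ⟨n₂, rfl⟩ := Submodule.Quotient.mk_surjective _ y
  simp only at hxy
  rw [← Submodule.Quotient.mk_smul, ← Submodule.Quotient.mk_smul, Submodule.Quotient.eq,
    ← smul_sub, algebraMap_smul, mem_map_smul_top_iff] at hxy
  rw [Submodule.Quotient.eq, mem_map_smul_top_iff]
  exact smul_mem_smul_top_of_flat N p hr hxy

theorem ass_quotient_eq_ass_fiberMod [Module.Flat R N] :
    ass S (N ⧸ (p.map (algebraMap R S)) • (⊤ : Submodule S N)) = ass S (fiberMod p S N) := by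
  have := isLocalizedModule_phi S N p
  exact WeakAss.ass_eq_of_regular (TS S p) (phi S N p) (regular_quotient_of_flat S N p)

theorem comap_eq_of_mem_ass_quotient [Module.Flat R N] {q : Ideal S}
    (hq : q ∈ ass S (N ⧸ (p.map (algebraMap R S)) • (⊤ : Submodule S N))) :
    q.comap (algebraMap R S) = p := by
  obtain ⟨hqp, x, hx⟩ := hq
  apply le_antisymm
  · intro r hr
    by_contra hrp
    rw [Ideal.mem_comap, hx, WeakAss.mem_ann] at hr
    have hreg := regular_quotient_of_flat S N p (algebraMap R S r) ⟨r, hrp, rfl⟩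
    have hx0 : x = 0 := hreg (by simp only; rw [hr, smul_zero])
    apply hqp.ne_top
    rw [hx, Ideal.eq_top_iff_one, WeakAss.mem_ann, hx0, smul_zero]
  · intro r hr
    rw [Ideal.mem_comap, hx, WeakAss.mem_ann]
    obtain ⟨n, rfl⟩ := Submodule.Quotient.mk_surjective _ x
    rw [← Submodule.Quotient.mk_smul, Submodule.Quotient.mk_eq_zero]
    exact Submodule.smul_mem_smul (Ideal.mem_map_of_mem _ hr) Submodule.mem_top

section exact

variable {A : Type u} [CommRing A] {M' M M'' : Type u} [AddCommGroup M'] [Module A M']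
  [AddCommGroup M] [Module A M] [AddCommGroup M''] [Module A M'']

theorem ass_subset_union_of_exact (f : M' →ₗ[A] M) (g : M →ₗ[A] M'')
    (hf : Function.Injective f) (hfg : Function.Exact f g) :
    ass A M ⊆ ass A M' ∪ ass A M'' := by
  rintro q ⟨hq, m, hm⟩
  by_cases h : ∃ r, r ∉ q ∧ g (r • m) = 0
  · left
    obtain ⟨r, hr, hgr⟩ := h
    obtain ⟨m', hm'⟩ := (hfg (r • m)).mp hgr
    refine ⟨hq, m', ?_⟩
    rw [← WeakAss.ann_map_of_injective f hf, hm']
    ext x
    rw [WeakAss.mem_ann_smul, ← hm]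
    constructor
    · intro hx; exact Ideal.mul_mem_right _ _ hx
    · intro hx; exact (hq.mem_or_mem hx).resolve_right hr
  · right
    push Not at h
    refine ⟨hq, g m, ?_⟩
    ext x
    rw [WeakAss.mem_ann, ← map_smul]
    constructor
    · intro hx
      rw [hm, WeakAss.mem_ann] at hx
      rw [hx, map_zero]
    · intro hx
      by_contra hxq
      exact h x hxq hx

end exact

section iota

variable (M : Type u) [AddCommGroup M] [Module R M]

noncomputable def iota (m : M) (hm : ∀ r ∈ p, r • m = 0) :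
    (N ⧸ (p.map (algebraMap R S)) • (⊤ : Submodule S N)) →ₗ[S] N ⊗[R] M :=
  Submodule.liftQ _
    ({ toFun := fun n => n ⊗ₜ[R] m
       map_add' := fun a b => add_tmul a b m
       map_smul' := fun s n => by rw [RingHom.id_apply, smul_tmul'] } : N →ₗ[S] N ⊗[R] M)
    (by
      intro x hx
      rw [mem_map_smul_top_iff] at hx
      rw [LinearMap.mem_ker]
      refine Submodule.smul_induction_on hx ?_ ?_
      · intro r hr n _
        change (r • n) ⊗ₜ[R] m = 0
        rw [smul_tmul, hm r hr, tmul_zero]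
      · intro x y hx hy
        rw [map_add, hx, hy, add_zero])

theorem iota_mk (m : M) (hm : ∀ r ∈ p, r • m = 0) (n : N) :
    iota S N p M m hm (Submodule.Quotient.mk n) = n ⊗ₜ[R] m := rfl

theorem iota_injective [Module.Flat R N] (m : M) (hm : ∀ r : R, r ∈ p ↔ r • m = 0) :
    Function.Injective (iota S N p M m (fun r hr => (hm r).mp hr)) := by
  rw [← LinearMap.ker_eq_bot, LinearMap.ker_eq_bot']
  intro x hx
  obtain ⟨n, rfl⟩ := Submodule.Quotient.mk_surjective _ x
  rw [iota_mk] at hx
  let j : (R ⧸ p) →ₗ[R] M := Submodule.liftQ p (LinearMap.toSpanSingleton R M m) (by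
    intro r hr
    rw [LinearMap.mem_ker, LinearMap.toSpanSingleton_apply]
    exact (hm r).mp hr)
  have hj : Function.Injective j := by
    rw [← LinearMap.ker_eq_bot, LinearMap.ker_eq_bot']
    intro y hy
    obtain ⟨r, rfl⟩ := Submodule.Quotient.mk_surjective _ y
    have : r • m = 0 := hy
    exact (Submodule.Quotient.mk_eq_zero _).mpr ((hm r).mpr this)
  have hinj := Module.Flat.lTensor_preserves_injective_linearMap (M := N) j hj
  have h1 : (LinearMap.lTensor N j) (n ⊗ₜ[R] (Submodule.Quotient.mk 1 : R ⧸ p)) = 0 := by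
    rw [LinearMap.lTensor_tmul]
    change n ⊗ₜ[R] ((1 : R) • m) = 0
    rw [one_smul]; exact hx
  have h2 : n ⊗ₜ[R] (Submodule.Quotient.mk 1 : R ⧸ p) = 0 := hinj (by rw [h1, map_zero])
  have h3 := congrArg (TensorProduct.tensorQuotEquivQuotSMul N p) h2
  rw [map_zero] at h3
  change TensorProduct.tensorQuotEquivQuotSMul N p (n ⊗ₜ[R] (Ideal.Quotient.mk p 1)) = 0 at h3
  rw [TensorProduct.tensorQuotEquivQuotSMul_tmul_mk, one_smul, Submodule.Quotient.mk_eq_zero] at h3
  rw [Submodule.Quotient.mk_eq_zero, mem_map_smul_top_iff]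
  exact h3

theorem iota_surjective (m : M) (hm : ∀ r ∈ p, r • m = 0)
    (hspan : ∀ x : M, ∃ r : R, x = r • m) :
    Function.Surjective (iota S N p M m hm) := by
  intro z
  induction z using TensorProduct.induction_on with
  | zero => exact ⟨0, map_zero _⟩
  | tmul n x =>
    obtain ⟨r, rfl⟩ := hspan x
    exact ⟨Submodule.Quotient.mk (r • n), by rw [iota_mk, smul_tmul]⟩
  | add a b ha hb =>
    obtain ⟨a', rfl⟩ := ha
    obtain ⟨b', rfl⟩ := hb
    exact ⟨a' + b', map_add _ _ _⟩

end iota

section main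

theorem comap_mem_ass_tensor_of_flat [Module.Flat R N] (M : Type u) [AddCommGroup M] [Module R M]
    (hp : p ∈ ass R M) (Q : Ideal (p.Fiber S)) (hQ : Q ∈ ass (p.Fiber S) (fiberMod p S N)) :
    Q.comap (Algebra.TensorProduct.includeRight (R := R) (A := p.ResidueField)
      (B := S)).toRingHom ∈ ass S (N ⊗[R] M) := by
  obtain ⟨_, m, hm⟩ := hp
  have h1 : Q.comap (Algebra.TensorProduct.includeRight (R := R) (A := p.ResidueField)
      (B := S)).toRingHom ∈ ass S (fiberMod p S N) :=
    (mem_ass_fiberMod_iff N p _).mpr ⟨Q, hQ, rfl⟩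
  rw [← ass_quotient_eq_ass_fiberMod S N p] at h1
  have hm' : ∀ r : R, r ∈ p ↔ r • m = 0 := fun r => by rw [hm, WeakAss.mem_ann]
  exact WeakAss.ass_subset_of_injective _ (iota_injective S N p M m hm') h1

theorem mem_ass_quotient_of_mem_ass_tensor [IsNoetherianRing R] [Module.Flat R N]
    (M : Type u) [AddCommGroup M] [Module R M] [hfin : Module.Finite R M] :
    ∀ (q : Ideal S), q ∈ ass S (N ⊗[R] M) → ∀ (p' : Ideal R) [p'.IsPrime],
      q.comap (algebraMap R S) = p' →
      q ∈ ass S (N ⧸ (p'.map (algebraMap R S)) • (⊤ : Submodule S N)) := by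
  induction hfin using IsNoetherianRing.induction_on_isQuotientEquivQuotientPrime R with
  | subsingleton M' =>
    rintro q ⟨hq, x, hx⟩
    exfalso
    apply hq.ne_top
    rw [hx, Ideal.eq_top_iff_one, WeakAss.mem_ann, Subsingleton.elim x 0, smul_zero]
  | quotient M' p'' e =>
    intro q hq p' _ hqp'
    have hp'' : p''.asIdeal.IsPrime := p''.2
    have hr1 : ∀ r : R, r • (1 : R ⧸ p''.asIdeal) = Ideal.Quotient.mk p''.asIdeal r := fun r => by
      rw [Algebra.smul_def, mul_one]; rfl
    have hm : ∀ r ∈ p''.asIdeal, r • e.symm 1 = 0 := by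
      intro r hr
      rw [← map_smul, hr1, Ideal.Quotient.eq_zero_iff_mem.mpr hr, map_zero]
    have hm' : ∀ r : R, r ∈ p''.asIdeal ↔ r • e.symm 1 = 0 := by
      intro r
      refine ⟨hm r, fun h => ?_⟩
      rw [← map_smul, hr1] at h
      have h2 := e.symm.injective (h.trans (map_zero e.symm).symm)
      exact Ideal.Quotient.eq_zero_iff_mem.mp h2
    have hspan : ∀ x : M', ∃ r : R, x = r • e.symm 1 := by
      intro x
      obtain ⟨r, hr⟩ := Ideal.Quotient.mk_surjective (e x)
      refine ⟨r, ?_⟩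
      rw [← map_smul, hr1, hr, e.symm_apply_apply]
    have hbij : Function.Bijective (iota S N p''.asIdeal M' (e.symm 1) hm) :=
      ⟨iota_injective S N p''.asIdeal M' (e.symm 1) hm',
        iota_surjective S N p''.asIdeal M' (e.symm 1) hm hspan⟩
    let E := LinearEquiv.ofBijective _ hbij
    have h1 : q ∈ ass S (N ⧸ (p''.asIdeal.map (algebraMap R S)) • (⊤ : Submodule S N)) :=
      WeakAss.ass_subset_of_injective E.symm.toLinearMap E.symm.injective hq
    have h2 := comap_eq_of_mem_ass_quotient S N p''.asIdeal h1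
    have h3 : p''.asIdeal = p' := h2.symm.trans hqp'
    subst h3
    exact h1
  | exact N₁ N₂ N₃ f g hf hg hfg h₁ h₃ =>
    intro q hq p' _ hqp'
    have hinj : Function.Injective (TensorProduct.AlgebraTensorModule.lTensor S N f) :=
      Module.Flat.lTensor_preserves_injective_linearMap (M := N) f hf
    have hex : Function.Exact (TensorProduct.AlgebraTensorModule.lTensor S N f)
        (TensorProduct.AlgebraTensorModule.lTensor S N g) := lTensor_exact N hfg hg
    rcases ass_subset_union_of_exact _ _ hinj hex hq with h | h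
    · exact h₁ q h p' hqp'
    · exact h₃ q h p' hqp'

end main

end Groth.Agent.Lib.Helper74.FiberAss
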