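import Groth.Prelude.Def_FlatCA
import Mathlib.RingTheory.Ideal.MinimalPrime.Localization
import Mathlib.RingTheory.Ideal.AssociatedPrime.Basic
import Mathlib.Algebra.Module.LocalizedModule.Basic
import Mathlib.RingTheory.Localization.AtPrime.Basic
import Mathlib.Algebra.Exact.Basic

set_option autoImplicit false

namespace Groth.Agent.Lib.Helper74.WeakAss

universe u v w
open FlatCA

local macro "ann" R:term:max m:term:max : term =>
  `(Submodule.annihilator (Submodule.span $R (Singleton.singleton $m : Set _)))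

section basic

variable {R : Type u} [CommRing R] {M : Type v} [AddCommGroup M] [Module R M]


theorem mem_ann {m : M} {r : R} : r ∈ ann R m ↔ r • m = 0 :=
  Submodule.mem_annihilator_span_singleton m r

theorem mem_weakAss {p : Ideal R} : p ∈ weakAss R M ↔ ∃ m : M, p ∈ (ann R m).minimalPrimes :=
  Iff.rfl

theorem mem_ass {p : Ideal R} : p ∈ ass R M ↔ p.IsPrime ∧ ∃ m : M, p = ann R m :=
  Iff.rfl

theorem ann_eq_top {m : M} : ann R m = ⊤ ↔ m = 0 := by
  rw [Ideal.eq_top_iff_one, mem_ann, one_smul]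

theorem ann_smul_le (r : R) (m : M) : ann R m ≤ ann R (r • m) := by
  intro x hx
  rw [mem_ann] at hx ⊢
  rw [smul_comm, hx, smul_zero]

theorem mem_ann_smul {r x : R} {m : M} : x ∈ ann R (r • m) ↔ x * r ∈ ann R m := by
  rw [mem_ann, mem_ann, mul_smul]

theorem minimalPrimes_of_le {I J p : Ideal R} (hp : p ∈ I.minimalPrimes) (hIJ : I ≤ J)
    (hJp : J ≤ p) : p ∈ J.minimalPrimes :=
  ⟨⟨hp.1.1, hJp⟩, fun _ hq hqp => hp.2 ⟨hq.1, hIJ.trans hq.2⟩ hqp⟩

theorem exists_minimalPrimes_ann {m : M} (hm : m ≠ 0) : ∃ p, p ∈ (ann R m).minimalPrimes := by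
  have h : ann R m ≠ ⊤ := fun h => hm (ann_eq_top.mp h)
  obtain ⟨p, hp⟩ := Ideal.nonempty_minimalPrimes h
  exact ⟨p, hp⟩

theorem weakAss_eq_empty_iff : weakAss R M = ∅ ↔ Subsingleton M := by
  constructor
  · intro h
    refine ⟨fun a b => ?_⟩
    by_contra hab
    have hne : a - b ≠ 0 := sub_ne_zero.mpr hab
    obtain ⟨p, hp⟩ := exists_minimalPrimes_ann (R := R) hne
    have : p ∈ weakAss R M := ⟨a - b, hp⟩
    rw [h] at this
    exact this
  · intro h
    rw [Set.eq_empty_iff_forall_notMem]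
    rintro p ⟨m, hm⟩
    have : ann R m = ⊤ := ann_eq_top.mpr (Subsingleton.elim m 0)
    rw [this, Ideal.minimalPrimes_top] at hm
    exact hm

theorem ann_map_of_injective {N : Type w} [AddCommGroup N] [Module R N] (f : M →ₗ[R] N)
    (hf : Function.Injective f) (m : M) : ann R (f m) = ann R m := by
  ext r
  rw [mem_ann, mem_ann, ← map_smul, map_eq_zero_iff f hf]

theorem weakAss_subset_of_injective {N : Type w} [AddCommGroup N] [Module R N] (f : M →ₗ[R] N)
    (hf : Function.Injective f) : weakAss R M ⊆ weakAss R N := by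
  rintro p ⟨m, hm⟩
  exact ⟨f m, by rw [ann_map_of_injective f hf]; exact hm⟩

theorem ass_subset_of_injective {N : Type w} [AddCommGroup N] [Module R N] (f : M →ₗ[R] N)
    (hf : Function.Injective f) : ass R M ⊆ ass R N := by
  rintro p ⟨hp, m, hm⟩
  exact ⟨hp, f m, by rw [ann_map_of_injective f hf]; exact hm⟩

theorem weakAss_subset_union_of_exact {M' : Type v} {M'' : Type w} [AddCommGroup M'] [Module R M']
    [AddCommGroup M''] [Module R M''] (f : M' →ₗ[R] M) (g : M →ₗ[R] M'')
    (hf : Function.Injective f) (hfg : Function.Exact f g) :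
    weakAss R M ⊆ weakAss R M' ∪ weakAss R M'' := by
  rintro p ⟨m, hm⟩
  by_cases h : ann R (g m) ≤ p
  · right
    refine ⟨g m, minimalPrimes_of_le hm ?_ h⟩
    intro r hr
    rw [mem_ann] at hr ⊢
    rw [← map_smul, hr, map_zero]
  · left
    obtain ⟨r, hr, hrp⟩ := SetLike.not_le_iff_exists.mp h
    rw [mem_ann, ← map_smul] at hr
    obtain ⟨m', hm'⟩ := (hfg (r • m)).mp hr
    refine ⟨m', ?_⟩
    rw [← ann_map_of_injective f hf, hm']
    refine minimalPrimes_of_le hm (ann_smul_le r m) ?_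
    intro x hx
    rw [mem_ann_smul] at hx
    have hp : p.IsPrime := hm.1.1
    exact (hp.mem_or_mem (hm.1.2 hx)).resolve_right hrp

theorem biUnion_weakAss :
    ⋃ q ∈ weakAss R M, (q : Set R) = {f : R | ¬ IsSMulRegular M f} := by
  ext x
  simp only [Set.mem_iUnion, SetLike.mem_coe, exists_prop, Set.mem_ofPred_eq]
  constructor
  · rintro ⟨p, ⟨m, hm⟩, hxp⟩ hreg
    obtain ⟨y, hy, hxy⟩ := Ideal.exists_mul_mem_of_mem_minimalPrimes hm hxp
    rw [mem_ann] at hy hxy
    rw [mul_smul] at hxy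
    exact hy (hreg.right_eq_zero_of_smul hxy)
  · intro hx
    have : ∃ m : M, m ≠ 0 ∧ x • m = 0 := by
      by_contra hcon
      push Not at hcon
      apply hx
      intro a b hab
      have : x • (a - b) = 0 := by rw [smul_sub]; exact sub_eq_zero.mpr hab
      by_contra hne
      exact hcon (a - b) (sub_ne_zero.mpr hne) this
    obtain ⟨m, hm0, hxm⟩ := this
    obtain ⟨p, hp⟩ := exists_minimalPrimes_ann (R := R) hm0
    exact ⟨p, ⟨m, hp⟩, hp.1.2 (mem_ann.mpr hxm)⟩

end basic

section tower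

variable {R : Type u} [CommRing R] {A : Type v} [CommRing A] [Algebra R A]
  {M : Type w} [AddCommGroup M] [Module A M] [Module R M] [IsScalarTower R A M]

theorem ann_tower (m : M) : ann R m = Ideal.comap (algebraMap R A) (ann A m) := by
  ext r
  rw [Ideal.mem_comap, mem_ann, mem_ann, algebraMap_smul]

theorem weakAss_of_surjective (h : Function.Surjective (algebraMap R A)) :
    weakAss R M = Ideal.comap (algebraMap R A) '' weakAss A M := by
  ext p
  constructor
  · rintro ⟨m, hm⟩
    rw [ann_tower (A := A), Ideal.comap_minimalPrimes_eq_of_surjective h] at hm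
    obtain ⟨q, hq, rfl⟩ := hm
    exact ⟨q, ⟨m, hq⟩, rfl⟩
  · rintro ⟨q, ⟨m, hm⟩, rfl⟩
    refine ⟨m, ?_⟩
    rw [ann_tower (A := A), Ideal.comap_minimalPrimes_eq_of_surjective h]
    exact ⟨q, hm, rfl⟩

theorem comap_ass_subset : Ideal.comap (algebraMap R A) '' ass A M ⊆ ass R M := by
  rintro _ ⟨q, ⟨hq, m, rfl⟩, rfl⟩
  exact ⟨Ideal.IsPrime.comap _, m, (ann_tower m).symm⟩

end tower

section loc

variable {R : Type u} [CommRing R] (S : Submonoid R) {A : Type v} [CommRing A] [Algebra R A]
  [IsLocalization S A] {M : Type w} [AddCommGroup M] [Module R M]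
  {M' : Type w} [AddCommGroup M'] [Module A M'] [Module R M'] [IsScalarTower R A M']
  (f : M →ₗ[R] M') [IsLocalizedModule S f]

include S in
theorem ann_loc_map (m : M) : ann A (f m) = Ideal.map (algebraMap R A) (ann R m) := by
  ext a
  obtain ⟨⟨r, s⟩, hrs⟩ := IsLocalization.surj S a
  simp only at hrs
  have hunit : IsUnit (algebraMap R A s) := IsLocalization.map_units A s
  constructor
  · intro ha
    rw [mem_ann] at ha
    have h1 : f (r • m) = 0 := by
      rw [map_smul, ← algebraMap_smul A r (f m), ← hrs, mul_smul, smul_comm, ha, smul_zero]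
    obtain ⟨c, hc⟩ := (IsLocalizedModule.eq_zero_iff S f).mp h1
    have h2 : (c : R) * r ∈ ann R m := by
      rw [mem_ann, mul_smul]; exact hc
    have h3 : algebraMap R A ((c : R) * r) ∈ Ideal.map (algebraMap R A) (ann R m) :=
      Ideal.mem_map_of_mem _ h2
    rw [map_mul, ← hrs] at h3
    have hu2 : IsUnit (algebraMap R A c) := IsLocalization.map_units A c
    have h4 := (Ideal.unit_mul_mem_iff_mem _ hu2).mp h3
    exact (Ideal.mul_unit_mem_iff_mem _ hunit).mp h4
  · intro ha
    have hle : Ideal.map (algebraMap R A) (ann R m) ≤ ann A (f m) := by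
      rw [Ideal.map_le_iff_le_comap]
      intro x hx
      rw [Ideal.mem_comap, mem_ann, algebraMap_smul, ← map_smul, mem_ann.mp hx, map_zero]
    exact hle ha

omit [IsLocalization S A] in
include S in
theorem exists_ann_loc_eq_A (x : M') : ∃ m : M, ann A x = ann A (f m) := by
  obtain ⟨⟨m, s⟩, hms⟩ := IsLocalizedModule.surj S f x
  simp only at hms
  refine ⟨m, ?_⟩
  ext a
  rw [mem_ann, mem_ann, ← hms, smul_comm]
  constructor
  · intro h; rw [h, smul_zero]
  · intro h
    exact (IsLocalizedModule.smul_injective f s) (by simpa using h)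

omit [IsLocalization S A] [Module A M'] [IsScalarTower R A M'] in
include S in
theorem exists_ann_loc_eq_R (x : M') : ∃ m : M, ann R x = ann R (f m) := by
  obtain ⟨⟨m, s⟩, hms⟩ := IsLocalizedModule.surj S f x
  simp only at hms
  refine ⟨m, ?_⟩
  ext a
  rw [mem_ann, mem_ann, ← hms, smul_comm]
  constructor
  · intro h; rw [h, smul_zero]
  · intro h
    exact (IsLocalizedModule.smul_injective f s) (by simpa using h)

include S in
theorem weakAss_loc_eq_image_comap :
    weakAss R M' = Ideal.comap (algebraMap R A) '' weakAss A M' := by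
  ext p
  constructor
  · rintro ⟨x, hx⟩
    rw [ann_tower (A := A), IsLocalization.minimalPrimes_comap S A] at hx
    obtain ⟨q, hq, rfl⟩ := hx
    exact ⟨q, ⟨x, hq⟩, rfl⟩
  · rintro ⟨q, ⟨x, hx⟩, rfl⟩
    refine ⟨x, ?_⟩
    rw [ann_tower (A := A), IsLocalization.minimalPrimes_comap S A]
    exact ⟨q, hx, rfl⟩

include S f in
theorem mem_weakAss_iff_map_mem (p : Ideal R) [hp : p.IsPrime]
    (hS : Disjoint (S : Set R) (p : Set R)) :
    p ∈ weakAss R M ↔ Ideal.map (algebraMap R A) p ∈ weakAss A M' := by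
  have hcomap : Ideal.comap (algebraMap R A) (Ideal.map (algebraMap R A) p) = p :=
    IsLocalization.under_map_of_isPrime_disjoint S A hp hS
  constructor
  · rintro ⟨m, hm⟩
    refine ⟨f m, ?_⟩
    rw [ann_loc_map S f, IsLocalization.minimalPrimes_map S A, Set.mem_preimage, Ideal.under_def,
      hcomap]
    exact hm
  · rintro ⟨x, hx⟩
    obtain ⟨m, hm⟩ := exists_ann_loc_eq_A (A := A) S f x
    rw [hm, ann_loc_map S f, IsLocalization.minimalPrimes_map S A, Set.mem_preimage,
      Ideal.under_def, hcomap] at hx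
    exact ⟨m, hx⟩

omit [IsLocalization S A] [Module A M'] [IsScalarTower R A M'] in
include S in
theorem injective_of_regular (hS : ∀ s ∈ S, IsSMulRegular M s) : Function.Injective f := by
  rw [← LinearMap.ker_eq_bot, LinearMap.ker_eq_bot']
  intro m hm
  obtain ⟨c, hc⟩ := (IsLocalizedModule.eq_zero_iff S f).mp hm
  exact (hS c c.2).right_eq_zero_of_smul hc

omit [IsLocalization S A] [Module A M'] [IsScalarTower R A M'] in
include S f in
theorem weakAss_eq_of_regular (hS : ∀ s ∈ S, IsSMulRegular M s) :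
    weakAss R M = weakAss R M' := by
  have hinj : Function.Injective f := injective_of_regular S f hS
  apply Set.Subset.antisymm
  · rintro p ⟨m, hm⟩
    exact ⟨f m, by rw [ann_map_of_injective f hinj]; exact hm⟩
  · rintro p ⟨x, hx⟩
    obtain ⟨m, hm⟩ := exists_ann_loc_eq_R S f x
    rw [hm, ann_map_of_injective f hinj] at hx
    exact ⟨m, hx⟩

omit [IsLocalization S A] [Module A M'] [IsScalarTower R A M'] in
include S f in
theorem ass_eq_of_regular (hS : ∀ s ∈ S, IsSMulRegular M s) :
    ass R M = ass R M' := by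
  have hinj : Function.Injective f := injective_of_regular S f hS
  apply Set.Subset.antisymm
  · rintro p ⟨hp, m, hm⟩
    exact ⟨hp, f m, by rw [ann_map_of_injective f hinj]; exact hm⟩
  · rintro p ⟨hp, x, hx⟩
    obtain ⟨m, hm⟩ := exists_ann_loc_eq_R S f x
    rw [hm, ann_map_of_injective f hinj] at hx
    exact ⟨hp, m, hx⟩

include S f in
theorem ass_loc_eq_image_comap :
    ass R M' = Ideal.comap (algebraMap R A) '' ass A M' := by
  apply Set.Subset.antisymm
  · rintro p ⟨hp, x, hx⟩
    have hdisj : Disjoint (S : Set R) (p : Set R) := by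
      rw [Set.disjoint_left]
      intro s hs hsp
      rw [hx] at hsp
      have h0 : (⟨s, hs⟩ : S) • x = 0 := mem_ann.mp hsp
      have hx0 : x = 0 := (IsLocalizedModule.smul_injective f ⟨s, hs⟩) (by simpa using h0)
      have : p = ⊤ := by
        rw [hx, Ideal.eq_top_iff_one, mem_ann, hx0, smul_zero]
      exact hp.ne_top this
    have hQ : ann A x = Ideal.map (algebraMap R A) p := by
      rw [← IsLocalization.map_under S A (ann A x), Ideal.under_def, ← ann_tower, ← hx]
    refine ⟨ann A x, ⟨?_, x, rfl⟩, ?_⟩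
    · rw [hQ]
      exact IsLocalization.isPrime_of_isPrime_disjoint S A p hp hdisj
    · rw [← ann_tower, hx]
  · exact comap_ass_subset

omit [IsLocalization S A] [Module A M'] [IsScalarTower R A M'] in
include S f in
theorem mem_ass_loc_of_mem_ass {p : Ideal R} (hp : p ∈ ass R M)
    (hS : Disjoint (S : Set R) (p : Set R)) : p ∈ ass R M' := by
  obtain ⟨hpp, m, hm⟩ := hp
  refine ⟨hpp, f m, ?_⟩
  ext r
  rw [mem_ann, ← map_smul, IsLocalizedModule.eq_zero_iff S f]
  constructor
  · intro hr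
    refine ⟨1, ?_⟩
    rw [one_smul]
    rw [hm] at hr
    exact mem_ann.mp hr
  · rintro ⟨c, hc⟩
    have h1 : (c : R) * r ∈ p := by
      rw [hm, mem_ann, mul_smul]; exact hc
    refine (hpp.mem_or_mem h1).resolve_left ?_
    intro hcp
    exact Set.disjoint_left.mp hS c.2 hcp

end loc


section fg

variable {R : Type u} [CommRing R] {M : Type v} [AddCommGroup M] [Module R M]

theorem exists_mul_pow_mem_of_mem_minimalPrimes {I p : Ideal R} (hp : p ∈ I.minimalPrimes)
    {x : R} (hx : x ∈ p) : ∃ s, s ∉ p ∧ ∃ n : ℕ, s * x ^ n ∈ I := by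
  have hpp : p.IsPrime := hp.1.1
  by_contra hcon
  push Not at hcon
  let T : Submonoid R := p.primeCompl ⊔ Submonoid.powers x
  have hdisj : Disjoint (I : Set R) (T : Set R) := by
    rw [Set.disjoint_left]
    intro y hyI hyT
    obtain ⟨s, hs, z, ⟨n, rfl⟩, rfl⟩ := Submonoid.mem_sup.mp hyT
    exact hcon s hs n hyI
  obtain ⟨q, hq, hIq, hqT⟩ := Ideal.exists_le_prime_disjoint I T hdisj
  have hqp : q ≤ p := by
    intro y hy
    by_contra hyp
    exact Set.disjoint_left.mp hqT hy (Submonoid.mem_sup_left (S := p.primeCompl) hyp)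
  have hpq : p ≤ q := hp.2 ⟨hq, hIq⟩ hqp
  exact Set.disjoint_left.mp hqT (hpq hx)
    (Submonoid.mem_sup_right (Submonoid.mem_powers x))

theorem exists_smul_killed_of_mem {p : Ideal R} {m : M} (hp : p ∈ (ann R m).minimalPrimes)
    {f : R} (hf : f ∈ p) :
    ∃ r : R, p ∈ (ann R (r • m)).minimalPrimes ∧ f • (r • m) = 0 := by
  classical
  have hpp : p.IsPrime := hp.1.1
  have hex : ∃ n : ℕ, ∃ s, s ∉ p ∧ s * f ^ n ∈ ann R m := by
    obtain ⟨s, hs, n, hn⟩ := exists_mul_pow_mem_of_mem_minimalPrimes hp hf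
    exact ⟨n, s, hs, hn⟩
  obtain ⟨s, hs, hsn⟩ := Nat.find_spec hex
  have hn0 : Nat.find hex ≠ 0 := by
    intro h0
    rw [h0, pow_zero, mul_one] at hsn
    exact hs (hp.1.2 hsn)
  refine ⟨s * f ^ (Nat.find hex - 1), ?_, ?_⟩
  · refine minimalPrimes_of_le hp (ann_smul_le _ m) ?_
    intro x hx
    rw [mem_ann_smul] at hx
    by_contra hxp
    have hxs : x * s ∉ p := fun h => (hpp.mem_or_mem h).elim hxp hs
    exact Nat.find_min hex (Nat.sub_one_lt hn0) ⟨x * s, hxs, by rw [mul_assoc]; exact hx⟩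
  · rw [smul_smul, ← mem_ann]
    have : f * (s * f ^ (Nat.find hex - 1)) = s * f ^ (Nat.find hex) := by
      conv_rhs => rw [← Nat.sub_add_cancel (Nat.one_le_iff_ne_zero.mpr hn0), pow_succ]
      ring
    rw [this]
    exact hsn

theorem exists_smul_killed_of_finset {p : Ideal R} {m : M} (hp : p ∈ (ann R m).minimalPrimes)
    (F : Finset R) (hF : ∀ f ∈ F, f ∈ p) :
    ∃ r : R, p ∈ (ann R (r • m)).minimalPrimes ∧ ∀ f ∈ F, f • (r • m) = 0 := by
  classical
  induction F using Finset.induction_on with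
  | empty => exact ⟨1, by rw [one_smul]; exact hp, by simp⟩
  | insert a F _ ih =>
    obtain ⟨r, hr, hrF⟩ := ih (fun f hf => hF f (Finset.mem_insert_of_mem hf))
    obtain ⟨r', hr', hr'a⟩ := exists_smul_killed_of_mem hr (hF a (Finset.mem_insert_self a F))
    refine ⟨r' * r, by rw [mul_smul]; exact hr', ?_⟩
    intro f hf
    rcases Finset.mem_insert.mp hf with rfl | hf
    · rw [mul_smul]; exact hr'a
    · rw [mul_smul, smul_comm, hrF f hf, smul_zero]

theorem mem_ass_of_mem_weakAss_of_fg {p : Ideal R} (hfg : p.FG) (hp : p ∈ weakAss R M) :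
    p ∈ ass R M := by
  obtain ⟨m, hm⟩ := hp
  obtain ⟨F, hF⟩ := hfg
  have hFp : ∀ f ∈ F, f ∈ p := fun f hf => by
    rw [← hF]; exact Ideal.subset_span hf
  obtain ⟨r, hr, hrF⟩ := exists_smul_killed_of_finset hm F hFp
  refine ⟨hm.1.1, r • m, le_antisymm ?_ hr.1.2⟩
  rw [← hF, Ideal.span_le]
  intro f hf
  exact mem_ann.mpr (hrF f hf)

theorem mem_weakAss_of_mem_ass {p : Ideal R} (hp : p ∈ ass R M) : p ∈ weakAss R M := by
  obtain ⟨hpp, m, rfl⟩ := hp
  refine ⟨m, ?_⟩
  rw [Ideal.minimalPrimes_eq_subsingleton_self]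
  rfl

theorem eq_zero_of_forall_localization {x : M}
    (hx : ∀ (p : Ideal R) [p.IsPrime], p ∈ weakAss R M →
      LocalizedModule.mkLinearMap p.primeCompl M x = 0) : x = 0 := by
  by_contra hne
  obtain ⟨p, hp⟩ := exists_minimalPrimes_ann (R := R) hne
  have hpp : p.IsPrime := hp.1.1
  have h0 := hx p ⟨x, hp⟩
  obtain ⟨c, hc⟩ := (IsLocalizedModule.eq_zero_iff p.primeCompl
    (LocalizedModule.mkLinearMap p.primeCompl M)).mp h0
  exact c.2 (hp.1.2 (mem_ann.mpr hc))

end fg

end Groth.Agent.Lib.Helper74.WeakAss
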