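import Groth.Agent.Lib.Helper74.WeakAss
import Mathlib.RingTheory.Ideal.GoingUp
import Mathlib.RingTheory.QuasiFinite.Basic
import Mathlib.RingTheory.Flat.Basic
import Mathlib.LinearAlgebra.TensorProduct.Quotient
import Mathlib.LinearAlgebra.TensorProduct.Pi
import Mathlib.RingTheory.LocalRing.Module
import Mathlib.RingTheory.Flat.Stability
import Mathlib.RingTheory.Localization.BaseChange

set_option autoImplicit false

namespace Groth.Agent.Lib.Helper74.WeakAss

universe u v w
open FlatCA

local macro "ann" R:term:max m:term:max : term =>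
  `(Submodule.annihilator (Submodule.span $R (Singleton.singleton $m : Set _)))

section finite

variable {A : Type u} {B : Type v} [CommRing A] [CommRing B] [Algebra A B]
  {N : Type w} [AddCommGroup N] [Module B N] [Module A N] [IsScalarTower A B N]

theorem eq_of_le_of_comap_eq [Algebra.IsIntegral A B] {Q t : Ideal B} [Q.IsPrime]
    (hle : Q ≤ t) (h : Q.comap (algebraMap A B) = t.comap (algebraMap A B)) : Q = t := by
  by_contra hne
  have hlt : Q < t := lt_of_le_of_ne hle hne
  have := Ideal.IsIntegral.comap_lt_comap (R := A) hlt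
  rw [h] at this
  exact lt_irrefl _ this

theorem comap_mem_weakAss_of_finite [Module.Finite A B] {t : Ideal B} (ht : t ∈ weakAss B N) :
    t.comap (algebraMap A B) ∈ weakAss A N := by
  classical
  obtain ⟨z, hz⟩ := ht
  have htp : t.IsPrime := hz.1.1
  set p := t.comap (algebraMap A B) with hp
  have hpp : p.IsPrime := Ideal.comap_isPrime _ _
  have hfin : (p.primesOver B).Finite := Algebra.QuasiFinite.finite_primesOver p
  obtain ⟨x, hxt, hxq⟩ : ∃ x ∈ t, ∀ q ∈ p.primesOver B, q ≠ t → x ∉ q := by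
    by_contra hcon
    push Not at hcon
    have hsub : (t : Set B) ⊆
        ⋃ q ∈ ((hfin.toFinset.erase t : Finset (Ideal B)) : Set (Ideal B)), ((q : Ideal B) : Set B) := by
      intro x hx
      obtain ⟨q, hq, hqt, hxq⟩ := hcon x hx
      simp only [Set.mem_iUnion]
      exact ⟨q, Finset.mem_coe.mpr (Finset.mem_erase.mpr ⟨hqt, hfin.mem_toFinset.mpr hq⟩), hxq⟩
    have hprime : ∀ q ∈ (hfin.toFinset.erase t : Finset (Ideal B)), q ≠ t → q ≠ t →
        Ideal.IsPrime ((fun q : Ideal B => q) q) := by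
      intro q hq _ _
      rw [Finset.mem_erase, hfin.mem_toFinset] at hq
      exact hq.2.1
    obtain ⟨q, hq, htq⟩ := (Ideal.subset_union_prime (f := fun q : Ideal B => q) t t hprime).1 hsub
    rw [Finset.mem_erase, hfin.mem_toFinset] at hq
    obtain ⟨hqt, hqp, hqo⟩ := hq
    have : t = q := eq_of_le_of_comap_eq (A := A) htq (by rw [← hp]; exact hqo.over)
    exact hqt this.symm
  obtain ⟨y, hyt, k, hyk⟩ := exists_mul_pow_mem_of_mem_minimalPrimes hz hxt
  refine ⟨y • z, ⟨hpp, ?_⟩, ?_⟩
  · intro a ha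
    rw [mem_ann, ← algebraMap_smul B a, smul_smul, ← mem_ann] at ha
    have h1 : algebraMap A B a * y ∈ t := hz.1.2 ha
    exact (htp.mem_or_mem h1).resolve_right hyt
  · intro p' ⟨hp'p, hp'⟩ hp'le f hf
    have hft : algebraMap A B f ∈ t := hf
    obtain ⟨y', hy't, k', hy'k'⟩ := exists_mul_pow_mem_of_mem_minimalPrimes hz hft
    let I : Ideal B := ann B ((f ^ k') • (y • z))
    have hy'I : y' ∈ I := by
      rw [mem_ann, ← algebraMap_smul B (f ^ k'), smul_smul, smul_smul, map_pow]
      rw [mem_ann] at hy'k'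
      rw [show y' * algebraMap A B f ^ k' * y = y * (y' * algebraMap A B f ^ k') by ring, mul_smul,
        hy'k', smul_zero]
    have hxI : x ^ k ∈ I := by
      rw [mem_ann, ← algebraMap_smul B (f ^ k'), smul_smul, smul_smul]
      rw [mem_ann] at hyk
      rw [show x ^ k * algebraMap A B (f ^ k') * y = algebraMap A B (f ^ k') * (y * x ^ k) by ring,
        mul_smul, hyk, smul_zero]
    have hnot : ¬ I.comap (algebraMap A B) ≤ p := by
      intro hle
      obtain ⟨Q, hIQ, hQp, hQ⟩ := Ideal.exists_ideal_over_prime_of_isIntegral p I hle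
      by_cases hQt : Q = t
      · exact hy't (hQt ▸ hIQ hy'I)
      · have hQo : Q ∈ p.primesOver B := ⟨hQp, ⟨hQ.symm⟩⟩
        exact hxq Q hQo hQt (hQp.mem_of_pow_mem k (hIQ hxI))
    obtain ⟨a, haI, hap⟩ := SetLike.not_le_iff_exists.mp hnot
    rw [Ideal.mem_comap, mem_ann, algebraMap_smul, smul_smul, ← mem_ann] at haI
    have h2 : a * f ^ k' ∈ p' := hp' haI
    have hap' : a ∉ p' := fun h => hap (hp'le h)
    exact hp'p.mem_of_pow_mem k' ((hp'p.mem_or_mem h2).resolve_left hap')

end finite

section flat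

open TensorProduct

variable {A : Type u} {B : Type v} [CommRing A] [CommRing B] [Algebra A B]
  {M : Type w} [AddCommGroup M] [Module A M]

theorem ann_one_tmul_of_flat [Module.Flat A B] (m : M) :
    ann B ((1 : B) ⊗ₜ[A] m) = (ann A m).map (algebraMap A B) := by
  set I : Ideal A := ann A m with hI
  let φ : A →ₗ[A] M := LinearMap.toSpanSingleton A M m
  have hker : LinearMap.ker φ = I := by
    ext a
    rw [LinearMap.mem_ker, hI, mem_ann]
    rfl
  let j : (A ⧸ I) →ₗ[A] M := Submodule.liftQ I φ hker.ge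
  have hj : Function.Injective j := by
    rw [← LinearMap.ker_eq_bot]
    exact Submodule.ker_liftQ_eq_bot _ _ _ hker.le
  have hjB : Function.Injective (j.lTensor B) :=
    Module.Flat.lTensor_preserves_injective_linearMap j hj
  ext b
  rw [mem_ann, TensorProduct.smul_tmul', smul_eq_mul, mul_one]
  have h1 : b ⊗ₜ[A] m = j.lTensor B (b ⊗ₜ[A] (Submodule.Quotient.mk (1 : A) : A ⧸ I)) := by
    rw [LinearMap.lTensor_tmul]
    congr 1
    change m = φ 1
    rw [LinearMap.toSpanSingleton_apply, one_smul]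
  rw [h1, map_eq_zero_iff _ hjB]
  have h2 : b ⊗ₜ[A] (Submodule.Quotient.mk (1 : A) : A ⧸ I) = 0 ↔
      b ∈ I • (⊤ : Submodule A B) := by
    rw [← (TensorProduct.comm A B (A ⧸ I)).map_eq_zero_iff, TensorProduct.comm_tmul,
      ← (TensorProduct.quotTensorEquivQuotSMul B I).map_eq_zero_iff]
    have : (Submodule.Quotient.mk (1 : A) : A ⧸ I) = Ideal.Quotient.mk I 1 := rfl
    rw [this, TensorProduct.quotTensorEquivQuotSMul_mk_tmul, one_smul,
      Submodule.Quotient.mk_eq_zero]
  rw [h2, Ideal.smul_top_eq_map, Submodule.restrictScalars_mem]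

theorem mem_weakAss_tensor_of_mem_weakAss [Algebra.IsIntegral A B] [Module.Flat A B]
    {p : Ideal A} (hp : p ∈ weakAss A M) (t : Ideal B) [ht : t.IsPrime]
    (htp : t.comap (algebraMap A B) = p) : t ∈ weakAss B (B ⊗[A] M) := by
  obtain ⟨m, hm⟩ := hp
  refine ⟨(1 : B) ⊗ₜ[A] m, ⟨ht, ?_⟩, ?_⟩
  · rw [ann_one_tmul_of_flat, Ideal.map_le_iff_le_comap, htp]
    exact hm.1.2
  · intro Q ⟨hQp, hQ⟩ hQt
    rw [ann_one_tmul_of_flat, Ideal.map_le_iff_le_comap] at hQ
    have hQc : Q.comap (algebraMap A B) = p := by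
      apply le_antisymm
      · rw [← htp]; exact Ideal.comap_mono hQt
      · exact hm.2 ⟨Ideal.comap_isPrime _ _, hQ⟩ (by rw [← htp]; exact Ideal.comap_mono hQt)
    exact (eq_of_le_of_comap_eq (A := A) hQt (by rw [hQc, htp])).ge

end flat

section pi

open TensorProduct

variable {R : Type u} [CommRing R] {T : Type w} [AddCommGroup T] [Module R T]

theorem weakAss_pi_subset {ι : Type v} [Finite ι] : weakAss R (ι → T) ⊆ weakAss R T := by
  classical
  haveI := Fintype.ofFinite ι
  rintro p ⟨z, hz⟩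
  have hpp : p.IsPrime := hz.1.1
  have hann : ann R z = Finset.univ.inf (fun i => ann R (z i)) := by
    ext r
    rw [mem_ann, Submodule.mem_finsetInf]
    constructor
    · intro h i _
      rw [mem_ann]
      have := congrFun h i
      simpa using this
    · intro h
      funext i
      have := h i (Finset.mem_univ i)
      rw [mem_ann] at this
      simpa using this
  have hle : Finset.univ.inf (fun i => ann R (z i)) ≤ p := hann ▸ hz.1.2
  obtain ⟨i, -, hi⟩ := (Ideal.IsPrime.inf_le' hpp).1 hle
  refine ⟨z i, ⟨hpp, hi⟩, ?_⟩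
  intro q ⟨hqp, hq⟩ hqle
  refine hz.2 ⟨hqp, ?_⟩ hqle
  rw [hann]
  exact (Finset.inf_le (Finset.mem_univ i)).trans hq

theorem weakAss_tensor_subset_of_finite_flat_local [IsLocalRing R] {P : Type v} [AddCommGroup P]
    [Module R P] [Module.Finite R P] [Module.Flat R P] :
    weakAss R (P ⊗[R] T) ⊆ weakAss R T := by
  classical
  haveI : Module.Free R P := Module.free_of_flat_of_isLocalRing
  let b := Module.Free.chooseBasis R P
  let e : P ⊗[R] T ≃ₗ[R] (Module.Free.ChooseBasisIndex R P → T) :=
    (TensorProduct.congr b.equivFun (LinearEquiv.refl R T)) ≪≫ₗ TensorProduct.comm R _ T ≪≫ₗ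
      TensorProduct.piScalarRight R R T _
  exact (weakAss_subset_of_injective e.toLinearMap e.injective).trans weakAss_pi_subset

end pi

section finiteflat

open TensorProduct

variable {A B : Type u} [CommRing A] [CommRing B] [Algebra A B] {M : Type u} [AddCommGroup M]
  [Module A M]

theorem mem_weakAss_of_mem_weakAss_tensor_of_finite_flat [Module.Finite A B] [Module.Flat A B]
    {p : Ideal A} [hpp : p.IsPrime] (hp : p ∈ weakAss A (B ⊗[A] M)) : p ∈ weakAss A M := by
  let Ap := Localization.AtPrime p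
  have hdisj : Disjoint (p.primeCompl : Set A) (p : Set A) := by
    rw [Set.disjoint_left]
    intro x hx hx'
    exact hx hx'
  have h1 := (mem_weakAss_iff_map_mem (A := Ap) p.primeCompl
    (TensorProduct.mk A Ap (B ⊗[A] M) 1) p hdisj).1 hp
  have h2 : Ideal.map (algebraMap A Ap) p ∈ weakAss Ap ((Ap ⊗[A] B) ⊗[Ap] (Ap ⊗[A] M)) :=
    weakAss_subset_of_injective
      (TensorProduct.AlgebraTensorModule.distribBaseChange A Ap B M).toLinearMap
      (TensorProduct.AlgebraTensorModule.distribBaseChange A Ap B M).injective h1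
  have h3 : Ideal.map (algebraMap A Ap) p ∈ weakAss Ap (Ap ⊗[A] M) :=
    weakAss_tensor_subset_of_finite_flat_local h2
  exact (mem_weakAss_iff_map_mem (A := Ap) p.primeCompl (TensorProduct.mk A Ap M 1) p hdisj).2 h3

theorem mem_weakAss_tensor_iff_of_finite_flat [Module.Finite A B] [Module.Flat A B]
    (p : Ideal A) [p.IsPrime] (t : Ideal B) [t.IsPrime] (htp : t.comap (algebraMap A B) = p) :
    t ∈ weakAss B (B ⊗[A] M) ↔ p ∈ weakAss A M := by
  constructor
  · intro ht
    have := comap_mem_weakAss_of_finite (A := A) ht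
    rw [htp] at this
    exact mem_weakAss_of_mem_weakAss_tensor_of_finite_flat this
  · intro hp
    exact mem_weakAss_tensor_of_mem_weakAss hp t htp

end finiteflat

end Groth.Agent.Lib.Helper74.WeakAss
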