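import Groth.Agent.Lib.Helper74.RelTildeQC

/-!
# Sections of modules on schemes: restriction and gluing utilities (helper74)
-/

set_option autoImplicit false
universe u
open CategoryTheory CategoryTheory.Limits AlgebraicGeometry TopologicalSpace Opposite

namespace Groth.Agent.Lib.Helper74.ModSec

variable {X : Scheme.{u}}

/-- restriction of sections of a module -/
noncomputable abbrev rs (M : X.Modules) {U V : X.Opens} (h : V ≤ U) (s : Γ(M, U)) : Γ(M, V) :=
  M.presheaf.map (homOfLE h).op s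

theorem rs_rs (M : X.Modules) {U V W : X.Opens} (h1 : V ≤ U) (h2 : W ≤ V) (s : Γ(M, U)) :
    rs M h2 (rs M h1 s) = rs M (h2.trans h1) s :=
  Groth.Agent.Lib.Lead.QCohAff.res_res M h1 h2 s

theorem rs_self (M : X.Modules) {U : X.Opens} (h : U ≤ U) (s : Γ(M, U)) : rs M h s = s :=
  Groth.Agent.Lib.Lead.QCohAff.res_self M h s

theorem map_eq_rs (M : X.Modules) {U V : X.Opens} (f : op U ⟶ op V) (s : Γ(M, U)) :
    M.presheaf.map f s = rs M f.unop.le s := rfl

theorem hom_rs {F G : X.Modules} (φ : F ⟶ G) {U V : X.Opens} (h : V ≤ U) (s : Γ(F, U)) :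
    φ.app V (rs F h s) = rs G h (φ.app U s) :=
  Groth.Agent.Lib.Helper74.RelTilde.hom_res φ h s

theorem rs_add (M : X.Modules) {U V : X.Opens} (h : V ≤ U) (s t : Γ(M, U)) :
    rs M h (s + t) = rs M h s + rs M h t := map_add _ _ _

theorem rs_zero (M : X.Modules) {U V : X.Opens} (h : V ≤ U) :
    rs M h (0 : Γ(M, U)) = 0 := map_zero _

theorem rs_smul (M : X.Modules) {U V : X.Opens} (h : V ≤ U) (r : Γ(X, U)) (s : Γ(M, U)) :
    rs M h (r • s) = X.presheaf.map (homOfLE h).op r • rs M h s :=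
  Groth.Agent.Lib.Lead.QCohAff.res_smul M h r s

theorem rs_injective_of_eq (M : X.Modules) {U V : X.Opens} (h : V = U) :
    Function.Injective (rs M h.le) :=
  Groth.Agent.Lib.Lead.QCohAff.res_injective_of_eq M h

theorem rs_bijective_of_eq (M : X.Modules) {U V : X.Opens} (h : V = U) :
    Function.Bijective (rs M h.le) := by
  subst h
  refine ⟨rs_injective_of_eq M rfl, fun s => ⟨s, rs_self M _ s⟩⟩

theorem hom_ext_sec {F G : X.Modules} (f g : F ⟶ G)
    (H : ∀ (U : X.Opens) (s : Γ(F, U)), f.app U s = g.app U s) : f = g := by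
  apply Scheme.Modules.hom_ext
  intro U
  ext s
  exact H U s

/-- Two sections agreeing locally are equal. -/
theorem sec_ext_of_locally (M : X.Modules) {W : X.Opens} (s t : Γ(M, W))
    (h : ∀ x ∈ W, ∃ (W' : X.Opens) (hW' : W' ≤ W), x ∈ W' ∧ rs M hW' s = rs M hW' t) : s = t := by
  choose W' hW' hx hst using h
  let F : TopCat.Sheaf Ab X := ⟨M.presheaf, M.isSheaf⟩
  refine F.eq_of_locally_eq' (fun x : W => W' x.1 x.2) W (fun x => homOfLE (hW' x.1 x.2)) ?_ s t
    (fun x => hst x.1 x.2)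
  intro x hxW
  exact Opens.mem_iSup.mpr ⟨⟨x, hxW⟩, hx x hxW⟩

/-- Gluing of sections over a cover. -/
theorem existsUnique_glue (M : X.Modules) {W : X.Opens} {ι : Type*} (𝒲 : ι → X.Opens)
    (hle : ∀ i, 𝒲 i ≤ W) (hcov : ∀ x ∈ W, ∃ i, x ∈ 𝒲 i) (s : ∀ i, Γ(M, 𝒲 i))
    (hs : ∀ i j, rs M (inf_le_left : 𝒲 i ⊓ 𝒲 j ≤ 𝒲 i) (s i) =
      rs M (inf_le_right : 𝒲 i ⊓ 𝒲 j ≤ 𝒲 j) (s j)) :
    ∃! t : Γ(M, W), ∀ i, rs M (hle i) t = s i := by
  let F : TopCat.Sheaf Ab X := ⟨M.presheaf, M.isSheaf⟩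
  refine F.existsUnique_gluing' 𝒲 W (fun i => homOfLE (hle i)) ?_ s (fun i j => hs i j)
  intro x hxW
  obtain ⟨i, hi⟩ := hcov x hxW
  exact Opens.mem_iSup.mpr ⟨i, hi⟩

/-- A morphism of modules from sectionwise additive maps, natural and linear. -/
noncomputable def homOfSections (T F : X.Modules) (f : ∀ W : X.Opens, Γ(T, W) →+ Γ(F, W))
    (hnat : ∀ {W W' : X.Opens} (h : W' ≤ W) (t : Γ(T, W)), f W' (rs T h t) = rs F h (f W t))
    (hsmul : ∀ (W : X.Opens) (r : Γ(X, W)) (t : Γ(T, W)), f W (r • t) = r • f W t) : T ⟶ F :=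
  ⟨PresheafOfModules.homMk
    { app := fun W => AddCommGrpCat.ofHom (f W.unop)
      naturality := fun W W' i => by
        ext t
        exact hnat i.unop.le t }
    fun W r t => hsmul W.unop r t⟩

theorem homOfSections_app (T F : X.Modules) (f : ∀ W : X.Opens, Γ(T, W) →+ Γ(F, W))
    (hnat : ∀ {W W' : X.Opens} (h : W' ≤ W) (t : Γ(T, W)), f W' (rs T h t) = rs F h (f W t))
    (hsmul : ∀ (W : X.Opens) (r : Γ(X, W)) (t : Γ(T, W)), f W (r • t) = r • f W t)
    (W : X.Opens) (t : Γ(T, W)) : (homOfSections T F f hnat hsmul).app W t = f W t := rfl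

theorem comp_app_apply {F G H : X.Modules} (φ : F ⟶ G) (ψ : G ⟶ H) (W : X.Opens) (s : Γ(F, W)) :
    (φ ≫ ψ).app W s = ψ.app W (φ.app W s) := rfl

/-- A morphism injective on sections over the opens inside `W` and locally surjective over `W`
is surjective on sections over `W`. -/
theorem app_surjective_of_locally {F G : X.Modules} (φ : F ⟶ G) (W : X.Opens)
    (hinj : ∀ W' : X.Opens, W' ≤ W → Function.Injective (φ.app W'))
    (hloc : ∀ (t : Γ(G, W)) (x : X), x ∈ W → ∃ (W' : X.Opens) (hW' : W' ≤ W), x ∈ W' ∧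
      ∃ σ : Γ(F, W'), φ.app W' σ = rs G hW' t) : Function.Surjective (φ.app W) := by
  intro t
  choose W' hW' hxW' σ hσ using hloc t
  obtain ⟨s, hs, -⟩ := existsUnique_glue F (fun x : W => W' x.1 x.2) (fun x => hW' x.1 x.2)
    (fun x hx => ⟨⟨x, hx⟩, hxW' x hx⟩) (fun x => σ x.1 x.2) (fun x x' => by
      apply hinj _ (inf_le_left.trans (hW' x.1 x.2))
      rw [hom_rs, hom_rs, hσ, hσ, rs_rs, rs_rs])
  refine ⟨s, sec_ext_of_locally _ _ _ fun x hx => ⟨W' x hx, hW' x hx, hxW' x hx, ?_⟩⟩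
  rw [← hom_rs, hs ⟨x, hx⟩, hσ]

end Groth.Agent.Lib.Helper74.ModSec
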