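import Groth.Prelude.Def_RelProj
import Mathlib.AlgebraicGeometry.ProjectiveSpectrum.Proper

set_option autoImplicit false
universe u
open CategoryTheory CategoryTheory.Limits AlgebraicGeometry TopologicalSpace Opposite
open scoped HomogeneousIdeal

namespace Groth.Agent.Lib.Helper74.RelProjLib

variable {Y P : Scheme.{u}} {𝒮 : RelProj.QCGrAlg Y} {p : P ⟶ Y}
  {chart : ∀ (U : Y.Opens) (hU : IsAffineOpen U),
    (((p ⁻¹ᵁ U : P.Opens) : Scheme.{u}) ≅ Proj (𝒮.deg U hU))}

/-- Over an affine open, `p` restricted is the chart followed by the structure morphism of `Proj`. -/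
theorem restrict_eq (hP : RelProj.IsRelProj 𝒮 p chart) (U : Y.Opens) (hU : IsAffineOpen U) :
    p ∣_ U = (chart U hU).hom ≫ Proj.toSpecZero (𝒮.deg U hU) ≫ Spec.map (𝒮.strZero U hU) ≫
      hU.isoSpec.inv := by
  rw [← cancel_mono U.ι]
  simp only [Category.assoc, morphismRestrict_ι, IsAffineOpen.isoSpec_inv_ι]
  exact (hP.chart_over U hU).symm

/-- A property local at the target holds for `p` if it holds for the structure morphisms of all
the `Proj 𝒮(U)`. -/
theorem of_forall_chart (Q : MorphismProperty Scheme.{u}) [IsZariskiLocalAtTarget Q]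
    (hP : RelProj.IsRelProj 𝒮 p chart)
    (H : ∀ (U : Y.Opens) (hU : IsAffineOpen U),
      Q (Proj.toSpecZero (𝒮.deg U hU) ≫ Spec.map (𝒮.strZero U hU))) : Q p := by
  refine IsZariskiLocalAtTarget.of_iSup_eq_top (P := Q) (fun U : Y.affineOpens => U.1)
    (iSup_affineOpens_eq_top Y) ?_
  intro U
  rw [restrict_eq hP U.1 U.2, ← Category.assoc (Proj.toSpecZero _), ← Category.assoc]
  rw [MorphismProperty.cancel_right_of_respectsIso (P := Q),
    MorphismProperty.cancel_left_of_respectsIso (P := Q)]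
  exact H U.1 U.2

/-- The preimages of the affine opens cover `P`. -/
theorem iSup_preimage_eq_top (p : P ⟶ Y) :
    ⨆ U : Y.affineOpens, (p ⁻¹ᵁ U.1) = ⊤ := by
  rw [← Scheme.Hom.preimage_iSup, iSup_affineOpens_eq_top]
  rfl

end Groth.Agent.Lib.Helper74.RelProjLib

namespace Groth.Agent.Lib.Helper74.RelProjLib

variable {Y : Scheme.{u}} (𝒮 : RelProj.QCGrAlg Y)

/-- The structure map is the degree-zero structure map followed by the inclusion. -/
theorem subtype_comp_strZero (U : Y.Opens) (hU : IsAffineOpen U) :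
    (algebraMap (𝒮.deg U hU 0) (𝒮.presheaf.obj (op U))).comp (𝒮.strZero U hU).hom =
      (𝒮.str.app (op U)).hom := by
  ext r
  rfl

theorem projZero_comp_str (U : Y.Opens) (hU : IsAffineOpen U) :
    (GradedRing.projZeroRingHom' (𝒮.deg U hU)).comp (𝒮.str.app (op U)).hom =
      (𝒮.strZero U hU).hom := by
  ext r
  rw [RingHom.comp_apply, ← subtype_comp_strZero 𝒮 U hU, RingHom.comp_apply]
  exact congrArg Subtype.val (GradedRing.projZeroRingHom'_apply_coe (𝒮.deg U hU) _)

theorem finiteType_over_zero (U : Y.Opens) (hU : IsAffineOpen U)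
    (hft : (𝒮.str.app (op U)).hom.FiniteType) :
    Algebra.FiniteType (𝒮.deg U hU 0) (𝒮.presheaf.obj (op U)) := by
  rw [← RingHom.finiteType_algebraMap]
  apply RingHom.FiniteType.of_comp_finiteType (f := (𝒮.strZero U hU).hom)
  rw [subtype_comp_strZero]
  exact hft

theorem strZero_finiteType (U : Y.Opens) (hU : IsAffineOpen U)
    (hft : (𝒮.str.app (op U)).hom.FiniteType) :
    (𝒮.strZero U hU).hom.FiniteType := by
  rw [← projZero_comp_str]
  exact RingHom.FiniteType.comp
    (RingHom.FiniteType.of_surjective _ (GradedRing.projZeroRingHom'_surjective _)) hft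

variable {𝒮} {P : Scheme.{u}} {p : P ⟶ Y}
  {chart : ∀ (U : Y.Opens) (hU : IsAffineOpen U),
    (((p ⁻¹ᵁ U : P.Opens) : Scheme.{u}) ≅ Proj (𝒮.deg U hU))}

theorem finiteType_of_forall (hP : RelProj.IsRelProj 𝒮 p chart)
    (h1 : ∀ (U : Y.Opens) (hU : IsAffineOpen U),
      Algebra.FiniteType (𝒮.deg U hU 0) (𝒮.presheaf.obj (op U)))
    (h2 : ∀ (U : Y.Opens) (hU : IsAffineOpen U), (𝒮.strZero U hU).hom.FiniteType) :
    LocallyOfFiniteType p ∧ QuasiCompact p := by
  constructor
  · refine of_forall_chart @LocallyOfFiniteType hP ?_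
    intro U hU
    have := h1 U hU
    have : LocallyOfFiniteType (Spec.map (𝒮.strZero U hU)) := by
      rw [HasRingHomProperty.Spec_iff (P := @LocallyOfFiniteType)]
      exact h2 U hU
    infer_instance
  · refine of_forall_chart @QuasiCompact hP ?_
    intro U hU
    have := h1 U hU
    infer_instance

end Groth.Agent.Lib.Helper74.RelProjLib
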