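import Groth.Agent.Lib.Helper74.RelTwistGen2

/-!
# Native API for the twisting sheaves `GrTwist.twist` on `Proj` (helper74)

The prelude's `GrTwist.twist 𝒜 n` and `GrMod.tilde 𝒜 𝒜 n` agree by `rfl`, but the kernel needs
many seconds for each such conversion; this file gives a section-level API directly for
`GrTwist.twist` and the explicit identity isomorphism `twistIso`, so that clients never convert.
-/

set_option autoImplicit false
universe u
open CategoryTheory AlgebraicGeometry TopologicalSpace Opposite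

namespace Groth.Agent.Lib.Helper74.TwistNat

open Groth.Agent.Lib.Helper60.TildeSec Groth.Agent.Lib.Lead.Inv Groth.Agent.Lib.Helper74.TwistGen

variable {A σ : Type u} [CommRing A] [SetLike σ A] [AddSubgroupClass σ A] (𝒜 : ℕ → σ) [GradedRing 𝒜]

theorem smul_val (n : ℤ) (W : (Proj 𝒜).Opens) (r : Γ(Proj 𝒜, W))
    (s : Γ(GrTwist.twist 𝒜 n, W)) (y : W) :
    GrTwist.val (r • s) y = ((show OSec 𝒜 W from r).1 y).val * GrTwist.val s y := by
  change ((((show OSec 𝒜 W from r) • (show GrTwist.sectN (𝒜 := 𝒜) n (op W) from s) :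
    GrTwist.sectN (𝒜 := 𝒜) n (op W)).1 y : GrTwist.twistAt 𝒜 n y.1) : GrTwist.Loc 𝒜 y.1) = _
  rw [Submodule.coe_smul, GrTwist.smul_apply, GrTwist.coe_smul_val]

theorem res_val (n : ℤ) {W W' : (Proj 𝒜).Opens} (i : W' ⟶ W)
    (s : Γ(GrTwist.twist 𝒜 n, W)) (y : W') :
    GrTwist.val ((GrTwist.twist 𝒜 n).presheaf.map i.op s) y = GrTwist.val s ⟨y.1, i.le y.2⟩ := rfl

theorem sec_ext (n : ℤ) {W : (Proj 𝒜).Opens} (s t : Γ(GrTwist.twist 𝒜 n, W))
    (h : ∀ y : W, GrTwist.val s y = GrTwist.val t y) : s = t := by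
  change (show GrTwist.sectN (𝒜 := 𝒜) n (op W) from s) =
    (show GrTwist.sectN (𝒜 := 𝒜) n (op W) from t)
  apply Subtype.ext
  funext y
  exact Subtype.ext (h y)

/-- The section of `O(n)` given by one fraction `a / s` on an open where `s` does not vanish. -/
def fracSec {n : ℤ} {i j : ℕ} (a : A) (ha : a ∈ 𝒜 i) (s : A) (hs : s ∈ 𝒜 j) (hij : (i : ℤ) = j + n)
    (W : (Proj 𝒜).Opens) (hW : ∀ y ∈ W, s ∉ y.asHomogeneousIdeal) : Γ(GrTwist.twist 𝒜 n, W) :=
  show GrTwist.sectN (𝒜 := 𝒜) n (op W) from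
  ⟨fun y => ⟨Localization.mk a ⟨s, hW y.1 y.2⟩,
      Submodule.subset_span ⟨i, j, ⟨a, ha⟩, ⟨s, hs⟩, hW y.1 y.2, hij, rfl⟩⟩,
    fun y => ⟨W, y.2, 𝟙 _, i, j, ⟨a, ha⟩, ⟨s, hs⟩, fun z => hW z.1 z.2, Or.inl hij, fun _ => rfl⟩⟩

theorem fracSec_val {n : ℤ} {i j : ℕ} (a : A) (ha : a ∈ 𝒜 i) (s : A) (hs : s ∈ 𝒜 j)
    (hij : (i : ℤ) = j + n) (W : (Proj 𝒜).Opens) (hW : ∀ y ∈ W, s ∉ y.asHomogeneousIdeal) (y : W) :
    GrTwist.val (fracSec 𝒜 a ha s hs hij W hW) y = Localization.mk a ⟨s, hW y.1 y.2⟩ := rfl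

/-- a fraction `g / h` with `g`, `h` nowhere vanishing on `W` generates `O(n)` over `W` -/
theorem isGen_fracSec {n : ℤ} {i j : ℕ} (g : A) (hg : g ∈ 𝒜 i) (h : A) (hh : h ∈ 𝒜 j)
    (hij : (i : ℤ) = j + n) (W : (Proj 𝒜).Opens) (hW : ∀ y ∈ W, h ∉ y.asHomogeneousIdeal)
    (hW' : ∀ y ∈ W, g ∉ y.asHomogeneousIdeal) :
    IsGen (GrTwist.twist 𝒜 n) W (fracSec 𝒜 g hg h hh hij W hW) := by
  have hunit : ∀ y (hy : y ∈ W), IsUnit (Localization.mk g
      (⟨h, hW y hy⟩ : y.asHomogeneousIdeal.toIdeal.primeCompl)) := by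
    intro y hy
    rw [Localization.mk_eq_mk', IsLocalization.AtPrime.isUnit_mk'_iff
      (Localization.AtPrime y.asHomogeneousIdeal.toIdeal) y.asHomogeneousIdeal.toIdeal]
    exact hW' y hy
  refine isGen_of_local _ _ ?_ ?_
  · intro W' hW'' r hr
    refine osec_ext 𝒜 _ _ fun y => ?_
    have h1 := congrArg (fun s => GrTwist.val s y) hr
    simp only at h1
    rw [smul_val, res_val, fracSec_val] at h1
    have h2 : ((show OSec 𝒜 W' from r).1 y).val * Localization.mk g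
        (⟨h, hW y.1 (hW'' y.2)⟩ : y.1.asHomogeneousIdeal.toIdeal.primeCompl) = 0 := h1
    rw [zero_osec_val]
    exact (hunit y.1 (hW'' y.2)).mul_left_eq_zero.mp h2
  · intro W' hW'' σ x hx
    obtain ⟨V, hxV, iV, i', j', ⟨a, ha⟩, ⟨s, hs⟩, s_nin, hdeg, hval⟩ :=
      (show GrTwist.sectN (𝒜 := 𝒜) n (op W') from σ).2 ⟨x, hx⟩
    have hVW : V ≤ W' := iV.le
    have hnin : ∀ y ∈ V, s * g ∉ y.asHomogeneousIdeal := by
      intro y hy hmem
      rcases y.isPrime.mem_or_mem hmem with h3 | h3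
      · exact s_nin ⟨y, hy⟩ h3
      · exact hW' y (hW'' (hVW hy)) h3
    rcases hdeg with hdeg | hzero
    · have hk : i' + j = j' + i := by omega
      refine ⟨V, hVW, hxV, oFrac 𝒜 (a * h) (hk ▸ SetLike.mul_mem_graded ha hh) (s * g)
        (SetLike.mul_mem_graded hs hg) V hnin, ?_⟩
      refine sec_ext 𝒜 n _ _ fun y => ?_
      rw [smul_val, oFrac_val, res_val, res_val, fracSec_val]
      have h4 := hval y
      change GrTwist.val σ ⟨y.1, hVW y.2⟩ = _ at h4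
      rw [h4]
      rw [Localization.mk_mul, Localization.mk_eq_mk_iff, Localization.r_iff_exists]
      exact ⟨1, by simp only [OneMemClass.coe_one, one_mul, Submonoid.coe_mul]; ring⟩
    · refine ⟨V, hVW, hxV, 0, ?_⟩
      rw [zero_smul]
      refine sec_ext 𝒜 n _ _ fun y => ?_
      rw [res_val]
      have h4 := hval y
      change GrTwist.val σ ⟨y.1, hVW y.2⟩ = _ at h4
      rw [h4]
      change 0 = Localization.mk a _
      have : a = 0 := hzero
      rw [this, Localization.mk_zero]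

/-- the section `f ^ n` (`n` an integer) of `O(n d)` over an open where `f` does not vanish -/
def powSec {d : ℕ} (f : A) (hf : f ∈ 𝒜 d) (n m : ℤ) (hm : m = n * d) (W : (Proj 𝒜).Opens)
    (hW : ∀ y ∈ W, f ∉ y.asHomogeneousIdeal) : Γ(GrTwist.twist 𝒜 m, W) :=
  fracSec 𝒜 (f ^ n.toNat) (SetLike.pow_mem_graded _ hf) (f ^ (-n).toNat)
    (SetLike.pow_mem_graded _ hf) (pow_deg_eq n d m hm) W
    (fun y hy h => hW y hy (y.isPrime.mem_of_pow_mem _ h))

theorem powSec_val {d : ℕ} (f : A) (hf : f ∈ 𝒜 d) (n m : ℤ) (hm : m = n * d) (W : (Proj 𝒜).Opens)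
    (hW : ∀ y ∈ W, f ∉ y.asHomogeneousIdeal) (y : W) :
    GrTwist.val (powSec 𝒜 f hf n m hm W hW) y =
      Localization.mk (f ^ n.toNat) (⟨f ^ (-n).toNat,
        fun h => hW y.1 y.2 (y.1.isPrime.mem_of_pow_mem _ h)⟩ :
          y.1.asHomogeneousIdeal.toIdeal.primeCompl) := rfl

theorem isGen_powSec {d : ℕ} (f : A) (hf : f ∈ 𝒜 d) (n m : ℤ) (hm : m = n * d)
    (W : (Proj 𝒜).Opens) (hW : ∀ y ∈ W, f ∉ y.asHomogeneousIdeal) :
    IsGen (GrTwist.twist 𝒜 m) W (powSec 𝒜 f hf n m hm W hW) :=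
  isGen_fracSec 𝒜 _ _ _ _ _ W _ (fun y hy h => hW y hy (y.isPrime.mem_of_pow_mem _ h))

/-- the twisting sheaf is the module attached to the ring itself (identity on sections) -/
noncomputable def twistIso (n : ℤ) : GrTwist.twist 𝒜 n ≅ GrMod.tilde 𝒜 𝒜 n := Iso.refl _

theorem twistIso_hom_val (n : ℤ) (W : (Proj 𝒜).Opens) (s : Γ(GrTwist.twist 𝒜 n, W)) (y : W) :
    GrMod.val ((twistIso 𝒜 n).hom.app W s) y = GrTwist.val s y := rfl

theorem twistIso_inv_val (n : ℤ) (W : (Proj 𝒜).Opens) (s : Γ(GrMod.tilde 𝒜 𝒜 n, W)) (y : W) :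
    GrTwist.val ((twistIso 𝒜 n).inv.app W s) y = GrMod.val s y := rfl

end Groth.Agent.Lib.Helper74.TwistNat
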