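import Groth.Agent.Lib.Helper60.TildeQCoh
import Groth.Agent.Lib.Lead.QCohAff6
import Groth.Agent.Lib.Lead.QCohCrit
import Groth.Prelude.Def_RelProj3

/-!
# Quasi-coherence of modules glued chartwise (helper74)

A module `F` on a scheme `X` is quasi-coherent as soon as, around every point, there are an open
immersion `j : Z ⟶ X`, a quasi-coherent module `T` on `Z` and a morphism `F ⟶ j_* T` that is
bijective on sections over the opens inside the range of `j`.  Applied to the chartwise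
identifications of `IsRelTilde` / `IsRelTwist`.
-/

set_option autoImplicit false
universe u
open CategoryTheory CategoryTheory.Limits AlgebraicGeometry TopologicalSpace Opposite

namespace Groth.Agent.Lib.Helper74.RelTilde

open Groth.Agent.Lib.Lead.QCohAff

theorem hom_res {X : Scheme.{u}} {F G : X.Modules} (φ : F ⟶ G) {U V : X.Opens} (h : V ≤ U)
    (s : Γ(F, U)) :
    φ.app V (F.presheaf.map (homOfLE h).op s) = G.presheaf.map (homOfLE h).op (φ.app U s) :=
  congr($(φ.mapPresheaf.naturality (homOfLE h).op) s)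

theorem locOn_of_hom {X : Scheme.{u}} {F G : X.Modules} (φ : F ⟶ G) (W : X.Opens)
    (hφ : ∀ W' : X.Opens, W' ≤ W → Function.Bijective (φ.app W')) (hG : LocOn G W) :
    LocOn F W := by
  constructor
  · intro f s hs
    have h1 : G.presheaf.map (homOfLE (X.basicOpen_le f)).op (φ.app W s) = 0 := by
      rw [← hom_res, hs, map_zero]
    obtain ⟨n, hn⟩ := hG.1 f (φ.app W s) h1
    refine ⟨n, (hφ W le_rfl).1 ?_⟩
    rw [Scheme.Modules.Hom.app_smul, hn, map_zero]
  · intro f t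
    obtain ⟨n, s', hs'⟩ := hG.2 f (φ.app _ t)
    obtain ⟨s, rfl⟩ := (hφ W le_rfl).2 s'
    refine ⟨n, s, (hφ _ (X.basicOpen_le f)).1 ?_⟩
    rw [hom_res, hs', Scheme.Modules.Hom.app_smul]

theorem locOn_congr {X : Scheme.{u}} (F : X.Modules) {W W' : X.Opens} (h : W = W')
    (hF : LocOn F W) : LocOn F W' := h ▸ hF

/-- Quasi-coherence from chartwise identifications with quasi-coherent modules. -/
theorem isQuasicoherent_of_charts {X : Scheme.{u}} (F : X.Modules)
    (h : ∀ x : X, ∃ (Z : Scheme.{u}) (j : Z ⟶ X) (_ : IsOpenImmersion j) (T : Z.Modules)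
      (_ : T.IsQuasicoherent) (φ : F ⟶ (Scheme.Modules.pushforward j).obj T),
      x ∈ j.opensRange ∧ ∀ W : X.Opens, W ≤ j.opensRange → Function.Bijective (φ.app W)) :
    F.IsQuasicoherent := by
  apply Groth.Agent.Lib.Lead.QCohCrit.isQuasicoherent_of_locOn
  intro x
  obtain ⟨Z, j, hj, T, hT, φ, ⟨z, rfl⟩, hφ⟩ := h x
  obtain ⟨_, ⟨V, hV : IsAffineOpen V, rfl⟩, hzV, -⟩ :=
    (Z.isBasis_affineOpens).exists_subset_of_mem_open (Set.mem_univ z) isOpen_univ
  refine ⟨j ''ᵁ V, hV.image_of_isOpenImmersion j, ⟨z, hzV, rfl⟩, ?_⟩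
  have hle : j ''ᵁ V ≤ j.opensRange := by
    rintro _ ⟨v, -, rfl⟩
    exact ⟨v, rfl⟩
  refine locOn_of_hom φ _ (fun W' hW' => hφ W' (hW'.trans hle)) ?_
  apply LocOn.pushforward
  refine locOn_congr T (j.preimage_image_eq V).symm ?_
  exact LocOn.of_isQuasicoherent T hV

end Groth.Agent.Lib.Helper74.RelTilde

namespace Groth.Agent.Lib.Helper74.RelTilde

variable {Y P : Scheme.{u}} {𝒮 : RelProj.QCGrAlg Y} {p : P ⟶ Y}
  {chart : ∀ (U : Y.Opens) (hU : IsAffineOpen U),
    (((p ⁻¹ᵁ U : P.Opens) : Scheme.{u}) ≅ Proj (𝒮.deg U hU))}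

theorem opensRange_emb (U : Y.Opens) (hU : IsAffineOpen U) :
    (RelProj.emb p chart U hU).opensRange = p ⁻¹ᵁ U := by
  unfold RelProj.emb
  rw [Scheme.Hom.opensRange_comp_of_isIso, Scheme.Opens.opensRange_ι]

theorem emb_mem (U : Y.Opens) (hU : IsAffineOpen U) (y : Proj (𝒮.deg U hU)) :
    RelProj.emb p chart U hU y ∈ p ⁻¹ᵁ U := by
  rw [← opensRange_emb (chart := chart) U hU]
  exact ⟨y, rfl⟩

theorem exists_emb_eq (U : Y.Opens) (hU : IsAffineOpen U) (x : P) (hx : x ∈ p ⁻¹ᵁ U) :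
    ∃ y : Proj (𝒮.deg U hU), RelProj.emb p chart U hU y = x := by
  rw [← opensRange_emb (chart := chart) U hU] at hx
  exact hx

/-- Every point of `P` lies over some affine open of the base. -/
theorem exists_affine_mem (p : P ⟶ Y) (x : P) :
    ∃ (U : Y.Opens) (_ : IsAffineOpen U), x ∈ p ⁻¹ᵁ U := by
  obtain ⟨_, ⟨U, hU : IsAffineOpen U, rfl⟩, hxU, -⟩ :=
    (Y.isBasis_affineOpens).exists_subset_of_mem_open (Set.mem_univ (p x)) isOpen_univ
  exact ⟨U, hU, hxU⟩

end Groth.Agent.Lib.Helper74.RelTilde
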