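import Groth.Agent.Lib.Helper74.SymAlgLoc
import Groth.Agent.Lib.Helper74.QCAlgOfAffine
import Groth.Agent.Lib.Helper29.QCohLoc
import Groth.Prelude.Def_Coh

/-!
# The symmetric algebra of a quasi-coherent module as a quasi-coherent algebra
-/

set_option autoImplicit false
universe u

open CategoryTheory CategoryTheory.Limits AlgebraicGeometry TopologicalSpace Opposite

noncomputable section

namespace Groth.Agent.Lib.Helper74.SymQ

open RelSpec Groth.Agent.Lib.Helper74.SymAlg Groth.Agent.Lib.Helper74.OfAffine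

variable {S : Scheme.{u}} (E : S.Modules)

/-- restriction of sections of a module, as a semilinear map: the ring part -/
abbrev resR {U V : S.Opens} (h : V ≤ U) : Γ(S, U) →+* Γ(S, V) := (S.presheaf.map (homOfLE h).op).hom

/-- restriction of sections of a module: the additive part -/
abbrev resM {U V : S.Opens} (h : V ≤ U) : Γ(E, U) →+ Γ(E, V) := (E.presheaf.map (homOfLE h).op).hom

theorem resM_smul {U V : S.Opens} (h : V ≤ U) (r : Γ(S, U)) (m : Γ(E, U)) :
    resM E h (r • m) = resR h r • resM E h m :=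
  Scheme.Modules.map_smul E (homOfLE h) r m

/-- restriction maps of the symmetric algebras of sections -/
def symRes {U V : S.Opens} (h : V ≤ U) :
    SymmetricAlgebra Γ(S, U) Γ(E, U) →+* SymmetricAlgebra Γ(S, V) Γ(E, V) :=
  symMap (resR h) (resM E h) (resM_smul E h)

theorem symRes_algebraMap {U V : S.Opens} (h : V ≤ U) (r : Γ(S, U)) :
    symRes E h (algebraMap _ _ r) = algebraMap _ _ (resR h r) := symMap_algebraMap _ _ _ r

theorem symRes_ι {U V : S.Opens} (h : V ≤ U) (m : Γ(E, U)) :
    symRes E h (SymmetricAlgebra.ι _ _ m) = SymmetricAlgebra.ι _ _ (resM E h m) := symMap_ι _ _ _ m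

theorem symRes_id (U : S.Opens) : symRes E (le_refl U) = RingHom.id _ := by
  refine ringHom_ext (fun r => ?_) (fun m => ?_)
  · rw [symRes_algebraMap]
    have : resR (le_refl U) r = r := by
      change (S.presheaf.map (𝟙 (op U))).hom r = r
      rw [S.presheaf.map_id]; rfl
    rw [this]; rfl
  · rw [symRes_ι]
    have : resM E (le_refl U) m = m := by
      change (E.presheaf.map (𝟙 (op U))).hom m = m
      rw [E.presheaf.map_id]; rfl
    rw [this]; rfl

theorem symRes_comp {U V W : S.Opens} (h : V ≤ U) (h' : W ≤ V) :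
    (symRes E h').comp (symRes E h) = symRes E (h'.trans h) := by
  refine ringHom_ext (fun r => ?_) (fun m => ?_)
  · rw [RingHom.comp_apply, symRes_algebraMap, symRes_algebraMap, symRes_algebraMap]
    congr 1
    change (S.presheaf.map (homOfLE h').op).hom ((S.presheaf.map (homOfLE h).op).hom r) = _
    rw [← CommRingCat.comp_apply, ← S.presheaf.map_comp]; rfl
  · rw [RingHom.comp_apply, symRes_ι, symRes_ι, symRes_ι]
    congr 1
    change (E.presheaf.map (homOfLE h').op).hom ((E.presheaf.map (homOfLE h).op).hom m) = _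
    rw [← AddCommGrpCat.comp_apply, ← E.presheaf.map_comp]; rfl

/-- The functor `U ↦ Sym_{O(U)} E(U)` on the affine opens. -/
def symF : S.AffineZariskiSiteᵒᵖ ⥤ CommRingCat.{u} where
  obj U := CommRingCat.of (SymmetricAlgebra Γ(S, U.unop.1) Γ(E, U.unop.1))
  map {U V} i := CommRingCat.ofHom (symRes E (Scheme.AffineZariskiSite.toOpens_mono i.unop.le))
  map_id U := by
    ext1
    exact symRes_id E U.unop.1
  map_comp {U V W} i i' := by
    ext1
    exact (symRes_comp E _ _).symm

/-- The structure map of `symF`. -/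
def symα : (Scheme.AffineZariskiSite.toOpensFunctor S).op ⋙ S.presheaf ⟶ symF E where
  app U := CommRingCat.ofHom (algebraMap Γ(S, U.unop.1) (SymmetricAlgebra Γ(S, U.unop.1) Γ(E, U.unop.1)))
  naturality {U V} i := by
    ext r
    exact (symRes_algebraMap E (Scheme.AffineZariskiSite.toOpens_mono i.unop.le) r).symm

theorem symα_coequifibered [E.IsQuasicoherent] : (symα E).Coequifibered := by
  refine Scheme.AffineZariskiSite.coequifibered_iff_forall_isLocalizationAway.mpr fun U f => ?_
  have hloc := Groth.Agent.Lib.Helper29.QCohLoc.LocAt.of_isQuasicoherent E U.2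
  exact isLocalization_symMap (resR (S.basicOpen_le f)) (resM E (S.basicOpen_le f))
    (resM_smul E (S.basicOpen_le f)) f (U.2.isLocalization_basicOpen f)
    (fun m hm => hloc.kill f m hm) (fun m' => hloc.ext f m')

section local_structure

variable {E}

/-- The algebra structure of the sections of a quasi-coherent algebra over the functions. -/
scoped instance algSect (A : QCAlg S) (U : S.Opens) : Algebra Γ(S, U) (A.presheaf.obj (op U)) :=
  (A.str.app (op U)).hom.toAlgebra

theorem algebraMap_algSect (A : QCAlg S) (U : S.Opens) (r : Γ(S, U)) :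
    algebraMap Γ(S, U) (A.presheaf.obj (op U)) r = (A.str.app (op U)).hom r := rfl

/-- A module map into a quasi-coherent algebra, as a linear map on sections. -/
def jLin {A : QCAlg S} (j : E ⟶ A.toModule) (U : S.Opens) : Γ(E, U) →ₗ[Γ(S, U)] A.presheaf.obj (op U) where
  toFun m := (j.app U).hom m
  map_add' a b := map_add (j.app U).hom a b
  map_smul' r m := Scheme.Modules.Hom.app_smul j r m

@[simp] theorem jLin_apply {A : QCAlg S} (j : E ⟶ A.toModule) (U : S.Opens) (m : Γ(E, U)) :
    jLin j U m = (j.app U).hom m := rfl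

theorem jLin_res {A : QCAlg S} (j : E ⟶ A.toModule) {U V : S.Opens} (h : V ≤ U) (m : Γ(E, U)) :
    jLin j V (resM E h m) = A.presheaf.map (homOfLE h).op (jLin j U m) :=
  congr($(j.mapPresheaf.naturality (homOfLE h).op).hom m)

theorem str_res (A : QCAlg S) {U V : S.Opens} (h : V ≤ U) (r : Γ(S, U)) :
    A.presheaf.map (homOfLE h).op (algebraMap Γ(S, U) (A.presheaf.obj (op U)) r) =
      algebraMap Γ(S, V) (A.presheaf.obj (op V)) (resR h r) :=
  congr($(A.str.naturality (homOfLE h).op).hom r).symm

theorem toModuleMap_app {A B : QCAlg S} (ψ : A ⟶ B) (U : S.Opens) (a : A.presheaf.obj (op U)) :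
    ((QCAlg.Hom.toModuleMap ψ).app U).hom a = (ψ.hom.app (op U)).hom a := rfl

theorem jLin_comp {A B : QCAlg S} (j : E ⟶ A.toModule) (ψ : A ⟶ B) (U : S.Opens) (m : Γ(E, U)) :
    jLin (j ≫ QCAlg.Hom.toModuleMap ψ) U m = (ψ.hom.app (op U)).hom (jLin j U m) := rfl

theorem hom_algebraMap {A B : QCAlg S} (ψ : A ⟶ B) (U : S.Opens) (r : Γ(S, U)) :
    (ψ.hom.app (op U)).hom (algebraMap Γ(S, U) (A.presheaf.obj (op U)) r) =
      algebraMap Γ(S, U) (B.presheaf.obj (op U)) r :=
  congr($(NatTrans.congr_app ψ.comm (op U)).hom r)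

/-- Ring homs out of the sections of a "locally symmetric" algebra are determined on scalars and generators. -/
theorem ringHom_ext_of_isSymmetricAlgebra {R M A T : Type*} [CommRing R] [AddCommGroup M] [Module R M]
    [CommRing A] [Algebra R A] [Semiring T] {f : M →ₗ[R] A} (hf : IsSymmetricAlgebra f) {F G : A →+* T}
    (h1 : ∀ r, F (algebraMap R A r) = G (algebraMap R A r)) (h2 : ∀ m, F (f m) = G (f m)) : F = G := by
  refine RingHom.ext fun x => ?_
  induction x using hf.induction with
  | algebraMap r => exact h1 r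
  | ι m => exact h2 m
  | mul a b ha hb => rw [map_mul, map_mul, ha, hb]
  | add a b ha hb => rw [map_add, map_add, ha, hb]

/-- **Local criterion**: if over every affine open `U` the sections `A(U)` with `j_U` are the symmetric algebra of
`E(U)` over `O(U)`, then `(A, j)` is the symmetric algebra of `E` among quasi-coherent algebras. -/
theorem isSymAlg_of_local (A : QCAlg S) (j : E ⟶ A.toModule)
    (hloc : ∀ (U : S.Opens) (_ : IsAffineOpen U), IsSymmetricAlgebra (jLin j U)) :
    IsSymAlg E A j := by
  intro B φ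
  -- the maps on affine opens
  let L : ∀ (U : S.Opens) (hU : IsAffineOpen U), A.presheaf.obj (op U) →ₐ[Γ(S, U)] B.presheaf.obj (op U) :=
    fun U hU => (hloc U hU).lift (jLin φ U)
  have hLj : ∀ U hU m, L U hU (jLin j U m) = jLin φ U m := fun U hU m => (hloc U hU).lift_eq _ m
  let Lr : ∀ (U : S.Opens) (hU : IsAffineOpen U), A.presheaf.obj (op U) ⟶ B.presheaf.obj (op U) :=
    fun U hU => CommRingCat.ofHom (L U hU).toRingHom
  let η : (Scheme.AffineZariskiSite.toOpensFunctor S).op ⋙ A.presheaf ⟶
      (Scheme.AffineZariskiSite.toOpensFunctor S).op ⋙ B.presheaf :=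
    { app := fun U => Lr U.unop.1 U.unop.2
      naturality := fun U V i => by
        have hle : V.unop.1 ≤ U.unop.1 := Scheme.AffineZariskiSite.toOpens_mono i.unop.le
        ext1
        refine ringHom_ext_of_isSymmetricAlgebra (hloc U.unop.1 U.unop.2) (fun r => ?_) (fun m => ?_)
        · change L V.unop.1 V.unop.2 (A.presheaf.map (homOfLE hle).op (algebraMap _ _ r)) =
            B.presheaf.map (homOfLE hle).op (L U.unop.1 U.unop.2 (algebraMap _ _ r))
          rw [str_res, AlgHom.commutes, AlgHom.commutes, str_res]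
        · change L V.unop.1 V.unop.2 (A.presheaf.map (homOfLE hle).op (jLin j U.unop.1 m)) =
            B.presheaf.map (homOfLE hle).op (L U.unop.1 U.unop.2 (jLin j U.unop.1 m))
          rw [← jLin_res, hLj _ V.unop.2, hLj _ U.unop.2, jLin_res] }
  have hη : (Scheme.AffineZariskiSite.toOpensFunctor S).op.whiskerLeft A.str ≫ η =
      (Scheme.AffineZariskiSite.toOpensFunctor S).op.whiskerLeft B.str := by
    ext U r
    exact (L U.unop.1 U.unop.2).commutes r
  refine ⟨homMkAffine A B η hη, ?_, fun ψ' hψ' => ?_⟩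
  · refine mod_hom_ext_affine fun U hU m => ?_
    change jLin (j ≫ QCAlg.Hom.toModuleMap (homMkAffine A B η hη)) U m = jLin φ U m
    rw [jLin_comp, homMkAffine_app A B η hη U hU]
    exact hLj U hU m
  · refine hom_ext_affine fun U hU => ?_
    rw [homMkAffine_app A B η hη U hU]
    ext1
    refine ringHom_ext_of_isSymmetricAlgebra (hloc U hU) (fun r => ?_) (fun m => ?_)
    · rw [hom_algebraMap]
      exact ((L U hU).commutes r).symm
    · rw [← jLin_comp, hψ']
      exact (hLj U hU m).symm

end local_structure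

section construction

variable [E.IsQuasicoherent]

/-- The symmetric algebra of a quasi-coherent module, as a quasi-coherent algebra. -/
def symAlg : QCAlg S := ofAffine (symα_coequifibered E)

variable (U : S.Opens) (hU : IsAffineOpen U)

/-- Over an affine open, the sections of `symAlg E` are the symmetric algebra of the sections of `E`. -/
def symIso : (symAlg E).presheaf.obj (op U) ≅ CommRingCat.of (SymmetricAlgebra Γ(S, U) Γ(E, U)) :=
  @asIso _ _ _ _ (gammaAff (symα_coequifibered E) U hU) (isIso_gammaAff _ U hU)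

theorem symIso_hom_str (r : Γ(S, U)) :
    (symIso E U hU).hom.hom (((symAlg E).str.app (op U)).hom r) = algebraMap _ _ r :=
  congr($(π_app_gammaAff (symα_coequifibered E) U hU).hom r)

theorem symIso_inv_algebraMap (r : Γ(S, U)) :
    (symIso E U hU).inv.hom (algebraMap _ _ r) = ((symAlg E).str.app (op U)).hom r := by
  rw [← symIso_hom_str E U hU r, ← CommRingCat.comp_apply, Iso.hom_inv_id]; rfl

theorem symIso_hom_res {U : S.Opens} (hU : IsAffineOpen U) (f : Γ(S, U))
    (a : (symAlg E).presheaf.obj (op U)) :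
    (symIso E (S.basicOpen f) (hU.basicOpen f)).hom.hom
        ((symAlg E).presheaf.map (homOfLE (S.basicOpen_le f)).op a) =
      symRes E (S.basicOpen_le f) ((symIso E U hU).hom.hom a) :=
  congr($((gammaRestrict (symα_coequifibered E)).naturality
    (homOfLE (Scheme.AffineZariskiSite.basicOpen_le (X := S) ⟨U, hU⟩ f)).op).hom a)

theorem symIso_inv_res {U : S.Opens} (hU : IsAffineOpen U) (f : Γ(S, U))
    (x : SymmetricAlgebra Γ(S, U) Γ(E, U)) :
    (symAlg E).presheaf.map (homOfLE (S.basicOpen_le f)).op ((symIso E U hU).inv.hom x) =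
      (symIso E (S.basicOpen f) (hU.basicOpen f)).inv.hom (symRes E (S.basicOpen_le f) x) := by
  have h1 := symIso_hom_res E hU f ((symIso E U hU).inv.hom x)
  have h2 : (symIso E U hU).hom.hom ((symIso E U hU).inv.hom x) = x := by
    rw [← CommRingCat.comp_apply, Iso.inv_hom_id]; rfl
  rw [h2] at h1
  have h3 : ∀ y, (symIso E (S.basicOpen f) (hU.basicOpen f)).inv.hom
      ((symIso E (S.basicOpen f) (hU.basicOpen f)).hom.hom y) = y := fun y => by
    rw [← CommRingCat.comp_apply, Iso.hom_inv_id]; rfl
  rw [← h1, h3]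

/-- The affine-local data of the canonical map `E ⟶ Sym(E)`. -/
def symJData : AffModData E (symAlg E) where
  app U hU := ((symIso E U hU).inv.hom : _ →+* _).toAddMonoidHom.comp
    (SymmetricAlgebra.ι Γ(S, U) Γ(E, U)).toAddMonoidHom
  nat U hU f m := by
    change (symIso E _ (hU.basicOpen f)).inv.hom (SymmetricAlgebra.ι _ _ (resM E (S.basicOpen_le f) m)) =
      (symAlg E).presheaf.map (homOfLE (S.basicOpen_le f)).op
        ((symIso E U hU).inv.hom (SymmetricAlgebra.ι _ _ m))
    rw [symIso_inv_res E hU f, symRes_ι]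
  lin U hU r m := by
    change (symIso E U hU).inv.hom (SymmetricAlgebra.ι _ _ (r • m)) =
      ((symAlg E).str.app (op U)).hom r * (symIso E U hU).inv.hom (SymmetricAlgebra.ι _ _ m)
    rw [map_smul, Algebra.smul_def, map_mul, symIso_inv_algebraMap]

/-- The canonical map `E ⟶ Sym(E)`. -/
def symJ : E ⟶ (symAlg E).toModule := (symJData E).toHom

theorem jLin_symJ (m : Γ(E, U)) :
    jLin (symJ E) U m = (symIso E U hU).inv.hom (SymmetricAlgebra.ι _ _ m) :=
  (symJData E).toHom_app U hU m

include hU in
/-- Over an affine open, `symAlg E` is the symmetric algebra of the sections (doc moved). -/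
theorem isSymmetricAlgebra_symJ : IsSymmetricAlgebra (jLin (symJ E) U) := by
  let e0 : SymmetricAlgebra Γ(S, U) Γ(E, U) ≃+* (symAlg E).presheaf.obj (op U) :=
    (symIso E U hU).symm.commRingCatIsoToRingEquiv
  let e : SymmetricAlgebra Γ(S, U) Γ(E, U) ≃ₐ[Γ(S, U)] (symAlg E).presheaf.obj (op U) :=
    { e0 with commutes' := fun r => symIso_inv_algebraMap E U hU r }
  refine IsSymmetricAlgebra.of_equiv e ?_
  ext m
  exact (jLin_symJ E U hU m).symm

/-- **Existence of the symmetric algebra** of a quasi-coherent module among quasi-coherent algebras. -/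
theorem isSymAlg_symAlg : IsSymAlg E (symAlg E) (symJ E) :=
  isSymAlg_of_local (symAlg E) (symJ E) fun U hU => isSymmetricAlgebra_symJ E U hU

end construction

section uniqueness

variable {E}

theorem toModuleMap_id (A : QCAlg S) : QCAlg.Hom.toModuleMap (𝟙 A) = 𝟙 A.toModule := by
  refine Scheme.Modules.hom_ext _ _ fun U => ?_
  ext m
  rfl

theorem toModuleMap_comp {A B C : QCAlg S} (f : A ⟶ B) (g : B ⟶ C) :
    QCAlg.Hom.toModuleMap (f ≫ g) = QCAlg.Hom.toModuleMap f ≫ QCAlg.Hom.toModuleMap g := by
  refine Scheme.Modules.hom_ext _ _ fun U => ?_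
  ext m
  rfl

/-- Two symmetric algebras of the same module are canonically isomorphic. -/
theorem isSymAlg_exists_iso {A A' : QCAlg S} {j : E ⟶ A.toModule} {j' : E ⟶ A'.toModule}
    (h : IsSymAlg E A j) (h' : IsSymAlg E A' j') :
    ∃ ψ : A ≅ A', j ≫ QCAlg.Hom.toModuleMap ψ.hom = j' := by
  obtain ⟨f, hf, -⟩ := h A' j'
  obtain ⟨g, hg, -⟩ := h' A j
  refine ⟨⟨f, g, ?_, ?_⟩, hf⟩
  · obtain ⟨k, -, hk⟩ := h A j
    rw [hk (f ≫ g) (by change j ≫ _ = j; rw [toModuleMap_comp, ← Category.assoc, hf, hg]),
      hk (𝟙 A) (by change j ≫ _ = j; rw [toModuleMap_id, Category.comp_id])]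
  · obtain ⟨k, -, hk⟩ := h' A' j'
    rw [hk (g ≫ f) (by change j' ≫ _ = j'; rw [toModuleMap_comp, ← Category.assoc, hg, hf]),
      hk (𝟙 A') (by change j' ≫ _ = j'; rw [toModuleMap_id, Category.comp_id])]

/-- The local structure is invariant under isomorphism. -/
theorem isSymmetricAlgebra_of_iso {A A' : QCAlg S} {j : E ⟶ A.toModule} {j' : E ⟶ A'.toModule}
    (ψ : A ≅ A') (hψ : j ≫ QCAlg.Hom.toModuleMap ψ.hom = j') (U : S.Opens)
    (h : IsSymmetricAlgebra (jLin j U)) : IsSymmetricAlgebra (jLin j' U) := by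
  have h1 : ∀ a, (ψ.inv.hom.app (op U)).hom ((ψ.hom.hom.app (op U)).hom a) = a := fun a => by
    have := congr_arg (fun k : A ⟶ A => (k.hom.app (op U)).hom a) ψ.hom_inv_id
    exact this
  have h2 : ∀ a, (ψ.hom.hom.app (op U)).hom ((ψ.inv.hom.app (op U)).hom a) = a := fun a => by
    have := congr_arg (fun k : A' ⟶ A' => (k.hom.app (op U)).hom a) ψ.inv_hom_id
    exact this
  let e0 : A.presheaf.obj (op U) ≃+* A'.presheaf.obj (op U) :=
    RingEquiv.ofRingHom (ψ.hom.hom.app (op U)).hom (ψ.inv.hom.app (op U)).hom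
      (RingHom.ext h2) (RingHom.ext h1)
  let e1 : A.presheaf.obj (op U) ≃ₐ[Γ(S, U)] A'.presheaf.obj (op U) :=
    { e0 with commutes' := fun r => hom_algebraMap ψ.hom U r }
  refine IsSymmetricAlgebra.of_equiv (h.equiv.trans e1) ?_
  ext m
  subst hψ
  change (ψ.hom.hom.app (op U)).hom (SymmetricAlgebra.lift (jLin j U) (SymmetricAlgebra.ι _ _ m)) = _
  rw [SymmetricAlgebra.lift_ι_apply]
  rfl

variable [E.IsQuasicoherent]

/-- **Local structure of the symmetric algebra**: for `E` quasi-coherent and `(A, j)` its symmetric algebra among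
quasi-coherent algebras, over every affine open `U` the sections `A(U)` with `j_U` are the symmetric algebra of
`E(U)` over `O(U)`. -/
theorem isSymmetricAlgebra_of_isSymAlg {A : QCAlg S} {j : E ⟶ A.toModule} (h : IsSymAlg E A j)
    (U : S.Opens) (hU : IsAffineOpen U) : IsSymmetricAlgebra (jLin j U) := by
  obtain ⟨ψ, hψ⟩ := isSymAlg_exists_iso (isSymAlg_symAlg E) h
  exact isSymmetricAlgebra_of_iso ψ hψ U (isSymmetricAlgebra_symJ E U hU)

/-- For quasi-coherent `E`: `IsSymAlg` is equivalent to the local condition. -/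
theorem isSymAlg_iff_local (A : QCAlg S) (j : E ⟶ A.toModule) :
    IsSymAlg E A j ↔ ∀ (U : S.Opens) (_ : IsAffineOpen U), IsSymmetricAlgebra (jLin j U) :=
  ⟨fun h U hU => isSymmetricAlgebra_of_isSymAlg h U hU, isSymAlg_of_local A j⟩

end uniqueness

end Groth.Agent.Lib.Helper74.SymQ
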