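import Mathlib.RingTheory.GradedAlgebra.Basic
import Groth.Prelude.Def_RelSpec2

set_option autoImplicit false
universe u
open CategoryTheory CategoryTheory.Limits AlgebraicGeometry TopologicalSpace Opposite DirectSum

namespace Groth.Agent.Lib.Helper74.TrivGr

section ring

variable (R : Type u) [CommRing R]

/-- the trivial grading: everything in degree zero -/
def trivDeg : ℕ → AddSubgroup R := fun k => if k = 0 then ⊤ else ⊥

variable {R}

theorem mem_trivDeg_zero (x : R) : x ∈ trivDeg R 0 := by
  simp [trivDeg]

theorem eq_zero_of_mem_trivDeg {k : ℕ} (hk : k ≠ 0) {x : R} (hx : x ∈ trivDeg R k) : x = 0 := by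
  simpa [trivDeg, hk] using hx

instance : SetLike.GradedMonoid (trivDeg R) where
  one_mem := mem_trivDeg_zero 1
  mul_mem := by
    intro i j a b ha hb
    by_cases hi : i = 0
    · by_cases hj : j = 0
      · subst hi hj; exact mem_trivDeg_zero _
      · rw [eq_zero_of_mem_trivDeg hj hb, mul_zero]; exact zero_mem _
    · rw [eq_zero_of_mem_trivDeg hi ha, zero_mul]; exact zero_mem _

noncomputable instance : DirectSum.Decomposition (trivDeg R) :=
  DirectSum.Decomposition.ofAddHom (trivDeg R)
    { toFun := fun x => DirectSum.of (fun i => trivDeg R i) 0 ⟨x, mem_trivDeg_zero x⟩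
      map_zero' := by
        have : (⟨0, mem_trivDeg_zero 0⟩ : trivDeg R 0) = 0 := rfl
        rw [this, map_zero]
      map_add' := fun x y => by
        have : (⟨x + y, mem_trivDeg_zero (x + y)⟩ : trivDeg R 0) =
          ⟨x, mem_trivDeg_zero x⟩ + ⟨y, mem_trivDeg_zero y⟩ := rfl
        rw [this, map_add] }
    (by
      ext x
      simp)
    (by
      ext i ⟨x, hx⟩
      by_cases hi : i = 0
      · subst hi
        simp
      · have hx0 : x = 0 := eq_zero_of_mem_trivDeg hi hx
        subst hx0
        have : (⟨0, hx⟩ : trivDeg R i) = 0 := rfl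
        have h0 : (⟨0, mem_trivDeg_zero 0⟩ : trivDeg R 0) = 0 := rfl
        simp [this, h0])

noncomputable instance : GradedRing (trivDeg R) where

end ring

end Groth.Agent.Lib.Helper74.TrivGr
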