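import Groth.Agent.Lib.Helper74.ConeAlg
import Groth.Agent.Lib.Helper74.TrivGrading
import Mathlib.AlgebraicGeometry.Morphisms.IsIso
import Mathlib.AlgebraicGeometry.ProjectiveSpectrum.Basic

/-!
# Graded polynomial rings in one variable of degree one over a ring in degree zero

`B = R[z]` graded with `R` in degree `0` and `z` in degree `1`: the graded pieces are `R z^n`, `D_+(z)` is all of
`Proj B`, and `Proj B → Spec R` is an isomorphism.
-/

set_option autoImplicit false
set_option linter.style.haveILetI false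
universe u
open CategoryTheory AlgebraicGeometry
open scoped HomogeneousIdeal
open HomogeneousLocalization DirectSum

namespace Groth.Agent.Lib.Helper74.GrPolyOne

open Groth.Agent.Lib.Helper74.TrivGr Groth.Agent.Lib.Helper74

variable {R B : Type u} [CommRing R] [CommRing B] (ℬ : ℕ → AddSubgroup B) [GradedRing ℬ]
  (φ : R →+* B) (hφ : ∀ r, φ r ∈ ℬ 0) {z : B} (hz : z ∈ ℬ 1)

/-- `φ` as a graded homomorphism from `R` with the trivial grading -/
def φg : trivDeg R →+*ᵍ ℬ :=
  { φ with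
    map_mem := fun {i x} hx => by
      by_cases hi : i = 0
      · subst hi; exact hφ x
      · rw [eq_zero_of_mem_trivDeg hi hx]
        change φ 0 ∈ ℬ i
        rw [map_zero]; exact zero_mem _ }

@[simp] theorem φg_apply (r : R) : φg ℬ φ hφ r = φ r := rfl

theorem φg_toRingHom : (φg ℬ φ hφ).toRingHom = φ := rfl

variable (hsurj : Function.Surjective (Polynomial.eval₂RingHom φ z))

include hφ hz hsurj in
/-- homogeneous elements of degree `n` are `φ r * z ^ n` -/
theorem exists_eq_mul_pow {n : ℕ} {y : B} (hy : y ∈ ℬ n) : ∃ r : R, y = φ r * z ^ n := by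
  obtain ⟨a, ha, rfl⟩ := ConeAlg.exists_decomp (φg ℬ φ hφ) hz hsurj n y hy
  refine ⟨a n, ?_⟩
  rw [Finset.sum_eq_single n]
  · rfl
  · intro j hj hne
    have hjn : j ≤ n := Nat.lt_succ_iff.mp (Finset.mem_range.mp hj)
    have : a j = 0 := eq_zero_of_mem_trivDeg (by omega) (ha j)
    rw [this, map_zero, zero_mul]
  · intro h
    exact absurd (Finset.mem_range.mpr (Nat.lt_succ_self n)) h

include hφ hz in
theorem mul_pow_mem (r : R) (n : ℕ) : φ r * z ^ n ∈ ℬ n := by
  have := SetLike.mul_mem_graded (hφ r) (ConeAlg.pow_mem hz n)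
  simpa using this

include hφ hz hsurj in
theorem mem_deg_iff {n : ℕ} {y : B} : y ∈ ℬ n ↔ ∃ r : R, y = φ r * z ^ n :=
  ⟨fun hy => exists_eq_mul_pow ℬ φ hφ hz hsurj hy, fun ⟨r, hr⟩ => hr ▸ mul_pow_mem ℬ φ hφ hz r n⟩

include hφ hz hsurj in
theorem basicOpen_z_eq_top : Proj.basicOpen ℬ z = ⊤ := by
  rw [_root_.eq_top_iff]
  intro y _
  rw [Proj.mem_basicOpen]
  intro hzy
  apply y.not_irrelevant_le
  rw [HomogeneousIdeal.irrelevant_le]
  intro n hn b hb
  obtain ⟨r, rfl⟩ := exists_eq_mul_pow ℬ φ hφ hz hsurj hb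
  obtain ⟨m, rfl⟩ : ∃ m, n = m + 1 := ⟨n - 1, by omega⟩
  rw [pow_succ, ← mul_assoc]
  exact Ideal.mul_mem_left _ _ hzy

include hφ hz hsurj in
theorem isIso_awayι_z : IsIso (Proj.awayι ℬ z hz one_pos) := by
  apply isIso_of_isOpenImmersion_of_opensRange_eq_top
  rw [Proj.opensRange_awayι, basicOpen_z_eq_top ℬ φ hφ hz hsurj]

variable (hbij : Function.Bijective (Polynomial.eval₂RingHom φ z))

/-- "set `z = 1`" -/
noncomputable def evalOne : B →+* R :=
  (Polynomial.evalRingHom 1).comp (RingEquiv.ofBijective _ hbij).symm.toRingHom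

theorem evalOne_φ (r : R) : evalOne φ hbij (φ r) = r := by
  have e : (RingEquiv.ofBijective _ hbij).symm (φ r) = Polynomial.C r := by
    rw [RingEquiv.symm_apply_eq]
    change φ r = Polynomial.eval₂RingHom φ z (Polynomial.C r)
    rw [Polynomial.coe_eval₂RingHom, Polynomial.eval₂_C]
  change Polynomial.eval 1 ((RingEquiv.ofBijective _ hbij).symm (φ r)) = r
  rw [e, Polynomial.eval_C]

theorem evalOne_z : evalOne φ hbij z = 1 := by
  have e : (RingEquiv.ofBijective _ hbij).symm z = Polynomial.X := by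
    rw [RingEquiv.symm_apply_eq]
    change z = Polynomial.eval₂RingHom φ z Polynomial.X
    rw [Polynomial.coe_eval₂RingHom, Polynomial.eval₂_X]
  change Polynomial.eval 1 ((RingEquiv.ofBijective _ hbij).symm z) = 1
  rw [e, Polynomial.eval_X]

/-- the homomorphism `B_(z) → R`, `φ r z^k / z^k ↦ r` -/
noncomputable def awayToBase : Away ℬ z →+* R :=
  (IsLocalization.Away.lift z (g := evalOne φ hbij)
      (by rw [evalOne_z]; exact isUnit_one)).comp
    (algebraMap (Away ℬ z) (Localization.Away z))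

theorem awayToBase_of_val (q : Away ℬ z) (x : B) (k : ℕ)
    (hq : q.val = Localization.mk x ⟨z ^ k, pow_mem (Submonoid.mem_powers _) k⟩) :
    awayToBase ℬ φ hbij q = evalOne φ hbij x := by
  rw [awayToBase, RingHom.comp_apply, HomogeneousLocalization.algebraMap_apply, hq, Localization.mk_eq_mk',
    IsLocalization.Away.lift, IsLocalization.lift_mk', Units.mul_inv_eq_iff_eq_mul, IsUnit.coe_liftRight]
  simp [map_pow, evalOne_z]

theorem awayToBase_frac (k : ℕ) (x : R) (hx : x ∈ trivDeg R k) :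
    awayToBase ℬ φ hbij (ConeAlg.frac (φg ℬ φ hφ) hz k x hx) = x := by
  rw [awayToBase_of_val ℬ φ hbij _ (φ x) k (ConeAlg.val_frac (φg ℬ φ hφ) hz k x hx), evalOne_φ]

include hφ hz hbij in
theorem awayToBase_bijective : Function.Bijective (awayToBase ℬ φ hbij) :=
  ConeAlg.bijective_of_frac (φg ℬ φ hφ) hz _ (awayToBase_frac ℬ φ hφ hz hbij) hbij.2

/-- the corestriction of `φ` to degree zero -/
def φ₀ : R →+* ℬ 0 :=
  { toFun := fun r => ⟨φ r, hφ r⟩
    map_one' := Subtype.ext (map_one _)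
    map_mul' := fun a b => Subtype.ext (map_mul _ a b)
    map_zero' := Subtype.ext (map_zero _)
    map_add' := fun a b => Subtype.ext (map_add _ a b) }

include hz in
theorem awayToBase_fromZero (r : R) :
    awayToBase ℬ φ hbij (fromZeroRingHom ℬ (Submonoid.powers z) (φ₀ ℬ φ hφ r)) = r := by
  rw [awayToBase_of_val ℬ φ hbij _ (φ r) 0 ?_, evalOne_φ]
  change Localization.mk (φ r) _ = _
  congr 1
  exact Subtype.ext (pow_zero z).symm

include hφ hz hbij in
theorem fromZero_comp_φ₀_bijective :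
    Function.Bijective ((fromZeroRingHom ℬ (Submonoid.powers z)).comp (φ₀ ℬ φ hφ)) := by
  have hT := awayToBase_bijective ℬ φ hφ hz hbij
  have hid : ∀ r, awayToBase ℬ φ hbij (((fromZeroRingHom ℬ (Submonoid.powers z)).comp (φ₀ ℬ φ hφ)) r) = r :=
    fun r => awayToBase_fromZero ℬ φ hφ hz hbij r
  constructor
  · intro a b hab
    rw [← hid a, ← hid b, hab]
  · intro q
    refine ⟨awayToBase ℬ φ hbij q, hT.1 ?_⟩
    rw [hid]

include hφ hz hbij in
/-- `Proj R[z] → Spec R` is an isomorphism. -/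
theorem isIso_toSpecZero_comp :
    IsIso (Proj.toSpecZero ℬ ≫ Spec.map (CommRingCat.ofHom (φ₀ ℬ φ hφ))) := by
  haveI := isIso_awayι_z ℬ φ hφ hz hbij.2
  have h1 : Proj.awayι ℬ z hz one_pos ≫ Proj.toSpecZero ℬ ≫ Spec.map (CommRingCat.ofHom (φ₀ ℬ φ hφ)) =
      Spec.map (CommRingCat.ofHom ((fromZeroRingHom ℬ (Submonoid.powers z)).comp (φ₀ ℬ φ hφ))) := by
    rw [Proj.awayι_toSpecZero_assoc, ← Spec.map_comp]
    rfl
  have h2 : IsIso (Spec.map (CommRingCat.ofHom
      ((fromZeroRingHom ℬ (Submonoid.powers z)).comp (φ₀ ℬ φ hφ)))) := by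
    have : IsIso (CommRingCat.ofHom ((fromZeroRingHom ℬ (Submonoid.powers z)).comp (φ₀ ℬ φ hφ))) :=
      (ConcreteCategory.isIso_iff_bijective _).mpr (fromZero_comp_φ₀_bijective ℬ φ hφ hz hbij)
    infer_instance
  rw [← h1] at h2
  exact IsIso.of_isIso_comp_left (Proj.awayι ℬ z hz one_pos) _

end Groth.Agent.Lib.Helper74.GrPolyOne
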