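import Groth.Agent.Lib.Helper74.SymQCAlg
import Groth.Agent.Lib.Helper74.GrPolyOne
import Groth.Agent.Lib.Helper74.RelProjLib
import Groth.Prelude.Def_RelProj2
import Groth.Agent.Lib.Helper35.Gen2
import Mathlib.LinearAlgebra.SymmetricAlgebra.Basis
import Mathlib.Algebra.MvPolynomial.Equiv

/-!
# The graded symmetric algebra of an invertible module, locally

For `(𝒮L, j)` the graded symmetric algebra of a quasi-coherent module `L`, over an affine open `V` on which `L` is
free on a generator `e`: `𝒮L(V) = O(V)[T]` with `T = j(e)` of degree one.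
-/

set_option autoImplicit false
set_option linter.style.haveILetI false
universe u

open CategoryTheory CategoryTheory.Limits AlgebraicGeometry TopologicalSpace Opposite

noncomputable section

namespace Groth.Agent.Lib.Helper74.InvSym

open RelSpec Groth.Agent.Lib.Helper74.SymQ

section algebra

variable {R M B : Type*} [CommRing R] [AddCommGroup M] [Module R M] [CommRing B] [Algebra R B]

/-- The symmetric algebra of a module free on one generator is the polynomial ring. -/
theorem bijective_eval₂_of_isSymmetricAlgebra {f : M →ₗ[R] B} (hf : IsSymmetricAlgebra f) (e : M)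
    (he : Function.Bijective (fun r : R => r • e)) :
    Function.Bijective (Polynomial.eval₂RingHom (algebraMap R B) (f e)) := by
  let l : R ≃ₗ[R] M := LinearEquiv.ofBijective (LinearMap.toSpanSingleton R M e) he
  let b : Module.Basis Unit R M := (Module.Basis.singleton Unit R).map l
  have hb : b () = e := by
    change l ((Module.Basis.singleton Unit R) ()) = e
    rw [Module.Basis.singleton_apply]
    change (1 : R) • e = e
    rw [one_smul]
  let F : Polynomial R ≃ₐ[R] B :=
    ((MvPolynomial.uniqueAlgEquiv R Unit).symm.trans (SymmetricAlgebra.equivMvPolynomial b).symm).trans hf.equiv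
  have hFX : F Polynomial.X = f e := by
    change hf.equiv ((SymmetricAlgebra.equivMvPolynomial b).symm
      ((MvPolynomial.uniqueAlgEquiv R Unit).symm Polynomial.X)) = f e
    have hX : (MvPolynomial.uniqueAlgEquiv R Unit).symm Polynomial.X = MvPolynomial.X () := by
      rw [AlgEquiv.symm_apply_eq]
      simp [MvPolynomial.uniqueAlgEquiv]
    rw [hX, SymmetricAlgebra.equivMvPolynomial_symm_X, hb,
      IsSymmetricAlgebra.equiv_apply, SymmetricAlgebra.lift_ι_apply]
  have h1 : (Polynomial.aeval (f e) : Polynomial R →ₐ[R] B) = F.toAlgHom := by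
    apply Polynomial.algHom_ext
    rw [Polynomial.aeval_X]
    exact hFX.symm
  have h2 : (Polynomial.eval₂RingHom (algebraMap R B) (f e) : Polynomial R → B) = F := by
    funext p
    exact congr($h1 p)
  rw [h2]
  exact F.bijective

end algebra

section cover

open Groth.Agent.Lib.Helper74.RelProjLib

variable {Y P : Scheme.{u}} {𝒮 : RelProj.QCGrAlg Y} {p : P ⟶ Y}
  {chart : ∀ (U : Y.Opens) (hU : IsAffineOpen U),
    (((p ⁻¹ᵁ U : P.Opens) : Scheme.{u}) ≅ Proj (𝒮.deg U hU))}

/-- A property local at the target holds for `p` if it holds for the structure morphisms of the `Proj 𝒮(U)`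
for `U` in an affine open cover. -/
theorem of_forall_chart_cover (Q : MorphismProperty Scheme.{u}) [IsZariskiLocalAtTarget Q]
    (hP : RelProj.IsRelProj 𝒮 p chart) {ι : Type*} (𝒰 : ι → Y.Opens) (h𝒰 : ∀ i, IsAffineOpen (𝒰 i))
    (hcov : ⨆ i, 𝒰 i = ⊤)
    (H : ∀ i, Q (Proj.toSpecZero (𝒮.deg (𝒰 i) (h𝒰 i)) ≫ Spec.map (𝒮.strZero (𝒰 i) (h𝒰 i)))) : Q p := by
  refine IsZariskiLocalAtTarget.of_iSup_eq_top (P := Q) 𝒰 hcov ?_
  intro i
  rw [restrict_eq hP (𝒰 i) (h𝒰 i), ← Category.assoc (Proj.toSpecZero _), ← Category.assoc]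
  rw [MorphismProperty.cancel_right_of_respectsIso (P := Q),
    MorphismProperty.cancel_left_of_respectsIso (P := Q)]
  exact H i

end cover

section sheaf

open Groth.Agent.Lib.Helper35.Gen

variable {X : Scheme.{u}} {L : X.Modules} {𝒮L : RelProj.QCGrAlg X} {j : L ⟶ 𝒮L.toModule}

/-- An invertible module is, locally on affine opens, free on one generator. -/
theorem exists_affine_generator (hL : PicF.IsInvertible L) (x : X) :
    ∃ (V : X.Opens) (_ : IsAffineOpen V) (e : Γ(L, V)), x ∈ V ∧ IsGen L V e := by
  obtain ⟨U, hxU, e, he⟩ := exists_isGen_of_isInvertible hL x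
  obtain ⟨V, hV, hxV, hVU⟩ := exists_isAffineOpen_mem_and_subset (x := x) (U := U) hxU
  exact ⟨V, hV, rs L hVU e, hxV, he.mono hVU⟩

variable [L.IsQuasicoherent] (hj : RelProj.IsGrSymAlg L 𝒮L j)

include hj in
/-- Over an affine open on which `L` is free on `e`, the algebra `𝒮L(V)` is the polynomial ring on `j(e)`. -/
theorem bijective_eval₂ (V : X.Opens) (hV : IsAffineOpen V) (e : Γ(L, V))
    (he : Function.Bijective (fun r : Γ(X, V) => r • e)) :
    Function.Bijective (Polynomial.eval₂RingHom (𝒮L.str.app (op V)).hom (jLin j V e)) :=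
  bijective_eval₂_of_isSymmetricAlgebra (isSymmetricAlgebra_of_isSymAlg hj.1 V hV) e he

variable {PL : Scheme.{u}} {pL : PL ⟶ X}
  {chartL : ∀ (U : X.Opens) (hU : IsAffineOpen U), (((pL ⁻¹ᵁ U : PL.Opens) : Scheme.{u}) ≅ Proj (𝒮L.deg U hU))}

include hj in
/-- `Proj(Sym L) → X` is an isomorphism for `L` invertible. -/
theorem isIso_pL (hL : PicF.IsInvertible L) (hPL : RelProj.IsRelProj 𝒮L pL chartL) : IsIso pL := by
  choose V hV e hxV he using exists_affine_generator hL
  have key : (MorphismProperty.isomorphisms Scheme.{u}) pL := by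
    refine of_forall_chart_cover (MorphismProperty.isomorphisms Scheme.{u}) hPL V hV ?_ fun x => ?_
    · exact eq_top_iff.mpr fun x _ => Opens.mem_iSup.mpr ⟨x, hxV x⟩
    · have hbij := bijective_eval₂ hj (V x) (hV x) (e x) (he x).bij
      exact GrPolyOne.isIso_toSpecZero_comp (𝒮L.deg (V x) (hV x)) (𝒮L.str.app (op (V x))).hom
        (𝒮L.str_mem (V x) (hV x)) (hj.2 (V x) (hV x) (e x)) hbij
  exact key

end sheaf

end Groth.Agent.Lib.Helper74.InvSym
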