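import Groth.Agent.Lib.Helper74.QMapAffine

/-!
# The structure morphism `Proj A → Spec A₀` and basic opens of degree-zero elements
-/

set_option autoImplicit false
universe u
open CategoryTheory AlgebraicGeometry
open scoped HomogeneousIdeal
open HomogeneousLocalization

namespace Groth.Agent.Lib.Helper74.ProjZero

variable {A σ : Type u} [CommRing A] [SetLike σ A] [AddSubgroupClass σ A] (𝒜 : ℕ → σ) [GradedRing 𝒜]

/-- The preimage under `Proj A → Spec A₀` of the basic open of a degree-zero element `a` is `D_+(a)`. -/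
theorem toSpecZero_preimage_basicOpen (a : 𝒜 0) :
    Proj.toSpecZero 𝒜 ⁻¹ᵁ (PrimeSpectrum.basicOpen a) = Proj.basicOpen 𝒜 (a : A) := by
  ext y
  obtain ⟨d, hd, f, hf, hyf⟩ := Groth.Agent.Lib.Helper74.QMap.exists_pos_homog_mem_basicOpen y
  rw [← Proj.opensRange_awayι 𝒜 f hf hd] at hyf
  obtain ⟨ξ, rfl⟩ := hyf
  have haf : (a : A) * f ∈ 𝒜 d := by
    have := SetLike.mul_mem_graded a.2 hf
    rwa [zero_add] at this
  have h1 : Proj.toSpecZero 𝒜 (Proj.awayι 𝒜 f hf hd ξ) =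
      Spec.map (CommRingCat.ofHom (fromZeroRingHom 𝒜 (Submonoid.powers f))) ξ := by
    rw [← Proj.awayι_toSpecZero 𝒜 f hf hd]
    rfl
  have hmem : Proj.awayι 𝒜 f hf hd ξ ∈ Proj.basicOpen 𝒜 f := by
    rw [← Proj.opensRange_awayι 𝒜 f hf hd]
    exact ⟨ξ, rfl⟩
  have h2 : Proj.awayι 𝒜 f hf hd ξ ∈ Proj.basicOpen 𝒜 (a : A) ↔
      Proj.awayι 𝒜 f hf hd ξ ∈ Proj.basicOpen 𝒜 ((a : A) * f) := by
    rw [Proj.basicOpen_mul]
    exact ⟨fun h => ⟨h, hmem⟩, fun h => h.1⟩
  have h3 : Proj.awayι 𝒜 f hf hd ξ ∈ Proj.basicOpen 𝒜 ((a : A) * f) ↔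
      ξ ∈ PrimeSpectrum.basicOpen (Away.isLocalizationElem hf haf) := by
    rw [← Proj.awayι_preimage_basicOpen 𝒜 hf hd haf hd]
    rfl
  have h4 : Away.isLocalizationElem hf haf = (fromZeroRingHom 𝒜 (Submonoid.powers f) a) ^ d := by
    apply HomogeneousLocalization.val_injective
    rw [Away.val_mk, HomogeneousLocalization.val_pow]
    change _ = (Localization.mk (a : A) 1) ^ d
    rw [Localization.mk_pow, Localization.mk_eq_mk_iff, Localization.r_iff_exists]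
    refine ⟨1, ?_⟩
    simp only [OneMemClass.coe_one, one_mul, one_pow, mul_one]
    rw [mul_pow]
    ring
  have h5 : Proj.toSpecZero 𝒜 (Proj.awayι 𝒜 f hf hd ξ) ∈ PrimeSpectrum.basicOpen a ↔
      ξ ∈ PrimeSpectrum.basicOpen (fromZeroRingHom 𝒜 (Submonoid.powers f) a) := by
    rw [h1]
    rfl
  rw [h4, PrimeSpectrum.basicOpen_pow _ _ hd] at h3
  exact h5.trans (h2.trans h3).symm

end Groth.Agent.Lib.Helper74.ProjZero
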