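import Groth.Agent.Lib.Helper74.QMapBC

set_option autoImplicit false
universe u
open CategoryTheory CategoryTheory.Limits AlgebraicGeometry TopologicalSpace Opposite
open scoped HomogeneousIdeal
open HomogeneousLocalization

namespace Groth.Agent.Lib.Helper74.QMap

open Groth.Agent.Lib.Helper74.RelProjLib

section ring

variable {A B σ τ : Type u} [CommRing A] [SetLike σ A] [AddSubgroupClass σ A]
  [CommRing B] [SetLike τ B] [AddSubgroupClass τ B]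
  {𝒜 : ℕ → σ} {ℬ : ℕ → τ} [GradedRing 𝒜] [GradedRing ℬ]

theorem mem_domOpen_iff (ψ : 𝒜 →+*ᵍ ℬ) (y : Proj ℬ) :
    y ∈ RelCone.domOpen ψ ↔ ∃ f ∈ (𝒜₊).toIdeal, y ∈ Proj.basicOpen ℬ (ψ f) := by
  rw [RelCone.mem_domOpen]
  rfl

theorem mem_domOpen_iff_homog (ψ : 𝒜 →+*ᵍ ℬ) (y : Proj ℬ) :
    y ∈ RelCone.domOpen ψ ↔ ∃ d, 0 < d ∧ ∃ f ∈ 𝒜 d, y ∈ Proj.basicOpen ℬ (ψ f) := by
  rw [RelCone.mem_domOpen]
  constructor
  · rintro ⟨f, hf, hfy⟩
    have hfy' : f ∉ Ideal.comap ψ y.asHomogeneousIdeal.toIdeal := hfy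
    obtain ⟨k, hk, f', hf', hf'y⟩ := RelConeProj.exists_pos_homog_not_mem _ hf hfy'
    exact ⟨k, hk, f', hf', hf'y⟩
  · rintro ⟨d, hd, f, hf, hfy⟩
    exact ⟨f, HomogeneousIdeal.mem_irrelevant_of_mem _ hd hf, hfy⟩

theorem awayι_map_mem_basicOpen_iff (ψ : 𝒜 →+*ᵍ ℬ) {d : ℕ} (hd : 0 < d) {k : A} (hk : k ∈ 𝒜 d)
    {e : ℕ} (he : 0 < e) {f : A} (hf : f ∈ 𝒜 e) (ξ : Spec (CommRingCat.of (Away ℬ (ψ k)))) :
    Proj.awayι 𝒜 k hk hd (Spec.map (CommRingCat.ofHom (Away.map ψ k)) ξ) ∈ Proj.basicOpen 𝒜 f ↔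
      Proj.awayι ℬ (ψ k) (ψ.map_mem hk) hd ξ ∈ Proj.basicOpen ℬ (ψ f) := by
  have h1 : Proj.awayι 𝒜 k hk hd (Spec.map (CommRingCat.ofHom (Away.map ψ k)) ξ) ∈
      Proj.basicOpen 𝒜 f ↔ Spec.map (CommRingCat.ofHom (Away.map ψ k)) ξ ∈
        Proj.awayι 𝒜 k hk hd ⁻¹ᵁ Proj.basicOpen 𝒜 f := Iff.rfl
  have h2 : Proj.awayι ℬ (ψ k) (ψ.map_mem hk) hd ξ ∈ Proj.basicOpen ℬ (ψ f) ↔
      ξ ∈ Proj.awayι ℬ (ψ k) (ψ.map_mem hk) hd ⁻¹ᵁ Proj.basicOpen ℬ (ψ f) := Iff.rfl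
  have e1 := Proj.awayι_preimage_basicOpen 𝒜 hk hd hf he
  have e2 := Proj.awayι_preimage_basicOpen ℬ (ψ.map_mem hk) hd (ψ.map_mem hf) he
  have h3 : Away.map ψ k (Away.isLocalizationElem hk hf) =
      Away.isLocalizationElem (ψ.map_mem hk) (ψ.map_mem hf) := by
    rw [Away.isLocalizationElem, Away.map_mk]
    exact away_mk_congr _ e _ _ (map_pow ψ f d)
  refine h1.trans ((SetLike.ext_iff.mp e1 _).trans
    (Iff.trans ?_ ((SetLike.ext_iff.mp e2 ξ).symm.trans h2.symm)))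
  rw [← h3]
  rfl

end ring

section pts

variable {Y Y' : Scheme.{u}} {g : Y' ⟶ Y} {𝒮 : RelProj.QCGrAlg Y} {𝒮' : RelProj.QCGrAlg Y'}
  (u : RelProj.QGrHom g 𝒮 𝒮')
  {P P' : Scheme.{u}} {p : P ⟶ Y}
  {chart : ∀ (U : Y.Opens) (hU : IsAffineOpen U),
    (((p ⁻¹ᵁ U : P.Opens) : Scheme.{u}) ≅ Proj (𝒮.deg U hU))}
  {p' : P' ⟶ Y'}
  {chart' : ∀ (U' : Y'.Opens) (hU' : IsAffineOpen U'),
    (((p' ⁻¹ᵁ U' : P'.Opens) : Scheme.{u}) ≅ Proj (𝒮'.deg U' hU'))}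

/-- the open `G(u_{U,U'})` is compatible with restriction to smaller affine pairs -/
theorem map_res_mem_domOpen_iff {U V : Y.Opens} (hU : IsAffineOpen U) (hV : IsAffineOpen V)
    (i : V ≤ U) {U' V' : Y'.Opens} (hU' : IsAffineOpen U') (hV' : IsAffineOpen V') (i' : V' ≤ U')
    (hle : U' ≤ g ⁻¹ᵁ U) (hle' : V' ≤ g ⁻¹ᵁ V) (y₀ : Proj (𝒮'.deg V' hV')) :
    Proj.map (𝒮'.res hU' hV' i') (irrelevant_le_map_res 𝒮' hU' hV' i') y₀ ∈
        RelCone.domOpen (u.gradedAt U hU U' hU' hle) ↔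
      y₀ ∈ RelCone.domOpen (u.gradedAt V hV V' hV' hle') := by
  rw [mem_domOpen_iff, mem_domOpen_iff]
  constructor
  · rintro ⟨h, hh, hy⟩
    refine ⟨𝒮.res hU hV i h, Groth.Agent.Lib.Helper5.map_mem_irrelevant _ hh, ?_⟩
    rw [gradedAt_res u hU hV i hU' hV' i' hle hle']
    exact hy
  · rintro ⟨k, hk, hy⟩
    by_contra hcon
    push Not at hcon
    apply hy
    have hJ : ((𝒮.deg U hU)₊).toIdeal.map (𝒮.res hU hV i) ≤
        Ideal.comap (u.gradedAt V hV V' hV' hle') y₀.asHomogeneousIdeal.toIdeal := by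
      rw [Ideal.map_le_iff_le_comap]
      intro h hh
      have := hcon h hh
      rw [Ideal.mem_comap, Ideal.mem_comap, gradedAt_res u hU hV i hU' hV' i' hle hle']
      by_contra h'
      exact this h'
    exact hJ (irrelevant_le_map_res 𝒮 hU hV i hk)

theorem emb_eq_emb_map_res (hP' : RelProj.IsRelProj 𝒮' p' chart') {U' V' : Y'.Opens}
    (hU' : IsAffineOpen U') (hV' : IsAffineOpen V') (i' : V' ≤ U') (y₀ : Proj (𝒮'.deg V' hV')) :
    RelProj.emb p' chart' V' hV' y₀ = RelProj.emb p' chart' U' hU'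
      (Proj.map (𝒮'.res hU' hV' i') (irrelevant_le_map_res 𝒮' hU' hV' i') y₀) := by
  rw [← emb_res hP' hU' hV' i']
  rfl

/-- membership of a chart point in `G(u)` is detected on any affine pair containing it -/
theorem emb_mem_domQ_iff (hP' : RelProj.IsRelProj 𝒮' p' chart') (U : Y.Opens)
    (hU : IsAffineOpen U) (U' : Y'.Opens) (hU' : IsAffineOpen U') (hle : U' ≤ g ⁻¹ᵁ U)
    (y : Proj (𝒮'.deg U' hU')) :
    RelProj.emb p' chart' U' hU' y ∈ RelProj.domQ u p' chart' ↔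
      y ∈ RelCone.domOpen (u.gradedAt U hU U' hU' hle) := by
  constructor
  · intro h
    obtain ⟨i, hi⟩ := exists_chart_of_mem_domQ u p' chart' h
    have h1 : RelProj.emb p' chart' U' hU' y ∈ p' ⁻¹ᵁ U' :=
      RelConeProj.emb_mem_preimage U' hU' y
    have h2 := mem_preimage_of_mem_range_chartEmb i hi
    have h3 : g (p' (RelProj.emb p' chart' U' hU' y)) ∈ U ⊓ i.U := ⟨hle h1, i.hle h2⟩
    obtain ⟨V, hV, hzV, hVle⟩ := ChartOpens.exists_affine_le h3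
    have h4 : p' (RelProj.emb p' chart' U' hU' y) ∈ U' ⊓ i.U' ⊓ g ⁻¹ᵁ V := ⟨⟨h1, h2⟩, hzV⟩
    obtain ⟨V', hV', hzV', hV'le⟩ := ChartOpens.exists_affine_le h4
    have hVU : V ≤ U := hVle.trans inf_le_left
    have hVU2 : V ≤ i.U := hVle.trans inf_le_right
    have hV'U : V' ≤ U' := hV'le.trans (inf_le_left.trans inf_le_left)
    have hV'U2 : V' ≤ i.U' := hV'le.trans (inf_le_left.trans inf_le_right)
    have hV'V : V' ≤ g ⁻¹ᵁ V := hV'le.trans inf_le_right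
    obtain ⟨y₀, hy₀⟩ := RelConeProj.exists_emb_eq (pC := p') (chartC := chart') V' hV' _ hzV'
    rw [← hy₀, chartEmb_eq_stdChart, emb_mem_range_stdChart_iff hP' i.hU' hV' hV'U2] at hi
    have hy : y = Proj.map (𝒮'.res hU' hV' hV'U) (irrelevant_le_map_res 𝒮' hU' hV' hV'U) y₀ := by
      apply RelConeProj.emb_injective (pC := p') (chartC := chart') U' hU'
      rw [← emb_eq_emb_map_res hP' hU' hV' hV'U, hy₀]
    rw [hy, map_res_mem_domOpen_iff u hU hV hVU hU' hV' hV'U hle hV'V, mem_domOpen_iff]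
    refine ⟨𝒮.res i.hU hV hVU2 i.f, Groth.Agent.Lib.Helper5.map_mem_irrelevant _
      (HomogeneousIdeal.mem_irrelevant_of_mem _ i.hd i.hf), ?_⟩
    rw [gradedAt_res u i.hU hV hVU2 i.hU' hV' hV'U2 i.hle hV'V]
    exact hi
  · intro h
    exact Opens.mem_iSup.mpr ⟨⟨(⟨U, hU⟩, ⟨U', hU'⟩), hle⟩, ⟨y, h, rfl⟩⟩

theorem emb_mem_range_stdChart_self_iff (U : Y.Opens) (hU : IsAffineOpen U) {d : ℕ} (hd : 0 < d)
    (f : 𝒮.presheaf.obj (op U)) (hf : f ∈ 𝒮.deg U hU d) (y : Proj (𝒮.deg U hU)) :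
    RelProj.emb p chart U hU y ∈ Set.range (stdChart p chart U hU hd f hf) ↔
      y ∈ Proj.basicOpen (𝒮.deg U hU) f := by
  rw [range_stdChart, (RelConeProj.emb_injective U hU).mem_set_image]
  rfl

/-- points of `G(u)` over an affine pair mapping into a standard open of `P` -/
theorem qmap_mem_range_stdChart_iff (hP' : RelProj.IsRelProj 𝒮' p' chart')
    (Φ : ((RelProj.domQ u p' chart' : P'.Opens) : Scheme.{u}) ⟶ P)
    (hΦ : RelProj.IsProjQMapOn u p chart p' chart' (RelProj.domQ u p' chart') Φ)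
    (U : Y.Opens) (hU : IsAffineOpen U) (U' : Y'.Opens) (hU' : IsAffineOpen U')
    (hle : U' ≤ g ⁻¹ᵁ U) {d : ℕ} (hd : 0 < d) (f : 𝒮.presheaf.obj (op U))
    (hf : f ∈ 𝒮.deg U hU d) (y : Proj (𝒮'.deg U' hU'))
    (hy : RelProj.emb p' chart' U' hU' y ∈ RelProj.domQ u p' chart') :
    Φ ⟨RelProj.emb p' chart' U' hU' y, hy⟩ ∈ Set.range (stdChart p chart U hU hd f hf) ↔
      y ∈ Proj.basicOpen (𝒮'.deg U' hU') (u.gradedAt U hU U' hU' hle f) := by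
  have hdom := (emb_mem_domQ_iff u hP' U hU U' hU' hle y).mp hy
  obtain ⟨e, he, k, hk, hyk⟩ := (mem_domOpen_iff_homog _ y).mp hdom
  let i : ChartIdx g 𝒮 := ⟨U, hU, U', hU', hle, e, he, k, hk⟩
  rw [← Proj.opensRange_awayι _ _ (i.huf u) he] at hyk
  obtain ⟨ξ, rfl⟩ := hyk
  have hx : (⟨RelProj.emb p' chart' U' hU' (Proj.awayι _ _ (i.huf u) he ξ), hy⟩ :
      ((RelProj.domQ u p' chart' : P'.Opens) : Scheme.{u})) =
      chartLift (u := u) (p' := p') (chart' := chart') i ξ := by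
    apply (RelProj.domQ u p' chart').ι.isOpenEmbedding.injective
    have h1 : (RelProj.domQ u p' chart').ι
        (chartLift (u := u) (p' := p') (chart' := chart') i ξ) = chartEmb u p' chart' i ξ := by
      rw [← Scheme.Hom.comp_apply, chartLift_ι]
    rw [h1]
    rfl
  have h2 : Φ (chartLift (u := u) (p' := p') (chart' := chart') i ξ) = chartMap u p chart i ξ := by
    rw [← Scheme.Hom.comp_apply, (isProjQMapOn_iff u p chart p' chart' _ Φ).mp hΦ i _]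
  rw [hx, h2]
  change RelProj.emb p chart U hU (Proj.awayι _ k hk he
    (Spec.map (CommRingCat.ofHom (Away.map (u.gradedAt U hU U' hU' hle) k)) ξ)) ∈ _ ↔ _
  rw [emb_mem_range_stdChart_self_iff]
  exact awayι_map_mem_basicOpen_iff (u.gradedAt U hU U' hU' hle) he hk hd hf ξ

end pts

end Groth.Agent.Lib.Helper74.QMap
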