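import Groth.Agent.Lib.Helper74.InvSym
import Groth.Agent.Lib.Helper74.ProjZeroBasicOpen
import Groth.Agent.Lib.Helper74.QMapPts

/-!
# The open of definition of `r_{L,ψ}` in terms of non-vanishing loci

Ring-level and sheaf-level lemmas on graded symmetric algebras used to describe `G(ψ)` for `Proj(Sym L) = X`.
-/

set_option autoImplicit false
set_option linter.style.haveILetI false
universe u

open CategoryTheory CategoryTheory.Limits AlgebraicGeometry TopologicalSpace Opposite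
open scoped HomogeneousIdeal
open HomogeneousLocalization DirectSum

noncomputable section

namespace Groth.Agent.Lib.Helper74.InvSym

open RelSpec Groth.Agent.Lib.Helper74.SymQ

section ring

variable {R M A : Type*} [CommRing R] [AddCommGroup M] [Module R M] [CommRing A] [Algebra R A]
  (𝒜 : ℕ → AddSubgroup A) [GradedRing 𝒜] {f : M →ₗ[R] A}

/-- In a graded symmetric algebra (scalars in degree `0`, generators in degree `1`) the irrelevant ideal is
generated by the generators. -/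
theorem irrelevant_le_span_range (hf : IsSymmetricAlgebra f) (h0 : ∀ r, algebraMap R A r ∈ 𝒜 0)
    (h1 : ∀ m, f m ∈ 𝒜 1) : (𝒜₊).toIdeal ≤ Ideal.span (Set.range f) := by
  classical
  set I := Ideal.span (Set.range f) with hI
  have hIhom : I.IsHomogeneous 𝒜 := Ideal.homogeneous_span 𝒜 _ (by
    rintro _ ⟨m, rfl⟩
    exact ⟨1, h1 m⟩)
  have hdec : ∀ a : A, ∃ r : R, a - algebraMap R A r ∈ I := by
    intro a
    induction a using hf.induction with
    | algebraMap r => exact ⟨r, by rw [sub_self]; exact zero_mem _⟩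
    | ι m => exact ⟨0, by rw [map_zero, sub_zero]; exact Ideal.subset_span ⟨m, rfl⟩⟩
    | mul a b ha hb =>
      obtain ⟨r, hr⟩ := ha
      obtain ⟨s, hs⟩ := hb
      refine ⟨r * s, ?_⟩
      have : a * b - algebraMap R A (r * s) =
          (a - algebraMap R A r) * b + algebraMap R A r * (b - algebraMap R A s) := by
        rw [map_mul]; ring
      rw [this]
      exact add_mem (Ideal.mul_mem_right _ _ hr) (Ideal.mul_mem_left _ _ hs)
    | add a b ha hb =>
      obtain ⟨r, hr⟩ := ha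
      obtain ⟨s, hs⟩ := hb
      refine ⟨r + s, ?_⟩
      have : a + b - algebraMap R A (r + s) = (a - algebraMap R A r) + (b - algebraMap R A s) := by
        rw [map_add]; ring
      rw [this]
      exact add_mem hr hs
  intro a ha
  have ha0 : GradedRing.proj 𝒜 0 a = 0 := (HomogeneousIdeal.mem_irrelevant_iff 𝒜 a).mp ha
  obtain ⟨r, hr⟩ := hdec a
  set i := a - algebraMap R A r with hi
  have hi0 : (GradedRing.proj 𝒜 0 i : A) ∈ I := hIhom 0 hr
  have h2 : GradedRing.proj 𝒜 0 i = - algebraMap R A r := by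
    rw [hi, map_sub, ha0, zero_sub]
    congr 1
    exact DirectSum.decompose_of_mem_same 𝒜 (h0 r)
  have h3 : a = i - GradedRing.proj 𝒜 0 i := by
    rw [h2, hi]; ring
  rw [h3]
  exact sub_mem hr hi0

/-- If all elements of degree `n > 0` of a graded symmetric algebra are multiples of `t`, then `t` vanishes at no
point of the homogeneous spectrum. -/
theorem mem_basicOpen_of_deg_le_span (hf : IsSymmetricAlgebra f) (h0 : ∀ r, algebraMap R A r ∈ 𝒜 0)
    (h1 : ∀ m, f m ∈ 𝒜 1) {n : ℕ} (hn : 0 < n) {t : A}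
    (ht : ((𝒜 n : AddSubgroup A) : Set A) ⊆ (Ideal.span {t} : Set A)) (y : Proj 𝒜) :
    y ∈ Proj.basicOpen 𝒜 t := by
  rw [Proj.mem_basicOpen]
  intro hty
  apply y.not_irrelevant_le
  refine (irrelevant_le_span_range 𝒜 hf h0 h1).trans ?_
  rw [Ideal.span_le]
  rintro _ ⟨m, rfl⟩
  have h2 : f m ^ n ∈ 𝒜 n := by
    have := SetLike.pow_mem_graded n (h1 m)
    simpa using this
  have h3 : f m ^ n ∈ y.asHomogeneousIdeal.toIdeal :=
    (Ideal.span_singleton_le_iff_mem (I := y.asHomogeneousIdeal.toIdeal)).mpr hty (ht h2)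
  exact y.isPrime.mem_of_pow_mem n h3

end ring

section relproj

variable {Y P : Scheme.{u}} {𝒮 : RelProj.QCGrAlg Y} {p : P ⟶ Y}
  {chart : ∀ (U : Y.Opens) (hU : IsAffineOpen U),
    (((p ⁻¹ᵁ U : P.Opens) : Scheme.{u}) ≅ Proj (𝒮.deg U hU))}

/-- The point of the base under a chart point lies in `D(a)` iff the chart point lies in `D_+(a)`. -/
theorem emb_mem_basicOpen_iff (hP : RelProj.IsRelProj 𝒮 p chart) (U : Y.Opens) (hU : IsAffineOpen U)
    (a : Γ(Y, U)) (y : Proj (𝒮.deg U hU)) :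
    p (RelProj.emb p chart U hU y) ∈ Y.basicOpen a ↔
      y ∈ Proj.basicOpen (𝒮.deg U hU) ((𝒮.str.app (op U)).hom a) := by
  have h1 : p (RelProj.emb p chart U hU y) =
      hU.fromSpec (Spec.map (𝒮.strZero U hU) (Proj.toSpecZero (𝒮.deg U hU) y)) := by
    rw [← Scheme.Hom.comp_apply, RelConeProj.emb_comp hP U hU]
    rfl
  have h2 : hU.fromSpec (Spec.map (𝒮.strZero U hU) (Proj.toSpecZero (𝒮.deg U hU) y)) ∈ Y.basicOpen a ↔
      Spec.map (𝒮.strZero U hU) (Proj.toSpecZero (𝒮.deg U hU) y) ∈ PrimeSpectrum.basicOpen a := by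
    rw [← hU.fromSpec_preimage_basicOpen]
    rfl
  have h3 : Spec.map (𝒮.strZero U hU) (Proj.toSpecZero (𝒮.deg U hU) y) ∈ PrimeSpectrum.basicOpen a ↔
      Proj.toSpecZero (𝒮.deg U hU) y ∈ PrimeSpectrum.basicOpen ((𝒮.strZero U hU).hom a) := Iff.rfl
  have h4 : Proj.toSpecZero (𝒮.deg U hU) y ∈ PrimeSpectrum.basicOpen ((𝒮.strZero U hU).hom a) ↔
      y ∈ Proj.basicOpen (𝒮.deg U hU) (((𝒮.strZero U hU).hom a : 𝒮.deg U hU 0) : 𝒮.presheaf.obj (op U)) := by
    rw [← ProjZero.toSpecZero_preimage_basicOpen]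
    rfl
  rw [h1, h2, h3, h4]
  rfl

end relproj

section sheaf

open Groth.Agent.Lib.Helper35.Gen Groth.Agent.Lib.Helper74.QMap

variable {X : Scheme.{u}} {L : X.Modules} [L.IsQuasicoherent] {𝒮L : RelProj.QCGrAlg X} {j : L ⟶ 𝒮L.toModule}
  (hj : RelProj.IsGrSymAlg L 𝒮L j)

include hj in
/-- If over the affine open `V` all sections of degree `n > 0` of `Sym L` are multiples of `t`, then `t` vanishes
nowhere on `Proj 𝒮L(V)`. -/
theorem mem_basicOpen_of_deg_le_span' (V : X.Opens) (hV : IsAffineOpen V) {n : ℕ} (hn : 0 < n)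
    {t : 𝒮L.presheaf.obj (op V)}
    (ht : ((𝒮L.deg V hV n : AddSubgroup (𝒮L.presheaf.obj (op V))) : Set (𝒮L.presheaf.obj (op V))) ⊆
      (Ideal.span {t} : Set (𝒮L.presheaf.obj (op V)))) (y : Proj (𝒮L.deg V hV)) :
    y ∈ Proj.basicOpen (𝒮L.deg V hV) t :=
  mem_basicOpen_of_deg_le_span (𝒮L.deg V hV) (isSymmetricAlgebra_of_isSymAlg hj.1 V hV)
    (𝒮L.str_mem V hV) (hj.2 V hV) hn ht y

/-- restriction of sections of the algebra -/
abbrev resA (𝒜 : RelProj.QCGrAlg X) {U V : X.Opens} (h : V ≤ U) :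
    𝒜.presheaf.obj (op U) →+* 𝒜.presheaf.obj (op V) := (𝒜.presheaf.map (homOfLE h).op).hom

theorem resA_resA (𝒜 : RelProj.QCGrAlg X) {U V W : X.Opens} (h : V ≤ U) (h' : W ≤ V)
    (a : 𝒜.presheaf.obj (op U)) : resA 𝒜 h' (resA 𝒜 h a) = resA 𝒜 (h'.trans h) a := by
  change (𝒜.presheaf.map (homOfLE h).op ≫ 𝒜.presheaf.map (homOfLE h').op).hom a = _
  rw [← Functor.map_comp]; rfl

variable {PL : Scheme.{u}} {pL : PL ⟶ X}
  {chartL : ∀ (U : X.Opens) (hU : IsAffineOpen U), (((pL ⁻¹ᵁ U : PL.Opens) : Scheme.{u}) ≅ Proj (𝒮L.deg U hU))}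

include hj in
/-- Over a trivializing affine open: if `t` of degree `d` does not vanish at the chart point `y`, then the point
below `y` has an affine neighbourhood over which all sections of degree `d` are multiples of `t`. -/
theorem exists_affine_deg_le_span_of_isGen (hPL : RelProj.IsRelProj 𝒮L pL chartL)
    (V : X.Opens) (hV : IsAffineOpen V) (e : Γ(L, V)) (he : IsGen L V e) {d : ℕ}
    {t : 𝒮L.presheaf.obj (op V)} (ht : t ∈ 𝒮L.deg V hV d) (y : Proj (𝒮L.deg V hV))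
    (hy : y ∈ Proj.basicOpen (𝒮L.deg V hV) t) :
    ∃ (V' : X.Opens) (hV' : IsAffineOpen V') (hle : V' ≤ V), pL (RelProj.emb pL chartL V hV y) ∈ V' ∧
      ((𝒮L.deg V' hV' d : AddSubgroup (𝒮L.presheaf.obj (op V'))) : Set (𝒮L.presheaf.obj (op V'))) ⊆
        (Ideal.span {resA 𝒮L hle t} : Set (𝒮L.presheaf.obj (op V'))) := by
  have hbij := bijective_eval₂ hj V hV e he.bij
  have hT := hj.2 V hV e
  obtain ⟨a, rfl⟩ := GrPolyOne.exists_eq_mul_pow (𝒮L.deg V hV) (𝒮L.str.app (op V)).hom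
    (𝒮L.str_mem V hV) hT hbij.2 ht
  rw [Proj.basicOpen_mul] at hy
  have hxa : pL (RelProj.emb pL chartL V hV y) ∈ X.basicOpen a :=
    (emb_mem_basicOpen_iff hPL V hV a y).mpr hy.1
  refine ⟨X.basicOpen a, hV.basicOpen a, X.basicOpen_le a, hxa, ?_⟩
  -- structure over `V' = D(a)`
  set V' := X.basicOpen a with hV'def
  have hV' : IsAffineOpen V' := hV.basicOpen a
  have hle : V' ≤ V := X.basicOpen_le a
  have he' : IsGen L V' (rs L hle e) := he.mono hle
  have hbij' := bijective_eval₂ hj V' hV' (rs L hle e) he'.bij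
  have hT' := hj.2 V' hV' (rs L hle e)
  have hTres : jLin j V' (rs L hle e) = resA 𝒮L hle (jLin j V e) := jLin_res j hle e
  have hau : IsUnit (resR hle a) := RingedSpace.isUnit_res_basicOpen _ a
  obtain ⟨a', ha'⟩ := hau.exists_right_inv
  have htres : resA 𝒮L hle ((𝒮L.str.app (op V)).hom a * jLin j V e ^ d) =
      (𝒮L.str.app (op V')).hom (resR hle a) * jLin j V' (rs L hle e) ^ d := by
    rw [map_mul, map_pow, hTres]
    congr 1
    exact str_res 𝒮L.toQCAlg hle a
  intro b hb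
  obtain ⟨c, rfl⟩ := GrPolyOne.exists_eq_mul_pow (𝒮L.deg V' hV') (𝒮L.str.app (op V')).hom
    (𝒮L.str_mem V' hV') hT' hbij'.2 hb
  rw [SetLike.mem_coe, Ideal.mem_span_singleton']
  refine ⟨(𝒮L.str.app (op V')).hom (c * a'), ?_⟩
  erw [htres]
  change (𝒮L.str.app (op V')).hom (c * a') * ((𝒮L.str.app (op V')).hom (resR hle a) *
    jLin j V' (rs L hle e) ^ d) = (𝒮L.str.app (op V')).hom c * jLin j V' (rs L hle e) ^ d
  rw [← mul_assoc, ← map_mul, mul_assoc c, mul_comm a', ha', mul_one]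

include hj in
/-- For `L` invertible: if `t` of degree `d` does not vanish at the chart point `y` over the affine `V`, then the
point below `y` has an affine neighbourhood `V' ⊆ V` over which all sections of degree `d` are multiples of `t`. -/
theorem exists_affine_deg_le_span (hL : PicF.IsInvertible L) (hPL : RelProj.IsRelProj 𝒮L pL chartL)
    (V : X.Opens) (hV : IsAffineOpen V) {d : ℕ}
    {t : 𝒮L.presheaf.obj (op V)} (ht : t ∈ 𝒮L.deg V hV d) (y : Proj (𝒮L.deg V hV))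
    (hy : y ∈ Proj.basicOpen (𝒮L.deg V hV) t) :
    ∃ (V' : X.Opens) (hV' : IsAffineOpen V') (hle : V' ≤ V), pL (RelProj.emb pL chartL V hV y) ∈ V' ∧
      ((𝒮L.deg V' hV' d : AddSubgroup (𝒮L.presheaf.obj (op V'))) : Set (𝒮L.presheaf.obj (op V'))) ⊆
        (Ideal.span {resA 𝒮L hle t} : Set (𝒮L.presheaf.obj (op V'))) := by
  have hxV : pL (RelProj.emb pL chartL V hV y) ∈ V := RelConeProj.emb_mem_preimage V hV y
  obtain ⟨V₀, hV₀, e₀, hxV₀, he₀⟩ := exists_affine_generator hL (pL (RelProj.emb pL chartL V hV y))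
  obtain ⟨V₁, hV₁, hxV₁, hV₁le⟩ := exists_isAffineOpen_mem_and_subset
    (x := pL (RelProj.emb pL chartL V hV y)) (U := V ⊓ V₀) ⟨hxV, hxV₀⟩
  have h1 : V₁ ≤ V := hV₁le.trans inf_le_left
  have h0 : V₁ ≤ V₀ := hV₁le.trans inf_le_right
  have he₁ : IsGen L V₁ (rs L h0 e₀) := he₀.mono h0
  obtain ⟨y₁, hy₁⟩ := RelConeProj.exists_emb_eq (pC := pL) (chartC := chartL) V₁ hV₁
    (RelProj.emb pL chartL V hV y) hxV₁
  have hyy : y = Proj.map (𝒮L.res hV hV₁ h1) (irrelevant_le_map_res 𝒮L hV hV₁ h1) y₁ := by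
    apply RelConeProj.emb_injective (pC := pL) (chartC := chartL) V hV
    rw [← hy₁]
    exact emb_eq_emb_map_res hPL hV hV₁ h1 y₁
  have hy' : y₁ ∈ Proj.basicOpen (𝒮L.deg V₁ hV₁) (resA 𝒮L h1 t) := by
    rw [hyy] at hy
    exact hy
  obtain ⟨V', hV', hle, hx', hsub⟩ := exists_affine_deg_le_span_of_isGen hj hPL V₁ hV₁ _ he₁
    (𝒮L.map_mem hV hV₁ h1 ht) y₁ hy'
  refine ⟨V', hV', hle.trans h1, ?_, ?_⟩
  · rw [← hy₁]; exact hx'
  · rw [resA_resA] at hsub
    exact hsub

end sheaf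

end Groth.Agent.Lib.Helper74.InvSym
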