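import Groth.Agent.Lib.Helper74.TwistNat

/-!
# Native chart system of the twisting sheaves on a relative Proj (helper74)

`twistSys hP n` has `G U = (emb U)_* (GrTwist.twist 𝒮(U) n)` on the nose, so that
`IsGlued (twistSys hP n) L lam ↔ IsRelTwist 𝒮 p chart n L lam` and all generic gluing lemmas of
`RelGlue` apply to `IsRelTwist` data without converting `GrTwist.twist` to `GrMod.tilde`.
-/

set_option autoImplicit false
universe u
open CategoryTheory AlgebraicGeometry TopologicalSpace Opposite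
open scoped HomogeneousIdeal

namespace Groth.Agent.Lib.Helper74.TwistNat

open Groth.Agent.Lib.Lead.Inv Groth.Agent.Lib.Helper74.RelTilde
open Groth.Agent.Lib.Helper74.RelGlue Groth.Agent.Lib.Helper74.ModSec Groth.Agent.Lib.Helper74.QMap
open Groth.Agent.Lib.Helper74.GrModLoc

variable {Y P : Scheme.{u}} {𝒮 : RelProj.QCGrAlg Y} {p : P ⟶ Y}
  {chart : ∀ (U : Y.Opens) (hU : IsAffineOpen U),
    (((p ⁻¹ᵁ U : P.Opens) : Scheme.{u}) ≅ Proj (𝒮.deg U hU))}

variable (p chart) in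
/-- the pushed-forward twisting sheaf of a chart -/
noncomputable abbrev GTw (n : ℤ) (U : Y.Opens) (hU : IsAffineOpen U) : P.Modules :=
  (Scheme.Modules.pushforward (RelProj.emb p chart U hU)).obj (GrTwist.twist (𝒮.deg U hU) n)

variable (p chart) in
/-- identification with the module attached to `𝒮` as a graded module over itself -/
noncomputable def tIso (n : ℤ) (U : Y.Opens) (hU : IsAffineOpen U) :
    GTw p chart n U hU ≅ GT p chart (selfGr 𝒮) n U hU :=
  (Scheme.Modules.pushforward (RelProj.emb p chart U hU)).mapIso (twistIso (𝒮.deg U hU) n)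

theorem tIso_hom_val (n : ℤ) (U : Y.Opens) (hU : IsAffineOpen U) (W : P.Opens)
    (s : Γ(GTw p chart n U hU, W)) (y : (RelProj.emb p chart U hU ⁻¹ᵁ W : (Proj (𝒮.deg U hU)).Opens)) :
    GrMod.val (V := RelProj.emb p chart U hU ⁻¹ᵁ W) ((tIso p chart n U hU).hom.app W s) y =
      GrTwist.val (V := RelProj.emb p chart U hU ⁻¹ᵁ W) s y := rfl

theorem tIso_inv_val (n : ℤ) (U : Y.Opens) (hU : IsAffineOpen U) (W : P.Opens)
    (s : Γ(GT p chart (selfGr 𝒮) n U hU, W))
    (y : (RelProj.emb p chart U hU ⁻¹ᵁ W : (Proj (𝒮.deg U hU)).Opens)) :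
    GrTwist.val (V := RelProj.emb p chart U hU ⁻¹ᵁ W) ((tIso p chart n U hU).inv.app W s) y =
      GrMod.val (V := RelProj.emb p chart U hU ⁻¹ᵁ W) s y := rfl


variable (hP : RelProj.IsRelProj 𝒮 p chart) (n : ℤ)

/-- transition maps of the twisting sheaves -/
noncomputable def cTw {U V : Y.Opens} (hU : IsAffineOpen U) (hV : IsAffineOpen V) (i : V ≤ U) :
    GTw p chart n U hU ⟶ GTw p chart n V hV :=
  (tIso p chart n U hU).hom ≫ cT hP (selfGr 𝒮) n hU hV i ≫ (tIso p chart n V hV).inv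

theorem cTw_app_val {U V : Y.Opens} (hU : IsAffineOpen U) (hV : IsAffineOpen V) (i : V ≤ U)
    (W : P.Opens) (s : Γ(GTw p chart n U hU, W))
    (y : (RelProj.emb p chart V hV ⁻¹ᵁ W : (Proj (𝒮.deg V hV)).Opens)) :
    GrTwist.val (V := RelProj.emb p chart V hV ⁻¹ᵁ W) ((cTw hP n hU hV i).app W s) y =
      GrTwist.locMap (𝒮.res hU hV i) (irrelevant_le_map_res 𝒮 hU hV i) y.1
        (GrTwist.val (V := RelProj.emb p chart U hU ⁻¹ᵁ W) s
          ⟨ProjectiveSpectrum.comap (𝒮.res hU hV i) (irrelevant_le_map_res 𝒮 hU hV i) y.1,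
            show _ ∈ W from (emb_comap hP hU hV i y.1).symm ▸ y.2⟩) := by
  rw [locMap_eq_locModMap]
  unfold cTw
  rw [comp_app_apply, comp_app_apply, tIso_inv_val, cT_app_val, tIso_hom_val]
  exact locModMap_congr _ _ _ _ (fun m => rfl) y.1 _

/-- the chart system of the twisting sheaves `O(n)` -/
noncomputable def twistSys : ChartSys p where
  G := GTw p chart n
  c := fun hU hV i => cTw hP n hU hV i
  c_self := fun U hU => by
    unfold cTw
    rw [cT_self, Category.id_comp, Iso.hom_inv_id]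
  c_comp := fun hU hV hV' i j => by
    unfold cTw
    simp only [Category.assoc, Iso.inv_hom_id_assoc]
    rw [← Category.assoc (cT hP (selfGr 𝒮) n hU hV i), cT_comp]
  supp := fun U hU W W' h hW => by
    have e : RelProj.emb p chart U hU ⁻¹ᵁ W' = RelProj.emb p chart U hU ⁻¹ᵁ W := by
      refine le_antisymm (fun x hx => h hx) (fun x hx => hW ⟨hx, emb_mem U hU x⟩)
    exact rs_bijective_of_eq (GrTwist.twist (𝒮.deg U hU) n) e
  c_bij := fun U hU r W hW => by
    have h1 : Function.Bijective ((tIso p chart n U hU).hom.app W) :=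
      ConcreteCategory.bijective_of_isIso ((tIso p chart n U hU).hom.app W)
    have h2 := cT_bij hP n (isLocalizing_selfGr 𝒮) U hU r W hW
    have h3 : Function.Bijective ((tIso p chart n _ (hU.basicOpen r)).inv.app W) :=
      ConcreteCategory.bijective_of_isIso ((tIso p chart n _ (hU.basicOpen r)).inv.app W)
    have : ((cTw hP n hU (hU.basicOpen r) (Y.basicOpen_le r)).app W : _ → _) =
        (tIso p chart n _ (hU.basicOpen r)).inv.app W ∘
          (cT hP (selfGr 𝒮) n hU (hU.basicOpen r) (Y.basicOpen_le r)).app W ∘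
            (tIso p chart n U hU).hom.app W := by
      funext s
      unfold cTw
      rw [comp_app_apply, comp_app_apply]
      rfl
    rw [this]
    exact h3.comp (h2.comp h1)


theorem isGluedTw_iff (L : P.Modules)
    (lam : ∀ (U : Y.Opens) (hU : IsAffineOpen U), L ⟶ GTw p chart n U hU) :
    IsGlued (twistSys hP n) L lam ↔ RelProj.IsRelTwist 𝒮 p chart n L lam := by
  constructor
  · intro h
    refine ⟨h.bijective, fun U hU r W s y hy hy' => ?_⟩
    have h1 : (lam _ (hU.basicOpen r)).app W s =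
        (cTw hP n hU (hU.basicOpen r) (Y.basicOpen_le r)).app W ((lam U hU).app W s) := by
      rw [← h.compat U hU r]
      rfl
    rw [h1]
    exact cTw_app_val hP n hU (hU.basicOpen r) (Y.basicOpen_le r) W _ ⟨y, hy⟩
  · intro h
    refine ⟨h.bijective, fun U hU r => ?_⟩
    refine hom_ext_sec _ _ fun W s => ?_
    refine sec_ext (𝒮.deg _ (hU.basicOpen r)) n _ _ fun y => ?_
    have hy' : (RelProj.emb p chart U hU).base (ProjectiveSpectrum.comap
        (𝒮.res hU (hU.basicOpen r) (Y.basicOpen_le r)) (𝒮.irrelevant_le_map U hU r) y.1) ∈ W := by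
      have := emb_comap hP hU (hU.basicOpen r) (Y.basicOpen_le r) y.1
      exact this.symm ▸ y.2
    have h2 := h.compat U hU r W s y.1 y.2 hy'
    rw [comp_app_apply]
    refine (cTw_app_val hP n hU (hU.basicOpen r) (Y.basicOpen_le r) W _ y).trans ?_
    exact h2.symm


/-- restriction of a global section of `𝒮` -/
abbrev gres (𝒮 : RelProj.QCGrAlg Y) (f : 𝒮.presheaf.obj (op ⊤)) (U : Y.Opens) :
    𝒮.presheaf.obj (op U) := (𝒮.presheaf.map (homOfLE (le_top : U ≤ ⊤)).op).hom f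

theorem res_gres (f : 𝒮.presheaf.obj (op ⊤)) {U V : Y.Opens} (hU : IsAffineOpen U)
    (hV : IsAffineOpen V) (i : V ≤ U) : 𝒮.res hU hV i (gres 𝒮 f U) = gres 𝒮 f V := by
  change (𝒮.presheaf.map (homOfLE i).op).hom ((𝒮.presheaf.map (homOfLE le_top).op).hom f) = _
  rw [← CommRingCat.comp_apply, ← Functor.map_comp]
  rfl

open Groth.Agent.Lib.Helper74.TwistGen in
theorem powSec_compat {d : ℕ} (f : 𝒮.presheaf.obj (op ⊤))
    (hf : ∀ (U : Y.Opens) (hU : IsAffineOpen U), gres 𝒮 f U ∈ 𝒮.deg U hU d)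
    (Xf : P.Opens)
    (hD : ∀ (U : Y.Opens) (hU : IsAffineOpen U),
      ∀ y ∈ RelProj.emb p chart U hU ⁻¹ᵁ Xf, gres 𝒮 f U ∉ y.asHomogeneousIdeal)
    (k m : ℤ) (hm : m = k * d)
    {U V : Y.Opens} (hU : IsAffineOpen U) (hV : IsAffineOpen V) (i : V ≤ U) :
    (cTw hP m hU hV i).app Xf
        (powSec (𝒮.deg U hU) (gres 𝒮 f U) (hf U hU) k m hm _ (hD U hU)) =
      powSec (𝒮.deg V hV) (gres 𝒮 f V) (hf V hV) k m hm _ (hD V hV) := by
  refine sec_ext (𝒮.deg V hV) m _ _ fun y => ?_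
  rw [cTw_app_val, powSec_val, powSec_val, GrTwist.locMap_mk]
  congr 1
  · rw [map_pow, res_gres]
  · refine Subtype.ext ?_
    change 𝒮.res hU hV i (gres 𝒮 f U ^ (-k).toNat) = _
    rw [map_pow, res_gres]

include hP in
open Groth.Agent.Lib.Helper74.TwistGen in
/-- the global generator `f ^ k` of `O_P(k d)` over `X_f` -/
theorem exists_isGen_basicOpen {d : ℕ}
    (f : 𝒮.presheaf.obj (op ⊤))
    (hf : ∀ (U : Y.Opens) (hU : IsAffineOpen U), gres 𝒮 f U ∈ 𝒮.deg U hU d)
    (Xf : P.Opens)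
    (hXf : ∀ (U : Y.Opens) (hU : IsAffineOpen U),
      RelProj.emb p chart U hU ⁻¹ᵁ Xf = Proj.basicOpen (𝒮.deg U hU) (gres 𝒮 f U))
    (k m : ℤ) (hm : m = k * d) {L : P.Modules}
    {lam : ∀ (U : Y.Opens) (hU : IsAffineOpen U), L ⟶ GTw p chart m U hU}
    (hL : RelProj.IsRelTwist 𝒮 p chart m L lam) :
    ∃ e : Γ(L, Xf), IsGen L Xf e ∧ ∀ (U : Y.Opens) (hU : IsAffineOpen U)
      (y : (RelProj.emb p chart U hU ⁻¹ᵁ Xf : (Proj (𝒮.deg U hU)).Opens)),
        ∃ hy : gres 𝒮 f U ^ (-k).toNat ∈ y.1.asHomogeneousIdeal.toIdeal.primeCompl,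
        GrTwist.val (V := RelProj.emb p chart U hU ⁻¹ᵁ Xf) ((lam U hU).app Xf e) y =
          Localization.mk (gres 𝒮 f U ^ k.toNat) ⟨gres 𝒮 f U ^ (-k).toNat, hy⟩ := by
  have hD : ∀ (U : Y.Opens) (hU : IsAffineOpen U),
      ∀ y ∈ RelProj.emb p chart U hU ⁻¹ᵁ Xf, gres 𝒮 f U ∉ y.asHomogeneousIdeal := by
    intro U hU y hy
    rw [hXf U hU] at hy
    exact (Proj.mem_basicOpen _ _ y).1 hy
  have hG := (isGluedTw_iff hP m L lam).2 hL
  obtain ⟨e, he, -⟩ := hG.existsUnique_section Xf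
    (fun U hU => powSec (𝒮.deg U hU) (gres 𝒮 f U) (hf U hU) k m hm _ (hD U hU))
    (powSec_compat hP f hf Xf hD k m hm)
  have he' : ∀ (U : Y.Opens) (hU : IsAffineOpen U), (lam U hU).app Xf e =
      powSec (𝒮.deg U hU) (gres 𝒮 f U) (hf U hU) k m hm _ (hD U hU) := he
  refine ⟨e, ?_, fun U hU y => ⟨fun h => hD U hU y.1 y.2 (y.1.isPrime.mem_of_pow_mem _ h), ?_⟩⟩
  · refine isGen_of_cover L e fun x hx => ?_
    obtain ⟨U, hU, hxU⟩ := exists_affine_mem p x
    refine ⟨Xf ⊓ p ⁻¹ᵁ U, inf_le_left, ⟨hx, hxU⟩, ?_⟩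
    refine isGen_of_lam hL U hU _ inf_le_right _ ?_
    rw [hom_res, he' U hU]
    exact (isGen_powSec (𝒮.deg U hU) (gres 𝒮 f U) (hf U hU) k m hm _ (hD U hU)).res
      ((RelProj.emb p chart U hU).preimage_mono inf_le_left)
  · rw [he' U hU]
    rfl

end Groth.Agent.Lib.Helper74.TwistNat
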