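import Groth.Agent.Lib.Helper74.RelProjMap2
import Groth.Agent.Lib.Helper5.ProjClosed

set_option autoImplicit false
universe u
open CategoryTheory CategoryTheory.Limits AlgebraicGeometry TopologicalSpace Opposite
open scoped HomogeneousIdeal
open HomogeneousLocalization

namespace Groth.Agent.Lib.Helper74.RelProjLib

section alg

variable {A B σ τ : Type u} [CommRing A] [SetLike σ A] [AddSubgroupClass σ A]
  [CommRing B] [SetLike τ B] [AddSubgroupClass τ B]
  {𝒜 : ℕ → σ} {ℬ : ℕ → τ} [GradedRing 𝒜] [GradedRing ℬ]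

theorem away_map_surjective_of_pos (φ : 𝒜 →+*ᵍ ℬ)
    (hsurj : ∀ n, 0 < n → ∀ b ∈ ℬ n, ∃ a ∈ 𝒜 n, φ a = b)
    {d : ℕ} (hd : 0 < d) {s : A} (hs : s ∈ 𝒜 d) : Function.Surjective (Away.map φ s) := by
  intro y
  obtain ⟨n, b, hb, rfl⟩ := Away.mk_surjective ℬ (φ.map_mem hs) y
  have hb' : b * φ s ∈ ℬ ((n + 1) • d) := by
    have := SetLike.mul_mem_graded hb (φ.map_mem hs)
    rw [add_smul, one_smul]
    exact this
  have hposm : 0 < (n + 1) • d := by
    simp only [smul_eq_mul]
    nlinarith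
  obtain ⟨a, ha, hfa⟩ := hsurj _ hposm _ hb'
  refine ⟨Away.mk 𝒜 hs (n + 1) a ha, ?_⟩
  rw [Away.map_mk]
  apply HomogeneousLocalization.val_injective
  rw [Away.val_mk, Away.val_mk, Localization.mk_eq_mk_iff, Localization.r_iff_exists]
  refine ⟨1, ?_⟩
  simp only [OneMemClass.coe_one, one_mul]
  rw [hfa, pow_succ]
  change φ s ^ n * (b * φ s) = φ s ^ n * φ s * b
  ring

theorem isClosedImmersion_map_of_pos (φ : 𝒜 →+*ᵍ ℬ)
    (hsurj : ∀ n, 0 < n → ∀ b ∈ ℬ n, ∃ a ∈ 𝒜 n, φ a = b)
    (hφ : ℬ₊ ≤ 𝒜₊.map φ) : IsClosedImmersion (Proj.map φ hφ) := by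
  refine IsZariskiLocalAtTarget.of_openCover (P := @IsClosedImmersion)
    (Proj.affineOpenCover 𝒜).openCover ?_
  intro (i : Σ i : PNat, 𝒜 i)
  have hd : 0 < (i.1 : ℕ) := i.1.2
  have hs : (i.2 : A) ∈ 𝒜 i.1 := i.2.2
  have hpb := (Groth.Agent.Lib.Helper5.isPullback_awayι_map φ hφ hd hs).flip
  have hcl : IsClosedImmersion (Spec.map (CommRingCat.ofHom (Away.map φ (i.2 : A)))) :=
    IsClosedImmersion.spec_of_surjective _ (away_map_surjective_of_pos φ hsurj hd hs)
  have key : pullback.snd (Proj.map φ hφ) (Proj.awayι 𝒜 (i.2 : A) hs hd) =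
      hpb.isoPullback.inv ≫ Spec.map (CommRingCat.ofHom (Away.map φ (i.2 : A))) := by
    rw [Iso.eq_inv_comp]
    exact hpb.isoPullback_hom_snd
  change IsClosedImmersion (pullback.snd (Proj.map φ hφ) (Proj.awayι 𝒜 (i.2 : A) hs hd))
  rw [key]
  infer_instance

/-- If a graded ring is generated by its degree-0 and degree-1 parts, then every multiplicatively
closed additive subgroup containing the degree-1 part contains all positive-degree parts. -/
theorem pos_le_of_genDegOne (hgen : Subring.closure ((𝒜 0 : Set A) ∪ (𝒜 1 : Set A)) = ⊤)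
    (S : Subring A) (h1 : ∀ x ∈ 𝒜 1, x ∈ S) (n : ℕ) (hn : 0 < n) (x : A) (hx : x ∈ 𝒜 n) :
    x ∈ S := by
  classical
  -- monomials
  have hmon : ∀ m ∈ Submonoid.closure ((𝒜 0 : Set A) ∪ (𝒜 1 : Set A)),
      ∃ k, m ∈ 𝒜 k ∧ (0 < k → ∀ a ∈ 𝒜 0, a * m ∈ S) := by
    intro m hm
    induction hm using Submonoid.closure_induction with
    | mem m hm =>
      rcases hm with hm | hm
      · exact ⟨0, hm, fun h => absurd h (lt_irrefl 0)⟩
      · refine ⟨1, hm, fun _ a ha => h1 _ ?_⟩
        have := SetLike.mul_mem_graded ha hm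
        simpa using this
    | one => exact ⟨0, SetLike.GradedOne.one_mem, fun h => absurd h (lt_irrefl 0)⟩
    | mul m m' _ _ ih ih' =>
      obtain ⟨k, hk, hkS⟩ := ih
      obtain ⟨k', hk', hkS'⟩ := ih'
      refine ⟨k + k', SetLike.mul_mem_graded hk hk', fun hpos a ha => ?_⟩
      rcases Nat.eq_zero_or_pos k with rfl | hkpos
      · have hk'pos : 0 < k' := by omega
        have ham : a * m ∈ 𝒜 0 := by
          have := SetLike.mul_mem_graded ha hk
          simpa using this
        have := hkS' hk'pos (a * m) ham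
        rwa [mul_assoc] at this
      · rcases Nat.eq_zero_or_pos k' with rfl | hk'pos
        · have ham : a * m' ∈ 𝒜 0 := by
            have := SetLike.mul_mem_graded ha hk'
            simpa using this
          have := hkS hkpos (a * m') ham
          have e : a * (m * m') = a * m' * m := by ring
          rwa [e]
        · have h1' := hkS hkpos a ha
          have h2' := hkS' hk'pos 1 SetLike.GradedOne.one_mem
          rw [one_mul] at h2'
          have := S.mul_mem h1' h2'
          rwa [mul_assoc] at this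
  have hall : ∀ y : A, ((DirectSum.decompose 𝒜 y n : 𝒜 n) : A) ∈ S := by
    intro y
    have hy : y ∈ Subring.closure ((𝒜 0 : Set A) ∪ (𝒜 1 : Set A)) := by rw [hgen]; trivial
    rw [Subring.mem_closure_iff] at hy
    induction hy using AddSubgroup.closure_induction with
    | mem m hm =>
      obtain ⟨k, hk, hkS⟩ := hmon m hm
      by_cases hkn : k = n
      · subst hkn
        rw [DirectSum.decompose_of_mem_same 𝒜 hk]
        have := hkS hn 1 SetLike.GradedOne.one_mem
        rwa [one_mul] at this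
      · rw [DirectSum.decompose_of_mem_ne 𝒜 hk hkn]
        exact S.zero_mem
    | zero =>
      rw [DirectSum.decompose_zero]
      exact S.zero_mem
    | add y z _ _ ihy ihz =>
      rw [DirectSum.decompose_add]
      exact S.add_mem ihy ihz
    | neg y _ ihy =>
      rw [DirectSum.decompose_neg]
      exact S.neg_mem ihy
  have := hall x
  rwa [DirectSum.decompose_of_mem_same 𝒜 hx] at this

/-- a graded hom whose range contains the degree-one part of a ring generated in degrees 0, 1 is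
surjective in positive degrees -/
theorem surj_pos_of_genDegOne (φ : 𝒜 →+*ᵍ ℬ)
    (hgen : Subring.closure ((ℬ 0 : Set B) ∪ (ℬ 1 : Set B)) = ⊤)
    (h1 : ∀ b ∈ ℬ 1, ∃ a, φ a = b) :
    ∀ n, 0 < n → ∀ b ∈ ℬ n, ∃ a ∈ 𝒜 n, φ a = b := by
  intro n hn b hb
  have hmem : b ∈ φ.toRingHom.range :=
    pos_le_of_genDegOne hgen φ.toRingHom.range
      (fun x hx => by obtain ⟨a, ha⟩ := h1 x hx; exact ⟨a, ha⟩) n hn b hb
  obtain ⟨a, ha⟩ := hmem
  refine ⟨DirectSum.decompose 𝒜 a n, SetLike.coe_mem _, ?_⟩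
  have ha' : φ a = b := ha
  rw [GradedRingHom.map_directSumDecompose 𝒜 ℬ φ, ha', DirectSum.decompose_of_mem_same ℬ hb]

end alg

end Groth.Agent.Lib.Helper74.RelProjLib
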