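import Groth.Agent.Lib.Helper60.TildeQCoh
import Groth.Agent.Lib.Lead.Inv3
import Groth.Agent.Lib.Helper74.RelTildeQC
import Groth.Agent.Lib.Helper74.RelProjClosed

/-!
# Generators of the twisting sheaves on `Proj` (helper74)

* `oFrac`: the section of the structure sheaf of `Proj` given by a degree-zero fraction;
* `isGen_fracSec`: a fraction `g / h` of nowhere vanishing homogeneous elements generates `O(n)`;
* `isGen_of_pushforward`: generators transport along chartwise identifications;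
* `exists_deg_one_notMem`: in a ring generated in degrees `0, 1` every point of `Proj` avoids
  some element of degree one.
-/

set_option autoImplicit false
universe u
open CategoryTheory AlgebraicGeometry TopologicalSpace Opposite
open scoped HomogeneousIdeal

namespace Groth.Agent.Lib.Helper74.TwistGen

section A


open Groth.Agent.Lib.Helper60.TildeSec Groth.Agent.Lib.Lead.Inv

variable {A σ : Type u} [CommRing A] [SetLike σ A] [AddSubgroupClass σ A] (𝒜 : ℕ → σ) [GradedRing 𝒜]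

/-- the section of the structure sheaf of `Proj` given by a fraction of degree zero -/
def oFrac {k : ℕ} (a : A) (ha : a ∈ 𝒜 k) (b : A) (hb : b ∈ 𝒜 k) (V : (Proj 𝒜).Opens)
    (hV : ∀ y ∈ V, b ∉ y.asHomogeneousIdeal) : Γ(Proj 𝒜, V) :=
  show OSec 𝒜 V from
  ⟨fun y => HomogeneousLocalization.mk ⟨k, ⟨a, ha⟩, ⟨b, hb⟩, hV y.1 y.2⟩,
    fun y => ⟨V, y.2, 𝟙 _, k, ⟨a, ha⟩, ⟨b, hb⟩, fun z => hV z.1 z.2, fun _ => rfl⟩⟩

theorem oFrac_val {k : ℕ} (a : A) (ha : a ∈ 𝒜 k) (b : A) (hb : b ∈ 𝒜 k) (V : (Proj 𝒜).Opens)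
    (hV : ∀ y ∈ V, b ∉ y.asHomogeneousIdeal) (y : V) :
    ((show OSec 𝒜 V from oFrac 𝒜 a ha b hb V hV).1 y).val =
      Localization.mk a ⟨b, hV y.1 y.2⟩ := rfl

theorem osec_ext {V : (Proj 𝒜).Opens} (r r' : Γ(Proj 𝒜, V))
    (h : ∀ y : V, ((show OSec 𝒜 V from r).1 y).val = ((show OSec 𝒜 V from r').1 y).val) :
    r = r' := by
  change (show OSec 𝒜 V from r) = (show OSec 𝒜 V from r')
  apply Subtype.ext
  funext y
  exact HomogeneousLocalization.val_injective _ (h y)


theorem zero_osec_val {V : (Proj 𝒜).Opens} (y : V) :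
    ((show OSec 𝒜 V from (0 : Γ(Proj 𝒜, V))).1 y).val = 0 := by
  rw [show ((show OSec 𝒜 V from (0 : Γ(Proj 𝒜, V))).1 y) = 0 from rfl,
    HomogeneousLocalization.val_zero]

/-- a fraction `g / h` with `g`, `h` nowhere vanishing on `W` generates `O(n)` over `W` -/
theorem isGen_fracSec {n : ℤ} {i j : ℕ} (g : A) (hg : g ∈ 𝒜 i) (h : A) (hh : h ∈ 𝒜 j)
    (hij : (i : ℤ) = j + n) (W : (Proj 𝒜).Opens) (hW : ∀ y ∈ W, h ∉ y.asHomogeneousIdeal)
    (hW' : ∀ y ∈ W, g ∉ y.asHomogeneousIdeal) :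
    IsGen (GrMod.tilde 𝒜 𝒜 n) W (fracSec 𝒜 𝒜 g hg h hh hij W hW) := by
  have hunit : ∀ y (hy : y ∈ W), IsUnit (Localization.mk g
      (⟨h, hW y hy⟩ : y.asHomogeneousIdeal.toIdeal.primeCompl)) := by
    intro y hy
    rw [Localization.mk_eq_mk', IsLocalization.AtPrime.isUnit_mk'_iff
      (Localization.AtPrime y.asHomogeneousIdeal.toIdeal) y.asHomogeneousIdeal.toIdeal]
    exact hW' y hy
  refine isGen_of_local _ _ ?_ ?_
  · intro W' hW'' r hr
    refine osec_ext 𝒜 _ _ fun y => ?_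
    have h1 := congrArg (fun s => GrMod.val s y) hr
    simp only at h1
    rw [smul_val, res_val, fracSec_val] at h1
    have h2 : ((show OSec 𝒜 W' from r).1 y).val * Localization.mk g
        (⟨h, hW y.1 (hW'' y.2)⟩ : y.1.asHomogeneousIdeal.toIdeal.primeCompl) = 0 := h1
    rw [zero_osec_val]
    exact (hunit y.1 (hW'' y.2)).mul_left_eq_zero.mp h2
  · intro W' hW'' σ x hx
    obtain ⟨V, hxV, iV, i', j', ⟨a, ha⟩, ⟨s, hs⟩, s_nin, hdeg, hval⟩ :=
      (show GrMod.sect 𝒜 𝒜 n (op W') from σ).2 ⟨x, hx⟩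
    have hVW : V ≤ W' := iV.le
    have hnin : ∀ y ∈ V, s * g ∉ y.asHomogeneousIdeal := by
      intro y hy hmem
      rcases y.isPrime.mem_or_mem hmem with h3 | h3
      · exact s_nin ⟨y, hy⟩ h3
      · exact hW' y (hW'' (hVW hy)) h3
    rcases hdeg with hdeg | hzero
    · have hk : i' + j = j' + i := by omega
      refine ⟨V, hVW, hxV, oFrac 𝒜 (a * h) (hk ▸ SetLike.mul_mem_graded ha hh) (s * g)
        (SetLike.mul_mem_graded hs hg) V hnin, ?_⟩
      refine sec_ext 𝒜 𝒜 n _ _ fun y => ?_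
      rw [smul_val, oFrac_val, res_val, res_val, fracSec_val]
      have h4 := hval y
      change GrMod.val σ ⟨y.1, hVW y.2⟩ = _ at h4
      rw [h4]
      change Localization.mk _ _ * Localization.mk _ _ = Localization.mk _ _
      rw [Localization.mk_mul, Localization.mk_eq_mk_iff, Localization.r_iff_exists]
      exact ⟨1, by simp only [OneMemClass.coe_one, one_mul, Submonoid.coe_mul]; ring⟩
    · refine ⟨V, hVW, hxV, 0, ?_⟩
      rw [zero_smul]
      refine sec_ext 𝒜 𝒜 n _ _ fun y => ?_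
      rw [res_val]
      have h4 := hval y
      change GrMod.val σ ⟨y.1, hVW y.2⟩ = _ at h4
      rw [h4]
      change 0 = LocalizedModule.mk a _
      have : a = 0 := hzero
      rw [this, LocalizedModule.zero_mk]


end A

section B


open Groth.Agent.Lib.Lead.Inv Groth.Agent.Lib.Helper74.RelTilde

theorem pushforward_smul {X Z : Scheme.{u}} (f : X ⟶ Z) (M : X.Modules) (W : Z.Opens)
    (r : Γ(Z, W)) (s : Γ((Scheme.Modules.pushforward f).obj M, W)) :
    r • s = (show Γ(M, f ⁻¹ᵁ W) from ((f.app W).hom r • (show Γ(M, f ⁻¹ᵁ W) from s))) := rfl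

/-- generators transport along a chartwise identification -/
theorem isGen_of_pushforward {X Z : Scheme.{u}} (f : X ⟶ Z) [IsOpenImmersion f] (M : X.Modules)
    (L : Z.Modules) (lam : L ⟶ (Scheme.Modules.pushforward f).obj M)
    (hlam : ∀ W : Z.Opens, W ≤ f.opensRange → Function.Bijective (lam.app W))
    (W : Z.Opens) (hW : W ≤ f.opensRange) (e : Γ(L, W))
    (he : IsGen M (f ⁻¹ᵁ W) (lam.app W e)) : IsGen L W e := by
  intro W' hW'
  have hiso : IsIso (f.app W') := Scheme.Hom.isIso_app f W' (hW'.trans hW)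
  have hρ : Function.Bijective (f.app W').hom :=
    ConcreteCategory.bijective_of_isIso (f.app W')
  have h1 := he (f ⁻¹ᵁ W') (f.preimage_mono hW')
  have hl := hlam W' (hW'.trans hW)
  have key : (lam.app W') ∘ (fun r : Γ(Z, W') => r • L.presheaf.map (homOfLE hW').op e) =
      (fun r' : Γ(X, f ⁻¹ᵁ W') => r' • M.presheaf.map (homOfLE (f.preimage_mono hW')).op
        (lam.app W e)) ∘ (f.app W').hom := by
    funext r
    change lam.app W' (r • L.presheaf.map (homOfLE hW').op e) = _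
    rw [Scheme.Modules.Hom.app_smul, hom_res, pushforward_smul]
    rfl
  have h2 : Function.Bijective ((lam.app W') ∘
      (fun r : Γ(Z, W') => r • L.presheaf.map (homOfLE hW').op e)) := by
    rw [key]
    exact h1.comp hρ
  exact (Function.Bijective.of_comp_iff' hl _).mp h2


end B

section C


variable {A σ : Type u} [CommRing A] [SetLike σ A] [AddSubgroupClass σ A] {𝒜 : ℕ → σ} [GradedRing 𝒜]

/-- the subring `𝒜₀ + I` -/
def zeroAddIdeal (𝒜 : ℕ → σ) [GradedRing 𝒜] (I : Ideal A) : Subring A where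
  carrier := {a | ∃ c ∈ 𝒜 0, a - c ∈ I}
  mul_mem' := by
    rintro a b ⟨c, hc, hac⟩ ⟨d, hd, hbd⟩
    refine ⟨c * d, by simpa using SetLike.mul_mem_graded hc hd, ?_⟩
    have : a * b - c * d = (a - c) * b + c * (b - d) := by ring
    rw [this]
    exact add_mem (Ideal.mul_mem_right _ _ hac) (Ideal.mul_mem_left _ _ hbd)
  one_mem' := ⟨1, SetLike.GradedOne.one_mem, by simp⟩
  add_mem' := by
    rintro a b ⟨c, hc, hac⟩ ⟨d, hd, hbd⟩
    refine ⟨c + d, add_mem hc hd, ?_⟩
    have : a + b - (c + d) = (a - c) + (b - d) := by ring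
    rw [this]
    exact add_mem hac hbd
  zero_mem' := ⟨0, zero_mem _, by simp⟩
  neg_mem' := by
    rintro a ⟨c, hc, hac⟩
    refine ⟨-c, neg_mem hc, ?_⟩
    have : -a - -c = -(a - c) := by ring
    rw [this]
    exact neg_mem hac

theorem exists_deg_one_notMem (hgen : Subring.closure ((𝒜 0 : Set A) ∪ (𝒜 1 : Set A)) = ⊤)
    (y : ProjectiveSpectrum 𝒜) : ∃ f ∈ 𝒜 1, f ∉ y.asHomogeneousIdeal := by
  classical
  by_contra hcon
  push Not at hcon
  apply y.not_irrelevant_le
  rw [HomogeneousIdeal.irrelevant_le]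
  intro i hi x hx
  have hxS := Groth.Agent.Lib.Helper74.RelProjLib.pos_le_of_genDegOne hgen
    (zeroAddIdeal 𝒜 y.asHomogeneousIdeal.toIdeal)
    (fun f hf => ⟨0, zero_mem _, by simpa using hcon f hf⟩) i hi x hx
  obtain ⟨c, hc, hxc⟩ := hxS
  have h1 := y.asHomogeneousIdeal.isHomogeneous i hxc
  rw [DirectSum.decompose_sub, DirectSum.sub_apply, AddSubgroupClass.coe_sub,
    DirectSum.decompose_of_mem_same 𝒜 hx,
    DirectSum.decompose_of_mem_ne 𝒜 hc (ne_of_lt hi), sub_zero] at h1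
  exact h1


end C

end Groth.Agent.Lib.Helper74.TwistGen
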