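import Groth.Agent.Lib.Helper74.RelProjLib

set_option autoImplicit false
universe u
open CategoryTheory CategoryTheory.Limits AlgebraicGeometry TopologicalSpace Opposite
open scoped HomogeneousIdeal
open HomogeneousLocalization

namespace Groth.Agent.Lib.Helper74.RelProjLib

section map

variable {A B σ τ : Type u} [CommRing A] [SetLike σ A] [AddSubgroupClass σ A]
  [CommRing B] [SetLike τ B] [AddSubgroupClass τ B]
  {𝒜 : ℕ → σ} {ℬ : ℕ → τ} [GradedRing 𝒜] [GradedRing ℬ]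
  (f : 𝒜 →+*ᵍ ℬ) (hf : ℬ₊ ≤ 𝒜₊.map f)

theorem awayMap_comp_fromZero (s : A) :
    (Away.map f s).comp (fromZeroRingHom 𝒜 (Submonoid.powers s)) =
      (fromZeroRingHom ℬ (Submonoid.powers (f s))).comp f.gradedZeroRingHom := by
  ext a
  simp only [RingHom.comp_apply, fromZeroRingHom, RingHom.coe_mk, MonoidHom.coe_mk, OneHom.coe_mk,
    Away.map, HomogeneousLocalization.map_mk, HomogeneousLocalization.val_mk]
  congr 1
  ext
  simp

set_option backward.isDefEq.respectTransparency false in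
theorem map_toSpecZero :
    Proj.map f hf ≫ Proj.toSpecZero 𝒜 =
      Proj.toSpecZero ℬ ≫ Spec.map (CommRingCat.ofHom f.gradedZeroRingHom) := by
  refine (Proj.mapAffineOpenCover f hf).openCover.hom_ext _ _ fun (s : Σ i : ℕ+, 𝒜 i) => ?_
  simp only [Scheme.AffineOpenCover.openCover_f, Proj.mapAffineOpenCover_f,
    Proj.awayι_comp_map_assoc f hf s.1.2 _ s.2.2, Proj.awayι_toSpecZero,
    Proj.awayι_toSpecZero_assoc, ← Spec.map_comp, ← CommRingCat.ofHom_comp,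
    awayMap_comp_fromZero]

end map

section rel

variable {Y PA PB : Scheme.{u}} {𝒜 ℬ : RelProj.QCGrAlg Y}
    (φ : 𝒜.toQCAlg ⟶ ℬ.toQCAlg) (hφ : RelProj.IsGradedHom φ)
    (hirr : ∀ (U : Y.Opens) (hU : IsAffineOpen U),
      (ℬ.deg U hU)₊ ≤ ((𝒜.deg U hU)₊).map (RelProj.gradedHomAt φ hφ U hU))
    {pA : PA ⟶ Y} {pB : PB ⟶ Y}
    {chartA : ∀ (U : Y.Opens) (hU : IsAffineOpen U),
      (((pA ⁻¹ᵁ U : PA.Opens) : Scheme.{u}) ≅ Proj (𝒜.deg U hU))}
    {chartB : ∀ (U : Y.Opens) (hU : IsAffineOpen U),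
      (((pB ⁻¹ᵁ U : PB.Opens) : Scheme.{u}) ≅ Proj (ℬ.deg U hU))}

theorem strZero_comp_gradedZero (U : Y.Opens) (hU : IsAffineOpen U) :
    𝒜.strZero U hU ≫ CommRingCat.ofHom (RelProj.gradedHomAt φ hφ U hU).gradedZeroRingHom =
      ℬ.strZero U hU := by
  ext r
  have := congrArg (fun ψ => (ψ.app (op U)).hom r) φ.comm
  exact this

theorem relProjMap_comp (hA : RelProj.IsRelProj 𝒜 pA chartA) (hB : RelProj.IsRelProj ℬ pB chartB)
    (h : PB ⟶ PA) (hh : RelProj.IsRelProjMap φ hφ hirr chartA chartB h) : h ≫ pA = pB := by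
  have hcov : IsOpenCover (fun U : Y.affineOpens => pB ⁻¹ᵁ U.1) := iSup_preimage_eq_top pB
  refine (PB.openCoverOfIsOpenCover _ hcov).hom_ext _ _ fun (U : Y.affineOpens) => ?_
  change (pB ⁻¹ᵁ U.1).ι ≫ h ≫ pA = (pB ⁻¹ᵁ U.1).ι ≫ pB
  rw [← hB.chart_over U.1 U.2, reassoc_of% (hh U.1 U.2), ← hA.chart_over U.1 U.2,
    Iso.inv_hom_id_assoc, reassoc_of% (map_toSpecZero (RelProj.gradedHomAt φ hφ U.1 U.2)
      (hirr U.1 U.2)), ← Spec.map_comp_assoc, strZero_comp_gradedZero]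

end rel

end Groth.Agent.Lib.Helper74.RelProjLib
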