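import Groth.Agent.Lib.Helper74.QMapPts

set_option autoImplicit false
universe u
open CategoryTheory CategoryTheory.Limits AlgebraicGeometry TopologicalSpace Opposite
open scoped HomogeneousIdeal
open HomogeneousLocalization

namespace Groth.Agent.Lib.Helper74.QMap

open Groth.Agent.Lib.Helper74.RelProjLib

section cover

variable {Y P : Scheme.{u}} {𝒮 : RelProj.QCGrAlg Y} {p : P ⟶ Y}
  {chart : ∀ (U : Y.Opens) (hU : IsAffineOpen U),
    (((p ⁻¹ᵁ U : P.Opens) : Scheme.{u}) ≅ Proj (𝒮.deg U hU))}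

theorem exists_pos_homog_mem_basicOpen {A σ : Type u} [CommRing A] [SetLike σ A]
    [AddSubgroupClass σ A] {𝒜 : ℕ → σ} [GradedRing 𝒜] (y : Proj 𝒜) :
    ∃ d, 0 < d ∧ ∃ f ∈ 𝒜 d, y ∈ Proj.basicOpen 𝒜 f := by
  obtain ⟨f, hf, hfy⟩ := Set.not_subset.mp y.not_irrelevant_le
  obtain ⟨k, hk, f', hf', hf'y⟩ :=
    RelConeProj.exists_pos_homog_not_mem y.asHomogeneousIdeal.toIdeal hf hfy
  exact ⟨k, hk, f', hf', hf'y⟩

/-- the standard charts over a given affine open cover its preimage -/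
theorem exists_stdChart_mem_of_mem (U : Y.Opens) (hU : IsAffineOpen U) (x : P)
    (hx : x ∈ p ⁻¹ᵁ U) :
    ∃ (d : ℕ) (hd : 0 < d) (f : 𝒮.presheaf.obj (op U)) (hf : f ∈ 𝒮.deg U hU d),
      x ∈ Set.range (stdChart p chart U hU hd f hf) := by
  obtain ⟨y, rfl⟩ := RelConeProj.exists_emb_eq (pC := p) (chartC := chart) U hU x hx
  obtain ⟨d, hd, f, hf, hy⟩ := exists_pos_homog_mem_basicOpen y
  exact ⟨d, hd, f, hf, (emb_mem_range_stdChart_self_iff U hU hd f hf y).mpr hy⟩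

theorem exists_stdChart_mem (x : P) :
    ∃ (U : Y.Opens) (hU : IsAffineOpen U) (d : ℕ) (hd : 0 < d) (f : 𝒮.presheaf.obj (op U))
      (hf : f ∈ 𝒮.deg U hU d), x ∈ Set.range (stdChart p chart U hU hd f hf) := by
  obtain ⟨U, hxU⟩ := TopologicalSpace.Opens.mem_iSup.mp
    ((iSup_affineOpens_eq_top Y).ge (Set.mem_univ (p x)))
  obtain ⟨d, hd, f, hf, h⟩ := exists_stdChart_mem_of_mem (chart := chart) U.1 U.2 x hxU
  exact ⟨U.1, U.2, d, hd, f, hf, h⟩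

theorem range_stdChart_subset (U : Y.Opens) (hU : IsAffineOpen U) {d : ℕ} (hd : 0 < d)
    (f : 𝒮.presheaf.obj (op U)) (hf : f ∈ 𝒮.deg U hU d) {x : P}
    (hx : x ∈ Set.range (stdChart p chart U hU hd f hf)) : x ∈ p ⁻¹ᵁ U := by
  rw [range_stdChart] at hx
  obtain ⟨y, -, rfl⟩ := hx
  exact RelConeProj.emb_mem_preimage U hU y

end cover

section pre

variable {Y Y' : Scheme.{u}} {g : Y' ⟶ Y} {𝒮 : RelProj.QCGrAlg Y} {𝒮' : RelProj.QCGrAlg Y'}
  (u : RelProj.QGrHom g 𝒮 𝒮')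
  {P P' : Scheme.{u}} {p : P ⟶ Y}
  {chart : ∀ (U : Y.Opens) (hU : IsAffineOpen U),
    (((p ⁻¹ᵁ U : P.Opens) : Scheme.{u}) ≅ Proj (𝒮.deg U hU))}
  {p' : P' ⟶ Y'}
  {chart' : ∀ (U' : Y'.Opens) (hU' : IsAffineOpen U'),
    (((p' ⁻¹ᵁ U' : P'.Opens) : Scheme.{u}) ≅ Proj (𝒮'.deg U' hU'))}

/-- a point of `G(u)` lies in the standard chart `(U, U', f)` iff it lies over `U'` and is
mapped into the standard open `D₊(f)` over `U`. -/
theorem mem_range_chartLift_iff (hP' : RelProj.IsRelProj 𝒮' p' chart')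
    (Φ : ((RelProj.domQ u p' chart' : P'.Opens) : Scheme.{u}) ⟶ P)
    (hΦ : RelProj.IsProjQMapOn u p chart p' chart' (RelProj.domQ u p' chart') Φ)
    (i : ChartIdx g 𝒮) (w : ((RelProj.domQ u p' chart' : P'.Opens) : Scheme.{u})) :
    w ∈ Set.range (chartLift (u := u) (p' := p') (chart' := chart') i) ↔
      w.1 ∈ p' ⁻¹ᵁ i.U' ∧ Φ w ∈ Set.range (stdChart p chart i.U i.hU i.hd i.f i.hf) := by
  constructor
  · rintro ⟨ξ, rfl⟩
    have h1 : (RelProj.domQ u p' chart').ι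
        (chartLift (u := u) (p' := p') (chart' := chart') i ξ) = chartEmb u p' chart' i ξ := by
      rw [← Scheme.Hom.comp_apply, chartLift_ι]
    have h2 : Φ (chartLift (u := u) (p' := p') (chart' := chart') i ξ) =
        chartMap u p chart i ξ := by
      rw [← Scheme.Hom.comp_apply, (isProjQMapOn_iff u p chart p' chart' _ Φ).mp hΦ i _]
    refine ⟨?_, ?_⟩
    · change (RelProj.domQ u p' chart').ι _ ∈ _
      rw [h1]
      exact mem_preimage_of_mem_range_chartEmb i ⟨ξ, rfl⟩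
    · rw [h2, chartMap_eq]
      exact ⟨_, rfl⟩
  · rintro ⟨h1, h2⟩
    obtain ⟨y, hy⟩ := RelConeProj.exists_emb_eq (pC := p') (chartC := chart') i.U' i.hU' w.1 h1
    have hw : w = ⟨RelProj.emb p' chart' i.U' i.hU' y, hy ▸ w.2⟩ := Subtype.ext hy.symm
    rw [hw] at h2
    rw [qmap_mem_range_stdChart_iff u hP' Φ hΦ i.U i.hU i.U' i.hU' i.hle i.hd i.f i.hf y] at h2
    rw [← Proj.opensRange_awayι _ _ (i.huf u) i.hd] at h2
    obtain ⟨ξ, hξ⟩ := h2
    refine ⟨ξ, ?_⟩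
    apply (RelProj.domQ u p' chart').ι.isOpenEmbedding.injective
    have h3 : (RelProj.domQ u p' chart').ι
        (chartLift (u := u) (p' := p') (chart' := chart') i ξ) = chartEmb u p' chart' i ξ := by
      rw [← Scheme.Hom.comp_apply, chartLift_ι]
    rw [h3]
    change RelProj.emb p' chart' i.U' i.hU' (Proj.awayι _ _ (i.huf u) i.hd ξ) = w.1
    rw [← hy]
    exact congrArg _ hξ

end pre

section same

variable {Y : Scheme.{u}} {𝒜 ℬ : RelProj.QCGrAlg Y} (φ : 𝒜.toQCAlg ⟶ ℬ.toQCAlg)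
  (hφ : RelProj.IsGradedHom φ)
  {PA PB : Scheme.{u}} {pA : PA ⟶ Y}
  {chartA : ∀ (U : Y.Opens) (hU : IsAffineOpen U),
    (((pA ⁻¹ᵁ U : PA.Opens) : Scheme.{u}) ≅ Proj (𝒜.deg U hU))}
  {pB : PB ⟶ Y}
  {chartB : ∀ (U : Y.Opens) (hU : IsAffineOpen U),
    (((pB ⁻¹ᵁ U : PB.Opens) : Scheme.{u}) ≅ Proj (ℬ.deg U hU))}

theorem gradedAt_ofHom (U : Y.Opens) (hU : IsAffineOpen U) (hle : U ≤ (𝟙 Y) ⁻¹ᵁ U) :
    (RelProj.QGrHom.ofHom φ hφ).gradedAt U hU U hU hle = RelProj.gradedHomAt φ hφ U hU := by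
  apply GradedRingHom.ext
  intro x
  change (ℬ.presheaf.map (𝟙 _)).hom ((φ.hom.app (op U)).hom x) = (φ.hom.app (op U)).hom x
  rw [CategoryTheory.Functor.map_id]
  rfl

theorem domQ_inf_preimage (hB : RelProj.IsRelProj ℬ pB chartB) (U : Y.Opens)
    (hU : IsAffineOpen U) :
    RelProj.domQ (RelProj.QGrHom.ofHom φ hφ) pB chartB ⊓ pB ⁻¹ᵁ U =
      (RelProj.emb pB chartB U hU) ''ᵁ RelCone.domOpen (RelProj.gradedHomAt φ hφ U hU) := by
  have hle : U ≤ (𝟙 Y) ⁻¹ᵁ U := le_rfl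
  ext x
  constructor
  · rintro ⟨hx1, hx2⟩
    obtain ⟨y, rfl⟩ := RelConeProj.exists_emb_eq (pC := pB) (chartC := chartB) U hU x hx2
    have := (emb_mem_domQ_iff (RelProj.QGrHom.ofHom φ hφ) hB U hU U hU hle y).mp hx1
    rw [gradedAt_ofHom] at this
    exact ⟨y, this, rfl⟩
  · rintro ⟨y, hy, rfl⟩
    refine ⟨(emb_mem_domQ_iff (RelProj.QGrHom.ofHom φ hφ) hB U hU U hU hle y).mpr ?_,
      RelConeProj.emb_mem_preimage U hU y⟩
    rw [gradedAt_ofHom]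
    exact hy

theorem isAffineHom_of_isProjQMapOn (hA : RelProj.IsRelProj 𝒜 pA chartA)
    (hB : RelProj.IsRelProj ℬ pB chartB)
    (Φ : ((RelProj.domQ (RelProj.QGrHom.ofHom φ hφ) pB chartB : PB.Opens) : Scheme.{u}) ⟶ PA)
    (hΦ : RelProj.IsProjQMapOn (RelProj.QGrHom.ofHom φ hφ) pA chartA pB chartB
      (RelProj.domQ (RelProj.QGrHom.ofHom φ hφ) pB chartB) Φ) : IsAffineHom Φ := by
  refine isAffineHom_of_forall_exists_isAffineOpen Φ fun x => ?_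
  obtain ⟨U, hU, d, hd, f, hf, hx⟩ := exists_stdChart_mem (chart := chartA) x
  have hle : U ≤ (𝟙 Y) ⁻¹ᵁ U := le_rfl
  let i : ChartIdx (𝟙 Y) 𝒜 := ⟨U, hU, U, hU, hle, d, hd, f, hf⟩
  refine ⟨(stdChart pA chartA U hU hd f hf).opensRange, hx,
    isAffineOpen_opensRange _, ?_⟩
  have hpre : Φ ⁻¹ᵁ (stdChart pA chartA U hU hd f hf).opensRange =
      (chartLift (u := RelProj.QGrHom.ofHom φ hφ) (p' := pB) (chart' := chartB) i).opensRange := by
    ext w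
    change Φ w ∈ Set.range (stdChart pA chartA U hU hd f hf) ↔ w ∈ Set.range (chartLift i)
    rw [mem_range_chartLift_iff (RelProj.QGrHom.ofHom φ hφ) hB Φ hΦ i w]
    refine ⟨fun h => ⟨?_, h⟩, fun h => h.2⟩
    have h1 := range_stdChart_subset U hU hd f hf h
    have h2 := congrArg (fun ψ => ψ.base w) (isProjQMapOn_comp hA hB Φ hΦ)
    change pA (Φ w) = (𝟙 Y : Y ⟶ Y) (pB w.1) at h2
    change pA (Φ w) ∈ U at h1
    rw [h2] at h1
    exact h1
  rw [hpre]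
  exact isAffineOpen_opensRange _

end same

end Groth.Agent.Lib.Helper74.QMap
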