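import Groth.Agent.Lib.Helper74.QMapPts
import Groth.Agent.Lib.Helper74.QMapAffine

/-!
# Dominance of `Proj(u) : G(u) → Proj(𝒮)` over an affine base
-/

set_option autoImplicit false
universe u
open CategoryTheory CategoryTheory.Limits AlgebraicGeometry TopologicalSpace Opposite
open scoped HomogeneousIdeal
open HomogeneousLocalization

namespace Groth.Agent.Lib.Helper74.QMap

section ring

variable {A σ : Type u} [CommRing A] [SetLike σ A] [AddSubgroupClass σ A] (𝒜 : ℕ → σ) [GradedRing 𝒜]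

/-- A non-nilpotent homogeneous element of positive degree does not vanish somewhere on `Proj`. -/
theorem exists_mem_basicOpen_of_not_isNilpotent {n : ℕ} (hn : 0 < n) {s : A} (hs : s ∈ 𝒜 n)
    (hnil : ¬ IsNilpotent s) : ∃ y : Proj 𝒜, y ∈ Proj.basicOpen 𝒜 s := by
  have hnt : Nontrivial (Away 𝒜 s) := by
    by_contra hcon
    rw [not_nontrivial_iff_subsingleton] at hcon
    apply hnil
    have h1 : (1 : Localization.Away s) = 0 := by
      have := congrArg HomogeneousLocalization.val (Subsingleton.elim (1 : Away 𝒜 s) 0)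
      rwa [HomogeneousLocalization.val_one, HomogeneousLocalization.val_zero] at this
    have h2 : Subsingleton (Localization.Away s) := subsingleton_of_zero_eq_one h1.symm
    obtain ⟨k, hk⟩ := (IsLocalization.subsingleton_iff (M := Submonoid.powers s)
      (S := Localization.Away s)).mp h2
    exact ⟨k, hk⟩
  obtain ⟨ξ⟩ : Nonempty (PrimeSpectrum (Away 𝒜 s)) := inferInstance
  refine ⟨Proj.awayι 𝒜 s hs hn ξ, ?_⟩
  rw [← Proj.opensRange_awayι 𝒜 s hs hn]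
  exact ⟨ξ, rfl⟩

/-- The basic opens of homogeneous elements of positive degree form a basis of `Proj`. -/
theorem exists_pos_homog_basicOpen_le (O : (Proj 𝒜).Opens) (y : Proj 𝒜) (hy : y ∈ O) :
    ∃ (n : ℕ) (_ : 0 < n) (s : A) (_ : s ∈ 𝒜 n), y ∈ Proj.basicOpen 𝒜 s ∧ Proj.basicOpen 𝒜 s ≤ O := by
  obtain ⟨_, ⟨r, rfl⟩, hyr, hrO⟩ := (ProjectiveSpectrum.isTopologicalBasis_basic_opens 𝒜).exists_subset_of_mem_open
    hy O.2
  classical
  have hr : r ∉ y.asHomogeneousIdeal := hyr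
  have hex : ∃ i, (GradedRing.proj 𝒜 i r : A) ∉ y.asHomogeneousIdeal := by
    by_contra hcon
    push Not at hcon
    apply hr
    rw [← DirectSum.sum_support_decompose 𝒜 r]
    exact Ideal.sum_mem _ fun i _ => hcon i
  obtain ⟨i, hyi⟩ := hex
  obtain ⟨d, hd, f, hf, hyf⟩ := exists_pos_homog_mem_basicOpen y
  refine ⟨i + d, by omega, GradedRing.proj 𝒜 i r * f,
    SetLike.mul_mem_graded (SetLike.coe_mem _) hf, ?_, ?_⟩
  · rw [Proj.basicOpen_mul]
    exact ⟨hyi, hyf⟩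
  · rw [Proj.basicOpen_mul]
    intro z hz
    apply hrO
    change r ∉ z.asHomogeneousIdeal
    intro hrz
    exact hz.1 (z.asHomogeneousIdeal.isHomogeneous i hrz)

end ring

section dom

variable {Y Y' : Scheme.{u}} {g : Y' ⟶ Y} {𝒮 : RelProj.QCGrAlg Y} {𝒮' : RelProj.QCGrAlg Y'}
  (u : RelProj.QGrHom g 𝒮 𝒮')
  {P P' : Scheme.{u}} {p : P ⟶ Y}
  {chart : ∀ (U : Y.Opens) (hU : IsAffineOpen U),
    (((p ⁻¹ᵁ U : P.Opens) : Scheme.{u}) ≅ Proj (𝒮.deg U hU))}
  {p' : P' ⟶ Y'}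
  {chart' : ∀ (U' : Y'.Opens) (hU' : IsAffineOpen U'),
    (((p' ⁻¹ᵁ U' : P'.Opens) : Scheme.{u}) ≅ Proj (𝒮'.deg U' hU'))}

/-- Over an affine base: `Proj(u) : G(u) → Proj(𝒮)` is dominant iff every homogeneous global section of positive degree
whose image is locally nilpotent is nilpotent. -/
theorem isDominant_iff_of_isAffine (hY : IsAffineOpen (⊤ : Y.Opens)) (hP' : RelProj.IsRelProj 𝒮' p' chart')
    (r : ((RelProj.domQ u p' chart' : P'.Opens) : Scheme.{u}) ⟶ P)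
    (hr : RelProj.IsProjQMapOn u p chart p' chart' (RelProj.domQ u p' chart') r)
    (hle : ∀ V : Y'.Opens, V ≤ g ⁻¹ᵁ ⊤) :
    IsDominant r ↔
      ∀ (n : ℕ), 0 < n → ∀ s ∈ 𝒮.deg ⊤ hY n,
        (∀ x : Y', ∃ (V : Y'.Opens) (_ : IsAffineOpen V), x ∈ V ∧
          IsNilpotent ((u.appLE ⊤ V (hle V)).hom s)) → IsNilpotent s := by
  constructor
  · intro hdom n hn s hs hloc
    by_contra hnil
    obtain ⟨y₀, hy₀⟩ := exists_mem_basicOpen_of_not_isNilpotent (𝒮.deg ⊤ hY) hn hs hnil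
    have hO : IsOpen (Set.range (stdChart p chart ⊤ hY hn s hs)) :=
      (stdChart p chart ⊤ hY hn s hs).isOpenEmbedding.isOpen_range
    have hne : (Set.range (stdChart p chart ⊤ hY hn s hs)).Nonempty := by
      rw [range_stdChart]
      exact ⟨_, ⟨y₀, hy₀, rfl⟩⟩
    obtain ⟨_, hwO, ⟨w, rfl⟩⟩ := hdom.1.inter_open_nonempty _ hO hne
    obtain ⟨V, hV, hxV, hVnil⟩ := hloc (p' w.1)
    obtain ⟨y, hy⟩ := RelConeProj.exists_emb_eq (pC := p') (chartC := chart') V hV w.1 hxV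
    have hy' : RelProj.emb p' chart' V hV y ∈ RelProj.domQ u p' chart' := hy ▸ w.2
    have hw' : w = ⟨RelProj.emb p' chart' V hV y, hy'⟩ := Subtype.ext hy.symm
    rw [hw'] at hwO
    have h2 := (qmap_mem_range_stdChart_iff u hP' r hr ⊤ hY V hV (hle V) hn s hs y hy').mp hwO
    rw [Proj.mem_basicOpen] at h2
    apply h2
    obtain ⟨k, hk⟩ := hVnil
    apply y.isPrime.mem_of_pow_mem k
    change ((u.appLE ⊤ V (hle V)).hom s) ^ k ∈ _
    rw [hk]
    exact zero_mem _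
  · intro H
    refine ⟨?_⟩
    rw [DenseRange, dense_iff_inter_open]
    rintro O hO ⟨pt, hpt⟩
    have hptop : pt ∈ p ⁻¹ᵁ (⊤ : Y.Opens) := trivial
    obtain ⟨y₀, rfl⟩ := RelConeProj.exists_emb_eq (pC := p) (chartC := chart) ⊤ hY pt hptop
    let O' : (Proj (𝒮.deg ⊤ hY)).Opens := RelProj.emb p chart ⊤ hY ⁻¹ᵁ ⟨O, hO⟩
    obtain ⟨n, hn, s, hs, hy₀s, hsO⟩ := exists_pos_homog_basicOpen_le (𝒮.deg ⊤ hY) O' y₀ hpt
    have hnil : ¬ IsNilpotent s := by
      rintro ⟨k, hk⟩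
      rw [Proj.mem_basicOpen] at hy₀s
      apply hy₀s
      apply y₀.isPrime.mem_of_pow_mem k
      rw [hk]
      exact zero_mem _
    have h1 : ¬ ∀ x : Y', ∃ (V : Y'.Opens) (_ : IsAffineOpen V), x ∈ V ∧
        IsNilpotent ((u.appLE ⊤ V (hle V)).hom s) := fun h => hnil (H n hn s hs h)
    push Not at h1
    obtain ⟨x, hx⟩ := h1
    obtain ⟨V, hxV⟩ := TopologicalSpace.Opens.mem_iSup.mp
      ((iSup_affineOpens_eq_top Y').ge (Set.mem_univ x))
    have hVnil := hx V.1 V.2 hxV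
    obtain ⟨y, hy⟩ := exists_mem_basicOpen_of_not_isNilpotent (𝒮'.deg V.1 V.2) hn
      ((u.gradedAt ⊤ hY V.1 V.2 (hle V.1)).map_mem hs) hVnil
    have hdom : RelProj.emb p' chart' V.1 V.2 y ∈ RelProj.domQ u p' chart' :=
      (emb_mem_domQ_iff u hP' ⊤ hY V.1 V.2 (hle V.1) y).mpr
        ((mem_domOpen_iff_homog _ y).mpr ⟨n, hn, s, hs, hy⟩)
    have h2 := (qmap_mem_range_stdChart_iff u hP' r hr ⊤ hY V.1 V.2 (hle V.1) hn s hs y hdom).mpr hy
    rw [range_stdChart] at h2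
    obtain ⟨z, hz, hzr⟩ := h2
    refine ⟨_, ?_, ⟨⟨RelProj.emb p' chart' V.1 V.2 y, hdom⟩, rfl⟩⟩
    rw [← hzr]
    exact hsO hz

end dom

end Groth.Agent.Lib.Helper74.QMap
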