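import Groth.Agent.Lib.Helper74.QMapComp
import Groth.Agent.Lib.Helper74.QMapDominant

/-!
# `G(u)` and filtered colimits of graded algebras
-/

set_option autoImplicit false
universe u
open CategoryTheory CategoryTheory.Limits AlgebraicGeometry TopologicalSpace Opposite
open scoped HomogeneousIdeal
open HomogeneousLocalization DirectSum

namespace Groth.Agent.Lib.Helper74.QMap

section colim

variable {Y X : Scheme.{u}} {q : X ⟶ Y} {𝒮 : RelProj.QCGrAlg Y} {𝒮L : RelProj.QCGrAlg X}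
  (u : RelProj.QGrHom q 𝒮 𝒮L)
  {PL : Scheme.{u}} {pL : PL ⟶ X}
  {chartL : ∀ (U : X.Opens) (hU : IsAffineOpen U), (((pL ⁻¹ᵁ U : PL.Opens) : Scheme.{u}) ≅ Proj (𝒮L.deg U hU))}
  (hPL : RelProj.IsRelProj 𝒮L pL chartL)

include hPL in
/-- `G(u ∘ v) ⊆ G(u)` -/
theorem domQ_le_of_app_eq {𝒯 : RelProj.QCGrAlg Y} (v : 𝒯.toQCAlg ⟶ 𝒮.toQCAlg) (hv : RelProj.IsGradedHom v)
    (u' : RelProj.QGrHom q 𝒯 𝒮L) (hu' : ∀ U : Y.Opens, u'.app U = v.hom.app (op U) ≫ u.app U) :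
    RelProj.domQ u' pL chartL ≤ RelProj.domQ u pL chartL := by
  obtain rfl := eq_compGr u v hv hu'
  exact domQ_compGr_le u v hv hPL

variable {Λ : Type u} [Preorder Λ]
  (𝒮i : Λ → RelProj.QCGrAlg Y) (φ : ∀ i, (𝒮i i).toQCAlg ⟶ 𝒮.toQCAlg) (hφ : ∀ i, RelProj.IsGradedHom (φ i))
  (t : ∀ i j, i ≤ j → ((𝒮i i).toQCAlg ⟶ (𝒮i j).toQCAlg)) (ht : ∀ i j (h : i ≤ j), RelProj.IsGradedHom (t i j h))
  (hφt : ∀ i j (h : i ≤ j), t i j h ≫ φ j = φ i)
  (ui : ∀ i, RelProj.QGrHom q (𝒮i i) 𝒮L) (hui : ∀ i (U : Y.Opens), (ui i).app U = (φ i).hom.app (op U) ≫ u.app U)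

include hPL hφ hui in
theorem domQ_ui_le (i : Λ) : RelProj.domQ (ui i) pL chartL ≤ RelProj.domQ u pL chartL :=
  domQ_le_of_app_eq u hPL (φ i) (hφ i) (ui i) (hui i)

include hui hφt in
theorem ui_app_eq (i j : Λ) (h : i ≤ j) (U : Y.Opens) :
    (ui i).app U = (t i j h).hom.app (op U) ≫ (ui j).app U := by
  rw [hui i U, hui j U, ← Category.assoc]
  congr 1
  have := congrArg (fun ψ : (𝒮i i).toQCAlg ⟶ 𝒮.toQCAlg => ψ.hom.app (op U)) (hφt i j h)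
  exact this.symm

include hPL ht hφt hui in
theorem domQ_ui_mono (i j : Λ) (h : i ≤ j) :
    RelProj.domQ (ui i) pL chartL ≤ RelProj.domQ (ui j) pL chartL :=
  domQ_le_of_app_eq (ui j) hPL (t i j h) (ht i j h) (ui i) (ui_app_eq u 𝒮i φ t hφt ui hui i j h)

omit [Preorder Λ] in
include hφ hui in
theorem gradedAt_ui (i : Λ) (U : Y.Opens) (hU : IsAffineOpen U) (U' : X.Opens) (hU' : IsAffineOpen U')
    (hle : U' ≤ q ⁻¹ᵁ U) (a : (𝒮i i).presheaf.obj (op U)) :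
    (ui i).gradedAt U hU U' hU' hle a =
      u.gradedAt U hU U' hU' hle (RelProj.gradedHomAt (φ i) (hφ i) U hU a) := by
  have e := eq_compGr u (φ i) (hφ i) (hui i)
  rw [e]
  rfl

omit [Preorder Λ] in
include hφ hui in
theorem mem_domOpen_ui
    (hsurj : ∀ (U : Y.Opens), IsAffineOpen U → ∀ x : 𝒮.presheaf.obj (op U),
      ∃ (i : Λ) (y : (𝒮i i).presheaf.obj (op U)), ((φ i).hom.app (op U)).hom y = x)
    (U : Y.Opens) (hU : IsAffineOpen U) (U' : X.Opens) (hU' : IsAffineOpen U')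
    (hle : U' ≤ q ⁻¹ᵁ U) (y : Proj (𝒮L.deg U' hU'))
    (hy : y ∈ RelCone.domOpen (u.gradedAt U hU U' hU' hle)) :
    ∃ i, y ∈ RelCone.domOpen ((ui i).gradedAt U hU U' hU' hle) := by
  classical
  obtain ⟨d, hd, f, hf, hyf⟩ := (mem_domOpen_iff_homog _ y).mp hy
  obtain ⟨i, a, ha⟩ := hsurj U hU f
  refine ⟨i, ?_⟩
  let ψ := RelProj.gradedHomAt (φ i) (hφ i) U hU
  have h1 : ψ (decompose ((𝒮i i).deg U hU) a d) = f := by
    have := GradedRingHom.map_directSumDecompose ((𝒮i i).deg U hU) (𝒮.deg U hU) ψ (x := a) (i := d)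
    have h2 : ψ a = f := ha
    rw [h2, decompose_of_mem_same _ hf] at this
    exact this
  refine (mem_domOpen_iff_homog _ y).mpr ⟨d, hd, (decompose ((𝒮i i).deg U hU) a d : _),
    SetLike.coe_mem _, ?_⟩
  rw [gradedAt_ui u 𝒮i φ hφ ui hui i U hU U' hU' hle, h1]
  exact hyf

omit [Preorder Λ] in
include hPL hφ hui in
/-- `G(u)` is the union of the `G(u ∘ φ_i)` when every section of `𝒮` over an affine open comes from some `𝒮^i`. -/
theorem domQ_le_iSup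
    (hsurj : ∀ (U : Y.Opens), IsAffineOpen U → ∀ x : 𝒮.presheaf.obj (op U),
      ∃ (i : Λ) (y : (𝒮i i).presheaf.obj (op U)), ((φ i).hom.app (op U)).hom y = x) :
    RelProj.domQ u pL chartL ≤ ⨆ i, RelProj.domQ (ui i) pL chartL := by
  intro pt hpt
  obtain ⟨I, y, hy, rfl⟩ := Opens.mem_iSup.mp hpt
  obtain ⟨i, hi⟩ := mem_domOpen_ui u 𝒮i φ hφ ui hui hsurj I.1.1.1 I.1.1.2 I.1.2.1 I.1.2.2 I.2 y hy
  refine Opens.mem_iSup.mpr ⟨i, ?_⟩
  exact (emb_mem_domQ_iff (ui i) hPL I.1.1.1 I.1.1.2 I.1.2.1 I.1.2.2 I.2 y).mpr hi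

include hPL hφ ht hφt hui in
/-- quasi-compactness: if `G(u)` is everything and `Proj(𝒮L)` is quasi-compact, some `G(u ∘ φ_i)` is everything -/
theorem exists_domQ_ui_eq_top [IsDirected Λ (· ≤ ·)] [Nonempty Λ] [CompactSpace PL]
    (hsurj : ∀ (U : Y.Opens), IsAffineOpen U → ∀ x : 𝒮.presheaf.obj (op U),
      ∃ (i : Λ) (y : (𝒮i i).presheaf.obj (op U)), ((φ i).hom.app (op U)).hom y = x)
    (hdom : RelProj.domQ u pL chartL = ⊤) : ∃ i, RelProj.domQ (ui i) pL chartL = ⊤ := by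
  have hcov : (Set.univ : Set PL) ⊆ ⋃ i, (RelProj.domQ (ui i) pL chartL : Set PL) := by
    intro pt _
    have h1 : pt ∈ RelProj.domQ u pL chartL := by rw [hdom]; trivial
    have h2 := domQ_le_iSup u hPL 𝒮i φ hφ ui hui hsurj h1
    obtain ⟨i, hi⟩ := Opens.mem_iSup.mp h2
    exact Set.mem_iUnion.mpr ⟨i, hi⟩
  have hdir : Directed (· ⊆ ·) (fun i => (RelProj.domQ (ui i) pL chartL : Set PL)) := by
    intro i j
    obtain ⟨k, hik, hjk⟩ := exists_ge_ge i j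
    exact ⟨k, domQ_ui_mono u hPL 𝒮i φ t ht hφt ui hui i k hik,
      domQ_ui_mono u hPL 𝒮i φ t ht hφt ui hui j k hjk⟩
  obtain ⟨i, hi⟩ := isCompact_univ.elim_directed_cover _
    (fun i => (RelProj.domQ (ui i) pL chartL).isOpen) hcov hdir
  exact ⟨i, eq_top_iff.mpr fun pt _ => hi (Set.mem_univ pt)⟩

end colim

end Groth.Agent.Lib.Helper74.QMap
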