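import Groth.Agent.Lib.Helper74.QMapDominant
import Groth.Agent.Lib.Helper74.QMapColim

/-!
# Dominance of `Proj(u) : G(u) → Proj(𝒮)`: local criterion over an arbitrary base, and filtered colimits
-/

set_option autoImplicit false
universe u
open CategoryTheory CategoryTheory.Limits AlgebraicGeometry TopologicalSpace Opposite
open scoped HomogeneousIdeal
open HomogeneousLocalization DirectSum

namespace Groth.Agent.Lib.Helper74.QMap

section dom

variable {Y Y' : Scheme.{u}} {g : Y' ⟶ Y} {𝒮 : RelProj.QCGrAlg Y} {𝒮' : RelProj.QCGrAlg Y'}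
  (u : RelProj.QGrHom g 𝒮 𝒮')
  {P P' : Scheme.{u}} {p : P ⟶ Y}
  {chart : ∀ (U : Y.Opens) (hU : IsAffineOpen U),
    (((p ⁻¹ᵁ U : P.Opens) : Scheme.{u}) ≅ Proj (𝒮.deg U hU))}
  {p' : P' ⟶ Y'}
  {chart' : ∀ (U' : Y'.Opens) (hU' : IsAffineOpen U'),
    (((p' ⁻¹ᵁ U' : P'.Opens) : Scheme.{u}) ≅ Proj (𝒮'.deg U' hU'))}

/-- the local nilpotence condition -/
def LocNilp (U : Y.Opens) (s : 𝒮.presheaf.obj (op U)) : Prop :=
  ∀ x : Y', x ∈ g ⁻¹ᵁ U → ∃ (V : Y'.Opens) (_ : IsAffineOpen V) (hle : V ≤ g ⁻¹ᵁ U), x ∈ V ∧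
    IsNilpotent ((u.appLE U V hle).hom s)

/-- `Proj(u) : G(u) → Proj(𝒮)` is dominant iff over every affine open of the base every homogeneous section of positive
degree whose image is locally nilpotent is nilpotent. -/
theorem isDominant_iff_local (hP : RelProj.IsRelProj 𝒮 p chart) (hP' : RelProj.IsRelProj 𝒮' p' chart')
    (r : ((RelProj.domQ u p' chart' : P'.Opens) : Scheme.{u}) ⟶ P)
    (hr : RelProj.IsProjQMapOn u p chart p' chart' (RelProj.domQ u p' chart') r) :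
    IsDominant r ↔
      ∀ (U : Y.Opens) (hU : IsAffineOpen U) (n : ℕ), 0 < n → ∀ s ∈ 𝒮.deg U hU n,
        LocNilp u U s → IsNilpotent s := by
  constructor
  · intro hdom U hU n hn s hs hloc
    by_contra hnil
    obtain ⟨y₀, hy₀⟩ := exists_mem_basicOpen_of_not_isNilpotent (𝒮.deg U hU) hn hs hnil
    have hO : IsOpen (Set.range (stdChart p chart U hU hn s hs)) :=
      (stdChart p chart U hU hn s hs).isOpenEmbedding.isOpen_range
    have hne : (Set.range (stdChart p chart U hU hn s hs)).Nonempty := by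
      rw [range_stdChart]
      exact ⟨_, ⟨y₀, hy₀, rfl⟩⟩
    obtain ⟨_, hwO, ⟨w, rfl⟩⟩ := hdom.1.inter_open_nonempty _ hO hne
    have hwU : p' w.1 ∈ g ⁻¹ᵁ U := by
      have hc := isProjQMapOn_comp hP hP' r hr
      have h1 : p (r w) ∈ U := by
        rw [range_stdChart] at hwO
        obtain ⟨z, _, hz⟩ := hwO
        rw [← hz]
        have := RelConeProj.emb_mem_preimage (pC := p) (chartC := chart) U hU z
        exact this
      have h2 : p (r w) = g (p' w.1) := by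
        have := congrArg (fun ψ : ((RelProj.domQ u p' chart' : P'.Opens) : Scheme.{u}) ⟶ Y => ψ w) hc
        exact this
      rw [h2] at h1
      exact h1
    obtain ⟨V, hV, hle, hxV, hVnil⟩ := hloc (p' w.1) hwU
    obtain ⟨y, hy⟩ := RelConeProj.exists_emb_eq (pC := p') (chartC := chart') V hV w.1 hxV
    have hy' : RelProj.emb p' chart' V hV y ∈ RelProj.domQ u p' chart' := hy ▸ w.2
    have hw' : w = ⟨RelProj.emb p' chart' V hV y, hy'⟩ := Subtype.ext hy.symm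
    rw [hw'] at hwO
    have h2 := (qmap_mem_range_stdChart_iff u hP' r hr U hU V hV hle hn s hs y hy').mp hwO
    rw [Proj.mem_basicOpen] at h2
    apply h2
    obtain ⟨k, hk⟩ := hVnil
    apply y.isPrime.mem_of_pow_mem k
    change ((u.appLE U V hle).hom s) ^ k ∈ _
    rw [hk]
    exact zero_mem _
  · intro H
    refine ⟨?_⟩
    rw [DenseRange, dense_iff_inter_open]
    rintro O hO ⟨pt, hpt⟩
    obtain ⟨U, hptU⟩ := TopologicalSpace.Opens.mem_iSup.mp
      ((iSup_affineOpens_eq_top Y).ge (Set.mem_univ (p pt)))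
    have hU := U.2
    have hptop : pt ∈ p ⁻¹ᵁ U.1 := hptU
    obtain ⟨y₀, rfl⟩ := RelConeProj.exists_emb_eq (pC := p) (chartC := chart) U.1 hU pt hptop
    let O' : (Proj (𝒮.deg U.1 hU)).Opens := RelProj.emb p chart U.1 hU ⁻¹ᵁ ⟨O, hO⟩
    obtain ⟨n, hn, s, hs, hy₀s, hsO⟩ := exists_pos_homog_basicOpen_le (𝒮.deg U.1 hU) O' y₀ hpt
    have hnil : ¬ IsNilpotent s := by
      rintro ⟨k, hk⟩
      rw [Proj.mem_basicOpen] at hy₀s
      apply hy₀s
      apply y₀.isPrime.mem_of_pow_mem k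
      rw [hk]
      exact zero_mem _
    have h1 : ¬ LocNilp u U.1 s := fun h => hnil (H U.1 hU n hn s hs h)
    unfold LocNilp at h1
    push Not at h1
    obtain ⟨x, hxU, hx⟩ := h1
    obtain ⟨_, ⟨V0, hV0, rfl⟩, hxV, hVle⟩ :=
      (Y'.isBasis_affineOpens).exists_subset_of_mem_open hxU (g ⁻¹ᵁ U.1).isOpen
    let V : Y'.affineOpens := ⟨V0, hV0⟩
    have hVnil := hx V.1 V.2 hVle hxV
    obtain ⟨y, hy⟩ := exists_mem_basicOpen_of_not_isNilpotent (𝒮'.deg V.1 V.2) hn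
      ((u.gradedAt U.1 hU V.1 V.2 hVle).map_mem hs) hVnil
    have hdom : RelProj.emb p' chart' V.1 V.2 y ∈ RelProj.domQ u p' chart' :=
      (emb_mem_domQ_iff u hP' U.1 hU V.1 V.2 hVle y).mpr
        ((mem_domOpen_iff_homog _ y).mpr ⟨n, hn, s, hs, hy⟩)
    have h2 := (qmap_mem_range_stdChart_iff u hP' r hr U.1 hU V.1 V.2 hVle hn s hs y hdom).mpr hy
    rw [range_stdChart] at h2
    obtain ⟨z, hz, hzr⟩ := h2
    refine ⟨_, ?_, ⟨⟨RelProj.emb p' chart' V.1 V.2 y, hdom⟩, rfl⟩⟩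
    rw [← hzr]
    exact hsO hz

end dom

section colim

variable {Y X : Scheme.{u}} {q : X ⟶ Y} {𝒮 : RelProj.QCGrAlg Y} {𝒮L : RelProj.QCGrAlg X}
  (u : RelProj.QGrHom q 𝒮 𝒮L)
  {P PL : Scheme.{u}} {p : P ⟶ Y}
  {chart : ∀ (U : Y.Opens) (hU : IsAffineOpen U), (((p ⁻¹ᵁ U : P.Opens) : Scheme.{u}) ≅ Proj (𝒮.deg U hU))}
  (hP : RelProj.IsRelProj 𝒮 p chart)
  {pL : PL ⟶ X}
  {chartL : ∀ (U : X.Opens) (hU : IsAffineOpen U), (((pL ⁻¹ᵁ U : PL.Opens) : Scheme.{u}) ≅ Proj (𝒮L.deg U hU))}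
  (hPL : RelProj.IsRelProj 𝒮L pL chartL)
  (r : ((RelProj.domQ u pL chartL : PL.Opens) : Scheme.{u}) ⟶ P)
  (hr : RelProj.IsProjQMapOn u p chart pL chartL (RelProj.domQ u pL chartL) r)
  {Λ : Type u}
  (𝒮i : Λ → RelProj.QCGrAlg Y) (φ : ∀ i, (𝒮i i).toQCAlg ⟶ 𝒮.toQCAlg) (hφ : ∀ i, RelProj.IsGradedHom (φ i))
  (ui : ∀ i, RelProj.QGrHom q (𝒮i i) 𝒮L) (hui : ∀ i (U : Y.Opens), (ui i).app U = (φ i).hom.app (op U) ≫ u.app U)
  {Pi : Λ → Scheme.{u}} {pi : ∀ i, Pi i ⟶ Y}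
  {charti : ∀ i (U : Y.Opens) (hU : IsAffineOpen U), ((((pi i) ⁻¹ᵁ U : (Pi i).Opens) : Scheme.{u}) ≅ Proj ((𝒮i i).deg U hU))}
  (hPi : ∀ i, RelProj.IsRelProj (𝒮i i) (pi i) (charti i))
  (ri : ∀ i, ((RelProj.domQ (ui i) pL chartL : PL.Opens) : Scheme.{u}) ⟶ Pi i)
  (hri : ∀ i, RelProj.IsProjQMapOn (ui i) (pi i) (charti i) pL chartL (RelProj.domQ (ui i) pL chartL) (ri i))

include hui in
theorem appLE_ui (i : Λ) (U : Y.Opens) (V : X.Opens) (hle : V ≤ q ⁻¹ᵁ U) :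
    (ui i).appLE U V hle = (φ i).hom.app (op U) ≫ u.appLE U V hle := by
  rw [RelSpec.QHom.appLE_eq, RelSpec.QHom.appLE_eq, ← Category.assoc]
  congr 1
  exact hui i U

include hui in
theorem locNilp_ui_iff (i : Λ) (U : Y.Opens) (a : (𝒮i i).presheaf.obj (op U)) :
    LocNilp (ui i) U a ↔ LocNilp u U (((φ i).hom.app (op U)).hom a) := by
  unfold LocNilp
  refine forall₂_congr fun x hx => ?_
  refine exists_congr fun V => exists_congr fun hV => exists_congr fun hle => and_congr Iff.rfl ?_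
  rw [appLE_ui u 𝒮i φ ui hui i U V hle]
  rfl

include hP hPL hr hφ hui hPi hri in
/-- if all the `Proj(u ∘ φ_i)` are dominant and every section of `𝒮` over an affine comes from some `𝒮^i`, then
`Proj(u)` is dominant -/
theorem isDominant_of_forall_ui
    (hsurj : ∀ (U : Y.Opens), IsAffineOpen U → ∀ x : 𝒮.presheaf.obj (op U),
      ∃ (i : Λ) (y : (𝒮i i).presheaf.obj (op U)), ((φ i).hom.app (op U)).hom y = x)
    (hdi : ∀ i, IsDominant (ri i)) : IsDominant r := by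
  classical
  rw [isDominant_iff_local u hP hPL r hr]
  intro U hU n hn s hs hloc
  obtain ⟨i, a, ha⟩ := hsurj U hU s
  let ψ := RelProj.gradedHomAt (φ i) (hφ i) U hU
  have h1 : ψ (decompose ((𝒮i i).deg U hU) a n) = s := by
    have := GradedRingHom.map_directSumDecompose ((𝒮i i).deg U hU) (𝒮.deg U hU) ψ (x := a) (i := n)
    have h2 : ψ a = s := ha
    rw [h2, decompose_of_mem_same _ hs] at this
    exact this
  have h3 : IsNilpotent (decompose ((𝒮i i).deg U hU) a n : (𝒮i i).presheaf.obj (op U)) := by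
    refine (isDominant_iff_local (ui i) (hPi i) hPL (ri i) (hri i)).mp (hdi i) U hU n hn _
      (SetLike.coe_mem _) ?_
    rw [locNilp_ui_iff u 𝒮i φ ui hui i U]
    have h4 : ((φ i).hom.app (op U)).hom (decompose ((𝒮i i).deg U hU) a n : _) = s := h1
    rw [h4]
    exact hloc
  rw [← h1]
  exact h3.map ψ

include hP hPL hr hφ hui hPi hri in
/-- if `Proj(u)` is dominant and `φ_i` is injective on affines, then `Proj(u ∘ φ_i)` is dominant -/
theorem isDominant_ui_of_injective (i : Λ)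
    (hinj : ∀ (U : Y.Opens), IsAffineOpen U → Function.Injective ((φ i).hom.app (op U)).hom)
    (hd : IsDominant r) : IsDominant (ri i) := by
  rw [isDominant_iff_local (ui i) (hPi i) hPL (ri i) (hri i)]
  intro U hU n hn a ha hloc
  rw [locNilp_ui_iff u 𝒮i φ ui hui i U] at hloc
  let ψ := RelProj.gradedHomAt (φ i) (hφ i) U hU
  have h1 : IsNilpotent (ψ a) :=
    (isDominant_iff_local u hP hPL r hr).mp hd U hU n hn (ψ a) (ψ.map_mem ha) hloc
  obtain ⟨k, hk⟩ := h1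
  refine ⟨k, hinj U hU ?_⟩
  rw [map_pow, map_zero]
  exact hk

end colim

end Groth.Agent.Lib.Helper74.QMap
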