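import Groth.Agent.Lib.Helper74.QMapImm

/-!
# Immersion criteria for `r_{L,ψ}` over an affine base: families of sections
-/

set_option autoImplicit false
set_option linter.style.haveILetI false
universe u

open CategoryTheory CategoryTheory.Limits AlgebraicGeometry TopologicalSpace Opposite
open scoped HomogeneousIdeal
open HomogeneousLocalization

noncomputable section

namespace Groth.Agent.Lib.Helper74.QMapImm

open Groth.Agent.Lib.Helper74.QMap

section fam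

variable {Y X P PL : Scheme.{u}} {q : X ⟶ Y}
  {L : X.Modules} (hL : PicF.IsInvertible L) [hLq : L.IsQuasicoherent]
  {𝒮 : RelProj.QCGrAlg Y} {𝒮L : RelProj.QCGrAlg X} {j : L ⟶ 𝒮L.toModule} (hj : RelProj.IsGrSymAlg L 𝒮L j)
  (u : RelProj.QGrHom q 𝒮 𝒮L)
  {p : P ⟶ Y} {chart : ∀ (U : Y.Opens) (hU : IsAffineOpen U), (((p ⁻¹ᵁ U : P.Opens) : Scheme.{u}) ≅ Proj (𝒮.deg U hU))}
  (hP : RelProj.IsRelProj 𝒮 p chart)
  {pL : PL ⟶ X} {chartL : ∀ (U : X.Opens) (hU : IsAffineOpen U), (((pL ⁻¹ᵁ U : PL.Opens) : Scheme.{u}) ≅ Proj (𝒮L.deg U hU))}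
  (hPL : RelProj.IsRelProj 𝒮L pL chartL)
  (r : ((RelProj.domQ u pL chartL : PL.Opens) : Scheme.{u}) ⟶ P)
  (hr : RelProj.IsProjQMapOn u p chart pL chartL (RelProj.domQ u pL chartL) r)
  (hY : IsAffineOpen (⊤ : Y.Opens))

section suff

variable {ι : Type*} (n : ι → ℕ) (s : ι → 𝒮.presheaf.obj (op ⊤))
  (hns : ∀ a, 0 < n a ∧ s a ∈ 𝒮.deg ⊤ hY (n a))
  (hcov : (⨆ a, XT u (n a) (s a)) = ⊤)
  (hXT : ∀ a, IsAffineOpen (XT u (n a) (s a)))

include hL hj hP hPL hr hns hcov in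
theorem domQ_eq_top_of_cover : RelProj.domQ u pL chartL = ⊤ := by
  rw [eq_top_iff]
  intro pt _
  have h1 : pL pt ∈ (⨆ a, XT u (n a) (s a)) := by rw [hcov]; trivial
  obtain ⟨a, ha⟩ := Opens.mem_iSup.mp h1
  exact preimage_XT_le_domQ hL hj u hP hPL r hr hY (hns a).1 (hns a).2 ha

include hL hj hP hPL hr hcov in
theorem exists_mem_range_iX (w : (RelProj.domQ u pL chartL : PL.Opens)) :
    ∃ a, w ∈ Set.range (iX u hY (hns a).1 (hns a).2 (hXT a)) := by
  have h1 : pL w.1 ∈ (⨆ a, XT u (n a) (s a)) := by rw [hcov]; trivial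
  obtain ⟨a, ha⟩ := Opens.mem_iSup.mp h1
  refine ⟨a, ?_⟩
  have h2 := (mem_preimage_XT_iff hL hj u hP hPL r hr hY (hns a).1 (hns a).2 w).mp ha
  have h3 : w ∈ (iX (pL := pL) (chartL := chartL) u hY (hns a).1 (hns a).2 (hXT a)).opensRange := by
    rw [opensRange_iX hL hj u hP hPL r hr hY (hns a).1 (hns a).2 (hXT a)]
    exact h2
  exact h3

include hL hj hP hPL hr hns hcov hXT in
theorem isImmersion_of_family (h3 : ∀ a, Cond3 u hY (n a) (s a)) : IsImmersion r :=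
  ImmLocal.isImmersion_of_cover r (fun a => iX u hY (hns a).1 (hns a).2 (hXT a))
    (fun a => stdChart p chart ⊤ hY (hns a).1 (s a) (hns a).2)
    (fun a => fC u hY (hXT a))
    (fun a => iX_comp u r hr hY (hns a).1 (hns a).2 (hXT a))
    (fun a => opensRange_iX hL hj u hP hPL r hr hY (hns a).1 (hns a).2 (hXT a))
    (exists_mem_range_iX hL hj u hP hPL r hr hY n s hns hcov hXT)
    (fun a => (isClosedImmersion_fC_iff hL hj u hP hPL r hr hY (hns a).1 (hns a).2 (hXT a)).mpr (h3 a))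

include hL hj hP hPL hr hns hcov hXT in
theorem isOpenImmersion_of_family (h3 : ∀ a, Cond3 u hY (n a) (s a)) (h4 : ∀ a, Cond4 u hY (n a) (s a)) :
    IsOpenImmersion r :=
  ImmLocal.isOpenImmersion_of_cover r (fun a => iX u hY (hns a).1 (hns a).2 (hXT a))
    (fun a => stdChart p chart ⊤ hY (hns a).1 (s a) (hns a).2)
    (fun a => fC u hY (hXT a))
    (fun a => iX_comp u r hr hY (hns a).1 (hns a).2 (hXT a))
    (fun a => opensRange_iX hL hj u hP hPL r hr hY (hns a).1 (hns a).2 (hXT a))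
    (exists_mem_range_iX hL hj u hP hPL r hr hY n s hns hcov hXT)
    (fun a => (isIso_fC_iff hL hj u hP hPL r hr hY (hns a).1 (hns a).2 (hXT a)).mpr ⟨h3 a, h4 a⟩)

include hL hj hP hPL hr hns hXT in
theorem isClosedImmersion_of_family (h3 : ∀ a, Cond3 u hY (n a) (s a))
    (h5 : (⨆ a, Proj.basicOpen (𝒮.deg ⊤ hY) (s a)) = ⊤) : IsClosedImmersion r := by
  refine ImmLocal.of_cover_target (Q := @IsClosedImmersion) r (fun a => iX u hY (hns a).1 (hns a).2 (hXT a))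
    (fun a => stdChart p chart ⊤ hY (hns a).1 (s a) (hns a).2)
    (fun a => fC u hY (hXT a))
    (fun a => iX_comp u r hr hY (hns a).1 (hns a).2 (hXT a))
    (fun a => opensRange_iX hL hj u hP hPL r hr hY (hns a).1 (hns a).2 (hXT a))
    ?_
    (fun a => (isClosedImmersion_fC_iff hL hj u hP hPL r hr hY (hns a).1 (hns a).2 (hXT a)).mpr (h3 a))
  intro y
  have hy : y ∈ p ⁻¹ᵁ (⊤ : Y.Opens) := trivial
  obtain ⟨y₀, rfl⟩ := RelConeProj.exists_emb_eq (pC := p) (chartC := chart) ⊤ hY y hy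
  have h1 : y₀ ∈ (⨆ a, Proj.basicOpen (𝒮.deg ⊤ hY) (s a)) := by rw [h5]; trivial
  obtain ⟨a, ha⟩ := Opens.mem_iSup.mp h1
  refine ⟨a, ?_⟩
  rw [range_stdChart]
  exact ⟨y₀, ha, rfl⟩

end suff

section nec

variable {n : ℕ} (hn : 0 < n) {s : 𝒮.presheaf.obj (op ⊤)} (hs : s ∈ 𝒮.deg ⊤ hY n)
  (W : P.Opens) (r' : ((RelProj.domQ u pL chartL : PL.Opens) : Scheme.{u}) ⟶ W) (hr' : r' ≫ W.ι = r)
  (hW : Set.range (stdChart p chart ⊤ hY hn s hs) ⊆ Set.range W.ι)

include hL hj hP hPL hr hr' hW in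
/-- if `r` factors through the open `W ⊇ D_+(s)` by an affine morphism then `X_t` is affine -/
theorem isAffineOpen_XT_of_lift [IsAffineHom r'] : IsAffineOpen (XT u n s) := by
  haveI : IsIso pL := InvSym.isIso_pL hj hL hPL
  set D := (stdChart p chart ⊤ hY hn s hs).opensRange with hD
  have hDaff : IsAffineOpen D := isAffineOpen_opensRange _
  have hDW : D ≤ W.ι.opensRange := by
    intro y hy
    exact hW hy
  have h1 : IsAffineOpen (W.ι ⁻¹ᵁ D) := hDaff.preimage_of_isOpenImmersion W.ι hDW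
  have h2 : IsAffineOpen (r' ⁻¹ᵁ (W.ι ⁻¹ᵁ D)) := h1.preimage r'
  have h3 : r' ⁻¹ᵁ (W.ι ⁻¹ᵁ D) = r ⁻¹ᵁ D := by
    rw [← Scheme.Hom.comp_preimage, hr']
  rw [h3] at h2
  have h4 := h2.image_of_isOpenImmersion (RelProj.domQ u pL chartL).ι
  have h5 : D = (RelProj.emb p chart ⊤ hY) ''ᵁ Proj.basicOpen (𝒮.deg ⊤ hY) s := by
    ext y
    change y ∈ Set.range (stdChart p chart ⊤ hY hn s hs) ↔ _
    rw [range_stdChart]
    rfl
  rw [h5, preimage_XT hL hj u hP hPL r hr hY hn hs] at h4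
  have h6 := h4.preimage_of_isIso (inv pL)
  have h7 : (inv pL) ⁻¹ᵁ (pL ⁻¹ᵁ XT u n s) = XT u n s := by
    rw [← Scheme.Hom.comp_preimage, IsIso.inv_hom_id]
    rfl
  rw [h7] at h6
  exact h6

include hL hj hP hPL hr hr' hW in
/-- the chart map is a base change of the corestriction of `r` -/
theorem fC_of_lift {Q : MorphismProperty Scheme.{u}} [Q.IsStableUnderBaseChange]
    (hXT : IsAffineOpen (XT u n s)) (hQ : Q r') : Q (fC u hY hXT) := by
  have hpb := ImmLocal.isPullback_chart_lift (iX_comp u r hr hY hn hs hXT)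
    (opensRange_iX hL hj u hP hPL r hr hY hn hs hXT) W r' hr' hW
  exact MorphismProperty.of_isPullback hpb hQ

end nec

section chart_exists

include hP in
/-- points of `P` in an open set lie in a standard chart inside that open set -/
theorem exists_stdChart_le (O : P.Opens) (y : P) (hy : y ∈ O) :
    ∃ (n : ℕ) (hn : 0 < n) (s : 𝒮.presheaf.obj (op ⊤)) (hs : s ∈ 𝒮.deg ⊤ hY n),
      y ∈ Set.range (stdChart p chart ⊤ hY hn s hs) ∧
        Set.range (stdChart p chart ⊤ hY hn s hs) ⊆ (O : Set P) := by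
  have hytop : y ∈ p ⁻¹ᵁ (⊤ : Y.Opens) := trivial
  obtain ⟨y₀, rfl⟩ := RelConeProj.exists_emb_eq (pC := p) (chartC := chart) ⊤ hY y hytop
  let O' : (Proj (𝒮.deg ⊤ hY)).Opens := RelProj.emb p chart ⊤ hY ⁻¹ᵁ O
  obtain ⟨n, hn, s, hs, hy₀s, hsO⟩ := exists_pos_homog_basicOpen_le (𝒮.deg ⊤ hY) O' y₀ hy
  refine ⟨n, hn, s, hs, ?_, ?_⟩
  · rw [range_stdChart]
    exact ⟨y₀, hy₀s, rfl⟩
  · rw [range_stdChart]
    rintro _ ⟨z, hz, rfl⟩
    exact hsO hz

end chart_exists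

end fam

end Groth.Agent.Lib.Helper74.QMapImm
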