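import Groth.Agent.Lib.Helper74.QMapRetract

set_option autoImplicit false
universe u
open CategoryTheory CategoryTheory.Limits AlgebraicGeometry TopologicalSpace Opposite
open scoped HomogeneousIdeal
open HomogeneousLocalization

namespace Groth.Agent.Lib.Helper74.QMap

open Groth.Agent.Lib.Helper74.RelProjLib

section alg

variable {A B C σ τ ρ : Type u} [CommRing A] [SetLike σ A] [AddSubgroupClass σ A]
  [CommRing B] [SetLike τ B] [AddSubgroupClass τ B]
  [CommRing C] [SetLike ρ C] [AddSubgroupClass ρ C]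
  {𝒜 : ℕ → σ} {ℬ : ℕ → τ} {𝒞 : ℕ → ρ}
  [GradedRing 𝒜] [GradedRing ℬ] [GradedRing 𝒞]

theorem map_comp_eq_map (g₁ : 𝒜 →+*ᵍ ℬ) (g₂ : ℬ →+*ᵍ 𝒞) (g₃ : 𝒜 →+*ᵍ 𝒞)
    {P : Submonoid A} {Q : Submonoid B} {R : Submonoid C}
    (h₁ : P ≤ Q.comap g₁) (h₂ : Q ≤ R.comap g₂) (h₃ : P ≤ R.comap g₃)
    (hcomm : ∀ a, g₂ (g₁ a) = g₃ a) :
    (HomogeneousLocalization.map g₂ h₂).comp (HomogeneousLocalization.map g₁ h₁) =
      HomogeneousLocalization.map g₃ h₃ := by
  ext x
  obtain ⟨c, rfl⟩ := x.mk_surjective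
  simp only [RingHom.comp_apply, HomogeneousLocalization.map_mk]
  simp only [HomogeneousLocalization.val_mk]
  congr 1
  · exact hcomm _
  · exact Subtype.ext (hcomm _)

end alg

section comp

variable {Y Y' : Scheme.{u}} {q : Y' ⟶ Y} {𝒮 𝒯 : RelProj.QCGrAlg Y} {𝒮' : RelProj.QCGrAlg Y'}

theorem qGrHom_ext {u₁ u₂ : RelProj.QGrHom q 𝒮 𝒮'} (h : ∀ U, u₁.app U = u₂.app U) : u₁ = u₂ := by
  rcases u₁ with ⟨⟨a₁, n₁, s₁⟩, m₁⟩
  rcases u₂ with ⟨⟨a₂, n₂, s₂⟩, m₂⟩
  have : a₁ = a₂ := funext h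
  subst this
  rfl

variable (u : RelProj.QGrHom q 𝒮 𝒮') (v : 𝒯.toQCAlg ⟶ 𝒮.toQCAlg) (hv : RelProj.IsGradedHom v)

/-- the composite of a graded `q`-morphism with a graded homomorphism on the base -/
def compGr : RelProj.QGrHom q 𝒯 𝒮' where
  app U := v.hom.app (op U) ≫ u.app U
  naturality {U V} i := by
    rw [Category.assoc, u.naturality i, ← Category.assoc, ← v.hom.naturality, Category.assoc]
  str_app U := by
    have h := NatTrans.congr_app v.comm (op U)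
    rw [NatTrans.comp_app] at h
    rw [← Category.assoc, h, u.str_app]
  map_mem U hU U' hU' hle _ x hx := u.map_mem U hU U' hU' hle (hv U hU _ x hx)

theorem compGr_gradedAt (U : Y.Opens) (hU : IsAffineOpen U) (U' : Y'.Opens)
    (hU' : IsAffineOpen U') (hle : U' ≤ q ⁻¹ᵁ U) (x : 𝒯.presheaf.obj (op U)) :
    (compGr u v hv).gradedAt U hU U' hU' hle x =
      u.gradedAt U hU U' hU' hle (RelProj.gradedHomAt v hv U hU x) := rfl

theorem eq_compGr {u' : RelProj.QGrHom q 𝒯 𝒮'}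
    (hu' : ∀ U : Y.Opens, u'.app U = v.hom.app (op U) ≫ u.app U) : u' = compGr u v hv :=
  qGrHom_ext hu'

end comp

section compproj

variable {Y Y' : Scheme.{u}} {q : Y' ⟶ Y} {𝒮 𝒯 : RelProj.QCGrAlg Y} {𝒮' : RelProj.QCGrAlg Y'}
  (u : RelProj.QGrHom q 𝒮 𝒮') (v : 𝒯.toQCAlg ⟶ 𝒮.toQCAlg) (hv : RelProj.IsGradedHom v)
  {P PT P' : Scheme.{u}} {p : P ⟶ Y}
  {chart : ∀ (U : Y.Opens) (hU : IsAffineOpen U),
    (((p ⁻¹ᵁ U : P.Opens) : Scheme.{u}) ≅ Proj (𝒮.deg U hU))}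
  {pT : PT ⟶ Y}
  {chartT : ∀ (U : Y.Opens) (hU : IsAffineOpen U),
    (((pT ⁻¹ᵁ U : PT.Opens) : Scheme.{u}) ≅ Proj (𝒯.deg U hU))}
  {p' : P' ⟶ Y'}
  {chart' : ∀ (U : Y'.Opens) (hU : IsAffineOpen U),
    (((p' ⁻¹ᵁ U : P'.Opens) : Scheme.{u}) ≅ Proj (𝒮'.deg U hU))}

/-- `G(u ∘ v) ⊆ G(u)` -/
theorem domQ_compGr_le (hP' : RelProj.IsRelProj 𝒮' p' chart') :
    RelProj.domQ (compGr u v hv) p' chart' ≤ RelProj.domQ u p' chart' := by
  intro x hx
  obtain ⟨i, ξ, rfl⟩ := exists_chart_of_mem_domQ (compGr u v hv) p' chart' hx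
  change RelProj.emb p' chart' i.U' i.hU' (Proj.awayι _ _ (i.huf (compGr u v hv)) i.hd ξ) ∈ _
  refine (emb_mem_domQ_iff u hP' i.U i.hU i.U' i.hU' i.hle _).mpr ?_
  refine (mem_domOpen_iff_homog _ _).mpr ⟨i.d, i.hd, RelProj.gradedHomAt v hv i.U i.hU i.f,
    (RelProj.gradedHomAt v hv i.U i.hU).map_mem i.hf, ?_⟩
  have h1 := Proj.opensRange_awayι (𝒮'.deg i.U' i.hU') (i.uf (compGr u v hv))
    (i.huf (compGr u v hv)) i.hd
  change _ ∈ Proj.basicOpen (𝒮'.deg i.U' i.hU') (i.uf (compGr u v hv))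
  rw [← h1]
  exact ⟨ξ, rfl⟩

/-- the standard charts `D₊(v g)` lie in `G(v)` -/
theorem range_awayι_v_subset_domQ (hP : RelProj.IsRelProj 𝒮 p chart)
    (U : Y.Opens) (hU : IsAffineOpen U) {d : ℕ} (hd : 0 < d) (g : 𝒯.presheaf.obj (op U))
    (hg : g ∈ 𝒯.deg U hU d) :
    Set.range (Proj.awayι (𝒮.deg U hU) (RelProj.gradedHomAt v hv U hU g)
      ((RelProj.gradedHomAt v hv U hU).map_mem hg) hd ≫ RelProj.emb p chart U hU).base ⊆
      Set.range (RelProj.domQ (RelProj.QGrHom.ofHom v hv) p chart).ι.base := by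
  rw [Scheme.Opens.range_ι]
  rintro _ ⟨y, rfl⟩
  have hle : U ≤ (𝟙 Y) ⁻¹ᵁ U := le_rfl
  refine (emb_mem_domQ_iff (RelProj.QGrHom.ofHom v hv) hP U hU U hU hle _).mpr ?_
  rw [gradedAt_ofHom]
  refine (mem_domOpen_iff_homog _ _).mpr ⟨d, hd, g, hg, ?_⟩
  rw [← Proj.opensRange_awayι (𝒮.deg U hU) (RelProj.gradedHomAt v hv U hU g)
    ((RelProj.gradedHomAt v hv U hU).map_mem hg) hd]
  exact ⟨y, rfl⟩

/-- a point of `G(u)` lies in `G(u ∘ v)` iff `Proj(u)` sends it into `G(v)` -/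
theorem mem_domQ_compGr_iff (hP : RelProj.IsRelProj 𝒮 p chart)
    (hP' : RelProj.IsRelProj 𝒮' p' chart')
    (r : ((RelProj.domQ u p' chart' : P'.Opens) : Scheme.{u}) ⟶ P)
    (hr : RelProj.IsProjQMapOn u p chart p' chart' (RelProj.domQ u p' chart') r)
    (x : ((RelProj.domQ u p' chart' : P'.Opens) : Scheme.{u})) :
    x.1 ∈ RelProj.domQ (compGr u v hv) p' chart' ↔
      r x ∈ RelProj.domQ (RelProj.QGrHom.ofHom v hv) p chart := by
  constructor
  · intro hx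
    obtain ⟨i, ξ, hξ⟩ := exists_chart_of_mem_domQ (compGr u v hv) p' chart' hx
    have hy : RelProj.emb p' chart' i.U' i.hU'
        (Proj.awayι _ _ (i.huf (compGr u v hv)) i.hd ξ) ∈ RelProj.domQ u p' chart' := by
      have : RelProj.emb p' chart' i.U' i.hU'
        (Proj.awayι _ _ (i.huf (compGr u v hv)) i.hd ξ) = x.1 := hξ
      rw [this]; exact x.2
    have hx' : x = ⟨RelProj.emb p' chart' i.U' i.hU'
        (Proj.awayι _ _ (i.huf (compGr u v hv)) i.hd ξ), hy⟩ := Subtype.ext hξ.symm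
    have h1 := (qmap_mem_range_stdChart_iff u hP' r hr i.U i.hU i.U' i.hU' i.hle i.hd
      (RelProj.gradedHomAt v hv i.U i.hU i.f) ((RelProj.gradedHomAt v hv i.U i.hU).map_mem i.hf)
      _ hy).mpr (by
        have h2 := Proj.opensRange_awayι (𝒮'.deg i.U' i.hU') (i.uf (compGr u v hv))
          (i.huf (compGr u v hv)) i.hd
        change _ ∈ Proj.basicOpen (𝒮'.deg i.U' i.hU') (i.uf (compGr u v hv))
        rw [← h2]
        exact ⟨ξ, rfl⟩)
    rw [← hx'] at h1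
    have h3 := range_awayι_v_subset_domQ v hv hP i.U i.hU i.hd i.f i.hf
    rw [Scheme.Opens.range_ι] at h3
    exact h3 h1
  · intro hx
    obtain ⟨U, hU, U', hU', hle, hxU'⟩ := exists_affine_pair q (p' x.1)
    obtain ⟨y, hy⟩ := RelConeProj.exists_emb_eq (pC := p') (chartC := chart') U' hU' x.1 hxU'
    have hrU : r x ∈ p ⁻¹ᵁ U := by
      have h2 := congrArg (fun ψ => ψ.base x) (isProjQMapOn_comp hP hP' r hr)
      change p (r x) = q (p' x.1) at h2
      change p (r x) ∈ U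
      rw [h2]
      exact hle hxU'
    obtain ⟨w, hw⟩ := RelConeProj.exists_emb_eq (pC := p) (chartC := chart) U hU (r x) hrU
    have hle' : U ≤ (𝟙 Y) ⁻¹ᵁ U := le_rfl
    rw [← hw, emb_mem_domQ_iff (RelProj.QGrHom.ofHom v hv) hP U hU U hU hle' w, gradedAt_ofHom,
      mem_domOpen_iff_homog] at hx
    obtain ⟨d, hd, g, hg, hwg⟩ := hx
    have h1 : r x ∈ Set.range (stdChart p chart U hU hd (RelProj.gradedHomAt v hv U hU g)
        ((RelProj.gradedHomAt v hv U hU).map_mem hg)) := by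
      rw [← hw]
      exact (emb_mem_range_stdChart_self_iff U hU hd _ _ w).mpr hwg
    have hx' : x = ⟨RelProj.emb p' chart' U' hU' y, hy ▸ x.2⟩ := Subtype.ext hy.symm
    rw [hx', qmap_mem_range_stdChart_iff u hP' r hr U hU U' hU' hle hd _ _ y] at h1
    rw [← hy]
    refine (emb_mem_domQ_iff (compGr u v hv) hP' U hU U' hU' hle y).mpr ?_
    exact (mem_domOpen_iff_homog _ _).mpr ⟨d, hd, g, hg, h1⟩

/-- `Proj(u ∘ v) = Proj(v) ∘ Proj(u)` on `G(u ∘ v)` -/
theorem compGr_comp (hP : RelProj.IsRelProj 𝒮 p chart) (hP' : RelProj.IsRelProj 𝒮' p' chart')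
    (r : ((RelProj.domQ u p' chart' : P'.Opens) : Scheme.{u}) ⟶ P)
    (hr : RelProj.IsProjQMapOn u p chart p' chart' (RelProj.domQ u p' chart') r)
    (r' : ((RelProj.domQ (compGr u v hv) p' chart' : P'.Opens) : Scheme.{u}) ⟶ PT)
    (hr' : RelProj.IsProjQMapOn (compGr u v hv) pT chartT p' chart'
      (RelProj.domQ (compGr u v hv) p' chart') r')
    (πv : ((RelProj.domQ (RelProj.QGrHom.ofHom v hv) p chart : P.Opens) : Scheme.{u}) ⟶ PT)
    (hπv : RelProj.IsProjQMapOn (RelProj.QGrHom.ofHom v hv) pT chartT p chart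
      (RelProj.domQ (RelProj.QGrHom.ofHom v hv) p chart) πv)
    (r₀ : ((RelProj.domQ (compGr u v hv) p' chart' : P'.Opens) : Scheme.{u}) ⟶
      ((RelProj.domQ (RelProj.QGrHom.ofHom v hv) p chart : P.Opens) : Scheme.{u}))
    (hr₀ : r₀ ≫ (RelProj.domQ (RelProj.QGrHom.ofHom v hv) p chart).ι =
      P'.homOfLE (domQ_compGr_le u v hv hP') ≫ r) : r₀ ≫ πv = r' := by
  refine domQ_hom_ext _ _ fun i => ?_
  have he : u.gradedAt i.U i.hU i.U' i.hU' i.hle (RelProj.gradedHomAt v hv i.U i.hU i.f) =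
      i.uf (compGr u v hv) := rfl
  have hWu : Set.range (Proj.awayι (𝒮'.deg i.U' i.hU') (i.uf (compGr u v hv))
      (i.huf (compGr u v hv)) i.hd ≫ RelProj.emb p' chart' i.U' i.hU').base ⊆
      Set.range (RelProj.domQ u p' chart').ι.base := by
    refine (RelProj.range_awayEmb_subset_domQ (compGr u v hv) p' chart' i.U i.hU i.U' i.hU' i.hle
      i.hd i.f i.hf).trans ?_
    rw [Scheme.Opens.range_ι, Scheme.Opens.range_ι]
    exact domQ_compGr_le u v hv hP'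
  have h1 : chartLift (u := compGr u v hv) (p' := p') (chart' := chart') i ≫
      P'.homOfLE (domQ_compGr_le u v hv hP') =
      IsOpenImmersion.lift (RelProj.domQ u p' chart').ι
        (Proj.awayι (𝒮'.deg i.U' i.hU') (i.uf (compGr u v hv))
          (i.huf (compGr u v hv)) i.hd ≫ RelProj.emb p' chart' i.U' i.hU') hWu := by
    rw [← cancel_mono (RelProj.domQ u p' chart').ι, Category.assoc, Scheme.homOfLE_ι,
      chartLift_ι, IsOpenImmersion.lift_fac]
    rfl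
  have h1' := isProjQMapOn_chart_of_eq u hr i.U i.hU i.U' i.hU' i.hle i.hd
    (RelProj.gradedHomAt v hv i.U i.hU i.f) ((RelProj.gradedHomAt v hv i.U i.hU).map_mem i.hf)
    (s' := i.uf (compGr u v hv)) (i.huf (compGr u v hv)) he hWu
  have hW := range_awayι_v_subset_domQ v hv hP i.U i.hU i.hd i.f i.hf
  have h2 : chartLift (u := compGr u v hv) (p' := p') (chart' := chart') i ≫ r₀ =
      Spec.map (CommRingCat.ofHom (HomogeneousLocalization.map
        (u.gradedAt i.U i.hU i.U' i.hU' i.hle) (RelConeProj.powers_le_comap_of_eq _ he))) ≫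
      IsOpenImmersion.lift (RelProj.domQ (RelProj.QGrHom.ofHom v hv) p chart).ι
        (Proj.awayι (𝒮.deg i.U i.hU) (RelProj.gradedHomAt v hv i.U i.hU i.f)
          ((RelProj.gradedHomAt v hv i.U i.hU).map_mem i.hf) i.hd ≫
            RelProj.emb p chart i.U i.hU) hW := by
    rw [← cancel_mono (RelProj.domQ (RelProj.QGrHom.ofHom v hv) p chart).ι, Category.assoc,
      Category.assoc, hr₀, IsOpenImmersion.lift_fac, ← Category.assoc, h1]
    exact h1'
  have h3 := isProjQMapOn_ofHom_chart v hv hπv i.U i.hU i.hd i.f i.hf hW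
  have h4 : chartLift (u := compGr u v hv) (p' := p') (chart' := chart') i ≫ r' =
      Spec.map (CommRingCat.ofHom (Away.map ((compGr u v hv).gradedAt i.U i.hU i.U' i.hU' i.hle)
        i.f)) ≫ Proj.awayι (𝒯.deg i.U i.hU) i.f i.hf i.hd ≫ RelProj.emb pT chartT i.U i.hU :=
    (isProjQMapOn_iff (compGr u v hv) pT chartT p' chart' _ r').mp hr' i _
  have h5 : (HomogeneousLocalization.map
        (u.gradedAt i.U i.hU i.U' i.hU' i.hle) (RelConeProj.powers_le_comap_of_eq _ he)).comp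
      (Away.map (RelProj.gradedHomAt v hv i.U i.hU) i.f) =
      Away.map ((compGr u v hv).gradedAt i.U i.hU i.U' i.hU' i.hle) i.f :=
    map_comp_eq_map _ _ _ _ _ _ (fun _ => rfl)
  rw [reassoc_of% h2, h3, h4, ← Spec.map_comp_assoc, ← CommRingCat.ofHom_comp, h5]


/-- the factorization `r₀ : G(u ∘ v) → G(v)` of `Proj(u)` restricted to `G(u ∘ v)` -/
theorem exists_factor (hP : RelProj.IsRelProj 𝒮 p chart) (hP' : RelProj.IsRelProj 𝒮' p' chart')
    (r : ((RelProj.domQ u p' chart' : P'.Opens) : Scheme.{u}) ⟶ P)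
    (hr : RelProj.IsProjQMapOn u p chart p' chart' (RelProj.domQ u p' chart') r) :
    ∃ r₀ : ((RelProj.domQ (compGr u v hv) p' chart' : P'.Opens) : Scheme.{u}) ⟶
      ((RelProj.domQ (RelProj.QGrHom.ofHom v hv) p chart : P.Opens) : Scheme.{u}),
      r₀ ≫ (RelProj.domQ (RelProj.QGrHom.ofHom v hv) p chart).ι =
        P'.homOfLE (domQ_compGr_le u v hv hP') ≫ r := by
  have hrange : Set.range (P'.homOfLE (domQ_compGr_le u v hv hP') ≫ r).base ⊆
      Set.range (RelProj.domQ (RelProj.QGrHom.ofHom v hv) p chart).ι.base := by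
    rw [Scheme.Opens.range_ι]
    rintro _ ⟨x, rfl⟩
    refine (mem_domQ_compGr_iff u v hv hP hP' r hr
      (P'.homOfLE (domQ_compGr_le u v hv hP') x)).mp ?_
    have h1 : (P'.homOfLE (domQ_compGr_le u v hv hP') x).1 = x.1 :=
      congrArg (fun ψ => ψ.base x) (P'.homOfLE_ι (domQ_compGr_le u v hv hP'))
    rw [h1]
    exact x.2
  exact ⟨IsOpenImmersion.lift _ _ hrange, IsOpenImmersion.lift_fac _ _ _⟩

end compproj

end Groth.Agent.Lib.Helper74.QMap
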