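import Groth.Agent.Lib.Helper74.QMapImmU
import Groth.Agent.Lib.Helper74.QMapImm2
import Groth.Agent.Lib.Helper74.QMapComp

/-!
# Immersion criteria for `r_{L,ψ}` over an arbitrary base: families of local sections, composition
-/

set_option autoImplicit false
set_option linter.style.haveILetI false
universe u

open CategoryTheory CategoryTheory.Limits AlgebraicGeometry TopologicalSpace Opposite
open scoped HomogeneousIdeal
open HomogeneousLocalization

noncomputable section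

namespace Groth.Agent.Lib.Helper74.QMapImmU

open Groth.Agent.Lib.Helper74.QMap Groth.Agent.Lib.Helper74.QMapImm

section fam

variable {Y X P PL : Scheme.{u}} {q : X ⟶ Y}
  {L : X.Modules} (hL : PicF.IsInvertible L) [hLq : L.IsQuasicoherent]
  {𝒮 : RelProj.QCGrAlg Y} {𝒮L : RelProj.QCGrAlg X} {j : L ⟶ 𝒮L.toModule} (hj : RelProj.IsGrSymAlg L 𝒮L j)
  (u : RelProj.QGrHom q 𝒮 𝒮L)
  {p : P ⟶ Y} {chart : ∀ (U : Y.Opens) (hU : IsAffineOpen U), (((p ⁻¹ᵁ U : P.Opens) : Scheme.{u}) ≅ Proj (𝒮.deg U hU))}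
  (hP : RelProj.IsRelProj 𝒮 p chart)
  {pL : PL ⟶ X} {chartL : ∀ (U : X.Opens) (hU : IsAffineOpen U), (((pL ⁻¹ᵁ U : PL.Opens) : Scheme.{u}) ≅ Proj (𝒮L.deg U hU))}
  (hPL : RelProj.IsRelProj 𝒮L pL chartL)
  (r : ((RelProj.domQ u pL chartL : PL.Opens) : Scheme.{u}) ⟶ P)
  (hr : RelProj.IsProjQMapOn u p chart pL chartL (RelProj.domQ u pL chartL) r)

section suff

variable {ι : Type*} (Ua : ι → Y.Opens) (hUa : ∀ a, IsAffineOpen (Ua a))
  (n : ι → ℕ) (s : ∀ a, 𝒮.presheaf.obj (op (Ua a)))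
  (hns : ∀ a, 0 < n a ∧ s a ∈ 𝒮.deg (Ua a) (hUa a) (n a))
  (hcov : ∀ x : X, ∃ a, x ∈ XTU u (Ua a) (n a) (s a))
  (hXT : ∀ a, IsAffineOpen (XTU u (Ua a) (n a) (s a)))

include hL hj hP hPL hr hns hcov in
theorem domQ_eq_top_of_cover : RelProj.domQ u pL chartL = ⊤ := by
  rw [eq_top_iff]
  intro pt _
  obtain ⟨a, ha⟩ := hcov (pL pt)
  exact preimage_XTU_le_domQ hL hj u hP hPL r hr (Ua a) (hUa a) (hns a).1 (hns a).2 ha

include hL hj hP hPL hr hcov in
theorem exists_mem_range_iX (w : (RelProj.domQ u pL chartL : PL.Opens)) :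
    ∃ a, w ∈ Set.range (iX u (Ua a) (hUa a) (hns a).1 (hns a).2 (hXT a)) := by
  obtain ⟨a, ha⟩ := hcov (pL w.1)
  refine ⟨a, ?_⟩
  have h2 := (mem_preimage_XTU_iff hL hj u hP hPL r hr (Ua a) (hUa a) (hns a).1 (hns a).2 w).mp ha
  have h3 : w ∈ (iX (pL := pL) (chartL := chartL) u (Ua a) (hUa a) (hns a).1 (hns a).2 (hXT a)).opensRange := by
    rw [opensRange_iX hL hj u hP hPL r hr (Ua a) (hUa a) (hns a).1 (hns a).2 (hXT a)]
    exact h2
  exact h3

include hL hj hP hPL hr hns hcov hXT in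
theorem isImmersion_of_family (h3 : ∀ a, Cond3 u (Ua a) (hUa a) (n a) (s a)) : IsImmersion r :=
  ImmLocal.isImmersion_of_cover r (fun a => iX u (Ua a) (hUa a) (hns a).1 (hns a).2 (hXT a))
    (fun a => stdChart p chart (Ua a) (hUa a) (hns a).1 (s a) (hns a).2)
    (fun a => fC u (Ua a) (hUa a) (hXT a))
    (fun a => iX_comp u r hr (Ua a) (hUa a) (hns a).1 (hns a).2 (hXT a))
    (fun a => opensRange_iX hL hj u hP hPL r hr (Ua a) (hUa a) (hns a).1 (hns a).2 (hXT a))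
    (exists_mem_range_iX hL hj u hP hPL r hr Ua hUa n s hns hcov hXT)
    (fun a => (isClosedImmersion_fC_iff hL hj u hP hPL r hr (Ua a) (hUa a) (hns a).1 (hns a).2 (hXT a)).mpr (h3 a))

end suff

section nec

variable (U : Y.Opens) (hU : IsAffineOpen U)
  {n : ℕ} (hn : 0 < n) {s : 𝒮.presheaf.obj (op U)} (hs : s ∈ 𝒮.deg U hU n)
  (W : P.Opens) (r' : ((RelProj.domQ u pL chartL : PL.Opens) : Scheme.{u}) ⟶ W) (hr' : r' ≫ W.ι = r)
  (hW : Set.range (stdChart p chart U hU hn s hs) ⊆ Set.range W.ι)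

include hL hj hP hPL hr hr' hW in
/-- if `r` factors through the open `W ⊇ D_+(s)` by an affine morphism then `X_t` is affine -/
theorem isAffineOpen_XTU_of_lift [IsAffineHom r'] : IsAffineOpen (XTU u U n s) := by
  haveI : IsIso pL := InvSym.isIso_pL hj hL hPL
  set D := (stdChart p chart U hU hn s hs).opensRange with hD
  have hDaff : IsAffineOpen D := isAffineOpen_opensRange _
  have hDW : D ≤ W.ι.opensRange := by
    intro y hy
    exact hW hy
  have h1 : IsAffineOpen (W.ι ⁻¹ᵁ D) := hDaff.preimage_of_isOpenImmersion W.ι hDW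
  have h2 : IsAffineOpen (r' ⁻¹ᵁ (W.ι ⁻¹ᵁ D)) := h1.preimage r'
  have h3 : r' ⁻¹ᵁ (W.ι ⁻¹ᵁ D) = r ⁻¹ᵁ D := by
    rw [← Scheme.Hom.comp_preimage, hr']
  rw [h3] at h2
  have h4 := h2.image_of_isOpenImmersion (RelProj.domQ u pL chartL).ι
  have h5 : D = (RelProj.emb p chart U hU) ''ᵁ Proj.basicOpen (𝒮.deg U hU) s := by
    ext y
    change y ∈ Set.range (stdChart p chart U hU hn s hs) ↔ _
    rw [range_stdChart]
    rfl
  rw [h5, preimage_XTU hL hj u hP hPL r hr U hU hn hs] at h4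
  have h6 := h4.preimage_of_isIso (inv pL)
  have h7 : (inv pL) ⁻¹ᵁ (pL ⁻¹ᵁ XTU u U n s) = XTU u U n s := by
    rw [← Scheme.Hom.comp_preimage, IsIso.inv_hom_id]
    rfl
  rw [h7] at h6
  exact h6

include hL hj hP hPL hr hr' hW in
/-- the chart map is a base change of the corestriction of `r` -/
theorem fC_of_lift {Q : MorphismProperty Scheme.{u}} [Q.IsStableUnderBaseChange]
    (hXT : IsAffineOpen (XTU u U n s)) (hQ : Q r') : Q (fC u U hU hXT) := by
  have hpb := ImmLocal.isPullback_chart_lift (iX_comp u r hr U hU hn hs hXT)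
    (opensRange_iX hL hj u hP hPL r hr U hU hn hs hXT) W r' hr' hW
  exact MorphismProperty.of_isPullback hpb hQ

end nec

section chart_exists

/-- points of `P` in an open set lie in a standard chart inside that open set -/
theorem exists_stdChart_le (O : P.Opens) (y : P) (hy : y ∈ O) :
    ∃ (U : Y.Opens) (hU : IsAffineOpen U) (n : ℕ) (hn : 0 < n) (s : 𝒮.presheaf.obj (op U)) (hs : s ∈ 𝒮.deg U hU n),
      y ∈ Set.range (stdChart p chart U hU hn s hs) ∧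
        Set.range (stdChart p chart U hU hn s hs) ⊆ (O : Set P) := by
  obtain ⟨U, hyU⟩ := TopologicalSpace.Opens.mem_iSup.mp
    ((iSup_affineOpens_eq_top Y).ge (Set.mem_univ (p y)))
  have hytop : y ∈ p ⁻¹ᵁ U.1 := hyU
  obtain ⟨y₀, rfl⟩ := RelConeProj.exists_emb_eq (pC := p) (chartC := chart) U.1 U.2 y hytop
  let O' : (Proj (𝒮.deg U.1 U.2)).Opens := RelProj.emb p chart U.1 U.2 ⁻¹ᵁ O
  obtain ⟨n, hn, s, hs, hy₀s, hsO⟩ := exists_pos_homog_basicOpen_le (𝒮.deg U.1 U.2) O' y₀ hy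
  refine ⟨U.1, U.2, n, hn, s, hs, ?_, ?_⟩
  · rw [range_stdChart]
    exact ⟨y₀, hy₀s, rfl⟩
  · rw [range_stdChart]
    rintro _ ⟨z, hz, rfl⟩
    exact hsO hz

include hL hj hP hPL hr in
/-- necessity: an everywhere defined immersion `r` yields local data at each point -/
theorem exists_local_data (hdom : RelProj.domQ u pL chartL = ⊤) [IsImmersion r] (x : X) :
    ∃ (U : Y.Opens) (hU : IsAffineOpen U) (n : ℕ) (s : 𝒮.presheaf.obj (op U)),
      (0 < n ∧ s ∈ 𝒮.deg U hU n) ∧ x ∈ XTU u U n s ∧ IsAffineOpen (XTU u U n s) ∧ Cond3 u U hU n s := by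
  have hfac : r.liftCoborder ≫ r.coborderRange.ι = r := r.liftCoborder_ι
  haveI : IsIso pL := InvSym.isIso_pL hj hL hPL
  obtain ⟨pt, rfl⟩ : ∃ pt, pL pt = x :=
    ⟨(inv pL) x, by rw [← Scheme.Hom.comp_apply, IsIso.inv_hom_id]; rfl⟩
  have hpt : pt ∈ RelProj.domQ u pL chartL := by rw [hdom]; trivial
  have hrw : r ⟨pt, hpt⟩ ∈ r.coborderRange := by
    have h1 : r ⟨pt, hpt⟩ = r.coborderRange.ι (r.liftCoborder ⟨pt, hpt⟩) := by
      rw [← Scheme.Hom.comp_apply, hfac]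
    rw [h1]
    exact (r.liftCoborder ⟨pt, hpt⟩).2
  obtain ⟨U, hU, n, hn, s, hs, hmem, hsub⟩ :=
    exists_stdChart_le (chart := chart) r.coborderRange (r ⟨pt, hpt⟩) hrw
  have hW : Set.range (stdChart p chart U hU hn s hs) ⊆ Set.range r.coborderRange.ι := by
    rw [Scheme.Opens.range_ι]; exact hsub
  have hXT := isAffineOpen_XTU_of_lift hL hj u hP hPL r hr U hU hn hs
    r.coborderRange r.liftCoborder hfac hW
  have hQ := fC_of_lift (Q := @IsClosedImmersion) hL hj u hP hPL r hr U hU hn hs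
    r.coborderRange r.liftCoborder hfac hW hXT inferInstance
  refine ⟨U, hU, n, s, ⟨hn, hs⟩, ?_, hXT,
    (isClosedImmersion_fC_iff hL hj u hP hPL r hr U hU hn hs hXT).mp hQ⟩
  exact (mem_preimage_XTU_iff hL hj u hP hPL r hr U hU hn hs ⟨pt, hpt⟩).mpr hmem

end chart_exists

end fam

section comp

variable {Y Y' : Scheme.{u}} {q : Y' ⟶ Y} {𝒮 𝒯 : RelProj.QCGrAlg Y} {𝒮' : RelProj.QCGrAlg Y'}
  (u : RelProj.QGrHom q 𝒮 𝒮') (v : 𝒯.toQCAlg ⟶ 𝒮.toQCAlg) (hv : RelProj.IsGradedHom v)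
  {P PT P' : Scheme.{u}} {p : P ⟶ Y}
  {chart : ∀ (U : Y.Opens) (hU : IsAffineOpen U),
    (((p ⁻¹ᵁ U : P.Opens) : Scheme.{u}) ≅ Proj (𝒮.deg U hU))}
  {pT : PT ⟶ Y}
  {chartT : ∀ (U : Y.Opens) (hU : IsAffineOpen U),
    (((pT ⁻¹ᵁ U : PT.Opens) : Scheme.{u}) ≅ Proj (𝒯.deg U hU))}
  {p' : P' ⟶ Y'}
  {chart' : ∀ (U' : Y'.Opens) (hU' : IsAffineOpen U'),
    (((p' ⁻¹ᵁ U' : P'.Opens) : Scheme.{u}) ≅ Proj (𝒮'.deg U' hU'))}

include hv in
/-- if `Proj(u ∘ v)` is everywhere defined and an immersion then so is `Proj(u)` -/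
theorem isImmersion_of_comp (hP : RelProj.IsRelProj 𝒮 p chart) (hPT : RelProj.IsRelProj 𝒯 pT chartT)
    (hP' : RelProj.IsRelProj 𝒮' p' chart')
    (r : ((RelProj.domQ u p' chart' : P'.Opens) : Scheme.{u}) ⟶ P)
    (hr : RelProj.IsProjQMapOn u p chart p' chart' (RelProj.domQ u p' chart') r)
    (u' : RelProj.QGrHom q 𝒯 𝒮') (hu' : ∀ U : Y.Opens, u'.app U = v.hom.app (op U) ≫ u.app U)
    (r' : ((RelProj.domQ u' p' chart' : P'.Opens) : Scheme.{u}) ⟶ PT)
    (hr' : RelProj.IsProjQMapOn u' pT chartT p' chart' (RelProj.domQ u' p' chart') r')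
    (hdom : RelProj.domQ u' p' chart' = ⊤) (himm : IsImmersion r') :
    RelProj.domQ u p' chart' = ⊤ ∧ IsImmersion r := by
  obtain rfl := eq_compGr u v hv hu'
  have hle := domQ_compGr_le u v hv hP' (p' := p') (chart' := chart')
  have hdomu : RelProj.domQ u p' chart' = ⊤ := eq_top_iff.mpr (hdom ▸ hle)
  refine ⟨hdomu, ?_⟩
  obtain ⟨πv, hπv, -⟩ := existsUnique_isProjQMapOn (u := RelProj.QGrHom.ofHom v hv) hPT hP
  obtain ⟨r₀, hr₀⟩ := exists_factor u v hv hP hP' r hr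
  have hcomp := compGr_comp u v hv hP hP' r hr r' hr' πv hπv r₀ hr₀
  haveI : IsImmersion (r₀ ≫ πv) := hcomp ▸ himm
  haveI : IsImmersion r₀ := IsImmersion.of_comp r₀ πv
  haveI : IsImmersion (P'.homOfLE hle ≫ r) := by
    rw [← hr₀]; infer_instance
  haveI : IsIso (P'.homOfLE hle) := by
    have hle' : RelProj.domQ u p' chart' ≤ RelProj.domQ (compGr u v hv) p' chart' := by
      rw [hdom]; exact le_top
    refine ⟨P'.homOfLE hle', ?_, ?_⟩
    · rw [Scheme.homOfLE_homOfLE]; exact Scheme.homOfLE_rfl _ _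
    · rw [Scheme.homOfLE_homOfLE]; exact Scheme.homOfLE_rfl _ _
  have e : r = inv (P'.homOfLE hle) ≫ (P'.homOfLE hle ≫ r) := by
    rw [IsIso.inv_hom_id_assoc]
  rw [e]
  infer_instance

end comp

end Groth.Agent.Lib.Helper74.QMapImmU
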