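import Groth.Agent.Lib.Helper74.RelTwistNat
import Groth.Agent.Lib.Helper35.TwistExt

/-!
# Invertibility of `O(n)` on quasi-compact opens of a relative Proj (helper74)
-/

set_option autoImplicit false
universe u
open CategoryTheory AlgebraicGeometry TopologicalSpace Opposite
open scoped HomogeneousIdeal

namespace Groth.Agent.Lib.Helper74.TwistNat

open Groth.Agent.Lib.Lead.Inv Groth.Agent.Lib.Helper74.RelTilde
open Groth.Agent.Lib.Helper74.RelGlue Groth.Agent.Lib.Helper74.ModSec Groth.Agent.Lib.Helper74.QMap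
open Groth.Agent.Lib.Helper74.TwistGen

theorem isGen35_iff {X : Scheme.{u}} (L : X.Modules) (U : X.Opens) (e : Γ(L, U)) :
    Groth.Agent.Lib.Helper35.Gen.IsGen L U e ↔ IsGen L U e := Iff.rfl

/-- a module with local generators around the points of `U` restricts to an invertible module -/
theorem isInvertible_restrict_of_isGen {X : Scheme.{u}} (L : X.Modules) (U : X.Opens)
    (h : ∀ x ∈ U, ∃ (W : X.Opens) (e : Γ(L, W)), x ∈ W ∧ IsGen L W e) :
    PicF.IsInvertible (L.restrict U.ι) := by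
  rw [isInvertible_iff_exists_isGen]
  intro u
  obtain ⟨W, e, hxW, he⟩ := h u.1 u.2
  let G : (U : Scheme.{u}).Opens := U.ι ⁻¹ᵁ W
  have hle : U.ι ''ᵁ G ≤ W := by
    rw [Scheme.Hom.image_preimage_eq_opensRange_inf]
    exact inf_le_right
  refine ⟨G, hxW, (show Γ(L.restrict U.ι, G) from L.presheaf.map (homOfLE hle).op e), ?_⟩
  exact (isGen35_iff _ _ _).1 (Groth.Agent.Lib.Helper35.TwistExt.isGen_restrict_of_isGen L U G _
    ((isGen35_iff _ _ _).2 (he.res hle)))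

section alg

variable {A σ : Type u} [CommRing A] [SetLike σ A] [AddSubgroupClass σ A] {𝒜 : ℕ → σ} [GradedRing 𝒜]

theorem exists_pos_notMem (y : ProjectiveSpectrum 𝒜) :
    ∃ (d : ℕ) (_ : 0 < d) (f : A), f ∈ 𝒜 d ∧ f ∉ y.asHomogeneousIdeal := by
  by_contra hcon
  push Not at hcon
  apply y.not_irrelevant_le
  rw [HomogeneousIdeal.irrelevant_le]
  intro i hi x hx
  exact hcon i hi x hx

end alg


section rel

variable {Y P : Scheme.{u}} {𝒮 : RelProj.QCGrAlg Y} {p : P ⟶ Y}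
  {chart : ∀ (U : Y.Opens) (hU : IsAffineOpen U),
    (((p ⁻¹ᵁ U : P.Opens) : Scheme.{u}) ≅ Proj (𝒮.deg U hU))}

/-- local generator of `O_P(k d)` attached to a chart element `f` of degree `d` -/
theorem exists_isGen_chart {m : ℤ} {L : P.Modules}
    {lam : ∀ (U : Y.Opens) (hU : IsAffineOpen U), L ⟶ GTw p chart m U hU}
    (hL : RelProj.IsRelTwist 𝒮 p chart m L lam) (V : Y.Opens) (hV : IsAffineOpen V) {d : ℕ}
    (f : 𝒮.presheaf.obj (op V)) (hf : f ∈ 𝒮.deg V hV d) (k : ℤ) (hm : m = k * d)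
    (y : Proj (𝒮.deg V hV)) (hy : f ∉ y.asHomogeneousIdeal) :
    ∃ (W : P.Opens) (e : Γ(L, W)), RelProj.emb p chart V hV y ∈ W ∧ IsGen L W e := by
  let D : (Proj (𝒮.deg V hV)).Opens := Proj.basicOpen (𝒮.deg V hV) f
  let W : P.Opens := RelProj.emb p chart V hV ''ᵁ D
  have hWU : W ≤ p ⁻¹ᵁ V := by
    rintro _ ⟨z, -, rfl⟩
    exact emb_mem V hV z
  have hpre : RelProj.emb p chart V hV ⁻¹ᵁ W = D := (RelProj.emb p chart V hV).preimage_image_eq D
  have hD : ∀ z ∈ RelProj.emb p chart V hV ⁻¹ᵁ W, f ∉ z.asHomogeneousIdeal := by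
    intro z hz
    rw [hpre] at hz
    exact (Proj.mem_basicOpen _ f z).1 hz
  obtain ⟨e, he⟩ := (hL.bijective V hV W hWU).2
    (powSec (𝒮.deg V hV) f hf k m hm (RelProj.emb p chart V hV ⁻¹ᵁ W) hD)
  refine ⟨W, e, ⟨y, (Proj.mem_basicOpen _ f y).2 hy, rfl⟩, isGen_of_lam hL V hV W hWU e ?_⟩
  rw [he]
  exact isGen_powSec (𝒮.deg V hV) f hf k m hm _ hD

/-- a common degree for chart elements cutting out neighbourhoods of the points of a
quasi-compact open -/
theorem exists_common_degree (U : P.Opens) (hU : IsCompact (U : Set P)) :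
    ∃ d : ℕ, 0 < d ∧ ∀ x ∈ U, ∃ (V : Y.Opens) (hV : IsAffineOpen V)
      (f : 𝒮.presheaf.obj (op V)) (y : Proj (𝒮.deg V hV)),
      f ∈ 𝒮.deg V hV d ∧ f ∉ y.asHomogeneousIdeal ∧ RelProj.emb p chart V hV y = x := by
  classical
  have hloc : ∀ x : P, ∃ (V : Y.Opens) (hV : IsAffineOpen V) (y : Proj (𝒮.deg V hV)) (d : ℕ)
      (_ : 0 < d) (f : 𝒮.presheaf.obj (op V)), f ∈ 𝒮.deg V hV d ∧ f ∉ y.asHomogeneousIdeal ∧
        RelProj.emb p chart V hV y = x := by
    intro x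
    obtain ⟨V, hV, hxV⟩ := exists_affine_mem p x
    obtain ⟨y, hy⟩ := exists_emb_eq (chart := chart) V hV x hxV
    obtain ⟨d, hd, f, hf, hfy⟩ := exists_pos_notMem (𝒜 := 𝒮.deg V hV) y
    exact ⟨V, hV, y, d, hd, f, hf, hfy, hy⟩
  choose V hV y d hd f hf hfy hy using hloc
  let W : P → P.Opens := fun x => RelProj.emb p chart (V x) (hV x) ''ᵁ
    Proj.basicOpen (𝒮.deg (V x) (hV x)) (f x)
  have hcov : (U : Set P) ⊆ ⋃ x : P, (W x : Set P) := by
    intro x _
    refine Set.mem_iUnion.2 ⟨x, y x, (Proj.mem_basicOpen _ _ _).2 (hfy x), hy x⟩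
  obtain ⟨t, ht⟩ := hU.elim_finite_subcover (fun x => (W x : Set P)) (fun x => (W x).isOpen) hcov
  refine ⟨∏ x ∈ t, d x, Finset.prod_pos fun x _ => hd x, fun x' hx' => ?_⟩
  obtain ⟨x, hxt, hx'W⟩ := Set.mem_iUnion₂.1 (ht hx')
  obtain ⟨z, hz, hzx'⟩ := hx'W
  obtain ⟨k, hk⟩ := Finset.dvd_prod_of_mem d hxt
  refine ⟨V x, hV x, f x ^ k, z, ?_, ?_, hzx'⟩
  · have := SetLike.pow_mem_graded k (hf x)
    rwa [smul_eq_mul, mul_comm, ← hk] at this
  · intro hmem
    exact (Proj.mem_basicOpen _ _ z).1 hz (z.isPrime.mem_of_pow_mem _ hmem)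

/-- on a quasi-compact open of a relative Proj, `O(n)` is invertible for `n` divisible enough -/
theorem exists_isInvertible_restrict (U : P.Opens) (hU : IsCompact (U : Set P)) :
    ∃ d : ℕ, 0 < d ∧ ∀ (n : ℤ), (d : ℤ) ∣ n →
      ∀ (L : P.Modules) (lam : ∀ (V : Y.Opens) (hV : IsAffineOpen V), L ⟶ GTw p chart n V hV),
        RelProj.IsRelTwist 𝒮 p chart n L lam → PicF.IsInvertible (L.restrict U.ι) := by
  obtain ⟨d, hd, hcov⟩ := exists_common_degree (𝒮 := 𝒮) (chart := chart) U hU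
  refine ⟨d, hd, fun n hn L lam hL => ?_⟩
  obtain ⟨k, hk⟩ := hn
  refine isInvertible_restrict_of_isGen L U fun x hx => ?_
  obtain ⟨V, hV, f, y, hf, hfy, rfl⟩ := hcov x hx
  obtain ⟨W, e, hW, he⟩ := exists_isGen_chart hL V hV f hf k (by rw [hk, mul_comm]) y hfy
  exact ⟨W, e, hW, he⟩

end rel

end Groth.Agent.Lib.Helper74.TwistNat
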