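import Groth.Agent.Lib.Helper74.RelProjMap
import Mathlib.AlgebraicGeometry.Sites.SmallAffineZariski

set_option autoImplicit false
universe u
open CategoryTheory CategoryTheory.Limits AlgebraicGeometry TopologicalSpace Opposite
open scoped HomogeneousIdeal

namespace Groth.Agent.Lib.Helper74.RelProjLib

section glue

variable {Y P : Scheme.{u}} (p : P ⟶ Y)

/-- The cover of `P` by the preimages of the affine opens of `Y`, indexed by the small affine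
Zariski site (arrows = basic opens). -/
abbrev preimageCover : P.OpenCover where
  I₀ := Y.AffineZariskiSite
  X U := p ⁻¹ᵁ U.1
  f U := (p ⁻¹ᵁ U.1).ι
  mem₀ := by
    rw [Scheme.presieve₀_mem_precoverage_iff]
    refine ⟨fun x ↦ ?_, inferInstance⟩
    obtain ⟨U, hxU⟩ := TopologicalSpace.Opens.mem_iSup.mp
      ((iSup_affineOpens_eq_top Y).ge (Set.mem_univ (p x)))
    exact ⟨U, ⟨x, hxU⟩, rfl⟩

set_option backward.isDefEq.respectTransparency false in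
noncomputable instance : (preimageCover p).LocallyDirected where
  trans f := P.homOfLE (p.preimage_mono
    ((Scheme.AffineZariskiSite.toOpensFunctor _).map f).le)
  directed {U V} x := by
    let a := (pullback.fst _ _ ≫ (p ⁻¹ᵁ U.1).ι) x
    have haU : a ∈ p ⁻¹ᵁ U.1 := (pullback.fst (p ⁻¹ᵁ U.1).ι (p ⁻¹ᵁ V.1).ι x).2
    have haV : a ∈ p ⁻¹ᵁ V.1 := by
      unfold a; rw [pullback.condition]
      exact (pullback.snd (p ⁻¹ᵁ U.1).ι (p ⁻¹ᵁ V.1).ι x).2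
    obtain ⟨f, g, e, hxf⟩ := exists_basicOpen_le_affine_inter U.2 V.2 (p a) ⟨haU, haV⟩
    refine ⟨U.basicOpen f, homOfLE (U.basicOpen_le f), eqToHom (Subtype.ext (by exact e)) ≫
      homOfLE (V.basicOpen_le g), ⟨a, hxf⟩, ?_⟩
    apply (pullback.fst _ _ ≫ (p ⁻¹ᵁ U.1).ι).isOpenEmbedding.injective
    dsimp
    change (pullback.lift _ _ _ ≫ pullback.fst _ _ ≫ (p ⁻¹ᵁ U.1).ι) _ = _
    simp only [pullback.lift_fst_assoc, Scheme.homOfLE_ι, Scheme.Opens.ι_apply]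
    rfl

theorem existsUnique_glue {Z : Scheme.{u}}
    (e : ∀ (U : Y.Opens) (_ : IsAffineOpen U), ((p ⁻¹ᵁ U : P.Opens) : Scheme.{u}) ⟶ Z)
    (he : ∀ (U : Y.Opens) (hU : IsAffineOpen U) (r : Γ(Y, U)),
      P.homOfLE (p.preimage_mono (Y.basicOpen_le r)) ≫ e U hU =
        e (Y.basicOpen r) (hU.basicOpen r)) :
    ∃! g : P ⟶ Z, ∀ (U : Y.Opens) (hU : IsAffineOpen U), (p ⁻¹ᵁ U).ι ≫ g = e U hU := by
  have h : ∀ {i j : (preimageCover p).I₀} (hij : i ⟶ j),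
      (preimageCover p).trans hij ≫ (fun U : Y.AffineZariskiSite => e U.1 U.2) j =
        (fun U : Y.AffineZariskiSite => e U.1 U.2) i := by
    rintro ⟨U, hU⟩ ⟨V, hV⟩ hij
    obtain ⟨f, rfl⟩ := hij.le
    exact he V hV f
  refine ⟨(preimageCover p).glueMorphismsOfLocallyDirected
    (fun U : Y.AffineZariskiSite => e U.1 U.2) h, ?_, ?_⟩
  · intro U hU
    exact (preimageCover p).map_glueMorphismsOfLocallyDirected _ h ⟨U, hU⟩
  · intro g hg
    refine (preimageCover p).hom_ext _ _ fun U => ?_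
    rw [(preimageCover p).map_glueMorphismsOfLocallyDirected _ h U]
    exact hg U.1 U.2

end glue

section uniq

variable {Y P P' : Scheme.{u}} {𝒮 : RelProj.QCGrAlg Y} {p : P ⟶ Y}
  {chart : ∀ (U : Y.Opens) (hU : IsAffineOpen U),
    (((p ⁻¹ᵁ U : P.Opens) : Scheme.{u}) ≅ Proj (𝒮.deg U hU))}
  {p' : P' ⟶ Y}
  {chart' : ∀ (U : Y.Opens) (hU : IsAffineOpen U),
    (((p' ⁻¹ᵁ U : P'.Opens) : Scheme.{u}) ≅ Proj (𝒮.deg U hU))}

theorem chart_inv_res (hP : RelProj.IsRelProj 𝒮 p chart) (U : Y.Opens) (hU : IsAffineOpen U)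
    (r : Γ(Y, U)) :
    (chart (Y.basicOpen r) (hU.basicOpen r)).inv ≫
        P.homOfLE (p.preimage_mono (Y.basicOpen_le r)) =
      Proj.map (𝒮.res hU (hU.basicOpen r) (Y.basicOpen_le r)) (𝒮.irrelevant_le_map U hU r) ≫
        (chart U hU).inv := by
  rw [Iso.inv_comp_eq, ← Category.assoc, Iso.eq_comp_inv]
  exact hP.chart_res U hU r

/-- the comparison maps are compatible with restriction to basic opens -/
theorem comparison_compat (hP : RelProj.IsRelProj 𝒮 p chart)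
    (hP' : RelProj.IsRelProj 𝒮 p' chart') (U : Y.Opens) (hU : IsAffineOpen U) (r : Γ(Y, U)) :
    P.homOfLE (p.preimage_mono (Y.basicOpen_le r)) ≫
        ((chart U hU).hom ≫ (chart' U hU).inv ≫ (p' ⁻¹ᵁ U).ι) =
      (chart (Y.basicOpen r) (hU.basicOpen r)).hom ≫
        (chart' (Y.basicOpen r) (hU.basicOpen r)).inv ≫ (p' ⁻¹ᵁ (Y.basicOpen r)).ι := by
  rw [reassoc_of% (hP.chart_res U hU r), ← reassoc_of% (chart_inv_res hP' U hU r),
    Scheme.homOfLE_ι]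

theorem existsUnique_comparison (hP : RelProj.IsRelProj 𝒮 p chart)
    (hP' : RelProj.IsRelProj 𝒮 p' chart') :
    ∃! e : P ⟶ P', ∀ (U : Y.Opens) (hU : IsAffineOpen U),
        (p ⁻¹ᵁ U).ι ≫ e = (chart U hU).hom ≫ (chart' U hU).inv ≫ (p' ⁻¹ᵁ U).ι :=
  existsUnique_glue p _ (comparison_compat hP hP')

theorem comparison_comp_eq_id (e : P ⟶ P') (e' : P' ⟶ P)
    (he : ∀ (U : Y.Opens) (hU : IsAffineOpen U),
        (p ⁻¹ᵁ U).ι ≫ e = (chart U hU).hom ≫ (chart' U hU).inv ≫ (p' ⁻¹ᵁ U).ι)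
    (he' : ∀ (U : Y.Opens) (hU : IsAffineOpen U),
        (p' ⁻¹ᵁ U).ι ≫ e' = (chart' U hU).hom ≫ (chart U hU).inv ≫ (p ⁻¹ᵁ U).ι) :
    e ≫ e' = 𝟙 P := by
  refine (preimageCover p).hom_ext _ _ fun U => ?_
  change (p ⁻¹ᵁ U.1).ι ≫ e ≫ e' = (p ⁻¹ᵁ U.1).ι ≫ 𝟙 P
  rw [reassoc_of% (he U.1 U.2), he' U.1 U.2, Iso.inv_hom_id_assoc, Iso.hom_inv_id_assoc,
    Category.comp_id]

theorem comparison_over (hP : RelProj.IsRelProj 𝒮 p chart)
    (hP' : RelProj.IsRelProj 𝒮 p' chart') (e : P ⟶ P')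
    (he : ∀ (U : Y.Opens) (hU : IsAffineOpen U),
        (p ⁻¹ᵁ U).ι ≫ e = (chart U hU).hom ≫ (chart' U hU).inv ≫ (p' ⁻¹ᵁ U).ι) :
    e ≫ p' = p := by
  refine (preimageCover p).hom_ext _ _ fun U => ?_
  change (p ⁻¹ᵁ U.1).ι ≫ e ≫ p' = (p ⁻¹ᵁ U.1).ι ≫ p
  rw [reassoc_of% (he U.1 U.2), ← hP'.chart_over U.1 U.2, Iso.inv_hom_id_assoc,
    hP.chart_over U.1 U.2]

theorem comparison_isIso (hP : RelProj.IsRelProj 𝒮 p chart)
    (hP' : RelProj.IsRelProj 𝒮 p' chart') (e : P ⟶ P')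
    (he : ∀ (U : Y.Opens) (hU : IsAffineOpen U),
        (p ⁻¹ᵁ U).ι ≫ e = (chart U hU).hom ≫ (chart' U hU).inv ≫ (p' ⁻¹ᵁ U).ι) :
    IsIso e := by
  obtain ⟨e', he', -⟩ := existsUnique_comparison hP' hP
  exact ⟨e', comparison_comp_eq_id e e' he he', comparison_comp_eq_id e' e he' he⟩

end uniq

section induced

theorem projMap_congr {A B σ τ : Type u} [CommRing A] [SetLike σ A] [AddSubgroupClass σ A]
    [CommRing B] [SetLike τ B] [AddSubgroupClass τ B]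
    {𝒜 : ℕ → σ} {ℬ : ℕ → τ} [GradedRing 𝒜] [GradedRing ℬ]
    {f g : 𝒜 →+*ᵍ ℬ} (hfg : f = g) (hf : ℬ₊ ≤ 𝒜₊.map f) (hg : ℬ₊ ≤ 𝒜₊.map g) :
    Proj.map f hf = Proj.map g hg := by
  subst hfg
  rfl

variable {Y PA PB : Scheme.{u}} {𝒜 ℬ : RelProj.QCGrAlg Y}
    (φ : 𝒜.toQCAlg ⟶ ℬ.toQCAlg) (hφ : RelProj.IsGradedHom φ)
    (hirr : ∀ (U : Y.Opens) (hU : IsAffineOpen U),
      (ℬ.deg U hU)₊ ≤ ((𝒜.deg U hU)₊).map (RelProj.gradedHomAt φ hφ U hU))
    {pA : PA ⟶ Y} {pB : PB ⟶ Y}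
    {chartA : ∀ (U : Y.Opens) (hU : IsAffineOpen U),
      (((pA ⁻¹ᵁ U : PA.Opens) : Scheme.{u}) ≅ Proj (𝒜.deg U hU))}
    {chartB : ∀ (U : Y.Opens) (hU : IsAffineOpen U),
      (((pB ⁻¹ᵁ U : PB.Opens) : Scheme.{u}) ≅ Proj (ℬ.deg U hU))}

theorem res_comp_gradedHomAt (U : Y.Opens) (hU : IsAffineOpen U) (r : Γ(Y, U)) :
    (ℬ.res hU (hU.basicOpen r) (Y.basicOpen_le r)).comp (RelProj.gradedHomAt φ hφ U hU) =
      (RelProj.gradedHomAt φ hφ (Y.basicOpen r) (hU.basicOpen r)).comp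
        (𝒜.res hU (hU.basicOpen r) (Y.basicOpen_le r)) := by
  apply GradedRingHom.ext
  intro x
  have := congrArg (fun ψ => ψ.hom x) (φ.hom.naturality (homOfLE (Y.basicOpen_le r)).op)
  exact this.symm

theorem projMap_res_comp (U : Y.Opens) (hU : IsAffineOpen U) (r : Γ(Y, U)) :
    Proj.map (ℬ.res hU (hU.basicOpen r) (Y.basicOpen_le r)) (ℬ.irrelevant_le_map U hU r) ≫
        Proj.map (RelProj.gradedHomAt φ hφ U hU) (hirr U hU) =
      Proj.map (RelProj.gradedHomAt φ hφ (Y.basicOpen r) (hU.basicOpen r))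
          (hirr (Y.basicOpen r) (hU.basicOpen r)) ≫
        Proj.map (𝒜.res hU (hU.basicOpen r) (Y.basicOpen_le r)) (𝒜.irrelevant_le_map U hU r) := by
  rw [← Proj.map_comp, ← Proj.map_comp]
  exact projMap_congr (res_comp_gradedHomAt φ hφ U hU r) _ _

theorem induced_compat (hA : RelProj.IsRelProj 𝒜 pA chartA) (hB : RelProj.IsRelProj ℬ pB chartB)
    (U : Y.Opens) (hU : IsAffineOpen U) (r : Γ(Y, U)) :
    PB.homOfLE (pB.preimage_mono (Y.basicOpen_le r)) ≫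
        ((chartB U hU).hom ≫ Proj.map (RelProj.gradedHomAt φ hφ U hU) (hirr U hU) ≫
          (chartA U hU).inv ≫ (pA ⁻¹ᵁ U).ι) =
      (chartB (Y.basicOpen r) (hU.basicOpen r)).hom ≫
        Proj.map (RelProj.gradedHomAt φ hφ (Y.basicOpen r) (hU.basicOpen r))
          (hirr (Y.basicOpen r) (hU.basicOpen r)) ≫
        (chartA (Y.basicOpen r) (hU.basicOpen r)).inv ≫ (pA ⁻¹ᵁ (Y.basicOpen r)).ι := by
  rw [reassoc_of% (hB.chart_res U hU r), reassoc_of% (projMap_res_comp φ hφ hirr U hU r),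
    ← reassoc_of% (chart_inv_res hA U hU r), Scheme.homOfLE_ι]

theorem existsUnique_induced (hA : RelProj.IsRelProj 𝒜 pA chartA)
    (hB : RelProj.IsRelProj ℬ pB chartB) :
    ∃! h : PB ⟶ PA, RelProj.IsRelProjMap φ hφ hirr chartA chartB h :=
  existsUnique_glue pB _ (induced_compat φ hφ hirr hA hB)

end induced

end Groth.Agent.Lib.Helper74.RelProjLib
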