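import Groth.Agent.Lib.Helper74.RelTwistComap
import Groth.Agent.Lib.Helper74.RelProjMap
import Groth.Agent.Lib.Helper35.PbGen

universe u
open CategoryTheory AlgebraicGeometry TopologicalSpace Opposite
open scoped HomogeneousIdeal

namespace Groth.Agent.Lib.Helper74.TwistNat

open Groth.Agent.Lib.Lead.Inv Groth.Agent.Lib.Helper74.RelTilde
open Groth.Agent.Lib.Helper74.RelGlue Groth.Agent.Lib.Helper74.ModSec Groth.Agent.Lib.Helper74.QMap
open Groth.Agent.Lib.Helper74.TwistGen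

variable {Y PA PB : Scheme.{u}} {𝒜 ℬ : RelProj.QCGrAlg Y}
  (φ : 𝒜.toQCAlg ⟶ ℬ.toQCAlg) (hφ : RelProj.IsGradedHom φ)
  (hirr : ∀ (U : Y.Opens) (hU : IsAffineOpen U),
    (ℬ.deg U hU)₊ ≤ ((𝒜.deg U hU)₊).map (RelProj.gradedHomAt φ hφ U hU))
  {pA : PA ⟶ Y} {pB : PB ⟶ Y}
  {chartA : ∀ (U : Y.Opens) (hU : IsAffineOpen U),
    (((pA ⁻¹ᵁ U : PA.Opens) : Scheme.{u}) ≅ Proj (𝒜.deg U hU))}
  {chartB : ∀ (U : Y.Opens) (hU : IsAffineOpen U),
    (((pB ⁻¹ᵁ U : PB.Opens) : Scheme.{u}) ≅ Proj (ℬ.deg U hU))}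
  {h : PB ⟶ PA} (hh : RelProj.IsRelProjMap φ hφ hirr chartA chartB h)
  (hA : RelProj.IsRelProj 𝒜 pA chartA) (hB : RelProj.IsRelProj ℬ pB chartB)

include hh hA hB in
/-- `h^* O_{P_𝒜}(n) ≅ O_{P_ℬ}(n)` when `𝒜` is generated in degree one -/
theorem nonempty_pullback_iso (hgen : 𝒜.IsGenDegOne) (n : ℤ) {LA : PA.Modules}
    {lamA : ∀ (U : Y.Opens) (hU : IsAffineOpen U), LA ⟶ GTw pA chartA n U hU}
    (hLA : RelProj.IsRelTwist 𝒜 pA chartA n LA lamA) {LB : PB.Modules}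
    {lamB : ∀ (U : Y.Opens) (hU : IsAffineOpen U), LB ⟶ GTw pB chartB n U hU}
    (hLB : RelProj.IsRelTwist ℬ pB chartB n LB lamB) :
    Nonempty ((Scheme.Modules.pullback h).obj LA ≅ LB) := by
  obtain ⟨φ', hφ', -⟩ := existsUnique_pbTheta φ hφ hirr hh hA hB n hLA hLB
  have hpAB : h ≫ pA = pB := Groth.Agent.Lib.Helper74.RelProjLib.relProjMap_comp φ hφ hirr hA hB h hh
  suffices hiso : IsIso φ' from ⟨@asIso _ _ _ _ φ' hiso⟩
  refine isIso_of_isGen φ' fun x' => ?_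
  obtain ⟨U, hU, hxU⟩ := exists_affine_mem pB x'
  obtain ⟨y, rfl⟩ := exists_emb_eq (chart := chartB) U hU x' hxU
  obtain ⟨t, ht, hty⟩ := exists_deg_one_notMem (hgen U hU)
    (ProjectiveSpectrum.comap (RelProj.gradedHomAt φ hφ U hU) (hirr U hU) y)
  let D : (Proj (𝒜.deg U hU)).Opens := Proj.basicOpen (𝒜.deg U hU) t
  let W : PA.Opens := RelProj.emb pA chartA U hU ''ᵁ D
  have hWU : W ≤ pA ⁻¹ᵁ U := by
    rintro _ ⟨z, -, rfl⟩
    exact emb_mem U hU z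
  have hpre : RelProj.emb pA chartA U hU ⁻¹ᵁ W = D :=
    (RelProj.emb pA chartA U hU).preimage_image_eq D
  have hD : ∀ z ∈ RelProj.emb pA chartA U hU ⁻¹ᵁ W, t ∉ z.asHomogeneousIdeal := by
    intro z hz
    rw [hpre] at hz
    exact (Proj.mem_basicOpen _ t z).1 hz
  obtain ⟨eA, heA, hevA⟩ := exists_powSec_chart hLA U hU t ht n (by simp) W hWU hD
  have hle : h ⁻¹ᵁ W ≤ pB ⁻¹ᵁ U := by
    intro x'' hx''
    have h1 : pA (h x'') ∈ U := hWU hx''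
    rw [← hpAB]
    exact h1
  -- nonvanishing of `φ t` on the chart preimage
  have hDB : ∀ z ∈ RelProj.emb pB chartB U hU ⁻¹ᵁ (h ⁻¹ᵁ W),
      RelProj.gradedHomAt φ hφ U hU t ∉ z.asHomogeneousIdeal := by
    intro z hz
    have h1 : h (RelProj.emb pB chartB U hU z) ∈ W := hz
    rw [h_emb_apply φ hφ hirr hh U hU z] at h1
    exact hD _ h1
  refine ⟨h ⁻¹ᵁ W, Groth.Agent.Lib.Helper35.PbInv.pbSec h LA W eA, ?_, ?_, ?_⟩
  · change h (RelProj.emb pB chartB U hU y) ∈ W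
    rw [h_emb_apply φ hφ hirr hh U hU y]
    exact ⟨_, (Proj.mem_basicOpen _ t _).2 hty, rfl⟩
  · exact (isGen35_iff _ _ _).1 (Groth.Agent.Lib.Helper35.PbInv.isGen_pbSec h LA W eA
      ((isGen35_iff _ _ _).2 heA))
  · refine isGen_of_lam hLB U hU (h ⁻¹ᵁ W) hle _ ?_
    have key : (lamB U hU).app (h ⁻¹ᵁ W)
        (φ'.app (h ⁻¹ᵁ W) (Groth.Agent.Lib.Helper35.PbInv.pbSec h LA W eA)) =
        powSec (ℬ.deg U hU) (RelProj.gradedHomAt φ hφ U hU t)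
          ((RelProj.gradedHomAt φ hφ U hU).map_mem ht) n n (by simp)
          (RelProj.emb pB chartB U hU ⁻¹ᵁ (h ⁻¹ᵁ W)) hDB := by
      have h1 : (φ' ≫ lamB U hU).app (h ⁻¹ᵁ W)
          (Groth.Agent.Lib.Helper35.PbInv.pbSec h LA W eA) =
          (muHom φ hφ hirr hh n lamA U hU).app W eA := by
        rw [hφ' U hU]
        exact Groth.Agent.Lib.Helper35.PbInv.adj_app h (muHom φ hφ hirr hh n lamA U hU) W eA
      refine Eq.trans (show _ = (φ' ≫ lamB U hU).app (h ⁻¹ᵁ W) _ from rfl) (h1.trans ?_)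
      refine sec_ext (ℬ.deg U hU) n (W := RelProj.emb pB chartB U hU ⁻¹ᵁ (h ⁻¹ᵁ W)) _ _
        fun z => ?_
      rw [muHom_app_val, hevA, powSec_val, powSec_val, GrTwist.locMap_mk]
      refine mk_congr_tw ?_ ?_
      · exact map_pow _ _ _
      · exact map_pow _ _ _
    rw [key]
    exact isGen_powSec (ℬ.deg U hU) _ _ n n (by simp) _ hDB

end Groth.Agent.Lib.Helper74.TwistNat
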