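import Mathlib.RingTheory.GradedAlgebra.Basic
import Mathlib.Algebra.MonoidAlgebra.Grading
import Mathlib.Algebra.Polynomial.Basic

set_option autoImplicit false
open DirectSum

namespace Groth.Agent.Lib.Helper74.GrTransport

section transport

variable {A B : Type*} [CommRing A] [CommRing B] {σ : Type*} [SetLike σ A] [AddSubgroupClass σ A]
  (e : B ≃+* A) (𝒜 : ℕ → σ)

/-- the grading transported along a ring isomorphism -/
def comapGr (n : ℕ) : AddSubgroup B where
  carrier := {b | e b ∈ 𝒜 n}
  zero_mem' := by change e 0 ∈ 𝒜 n; rw [map_zero]; exact zero_mem _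
  add_mem' := by
    intro a b ha hb
    change e (a + b) ∈ 𝒜 n
    rw [map_add]; exact add_mem ha hb
  neg_mem' := by
    intro a ha
    change e (-a) ∈ 𝒜 n
    rw [map_neg]; exact neg_mem ha

theorem mem_comapGr {n : ℕ} {b : B} : b ∈ comapGr e 𝒜 n ↔ e b ∈ 𝒜 n := Iff.rfl

variable [GradedRing 𝒜]

instance : SetLike.GradedMonoid (comapGr e 𝒜) where
  one_mem := by
    change e 1 ∈ 𝒜 0
    rw [map_one]; exact SetLike.one_mem_graded _
  mul_mem := by
    intro i j a b ha hb
    change e (a * b) ∈ 𝒜 (i + j)
    rw [map_mul]; exact SetLike.mul_mem_graded ha hb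

/-- piece maps -/
def pieceHom (n : ℕ) : 𝒜 n →+ comapGr e 𝒜 n where
  toFun a := ⟨e.symm a, by change e (e.symm a) ∈ 𝒜 n; rw [RingEquiv.apply_symm_apply]; exact a.2⟩
  map_zero' := by ext; simp
  map_add' a b := by ext; simp

/-- the decomposition map -/
noncomputable def decomp : B →+ ⨁ n, comapGr e 𝒜 n :=
  (DirectSum.map (pieceHom e 𝒜)).comp
    ((DirectSum.decomposeAddEquiv 𝒜).toAddMonoidHom.comp e.toAddMonoidHom)

omit [GradedRing 𝒜] in
theorem coe_comp_map :
    (DirectSum.coeAddMonoidHom (comapGr e 𝒜)).comp (DirectSum.map (pieceHom e 𝒜)) =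
      e.symm.toAddMonoidHom.comp (DirectSum.coeAddMonoidHom 𝒜) := by
  apply DirectSum.addHom_ext
  intro n a
  simp only [AddMonoidHom.comp_apply, DirectSum.map_of, DirectSum.coeAddMonoidHom_of]
  rfl

noncomputable instance : DirectSum.Decomposition (comapGr e 𝒜) :=
  DirectSum.Decomposition.ofAddHom _ (decomp e 𝒜)
    (by
      ext b
      simp only [decomp, AddMonoidHom.comp_apply, AddMonoidHom.id_apply]
      have := DFunLike.congr_fun (coe_comp_map e 𝒜)
        (DirectSum.decomposeAddEquiv 𝒜 (e b))
      simp only [AddMonoidHom.comp_apply] at this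
      refine this.trans ?_
      change e.symm ((DirectSum.decompose 𝒜).symm (DirectSum.decompose 𝒜 (e b))) = b
      rw [Equiv.symm_apply_apply, RingEquiv.symm_apply_apply])
    (by
      apply DirectSum.addHom_ext
      intro n b
      simp only [decomp, AddMonoidHom.comp_apply, AddMonoidHom.id_apply,
        DirectSum.coeAddMonoidHom_of]
      change (DirectSum.map (pieceHom e 𝒜)) (DirectSum.decompose 𝒜 (e (b : B))) = _
      rw [DirectSum.decompose_of_mem 𝒜 (show e (b : B) ∈ 𝒜 n from b.2), DirectSum.map_of]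
      congr 1
      ext
      simp [pieceHom])

noncomputable instance : GradedRing (comapGr e 𝒜) where

end transport

end Groth.Agent.Lib.Helper74.GrTransport
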