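import Mathlib.AlgebraicGeometry.ProjectiveSpectrum.Functor
import Mathlib.RingTheory.Localization.BaseChange
import Mathlib.Algebra.Category.Ring.Constructions
import Mathlib.AlgebraicGeometry.Pullbacks

set_option autoImplicit false
universe u
open CategoryTheory CategoryTheory.Limits AlgebraicGeometry
open scoped HomogeneousIdeal
open HomogeneousLocalization

namespace Groth.Agent.Lib.Helper74.ProjLoc

/-- A square of rings whose horizontal arrows are localizations away from `r` and its image is a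
pushout. -/
theorem isPushout_of_isLocalization_away {R R' S S' : Type u} [CommRing R] [CommRing R']
    [CommRing S] [CommRing S'] (f : R →+* R') (g : R →+* S) (g' : R' →+* S') (h : S →+* S')
    (comm : g'.comp f = h.comp g) (r : R)
    (h1 : letI := f.toAlgebra; IsLocalization.Away r R')
    (h2 : letI := h.toAlgebra; IsLocalization.Away (g r) S') :
    IsPushout (CommRingCat.ofHom f) (CommRingCat.ofHom g) (CommRingCat.ofHom g')
      (CommRingCat.ofHom h) := by
  algebraize [f, g, g', h, h.comp g]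
  have : IsScalarTower R R' S' := .of_algebraMap_eq' comm.symm
  have : IsScalarTower R S S' := .of_algebraMap_eq' rfl
  have : IsLocalization.Away r R' := h1
  have h2' : IsLocalization.Away (g r) S' := h2
  have : Algebra.IsPushout R R' S S' := by
    rw [Algebra.IsPushout.comm]
    refine (Algebra.isLocalization_iff_isPushout (.powers r) R').mp ?_
    have e : Algebra.algebraMapSubmonoid S (Submonoid.powers r) = Submonoid.powers (g r) := by
      simp [Algebra.algebraMapSubmonoid, RingHom.algebraMap_toAlgebra]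
    rw [e]
    exact h2'
  exact CommRingCat.isPushout_of_isPushout R R' S S'

section away

variable {A B σ τ : Type u} [CommRing A] [SetLike σ A] [AddSubgroupClass σ A]
  [CommRing B] [SetLike τ B] [AddSubgroupClass τ B]
  {𝒜 : ℕ → σ} {ℬ : ℕ → τ} [GradedRing 𝒜] [GradedRing ℬ]
  (ψ : 𝒜 →+*ᵍ ℬ)

theorem awayMap_fromZero (s : A) (c : 𝒜 0) :
    Away.map ψ s (fromZeroRingHom 𝒜 (Submonoid.powers s) c) =
      fromZeroRingHom ℬ (Submonoid.powers (ψ s)) (ψ.gradedZeroRingHom c) := by
  apply HomogeneousLocalization.val_injective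
  simp only [fromZeroRingHom, RingHom.coe_mk, MonoidHom.coe_mk, OneHom.coe_mk,
    Away.map, HomogeneousLocalization.map_mk, HomogeneousLocalization.val_mk]
  congr 1
  ext
  simp

/-- If `B = A[1/c]` with `c` of degree zero, then `B_(ψ s) = A_(s)[1/c]`. -/
theorem isLocalization_away_awayMap (c : A) (hc : c ∈ 𝒜 0)
    (hloc : letI := ψ.toRingHom.toAlgebra; IsLocalization.Away c B)
    {d : ℕ} {s : A} (hs : s ∈ 𝒜 d) :
    letI := (Away.map ψ s).toAlgebra
    IsLocalization.Away (fromZeroRingHom 𝒜 (Submonoid.powers s) ⟨c, hc⟩) (Away ℬ (ψ s)) := by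
  classical
  -- facts from the localization `A → B`
  have hu : IsUnit (ψ c) := by
    letI := ψ.toRingHom.toAlgebra
    exact IsLocalization.Away.algebraMap_isUnit (S := B) c
  have hsurjB : ∀ b : B, ∃ (k : ℕ) (a : A), b * ψ c ^ k = ψ a := by
    letI := ψ.toRingHom.toAlgebra
    intro b
    exact IsLocalization.Away.surj c b
  have hkerB : ∀ a : A, ψ a = 0 → ∃ k : ℕ, c ^ k * a = 0 := by
    letI := ψ.toRingHom.toAlgebra
    intro a ha
    have h0 : algebraMap A B a = algebraMap A B 0 := by rw [map_zero]; exact ha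
    obtain ⟨k, hk⟩ := IsLocalization.Away.exists_of_eq (S := B) c h0
    exact ⟨k, by rw [hk, mul_zero]⟩
  have hψc : ψ c ∈ ℬ 0 := ψ.map_mem hc
  -- the inverse of `ψ c` lies in degree zero
  obtain ⟨u, hu'⟩ := hu.exists_right_inv
  have hu0 : ψ c * ((DirectSum.decompose ℬ u 0 : ℬ 0) : B) = 1 := by
    have h1 := DirectSum.coe_decompose_mul_of_left_mem ℬ (b := u) 0 hψc
    rw [hu', if_pos (le_refl 0), Nat.sub_zero] at h1
    rw [← h1]
    exact DirectSum.decompose_of_mem_same ℬ SetLike.GradedOne.one_mem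
  letI := (Away.map ψ s).toAlgebra
  have halg : ∀ x, algebraMap (Away 𝒜 s) (Away ℬ (ψ s)) x = Away.map ψ s x := fun _ => rfl
  rw [IsLocalization.Away, isLocalization_iff]
  refine ⟨?_, ?_, ?_⟩
  · rintro ⟨_, k, rfl⟩
    rw [map_pow]
    apply IsUnit.pow
    rw [halg, awayMap_fromZero]
    refine IsUnit.map (fromZeroRingHom ℬ (Submonoid.powers (ψ s))) ?_
    refine ⟨⟨ψ.gradedZeroRingHom ⟨c, hc⟩, DirectSum.decompose ℬ u 0, ?_, ?_⟩, rfl⟩
    · exact Subtype.ext hu0
    · exact Subtype.ext ((mul_comm _ _).trans hu0)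
  · intro z
    obtain ⟨n, b, hb, rfl⟩ := Away.mk_surjective ℬ (ψ.map_mem hs) z
    obtain ⟨k, a, hka⟩ := hsurjB b
    have hbk : b * ψ c ^ k ∈ ℬ (n • d) := by
      have := SetLike.mul_mem_graded hb (SetLike.pow_mem_graded k hψc)
      simpa using this
    have ha' : ψ ((DirectSum.decompose 𝒜 a (n • d) : 𝒜 (n • d)) : A) = b * ψ c ^ k := by
      rw [GradedRingHom.map_directSumDecompose 𝒜 ℬ ψ, ← hka,
        DirectSum.decompose_of_mem_same ℬ hbk]
    refine ⟨⟨Away.mk 𝒜 hs n (DirectSum.decompose 𝒜 a (n • d)) (SetLike.coe_mem _),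
      ⟨_, k, rfl⟩⟩, ?_⟩
    simp only
    rw [halg, halg, map_pow, awayMap_fromZero, Away.map_mk]
    apply HomogeneousLocalization.val_injective
    rw [HomogeneousLocalization.val_mul, HomogeneousLocalization.val_pow, Away.val_mk, Away.val_mk]
    simp only [fromZeroRingHom, RingHom.coe_mk, MonoidHom.coe_mk, OneHom.coe_mk,
      HomogeneousLocalization.val_mk]
    rw [Localization.mk_pow, Localization.mk_mul, ha']
    rw [Localization.mk_eq_mk_iff, Localization.r_iff_exists]
    refine ⟨1, ?_⟩
    simp only [OneMemClass.coe_one, one_mul, Submonoid.coe_mul, SubmonoidClass.coe_pow]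
    change ψ s ^ n * (b * ψ c ^ k) = ψ s ^ n * (1 : B) ^ k * (b * ψ c ^ k)
    ring
  · intro x y hxy
    rw [halg, halg] at hxy
    have hz : Away.map ψ s (x - y) = 0 := by rw [map_sub, hxy, sub_self]
    obtain ⟨n, a, ha, hxa⟩ := Away.mk_surjective 𝒜 hs (x - y)
    rw [← hxa, Away.map_mk] at hz
    have hz' := congrArg HomogeneousLocalization.val hz
    rw [Away.val_mk, HomogeneousLocalization.val_zero, Localization.mk_eq_mk',
      IsLocalization.mk'_eq_zero_iff] at hz'
    obtain ⟨⟨_, j, rfl⟩, hj⟩ := hz'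
    have hj' : ψ (s ^ j * a) = 0 := by
      rw [map_mul, map_pow]
      exact hj
    obtain ⟨k, hk⟩ := hkerB _ hj'
    refine ⟨⟨_, k, rfl⟩, ?_⟩
    simp only
    rw [← sub_eq_zero, ← mul_sub, ← hxa]
    apply HomogeneousLocalization.val_injective
    rw [HomogeneousLocalization.val_mul, HomogeneousLocalization.val_pow, Away.val_mk,
      HomogeneousLocalization.val_zero]
    simp only [fromZeroRingHom, RingHom.coe_mk, MonoidHom.coe_mk, OneHom.coe_mk,
      HomogeneousLocalization.val_mk]
    rw [Localization.mk_pow, Localization.mk_mul, Localization.mk_eq_mk',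
      IsLocalization.mk'_eq_zero_iff]
    refine ⟨⟨s ^ j, j, rfl⟩, ?_⟩
    simp only
    rw [← hk]
    ring

end away

end Groth.Agent.Lib.Helper74.ProjLoc
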