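import Groth.Agent.Lib.Helper5.AwayBaseChange
import Groth.Agent.Lib.Helper74.ProjLocalization

set_option autoImplicit false
universe u
open CategoryTheory CategoryTheory.Limits AlgebraicGeometry
open scoped HomogeneousIdeal
open HomogeneousLocalization

namespace Groth.Agent.Lib.Helper74.ProjBC

section sub

variable {R A : Type u} [CommRing R] [CommRing A] [Algebra R A]
  (𝒜 : ℕ → AddSubgroup A) [GradedRing 𝒜] (h : ∀ r, algebraMap R A r ∈ 𝒜 0)

/-- an additive-subgroup grading whose degree zero part contains the image of `R`, as a grading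
by `R`-submodules -/
def subGrading : ℕ → Submodule R A := fun d =>
  { (𝒜 d).toAddSubmonoid with
    smul_mem' := fun r x hx => by
      change r • x ∈ 𝒜 d
      rw [Algebra.smul_def]
      simpa using SetLike.mul_mem_graded (h r) hx }

theorem mem_subGrading {d : ℕ} {x : A} : x ∈ subGrading 𝒜 h d ↔ x ∈ 𝒜 d := Iff.rfl

/-- the identity `𝒜 d → subGrading 𝒜 h d` -/
def idHom (d : ℕ) : 𝒜 d →+ subGrading 𝒜 h d where
  toFun x := ⟨x.1, x.2⟩
  map_zero' := rfl
  map_add' _ _ := rfl

instance subGrading_gradedMonoid : SetLike.GradedMonoid (subGrading 𝒜 h) where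
  one_mem := SetLike.GradedOne.one_mem (A := 𝒜)
  mul_mem _ _ _ _ ha hb := SetLike.GradedMul.mul_mem (A := 𝒜) ha hb

theorem coe_comp_map :
    (DirectSum.coeAddMonoidHom (subGrading 𝒜 h)).comp (DirectSum.map (idHom 𝒜 h)) =
      DirectSum.coeAddMonoidHom 𝒜 := by
  refine DirectSum.addHom_ext fun i x => ?_
  simp only [AddMonoidHom.comp_apply, DirectSum.map_of, DirectSum.coeAddMonoidHom_of]
  rfl

/-- the decomposition of the submodule grading -/
noncomputable instance subDecomposition : DirectSum.Decomposition (subGrading 𝒜 h) :=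
  DirectSum.Decomposition.ofAddHom (subGrading 𝒜 h)
    ((DirectSum.map (idHom 𝒜 h)).comp (DirectSum.decomposeAddEquiv 𝒜).toAddMonoidHom)
    (by
      rw [← AddMonoidHom.comp_assoc, coe_comp_map]
      ext a
      exact DirectSum.Decomposition.left_inv a)
    (by
      refine DirectSum.addHom_ext fun i x => ?_
      simp only [AddMonoidHom.comp_apply, DirectSum.coeAddMonoidHom_of, AddMonoidHom.id_apply]
      change DirectSum.map (idHom 𝒜 h) (DirectSum.decompose 𝒜 (x : A)) = _
      rw [DirectSum.decompose_of_mem 𝒜 (i := i) x.2, DirectSum.map_of]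
      rfl)

/-- the graded algebra structure on the submodule grading -/
noncomputable instance subGradedAlgebra : GradedAlgebra (subGrading 𝒜 h) :=
  { subGrading_gradedMonoid 𝒜 h, subDecomposition 𝒜 h with }

/-- identity as a graded hom -/
def toSub : 𝒜 →+*ᵍ subGrading 𝒜 h := { RingHom.id A with map_mem := fun hx => hx }

/-- identity as a graded hom -/
def ofSub : subGrading 𝒜 h →+*ᵍ 𝒜 := { RingHom.id A with map_mem := fun hx => hx }

theorem ofSub_comp_toSub : (ofSub 𝒜 h).comp (toSub 𝒜 h) = GradedRingHom.id 𝒜 :=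
  GradedRingHom.ext fun _ => rfl

theorem toSub_comp_ofSub :
    (toSub 𝒜 h).comp (ofSub 𝒜 h) = GradedRingHom.id (subGrading 𝒜 h) :=
  GradedRingHom.ext fun _ => rfl

theorem le_comap_toSub (P : Submonoid A) : P ≤ P.comap (toSub 𝒜 h) := fun _ hx => hx

theorem le_comap_ofSub (P : Submonoid A) : P ≤ P.comap (ofSub 𝒜 h) := fun _ hx => hx

/-- homogeneous localizations of the two gradings agree -/
noncomputable def locEquiv (P : Submonoid A) :
    HomogeneousLocalization (subGrading 𝒜 h) P ≃+* HomogeneousLocalization 𝒜 P :=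
  RingEquiv.ofRingHom (HomogeneousLocalization.map (ofSub 𝒜 h) (le_comap_ofSub 𝒜 h P))
    (HomogeneousLocalization.map (toSub 𝒜 h) (le_comap_toSub 𝒜 h P))
    (by
      rw [← HomogeneousLocalization.map_comp]
      have := HomogeneousLocalization.map_id 𝒜 P
      convert this using 2
      exact ofSub_comp_toSub 𝒜 h)
    (by
      rw [← HomogeneousLocalization.map_comp]
      have := HomogeneousLocalization.map_id (subGrading 𝒜 h) P
      convert this using 2
      exact toSub_comp_ofSub 𝒜 h)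

end sub

section zero

variable {R A : Type u} [CommRing R] [CommRing A]
  (𝒜 : ℕ → AddSubgroup A) [GradedRing 𝒜]

/-- a ring hom landing in degree zero, as a ring hom to the degree zero subring -/
def zeroHom (s : R →+* A) (h : ∀ r, s r ∈ 𝒜 0) : R →+* 𝒜 0 where
  toFun r := ⟨s r, h r⟩
  map_one' := Subtype.ext (map_one _)
  map_mul' a b := Subtype.ext (map_mul _ a b)
  map_zero' := Subtype.ext (map_zero _)
  map_add' a b := Subtype.ext (map_add _ a b)

end zero

section transfer

variable {R' R B A : Type u} [CommRing R'] [CommRing R] [CommRing B] [CommRing A]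
  (ℬ : ℕ → AddSubgroup B) [GradedRing ℬ] (𝒜 : ℕ → AddSubgroup A) [GradedRing 𝒜]
  (f : R' →+* R) (sB : R' →+* B) (hB : ∀ r, sB r ∈ ℬ 0) (sA : R →+* A) (hA : ∀ r, sA r ∈ 𝒜 0)
  (φ : ℬ →+*ᵍ 𝒜)

theorem isPushout_awayMap
    (hpo : IsPushout (CommRingCat.ofHom f) (CommRingCat.ofHom sB) (CommRingCat.ofHom sA)
      (CommRingCat.ofHom φ.toRingHom)) {d : ℕ} {t : B} (ht : t ∈ ℬ d) :
    IsPushout (CommRingCat.ofHom f)
      (CommRingCat.ofHom ((fromZeroRingHom ℬ (.powers t)).comp (zeroHom ℬ sB hB)))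
      (CommRingCat.ofHom ((fromZeroRingHom 𝒜 (.powers (φ t))).comp (zeroHom 𝒜 sA hA)))
      (CommRingCat.ofHom (Away.map φ t)) := by
  letI : Algebra R' R := f.toAlgebra
  letI : Algebra R' B := sB.toAlgebra
  letI : Algebra R A := sA.toAlgebra
  letI : Algebra R' A := (sA.comp f).toAlgebra
  letI : Algebra B A := φ.toRingHom.toAlgebra
  haveI : IsScalarTower R' R A := .of_algebraMap_eq' rfl
  have hw : sA.comp f = φ.toRingHom.comp sB := by
    have := congrArg CommRingCat.Hom.hom hpo.w
    exact this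
  haveI : IsScalarTower R' B A := .of_algebraMap_eq' hw
  haveI : Algebra.IsPushout R' R B A := CommRingCat.isPushout_iff_isPushout.mp hpo
  let φs : subGrading ℬ hB →+*ᵍ subGrading 𝒜 hA :=
    { φ.toRingHom with map_mem := fun hx => φ.map_mem hx }
  have key := Groth.Agent.Lib.Helper5.isPushout_awayMap (R' := R') (R := R)
    (ℬ := subGrading ℬ hB) (𝒜 := subGrading 𝒜 hA) φs (fun b => rfl) (t := t) (d := d) ht
  refine key.of_iso (Iso.refl _) (Iso.refl _)
    (locEquiv ℬ hB (.powers t)).toCommRingCatIso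
    (locEquiv 𝒜 hA (.powers (φ t))).toCommRingCatIso ?_ ?_ ?_ ?_
  · rfl
  · refine (Category.id_comp _).trans ?_ |>.symm
    ext r
    rfl
  · refine (Category.id_comp _).trans ?_ |>.symm
    ext r
    rfl
  · ext x
    obtain ⟨c, rfl⟩ := x.mk_surjective
    rfl

theorem isPullback_projMap
    (hpo : IsPushout (CommRingCat.ofHom f) (CommRingCat.ofHom sB) (CommRingCat.ofHom sA)
      (CommRingCat.ofHom φ.toRingHom)) (hirr : 𝒜₊ ≤ ℬ₊.map φ) :
    IsPullback (Proj.map φ hirr)
      (Proj.toSpecZero 𝒜 ≫ Spec.map (CommRingCat.ofHom (zeroHom 𝒜 sA hA)))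
      (Proj.toSpecZero ℬ ≫ Spec.map (CommRingCat.ofHom (zeroHom ℬ sB hB)))
      (Spec.map (CommRingCat.ofHom f)) := by
  refine Scheme.isPullback_of_openCover _ _ _ _ (Proj.affineOpenCover ℬ).openCover ?_
  intro (i : Σ i : PNat, ℬ i)
  have hd : 0 < (i.1 : ℕ) := i.1.2
  have ht : (i.2 : B) ∈ ℬ i.1 := i.2.2
  have hpb := (Groth.Agent.Lib.Helper5.isPullback_awayι_map φ hirr hd ht).flip
  have hsq := (isPullback_SpecMap_of_isPushout _ _ _ _
    (isPushout_awayMap ℬ 𝒜 f sB hB sA hA φ hpo ht)).flip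
  refine hsq.of_iso hpb.isoPullback (Iso.refl _) (Iso.refl _) (Iso.refl _) ?_ ?_ ?_ ?_
  · exact (Category.comp_id _).trans hpb.isoPullback_hom_snd.symm
  · refine (Category.comp_id _).trans ?_
    change _ = hpb.isoPullback.hom ≫ pullback.fst _ _ ≫ _
    rw [hpb.isoPullback_hom_fst_assoc, Proj.awayι_toSpecZero_assoc, ← Spec.map_comp]
    rfl
  · refine (Category.comp_id _).trans ((Category.id_comp _).trans ?_).symm
    change Proj.awayι ℬ _ ht hd ≫ _ = _
    rw [Proj.awayι_toSpecZero_assoc, ← Spec.map_comp]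
    rfl
  · exact (Category.comp_id _).trans (Category.id_comp _).symm

end transfer

end Groth.Agent.Lib.Helper74.ProjBC
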