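import Groth.Agent.Lib.Helper74.RelProjExists
import Groth.Agent.Lib.Helper74.ProjBaseChangeAdd
import Groth.Prelude.Def_RelProj2

set_option autoImplicit false
universe u
open CategoryTheory CategoryTheory.Limits AlgebraicGeometry TopologicalSpace Opposite
open scoped HomogeneousIdeal

namespace Groth.Agent.Lib.Helper74.RelProjLib

section baseChange

variable {Y Y' : Scheme.{u}} (ψ : Y' ⟶ Y) (𝒮 : RelProj.QCGrAlg Y) (𝒮' : RelProj.QCGrAlg Y')

theorem specMap_appLE_isoSpec_inv {U : Y.Opens} (hU : IsAffineOpen U) {U' : Y'.Opens}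
    (hU' : IsAffineOpen U') (hle : U' ≤ ψ ⁻¹ᵁ U) :
    Spec.map (ψ.appLE U U' hle) ≫ hU.isoSpec.inv = hU'.isoSpec.inv ≫ ψ.resLE U U' hle := by
  rw [← cancel_mono U.ι]
  simp only [Category.assoc, IsAffineOpen.isoSpec_inv_ι, Scheme.Hom.resLE_comp_ι]
  rw [IsAffineOpen.SpecMap_appLE_fromSpec ψ hU hU' hle, ← IsAffineOpen.isoSpec_inv_ι_assoc]

/-- Base change for `Proj` over affine opens, in the `projToOpen` form. -/
theorem isPullback_projToOpen_of_isPushout {U : Y.Opens} (hU : IsAffineOpen U) {U' : Y'.Opens}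
    (hU' : IsAffineOpen U') (hle : U' ≤ ψ ⁻¹ᵁ U) (φ : 𝒮.deg U hU →+*ᵍ 𝒮'.deg U' hU')
    (hpo : IsPushout (ψ.appLE U U' hle) (𝒮.str.app (op U)) (𝒮'.str.app (op U'))
      (CommRingCat.ofHom φ.toRingHom))
    (hirr : (𝒮'.deg U' hU')₊ ≤ ((𝒮.deg U hU)₊).map φ) :
    IsPullback (Proj.map φ hirr) (projToOpen 𝒮' U' hU') (projToOpen 𝒮 U hU)
      (ψ.resLE U U' hle) := by
  have h1 := ProjBC.isPullback_projMap (𝒮.deg U hU) (𝒮'.deg U' hU') (ψ.appLE U U' hle).hom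
    (𝒮.str.app (op U)).hom (𝒮.str_mem U hU) (𝒮'.str.app (op U')).hom (𝒮'.str_mem U' hU') φ
    hpo hirr
  have h2 : IsPullback (Spec.map (ψ.appLE U U' hle)) hU'.isoSpec.inv hU.isoSpec.inv
      (ψ.resLE U U' hle) :=
    IsPullback.of_vert_isIso ⟨specMap_appLE_isoSpec_inv ψ hU hU' hle⟩
  have h3 := h1.paste_vert h2
  simp only [Category.assoc] at h3
  exact h3

/-- A square is a pullback if it is so locally on the base `Y'`. -/
theorem isPullback_of_forall_restrict {P P' : Scheme.{u}} (g : P' ⟶ P) (p' : P' ⟶ Y')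
    (p : P ⟶ Y) {ι : Type*} (V : ι → Y'.Opens) (hV : IsOpenCover V)
    (H : ∀ i, IsPullback ((p' ⁻¹ᵁ V i).ι ≫ g) (p' ∣_ V i) p ((V i).ι ≫ ψ)) :
    IsPullback g p' p ψ := by
  refine IsPullback.flip ?_
  refine Scheme.isPullback_of_openCover _ _ _ _ (Y'.openCoverOfIsOpenCover V hV) ?_
  intro i
  have hpb := (isPullback_morphismRestrict p' (V i)).flip
  refine (H i).flip.of_iso hpb.isoPullback (Iso.refl _) (Iso.refl _) (Iso.refl _) ?_ ?_ ?_ ?_
  · exact (Category.comp_id _).trans hpb.isoPullback_hom_snd.symm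
  · refine (Category.comp_id _).trans ?_
    change _ = hpb.isoPullback.hom ≫ pullback.fst _ _ ≫ _
    rw [hpb.isoPullback_hom_fst_assoc]
  · exact (Category.comp_id _).trans (Category.id_comp _).symm
  · exact (Category.comp_id _).trans (Category.id_comp _).symm

variable {𝒮 𝒮'} {P P' : Scheme.{u}} {p : P ⟶ Y}
  {chart : ∀ (U : Y.Opens) (hU : IsAffineOpen U),
    (((p ⁻¹ᵁ U : P.Opens) : Scheme.{u}) ≅ Proj (𝒮.deg U hU))}
  {p' : P' ⟶ Y'}
  {chart' : ∀ (U' : Y'.Opens) (hU' : IsAffineOpen U'),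
    (((p' ⁻¹ᵁ U' : P'.Opens) : Scheme.{u}) ≅ Proj (𝒮'.deg U' hU'))}

theorem isPullback_restrict_of_chart (hP : RelProj.IsRelProj 𝒮 p chart)
    (hP' : RelProj.IsRelProj 𝒮' p' chart') (g : P' ⟶ P)
    {U : Y.Opens} (hU : IsAffineOpen U) {U' : Y'.Opens}
    (hU' : IsAffineOpen U') (hle : U' ≤ ψ ⁻¹ᵁ U) (φ : 𝒮.deg U hU →+*ᵍ 𝒮'.deg U' hU')
    (hpo : IsPushout (ψ.appLE U U' hle) (𝒮.str.app (op U)) (𝒮'.str.app (op U'))
      (CommRingCat.ofHom φ.toRingHom))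
    (hirr : (𝒮'.deg U' hU')₊ ≤ ((𝒮.deg U hU)₊).map φ)
    (hg : (p' ⁻¹ᵁ U').ι ≫ g =
      (chart' U' hU').hom ≫ Proj.map φ hirr ≫ RelProj.emb p chart U hU) :
    IsPullback ((p' ⁻¹ᵁ U').ι ≫ g) (p' ∣_ U') p (U'.ι ≫ ψ) := by
  have h1 := isPullback_projToOpen_of_isPushout ψ 𝒮 𝒮' hU hU' hle φ hpo hirr
  have h2 : IsPullback ((chart' U' hU').hom ≫ Proj.map φ hirr ≫ (chart U hU).inv)
      (p' ∣_ U') (p ∣_ U) (ψ.resLE U U' hle) := by
    refine h1.of_iso (chart' U' hU').symm (chart U hU).symm (Iso.refl _) (Iso.refl _) ?_ ?_ ?_ ?_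
    · simp
    · rw [restrict_eq hP' U' hU']
      simp [projToOpen]
    · rw [restrict_eq hP U hU]
      simp [projToOpen]
    · simp
  have h3 := h2.paste_horiz (isPullback_morphismRestrict p U).flip
  rw [Scheme.Hom.resLE_comp_ι] at h3
  rw [hg]
  simpa only [RelProj.emb, Category.assoc] using h3

end baseChange

end Groth.Agent.Lib.Helper74.RelProjLib
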