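import Groth.Agent.Lib.Helper74.QMapExists
import Groth.Agent.Lib.Helper74.RelProjBaseChange

set_option autoImplicit false
universe u
open CategoryTheory CategoryTheory.Limits AlgebraicGeometry TopologicalSpace Opposite
open scoped HomogeneousIdeal
open HomogeneousLocalization

namespace Groth.Agent.Lib.Helper74.QMap

open Groth.Agent.Lib.Helper74.RelProjLib

section ring

variable {R' R B A : Type u} [CommRing R'] [CommRing R] [CommRing B] [CommRing A]
  (ℬ : ℕ → AddSubgroup B) [GradedRing ℬ] (𝒜 : ℕ → AddSubgroup A) [GradedRing 𝒜]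
  (f : R' →+* R) (sB : R' →+* B) (sA : R →+* A) (hA : ∀ r, sA r ∈ 𝒜 0)
  (φ : ℬ →+*ᵍ 𝒜)

include hA in
/-- For a base change `A = B ⊗_{R'} R` of graded rings, the irrelevant ideal of `A` is generated
by the image of that of `B`. -/
theorem irrelevant_le_map_of_isPushout
    (hpo : IsPushout (CommRingCat.ofHom f) (CommRingCat.ofHom sB) (CommRingCat.ofHom sA)
      (CommRingCat.ofHom φ.toRingHom)) : 𝒜₊ ≤ ℬ₊.map φ := by
  classical
  letI : Algebra R' R := f.toAlgebra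
  letI : Algebra R' B := sB.toAlgebra
  letI : Algebra R A := sA.toAlgebra
  letI : Algebra R' A := (sA.comp f).toAlgebra
  letI : Algebra B A := φ.toRingHom.toAlgebra
  haveI : IsScalarTower R' R A := .of_algebraMap_eq' rfl
  have hw : sA.comp f = φ.toRingHom.comp sB := by
    have := congrArg CommRingCat.Hom.hom hpo.w
    exact this
  haveI : IsScalarTower R' B A := .of_algebraMap_eq' hw
  haveI hpush : Algebra.IsPushout R' R B A := CommRingCat.isPushout_iff_isPushout.mp hpo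
  rw [HomogeneousIdeal.irrelevant_le]
  intro d hd x hx
  set J : Ideal A := (ℬ₊).toIdeal.map φ with hJ
  change x ∈ J
  have key : ∀ y : A, ∀ d, 0 < d → ((DirectSum.decompose 𝒜 y d : 𝒜 d) : A) ∈ J := by
    intro y
    refine hpush.out.inductionOn y (fun y => ∀ d, 0 < d → ((DirectSum.decompose 𝒜 y d : 𝒜 d) : A) ∈ J)
      ?_ ?_ ?_ ?_
    · intro d _
      rw [DirectSum.decompose_zero, DirectSum.zero_apply, ZeroMemClass.coe_zero]
      exact zero_mem _
    · intro b d hd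
      change ((DirectSum.decompose 𝒜 (φ b) d : 𝒜 d) : A) ∈ J
      rw [← GradedRingHom.map_directSumDecompose]
      exact Ideal.mem_map_of_mem _ (HomogeneousIdeal.mem_irrelevant_of_mem _ hd (SetLike.coe_mem _))
    · intro r n hn d hd
      change ((DirectSum.decompose 𝒜 (sA r * n) d : 𝒜 d) : A) ∈ J
      rw [DirectSum.coe_decompose_mul_of_left_mem 𝒜 d (hA r)]
      simp only [zero_le, if_true, Nat.sub_zero]
      exact J.mul_mem_left _ (hn d hd)
    · intro n₁ n₂ h₁ h₂ d hd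
      rw [DirectSum.decompose_add, DirectSum.add_apply, AddMemClass.coe_add]
      exact J.add_mem (h₁ d hd) (h₂ d hd)
  have hx' : x ∈ 𝒜 d := hx
  have := key x d hd
  rwa [DirectSum.decompose_of_mem_same 𝒜 hx'] at this

theorem domOpen_eq_top {A B σ τ : Type u} [CommRing A] [SetLike σ A] [AddSubgroupClass σ A]
    [CommRing B] [SetLike τ B] [AddSubgroupClass τ B]
    {𝒜 : ℕ → σ} {ℬ : ℕ → τ} [GradedRing 𝒜] [GradedRing ℬ] (ψ : 𝒜 →+*ᵍ ℬ)
    (h : ℬ₊ ≤ 𝒜₊.map ψ) : RelCone.domOpen ψ = ⊤ := by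
  rw [_root_.eq_top_iff]
  intro y _
  rw [RelCone.mem_domOpen]
  by_contra hcon
  push Not at hcon
  apply y.not_irrelevant_le
  refine le_trans h ?_
  rw [HomogeneousIdeal.map_le_iff_le_comap]
  intro f hf
  exact hcon f hf

end ring

section rel

variable {Y Y' : Scheme.{u}} {g : Y' ⟶ Y} {𝒮 : RelProj.QCGrAlg Y} {𝒮' : RelProj.QCGrAlg Y'}
  (u : RelProj.QGrHom g 𝒮 𝒮')
  {P P' : Scheme.{u}} {p : P ⟶ Y}
  {chart : ∀ (U : Y.Opens) (hU : IsAffineOpen U),
    (((p ⁻¹ᵁ U : P.Opens) : Scheme.{u}) ≅ Proj (𝒮.deg U hU))}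
  {p' : P' ⟶ Y'}
  {chart' : ∀ (U' : Y'.Opens) (hU' : IsAffineOpen U'),
    (((p' ⁻¹ᵁ U' : P'.Opens) : Scheme.{u}) ≅ Proj (𝒮'.deg U' hU'))}

theorem hirr_of_isQBaseChange (hu : RelSpec.IsQBaseChange u.toQHom) (U : Y.Opens)
    (hU : IsAffineOpen U) (U' : Y'.Opens) (hU' : IsAffineOpen U') (hle : U' ≤ g ⁻¹ᵁ U) :
    (𝒮'.deg U' hU')₊ ≤ ((𝒮.deg U hU)₊).map (u.gradedAt U hU U' hU' hle) :=
  irrelevant_le_map_of_isPushout (𝒮.deg U hU) (𝒮'.deg U' hU') (g.appLE U U' hle).hom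
    (𝒮.str.app (op U)).hom (𝒮'.str.app (op U')).hom (𝒮'.str_mem U' hU')
    (u.gradedAt U hU U' hU' hle) (hu U hU U' hU' hle)

theorem domQ_eq_top_of_forall
    (h : ∀ (U : Y.Opens) (hU : IsAffineOpen U) (U' : Y'.Opens) (hU' : IsAffineOpen U')
      (hle : U' ≤ g ⁻¹ᵁ U),
      (𝒮'.deg U' hU')₊ ≤ ((𝒮.deg U hU)₊).map (u.gradedAt U hU U' hU' hle)) :
    RelProj.domQ u p' chart' = ⊤ := by
  rw [_root_.eq_top_iff]
  intro x _
  obtain ⟨U, hxU⟩ := TopologicalSpace.Opens.mem_iSup.mp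
    ((iSup_affineOpens_eq_top Y).ge (Set.mem_univ (g (p' x))))
  have hx' : p' x ∈ g ⁻¹ᵁ U.1 := hxU
  obtain ⟨U', hU', hxU', hle⟩ := ChartOpens.exists_affine_le hx'
  obtain ⟨y, rfl⟩ := RelConeProj.exists_emb_eq (pC := p') (chartC := chart') U' hU' x hxU'
  refine Opens.mem_iSup.mpr ⟨⟨(U, ⟨U', hU'⟩), hle⟩, ⟨y, ?_, rfl⟩⟩
  change y ∈ RelCone.domOpen _
  rw [domOpen_eq_top _ (h U.1 U.2 U' hU' hle)]
  trivial

theorem isProjQMap_iff (h : P' ⟶ P) :
    RelProj.IsProjQMap u p chart p' chart' h ↔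
      RelProj.domQ u p' chart' = ⊤ ∧
        RelProj.IsProjQMapOn u p chart p' chart' (RelProj.domQ u p' chart')
          ((RelProj.domQ u p' chart').ι ≫ h) := by
  constructor
  · rintro ⟨h1, h2⟩
    refine ⟨h1, fun U hU U' hU' hle d hd f hf hW => ?_⟩
    rw [← Category.assoc, IsOpenImmersion.lift_fac]
    exact h2 U hU U' hU' hle d hd f hf
  · rintro ⟨h1, h2⟩
    refine ⟨h1, fun U hU U' hU' hle d hd f hf => ?_⟩
    have := h2 U hU U' hU' hle d hd f hf
      (RelProj.range_awayEmb_subset_domQ u p' chart' U hU U' hU' hle hd f hf)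
    rwa [← Category.assoc, IsOpenImmersion.lift_fac] at this

theorem exists_isProjQMap (hP : RelProj.IsRelProj 𝒮 p chart)
    (hP' : RelProj.IsRelProj 𝒮' p' chart') (hdom : RelProj.domQ u p' chart' = ⊤) :
    ∃ h : P' ⟶ P, RelProj.IsProjQMap u p chart p' chart' h := by
  obtain ⟨v, hv, -⟩ := existsUnique_isProjQMapOn (u := u) hP hP'
  have hiso : IsIso (RelProj.domQ u p' chart').ι := by
    rw [hdom]; exact inferInstanceAs (IsIso P'.topIso.hom)
  refine ⟨inv (RelProj.domQ u p' chart').ι ≫ v, (isProjQMap_iff u _).mpr ⟨hdom, ?_⟩⟩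
  rwa [IsIso.hom_inv_id_assoc]

theorem isProjQMap_unique {h h' : P' ⟶ P}
    (hh : RelProj.IsProjQMap u p chart p' chart' h)
    (hh' : RelProj.IsProjQMap u p chart p' chart' h') : h = h' := by
  have hdom := hh.1
  have hiso : IsIso (RelProj.domQ u p' chart').ι := by
    rw [hdom]; exact inferInstanceAs (IsIso P'.topIso.hom)
  rw [← cancel_epi (RelProj.domQ u p' chart').ι]
  refine domQ_hom_ext _ _ fun i => ?_
  rw [(isProjQMapOn_iff u p chart p' chart' _ _).mp ((isProjQMap_iff u h).mp hh).2 i _,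
    (isProjQMapOn_iff u p chart p' chart' _ _).mp ((isProjQMap_iff u h').mp hh').2 i _]

/-- A morphism pinned on the standard charts is `Proj.map` over an affine pair, when the latter is
defined. -/
theorem emb_comp_of_isProjQMap (h : P' ⟶ P) (hh : RelProj.IsProjQMap u p chart p' chart' h)
    (U : Y.Opens) (hU : IsAffineOpen U) (U' : Y'.Opens) (hU' : IsAffineOpen U')
    (hle : U' ≤ g ⁻¹ᵁ U)
    (hirr : (𝒮'.deg U' hU')₊ ≤ ((𝒮.deg U hU)₊).map (u.gradedAt U hU U' hU' hle)) :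
    RelProj.emb p' chart' U' hU' ≫ h =
      Proj.map (u.gradedAt U hU U' hU' hle) hirr ≫ RelProj.emb p chart U hU := by
  refine (Proj.mapAffineOpenCover (u.gradedAt U hU U' hU' hle) hirr).openCover.hom_ext _ _
    fun (s : Σ i : ℕ+, 𝒮.deg U hU i) => ?_
  have h1 := hh.2 U hU U' hU' hle s.1 s.1.2 s.2.1 s.2.2
  have h2 := Proj.awayι_comp_map (u.gradedAt U hU U' hU' hle) hirr s.1.2 s.2.1 s.2.2
  simp only [Scheme.AffineOpenCover.openCover_f, Proj.mapAffineOpenCover_f]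
  rw [RelProj.awayEmb, Category.assoc] at h1
  exact h1.trans ((congrArg (· ≫ RelProj.emb p chart U hU) h2).symm.trans (Category.assoc _ _ _))

theorem isPullback_of_isProjQMap (hP : RelProj.IsRelProj 𝒮 p chart)
    (hP' : RelProj.IsRelProj 𝒮' p' chart') (hu : RelSpec.IsQBaseChange u.toQHom)
    (h : P' ⟶ P) (hh : RelProj.IsProjQMap u p chart p' chart' h) : IsPullback h p' p g := by
  classical
  let I := {x : Y'.Opens × Y.Opens // IsAffineOpen x.1 ∧ IsAffineOpen x.2 ∧ x.1 ≤ g ⁻¹ᵁ x.2}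
  have hcov : IsOpenCover (fun i : I => i.1.1) := by
    refine eq_top_iff.mpr fun y' _ => ?_
    obtain ⟨U, hyU⟩ := TopologicalSpace.Opens.mem_iSup.mp
      ((iSup_affineOpens_eq_top Y).ge (Set.mem_univ (g y')))
    have hy' : y' ∈ g ⁻¹ᵁ U.1 := hyU
    obtain ⟨U', hU', hyU', hle⟩ := ChartOpens.exists_affine_le hy'
    exact TopologicalSpace.Opens.mem_iSup.mpr ⟨⟨(U', U.1), hU', U.2, hle⟩, hyU'⟩
  refine isPullback_of_forall_restrict g h p' p (fun i : I => i.1.1) hcov ?_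
  rintro ⟨⟨U', U⟩, hU', hU, hle⟩
  have hirr := hirr_of_isQBaseChange u hu U hU U' hU' hle
  refine isPullback_restrict_of_chart g hP hP' h hU hU' hle (u.gradedAt U hU U' hU' hle)
    (hu U hU U' hU' hle) hirr ?_
  rw [← emb_comp_of_isProjQMap u h hh U hU U' hU' hle hirr, RelProj.emb, Category.assoc,
    Iso.hom_inv_id_assoc]

end rel

end Groth.Agent.Lib.Helper74.QMap
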