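import Groth.Agent.Lib.Helper74.PolyGr
import Groth.Agent.Lib.Helper74.QCAlgOfAffine
import Groth.Prelude.Def_RelProj
import Mathlib.RingTheory.Localization.Algebra

set_option autoImplicit false
universe u
open CategoryTheory CategoryTheory.Limits AlgebraicGeometry TopologicalSpace Opposite Polynomial

noncomputable section

namespace Groth.Agent.Lib.Helper74.PolyAlg

open RelSpec Groth.Agent.Lib.Helper74.OfAffine Groth.Agent.Lib.Helper74.PolyGr

variable {S : Scheme.{u}} (𝒜 : RelSpec.QCAlg S)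

/-- restriction maps of `𝒜` -/
abbrev resA {U V : S.Opens} (h : V ≤ U) : 𝒜.presheaf.obj (op U) →+* 𝒜.presheaf.obj (op V) :=
  (𝒜.presheaf.map (homOfLE h).op).hom

theorem resA_id (U : S.Opens) : resA 𝒜 (le_refl U) = RingHom.id _ := by
  ext a
  change (𝒜.presheaf.map (𝟙 (op U))).hom a = a
  rw [𝒜.presheaf.map_id]; rfl

theorem resA_comp {U V W : S.Opens} (h : V ≤ U) (h' : W ≤ V) :
    (resA 𝒜 h').comp (resA 𝒜 h) = resA 𝒜 (h'.trans h) := by
  ext a
  change (𝒜.presheaf.map (homOfLE h').op).hom ((𝒜.presheaf.map (homOfLE h).op).hom a) = _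
  rw [← CommRingCat.comp_apply, ← 𝒜.presheaf.map_comp]; rfl

/-- the polynomial ring functor -/
def polyFunctor : CommRingCat.{u} ⥤ CommRingCat.{u} where
  obj R := CommRingCat.of R[X]
  map f := CommRingCat.ofHom (Polynomial.mapRingHom f.hom)
  map_id R := by
    ext1
    exact Polynomial.mapRingHom_id
  map_comp f g := by
    ext1
    exact (Polynomial.mapRingHom_comp g.hom f.hom).symm

/-- the presheaf `U ↦ 𝒜(U)[X]` on all opens (not a sheaf) -/
def polyP : TopCat.Presheaf CommRingCat.{u} S.carrier := 𝒜.presheaf ⋙ polyFunctor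

/-- The functor `U ↦ 𝒜(U)[X]` on the affine opens. -/
def polyF : S.AffineZariskiSiteᵒᵖ ⥤ CommRingCat.{u} :=
  (Scheme.AffineZariskiSite.toOpensFunctor S).op ⋙ polyP 𝒜

/-- The structure map of `polyF`. -/
def polyα : (Scheme.AffineZariskiSite.toOpensFunctor S).op ⋙ S.presheaf ⟶ polyF 𝒜 where
  app U := 𝒜.str.app (op U.unop.1) ≫ CommRingCat.ofHom (C : _ →+* (𝒜.presheaf.obj (op U.unop.1))[X])
  naturality {U V} i := by
    ext r
    change C ((𝒜.str.app (op V.unop.1)).hom ((S.presheaf.map _).hom r)) =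
      Polynomial.map (resA 𝒜 _) (C ((𝒜.str.app (op U.unop.1)).hom r))
    rw [Polynomial.map_C]
    congr 1
    exact congr($(𝒜.str.naturality (homOfLE (Scheme.AffineZariskiSite.toOpens_mono i.unop.le)).op).hom r)

theorem polyα_coequifibered : (polyα 𝒜).Coequifibered := by
  refine Scheme.AffineZariskiSite.coequifibered_iff_forall_isLocalizationAway.mpr fun U f => ?_
  let _ := (resA 𝒜 (S.basicOpen_le f)).toAlgebra
  have hloc : IsLocalization.Away ((𝒜.str.app (op U.1)).hom f)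
      (𝒜.presheaf.obj (op (S.basicOpen f))) := 𝒜.isQC U.1 U.2 f
  have h1 := Polynomial.isLocalization (Submonoid.powers ((𝒜.str.app (op U.1)).hom f))
    (𝒜.presheaf.obj (op (S.basicOpen f)))
  have h2 : (Submonoid.powers ((𝒜.str.app (op U.1)).hom f)).map
      (C : _ →+* (𝒜.presheaf.obj (op U.1))[X]) =
      Submonoid.powers (C ((𝒜.str.app (op U.1)).hom f)) := Submonoid.map_powers _ _
  rw [h2] at h1
  exact h1

/-- the polynomial algebra `𝒜[z]` as a quasi-coherent algebra -/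
def polyQC : QCAlg S := ofAffine (polyα_coequifibered 𝒜)

/-- the inverse identifications on the affine opens -/
def Ψ₀ : polyF 𝒜 ⟶ (Scheme.AffineZariskiSite.toOpensFunctor S).op ⋙ (polyQC 𝒜).presheaf :=
  show polyF 𝒜 ⟶ (Scheme.AffineZariskiSite.toOpensFunctor S).op ⋙
    ((π (polyα_coequifibered 𝒜)).base _* (spec (polyα_coequifibered 𝒜)).presheaf) from
    inv (gammaRestrict (polyα_coequifibered 𝒜))

theorem gammaAff_Ψ₀ (U : S.Opens) (hU : IsAffineOpen U) :
    gammaAff (polyα_coequifibered 𝒜) U hU ≫ (Ψ₀ 𝒜).app (op ⟨U, hU⟩) = 𝟙 _ :=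
  NatTrans.congr_app (IsIso.hom_inv_id (gammaRestrict (polyα_coequifibered 𝒜))) (op ⟨U, hU⟩)

theorem Ψ₀_gammaAff (U : S.Opens) (hU : IsAffineOpen U) :
    (Ψ₀ 𝒜).app (op ⟨U, hU⟩) ≫ gammaAff (polyα_coequifibered 𝒜) U hU = 𝟙 _ :=
  NatTrans.congr_app (IsIso.inv_hom_id (gammaRestrict (polyα_coequifibered 𝒜))) (op ⟨U, hU⟩)

/-- the extension of the inverse identifications to all opens -/
def Ψ : polyP 𝒜 ⟶ (polyQC 𝒜).presheaf :=
  Functor.IsCoverDense.restrictHomEquivHom (G := Scheme.AffineZariskiSite.toOpensFunctor S)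
    (K := Opens.grothendieckTopology S) (ℱ := polyP 𝒜)
    (ℱ' := (⟨(polyQC 𝒜).presheaf, (polyQC 𝒜).isSheaf⟩ : TopCat.Sheaf CommRingCat.{u} S.carrier))
    (Ψ₀ 𝒜)

theorem Ψ_app (U : S.Opens) (hU : IsAffineOpen U) :
    (Ψ 𝒜).app (op U) = (Ψ₀ 𝒜).app (op ⟨U, hU⟩) :=
  NatTrans.congr_app ((Functor.IsCoverDense.restrictHomEquivHom
    (G := Scheme.AffineZariskiSite.toOpensFunctor S)
    (K := Opens.grothendieckTopology S) (ℱ := polyP 𝒜)
    (ℱ' := (⟨(polyQC 𝒜).presheaf, (polyQC 𝒜).isSheaf⟩ :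
      TopCat.Sheaf CommRingCat.{u} S.carrier))).symm_apply_apply
        (Ψ₀ 𝒜)) (op ⟨U, hU⟩)

/-- `gammaAff` for the polynomial algebra -/
abbrev gA (U : S.Opens) (hU : IsAffineOpen U) :
    (polyQC 𝒜).presheaf.obj (op U) ⟶ CommRingCat.of (𝒜.presheaf.obj (op U))[X] :=
  gammaAff (polyα_coequifibered 𝒜) U hU

theorem gA_Ψ (U : S.Opens) (hU : IsAffineOpen U) (q : (𝒜.presheaf.obj (op U))[X]) :
    (gA 𝒜 U hU).hom (((Ψ 𝒜).app (op U)).hom q) = q := by
  rw [Ψ_app 𝒜 U hU]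
  exact congr($(Ψ₀_gammaAff 𝒜 U hU).hom q)

theorem Ψ_gA (U : S.Opens) (hU : IsAffineOpen U) (s : (polyQC 𝒜).presheaf.obj (op U)) :
    ((Ψ 𝒜).app (op U)).hom ((gA 𝒜 U hU).hom s) = s := by
  rw [Ψ_app 𝒜 U hU]
  exact congr($(gammaAff_Ψ₀ 𝒜 U hU).hom s)

/-- the identification of the sections over an affine open with polynomials -/
def secIso (U : S.Opens) (hU : IsAffineOpen U) :
    (polyQC 𝒜).presheaf.obj (op U) ≃+* (𝒜.presheaf.obj (op U))[X] where
  toFun := (gA 𝒜 U hU).hom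
  invFun := ((Ψ 𝒜).app (op U)).hom
  left_inv := Ψ_gA 𝒜 U hU
  right_inv := gA_Ψ 𝒜 U hU
  map_mul' := map_mul _
  map_add' := map_add _

theorem secIso_apply (U : S.Opens) (hU : IsAffineOpen U) (s : (polyQC 𝒜).presheaf.obj (op U)) :
    secIso 𝒜 U hU s = (gA 𝒜 U hU).hom s := rfl

theorem secIso_symm_apply (U : S.Opens) (hU : IsAffineOpen U) (q : (𝒜.presheaf.obj (op U))[X]) :
    (secIso 𝒜 U hU).symm q = ((Ψ 𝒜).app (op U)).hom q := rfl

/-- naturality of `Ψ`, elementwise -/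
theorem Ψ_res {U V : S.Opens} (h : V ≤ U) (q : (𝒜.presheaf.obj (op U))[X]) :
    ((Ψ 𝒜).app (op V)).hom (q.map (resA 𝒜 h)) =
      ((polyQC 𝒜).presheaf.map (homOfLE h).op).hom (((Ψ 𝒜).app (op U)).hom q) :=
  congr($((Ψ 𝒜).naturality (homOfLE h).op).hom q)

/-- naturality of the identifications for arbitrary inclusions of affine opens -/
theorem secIso_res {U V : S.Opens} (hU : IsAffineOpen U) (hV : IsAffineOpen V) (h : V ≤ U)
    (s : (polyQC 𝒜).presheaf.obj (op U)) :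
    secIso 𝒜 V hV (((polyQC 𝒜).presheaf.map (homOfLE h).op).hom s) =
      (secIso 𝒜 U hU s).map (resA 𝒜 h) := by
  apply (secIso 𝒜 V hV).symm.injective
  rw [RingEquiv.symm_apply_apply, secIso_symm_apply, Ψ_res, ← secIso_symm_apply 𝒜 U hU,
    RingEquiv.symm_apply_apply]

/-- the structure map through the identifications -/
theorem secIso_str (U : S.Opens) (hU : IsAffineOpen U) (r : Γ(S, U)) :
    secIso 𝒜 U hU (((polyQC 𝒜).str.app (op U)).hom r) = C ((𝒜.str.app (op U)).hom r) :=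
  congr($(π_app_gammaAff (polyα_coequifibered 𝒜) U hU).hom r)

/-- the polynomial algebra `𝒜[z]` as a quasi-coherent graded algebra -/
def polyGr : RelProj.QCGrAlg S where
  toQCAlg := polyQC 𝒜
  deg U hU := GrTransport.comapGr (secIso 𝒜 U hU) (polyDeg (𝒜.presheaf.obj (op U)))
  graded U hU := inferInstance
  map_mem := by
    intro U V hU hV i d x hx
    change secIso 𝒜 V hV _ ∈ polyDeg _ d
    rw [secIso_res 𝒜 hU hV i]
    exact PolyGr.map_mem _ hx
  str_mem U hU r := by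
    change secIso 𝒜 U hU _ ∈ polyDeg _ 0
    rw [secIso_str]
    exact C_mem _

end Groth.Agent.Lib.Helper74.PolyAlg
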