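import Groth.Agent.Lib.Helper74.RelProjGlue
import Groth.Agent.Lib.Helper74.ProjLocalization
import Groth.Agent.Lib.Helper5.ProjClosed
import Mathlib.AlgebraicGeometry.RelativeGluing

set_option autoImplicit false
universe u
open CategoryTheory CategoryTheory.Limits AlgebraicGeometry TopologicalSpace Opposite
open scoped HomogeneousIdeal

namespace Groth.Agent.Lib.Helper74.RelProjLib

section existence

variable {Y : Scheme.{u}} (𝒮 : RelProj.QCGrAlg Y)

theorem irrelevant_le_map_of_eq {U V : Y.Opens} (hU : IsAffineOpen U) (hV : IsAffineOpen V)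
    (f : Γ(Y, V)) (e : Y.basicOpen f = U) (i : U ≤ V) :
    (𝒮.deg U hU)₊ ≤ ((𝒮.deg V hV)₊).map (𝒮.res hV hU i) := by
  subst e
  exact 𝒮.irrelevant_le_map V hV f

theorem irrelevant_le_map_of_le {U V : Y.AffineZariskiSite} (h : U ≤ V) :
    (𝒮.deg U.1 U.2)₊ ≤ ((𝒮.deg V.1 V.2)₊).map
      (𝒮.res V.2 U.2 (Scheme.AffineZariskiSite.toOpens_mono h)) := by
  obtain ⟨f, e⟩ := h
  exact irrelevant_le_map_of_eq 𝒮 U.2 V.2 f e _

theorem res_id (U : Y.Opens) (hU : IsAffineOpen U) :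
    𝒮.res hU hU le_rfl = GradedRingHom.id (𝒮.deg U hU) := by
  apply GradedRingHom.ext
  intro x
  change (𝒮.presheaf.map (𝟙 (op U))).hom x = x
  rw [𝒮.presheaf.map_id]
  rfl

theorem res_comp {U V W : Y.Opens} (hU : IsAffineOpen U) (hV : IsAffineOpen V)
    (hW : IsAffineOpen W) (i : V ≤ U) (j : W ≤ V) :
    𝒮.res hU hW (j.trans i) = (𝒮.res hV hW j).comp (𝒮.res hU hV i) := by
  apply GradedRingHom.ext
  intro x
  change (𝒮.presheaf.map ((homOfLE i).op ≫ (homOfLE j).op)).hom x = _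
  rw [𝒮.presheaf.map_comp]
  rfl

/-- The functor `U ↦ Proj 𝒮(U)` on the small affine Zariski site. -/
noncomputable def projFunctor : Y.AffineZariskiSite ⥤ Scheme.{u} where
  obj U := Proj (𝒮.deg U.1 U.2)
  map {U V} i := Proj.map (𝒮.res V.2 U.2 (Scheme.AffineZariskiSite.toOpens_mono i.le))
    (irrelevant_le_map_of_le 𝒮 i.le)
  map_id U := by
    rw [← Proj.map_id]
    exact projMap_congr (res_id 𝒮 U.1 U.2) _ _
  map_comp {U V W} i j := by
    rw [← Proj.map_comp]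
    exact projMap_congr (res_comp 𝒮 W.2 V.2 U.2 _ _) _ _

theorem strZero_comp_res {U V : Y.Opens} (hU : IsAffineOpen U) (hV : IsAffineOpen V) (i : V ≤ U) :
    𝒮.strZero U hU ≫ CommRingCat.ofHom (𝒮.res hU hV i).gradedZeroRingHom =
      Y.presheaf.map (homOfLE i).op ≫ 𝒮.strZero V hV := by
  ext r
  have := congrArg (fun ψ => ψ.hom r) (𝒮.str.naturality (homOfLE i).op)
  exact this.symm

/-- the structure morphism `Proj 𝒮(U) ⟶ U` -/
noncomputable def projToOpen (U : Y.Opens) (hU : IsAffineOpen U) :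
    Proj (𝒮.deg U hU) ⟶ (U : Scheme.{u}) :=
  Proj.toSpecZero (𝒮.deg U hU) ≫ Spec.map (𝒮.strZero U hU) ≫ hU.isoSpec.inv

theorem projToOpen_ι (U : Y.Opens) (hU : IsAffineOpen U) :
    projToOpen 𝒮 U hU ≫ U.ι =
      Proj.toSpecZero (𝒮.deg U hU) ≫ Spec.map (𝒮.strZero U hU) ≫ hU.fromSpec := by
  simp only [projToOpen, Category.assoc, IsAffineOpen.isoSpec_inv_ι]

theorem projMap_projToOpen {U V : Y.Opens} (hU : IsAffineOpen U) (hV : IsAffineOpen V) (i : V ≤ U)
    (h : (𝒮.deg V hV)₊ ≤ ((𝒮.deg U hU)₊).map (𝒮.res hU hV i)) :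
    Proj.map (𝒮.res hU hV i) h ≫ projToOpen 𝒮 U hU = projToOpen 𝒮 V hV ≫ Y.homOfLE i := by
  rw [← cancel_mono U.ι]
  simp only [Category.assoc, Scheme.homOfLE_ι, projToOpen_ι]
  rw [reassoc_of% (map_toSpecZero (𝒮.res hU hV i) h), ← Spec.map_comp_assoc, strZero_comp_res,
    Spec.map_comp_assoc, hU.map_fromSpec hV]

/-- the natural transformation `Proj 𝒮(U) ⟶ U` -/
noncomputable def projNatTrans :
    projFunctor 𝒮 ⟶ (Scheme.AffineZariskiSite.directedCover Y).functorOfLocallyDirected where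
  app U := projToOpen 𝒮 U.1 U.2
  naturality {U V} _ := projMap_projToOpen 𝒮 V.2 U.2 _ _

open HomogeneousLocalization in
theorem isPushout_away_res (U : Y.Opens) (hU : IsAffineOpen U) (r : Γ(Y, U))
    {d : ℕ} {t : 𝒮.presheaf.obj (op U)} (ht : t ∈ 𝒮.deg U hU d) :
    IsPushout (CommRingCat.ofHom (Y.presheaf.map (homOfLE (Y.basicOpen_le r)).op).hom)
      (CommRingCat.ofHom ((fromZeroRingHom (𝒮.deg U hU) (.powers t)).comp (𝒮.strZero U hU).hom))
      (CommRingCat.ofHom ((fromZeroRingHom (𝒮.deg (Y.basicOpen r) (hU.basicOpen r))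
        (.powers (𝒮.res hU (hU.basicOpen r) (Y.basicOpen_le r) t))).comp
          (𝒮.strZero (Y.basicOpen r) (hU.basicOpen r)).hom))
      (CommRingCat.ofHom (Away.map (𝒮.res hU (hU.basicOpen r) (Y.basicOpen_le r)) t)) := by
  refine ProjLoc.isPushout_of_isLocalization_away _ _ _ _ ?_ r ?_ ?_
  · refine RingHom.ext fun x => ?_
    have h1 := RingHom.congr_fun (awayMap_comp_fromZero
      (𝒮.res hU (hU.basicOpen r) (Y.basicOpen_le r)) t) ((𝒮.strZero U hU).hom x)
    have h2 := congrArg (fun ψ => ψ.hom x)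
      (strZero_comp_res 𝒮 hU (hU.basicOpen r) (Y.basicOpen_le r))
    simp only [RingHom.comp_apply] at h1 ⊢
    rw [h1]
    congr 1
    exact h2.symm
  · exact hU.isLocalization_basicOpen r
  · exact ProjLoc.isLocalization_away_awayMap (𝒮.res hU (hU.basicOpen r) (Y.basicOpen_le r))
      ((𝒮.str.app (op U)).hom r) (𝒮.str_mem U hU r) (𝒮.isQC U hU r) ht

theorem isPullback_projMap_res (U : Y.Opens) (hU : IsAffineOpen U) (r : Γ(Y, U)) :
    IsPullback
      (Proj.map (𝒮.res hU (hU.basicOpen r) (Y.basicOpen_le r)) (𝒮.irrelevant_le_map U hU r))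
      (Proj.toSpecZero (𝒮.deg (Y.basicOpen r) (hU.basicOpen r)) ≫
        Spec.map (𝒮.strZero (Y.basicOpen r) (hU.basicOpen r)))
      (Proj.toSpecZero (𝒮.deg U hU) ≫ Spec.map (𝒮.strZero U hU))
      (Spec.map (Y.presheaf.map (homOfLE (Y.basicOpen_le r)).op)) := by
  refine Scheme.isPullback_of_openCover _ _ _ _ (Proj.affineOpenCover (𝒮.deg U hU)).openCover ?_
  intro (i : Σ i : PNat, 𝒮.deg U hU i)
  have hd : 0 < (i.1 : ℕ) := i.1.2
  have ht : (i.2 : 𝒮.presheaf.obj (op U)) ∈ 𝒮.deg U hU i.1 := i.2.2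
  have hpb := (Groth.Agent.Lib.Helper5.isPullback_awayι_map
    (𝒮.res hU (hU.basicOpen r) (Y.basicOpen_le r)) (𝒮.irrelevant_le_map U hU r) hd ht).flip
  have hsq := (isPullback_SpecMap_of_isPushout _ _ _ _ (isPushout_away_res 𝒮 U hU r ht)).flip
  refine hsq.of_iso hpb.isoPullback (Iso.refl _) (Iso.refl _) (Iso.refl _) ?_ ?_ ?_ ?_
  · exact (Category.comp_id _).trans hpb.isoPullback_hom_snd.symm
  · refine (Category.comp_id _).trans ?_
    change _ = hpb.isoPullback.hom ≫ pullback.fst _ _ ≫ _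
    rw [hpb.isoPullback_hom_fst_assoc, Proj.awayι_toSpecZero_assoc, ← Spec.map_comp]
    rfl
  · refine (Category.comp_id _).trans ((Category.id_comp _).trans ?_).symm
    change Proj.awayι (𝒮.deg U hU) _ ht hd ≫ _ = _
    rw [Proj.awayι_toSpecZero_assoc, ← Spec.map_comp]
    rfl
  · exact (Category.comp_id _).trans (Category.id_comp _).symm

theorem specMap_isoSpec_inv {U V : Y.Opens} (hU : IsAffineOpen U) (hV : IsAffineOpen V)
    (i : V ≤ U) :
    Spec.map (Y.presheaf.map (homOfLE i).op) ≫ hU.isoSpec.inv =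
      hV.isoSpec.inv ≫ Y.homOfLE i := by
  rw [← cancel_mono U.ι]
  simp only [Category.assoc, Scheme.homOfLE_ι, IsAffineOpen.isoSpec_inv_ι]
  exact hU.map_fromSpec hV (homOfLE i).op

theorem isPullback_projToOpen_basicOpen (U : Y.Opens) (hU : IsAffineOpen U) (r : Γ(Y, U)) :
    IsPullback
      (Proj.map (𝒮.res hU (hU.basicOpen r) (Y.basicOpen_le r)) (𝒮.irrelevant_le_map U hU r))
      (projToOpen 𝒮 (Y.basicOpen r) (hU.basicOpen r))
      (projToOpen 𝒮 U hU)
      (Y.homOfLE (Y.basicOpen_le r)) := by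
  have h1 := isPullback_projMap_res 𝒮 U hU r
  have h2 : IsPullback (Spec.map (Y.presheaf.map (homOfLE (Y.basicOpen_le r)).op))
      (hU.basicOpen r).isoSpec.inv hU.isoSpec.inv (Y.homOfLE (Y.basicOpen_le r)) :=
    IsPullback.of_vert_isIso ⟨specMap_isoSpec_inv hU (hU.basicOpen r) (Y.basicOpen_le r)⟩
  have h3 := h1.paste_vert h2
  simpa only [projToOpen, Category.assoc] using h3

theorem isPullback_projToOpen_of_eq {U V : Y.Opens} (hU : IsAffineOpen U) (hV : IsAffineOpen V)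
    (f : Γ(Y, V)) (e : Y.basicOpen f = U) (i : U ≤ V)
    (h : (𝒮.deg U hU)₊ ≤ ((𝒮.deg V hV)₊).map (𝒮.res hV hU i)) :
    IsPullback (Proj.map (𝒮.res hV hU i) h) (projToOpen 𝒮 U hU) (projToOpen 𝒮 V hV)
      (Y.homOfLE i) := by
  subst e
  exact isPullback_projToOpen_basicOpen 𝒮 V hV f

theorem projNatTrans_equifibered : (projNatTrans 𝒮).Equifibered := by
  intro U V i
  obtain ⟨f, e⟩ := i.le
  exact isPullback_projToOpen_of_eq 𝒮 U.2 V.2 f e _ _

/-- the relative gluing datum of the `Proj 𝒮(U)` -/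
noncomputable def projGluingData :
    (Scheme.AffineZariskiSite.directedCover Y).RelativeGluingData where
  functor := projFunctor 𝒮
  natTrans := projNatTrans 𝒮
  equifibered := projNatTrans_equifibered 𝒮

instance projGluingData_isLocallyDirected :
    ((projGluingData 𝒮).functor ⋙ Scheme.forget).IsLocallyDirected :=
  (projGluingData 𝒮).instIsLocallyDirectedI₀CompFunctorForgetOfIsThin

/-- the glued relative Proj -/
noncomputable abbrev relProj : Scheme.{u} := (projGluingData 𝒮).glued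

/-- its structure morphism -/
noncomputable abbrev relProjHom : relProj 𝒮 ⟶ Y := (projGluingData 𝒮).toBase

/-- the chart inclusions `Proj 𝒮(U) ⟶ relProj 𝒮` -/
noncomputable abbrev relProjι (U : Y.Opens) (hU : IsAffineOpen U) :
    Proj (𝒮.deg U hU) ⟶ relProj 𝒮 :=
  colimit.ι (projGluingData 𝒮).functor ⟨U, hU⟩

theorem range_relProjι (U : Y.Opens) (hU : IsAffineOpen U) :
    Set.range ((relProjHom 𝒮) ⁻¹ᵁ U).ι = Set.range (relProjι 𝒮 U hU) := by
  have h := (projGluingData 𝒮).preimage_toBase_eq_range_ι ⟨U, hU⟩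
  refine Eq.trans ?_ h
  simp

theorem relProjι_hom (U : Y.Opens) (hU : IsAffineOpen U) :
    relProjι 𝒮 U hU ≫ relProjHom 𝒮 =
      Proj.toSpecZero (𝒮.deg U hU) ≫ Spec.map (𝒮.strZero U hU) ≫ hU.fromSpec := by
  have h := (projGluingData 𝒮).ι_toBase ⟨U, hU⟩
  rw [← projToOpen_ι]
  exact h

theorem projMap_relProjι (U : Y.Opens) (hU : IsAffineOpen U) (r : Γ(Y, U)) :
    Proj.map (𝒮.res hU (hU.basicOpen r) (Y.basicOpen_le r)) (𝒮.irrelevant_le_map U hU r) ≫
      relProjι 𝒮 U hU = relProjι 𝒮 (Y.basicOpen r) (hU.basicOpen r) :=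
  colimit.w (projGluingData 𝒮).functor
    (Scheme.AffineZariskiSite.basicOpen_le (⟨U, hU⟩ : Y.AffineZariskiSite) r).hom

instance relProjι_isOpenImmersion (U : Y.Opens) (hU : IsAffineOpen U) :
    IsOpenImmersion (relProjι 𝒮 U hU) :=
  Scheme.IsLocallyDirected.instIsOpenImmersionι (projGluingData 𝒮).functor ⟨U, hU⟩

/-- the charts -/
noncomputable def relProjChart (U : Y.Opens) (hU : IsAffineOpen U) :
    ((((relProjHom 𝒮) ⁻¹ᵁ U : (relProj 𝒮).Opens) : Scheme.{u}) ≅ Proj (𝒮.deg U hU)) :=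
  IsOpenImmersion.isoOfRangeEq ((relProjHom 𝒮) ⁻¹ᵁ U).ι (relProjι 𝒮 U hU) (range_relProjι 𝒮 U hU)

theorem relProjChart_hom_ι (U : Y.Opens) (hU : IsAffineOpen U) :
    (relProjChart 𝒮 U hU).hom ≫ relProjι 𝒮 U hU = ((relProjHom 𝒮) ⁻¹ᵁ U).ι :=
  IsOpenImmersion.isoOfRangeEq_hom_fac _ _ _

theorem isRelProj_relProj : RelProj.IsRelProj 𝒮 (relProjHom 𝒮) (relProjChart 𝒮) where
  chart_over U hU := by
    rw [← relProjι_hom, reassoc_of% (relProjChart_hom_ι 𝒮 U hU)]
  chart_res U hU r := by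
    rw [← cancel_mono (relProjι 𝒮 U hU), Category.assoc, Category.assoc, relProjChart_hom_ι,
      projMap_relProjι, relProjChart_hom_ι, Scheme.homOfLE_ι]

end existence

end Groth.Agent.Lib.Helper74.RelProjLib
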