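import Groth.Agent.Lib.Helper74.QMapBC

set_option autoImplicit false
universe u
open CategoryTheory CategoryTheory.Limits AlgebraicGeometry TopologicalSpace Opposite

namespace Groth.Agent.Lib.Helper74.QMap

open Groth.Agent.Lib.Helper74.RelProjLib

section spec

variable {S S' : Scheme.{u}} {g : S' ⟶ S} {A : RelSpec.QCAlg S} {B : RelSpec.QCAlg S'}
  (u : RelSpec.QHom g A B)

/-- the chart of the relative spectrum is the preimage of the affine open, as a pullback -/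
theorem isPullback_ι (U : S.Opens) (hU : IsAffineOpen U) :
    IsPullback (A.ι U hU) (Spec.map (A.str.app (op U))) A.π hU.fromSpec := by
  refine (IsOpenImmersion.isPullback _ _ _ _ (A.ι_π U hU) ?_).flip
  rw [hU.opensRange_fromSpec, A.π_preimage U hU]

theorem isPullback_restrict_of_isSpecQMap (hu : RelSpec.IsQBaseChange u) (h : B.spec ⟶ A.spec)
    (hh : RelSpec.IsSpecQMap u h) (U : S.Opens) (hU : IsAffineOpen U) (U' : S'.Opens)
    (hU' : IsAffineOpen U') (hle : U' ≤ g ⁻¹ᵁ U) :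
    IsPullback ((B.π ⁻¹ᵁ U').ι ≫ h) (B.π ∣_ U') A.π (U'.ι ≫ g) := by
  have sq1 : IsPullback (Spec.map (u.appLE U U' hle)) (Spec.map (B.str.app (op U')))
      (Spec.map (A.str.app (op U))) (Spec.map (g.appLE U U' hle)) :=
    (isPullback_SpecMap_of_isPushout _ _ _ _ (hu U hU U' hU' hle)).flip
  have sq := sq1.paste_horiz (isPullback_ι U hU)
  rw [IsAffineOpen.SpecMap_appLE_fromSpec g hU hU' hle] at sq
  let e : Spec (B.presheaf.obj (op U')) ≅ ((B.π ⁻¹ᵁ U' : B.spec.Opens) : Scheme.{u}) :=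
    (B.ι U' hU').isoOpensRange ≪≫ B.spec.isoOfEq (B.π_preimage U' hU').symm
  have he : e.hom ≫ (B.π ⁻¹ᵁ U').ι = B.ι U' hU' := by
    simp only [e, Iso.trans_hom, Category.assoc, Scheme.isoOfEq_hom_ι,
      Scheme.Hom.isoOpensRange_hom_ι]
  refine sq.of_iso e (Iso.refl _) hU'.isoSpec.symm (Iso.refl _) ?_ ?_ ?_ ?_
  · rw [Iso.refl_hom, Category.comp_id, reassoc_of% he, hh U hU U' hU' hle]
  · rw [← cancel_mono U'.ι, Category.assoc, Category.assoc, morphismRestrict_ι,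
      reassoc_of% he, Iso.symm_hom, IsAffineOpen.isoSpec_inv_ι, B.ι_π U' hU']
  · simp
  · rw [Iso.refl_hom, Category.comp_id, Iso.symm_hom, IsAffineOpen.isoSpec_inv_ι_assoc]

/-- `Spec(g^*A) = Spec(A) ×_S S'`. -/
theorem isPullback_of_isSpecQMap (hu : RelSpec.IsQBaseChange u) (h : B.spec ⟶ A.spec)
    (hh : RelSpec.IsSpecQMap u h) : IsPullback h B.π A.π g := by
  classical
  let I := {x : S'.Opens × S.Opens // IsAffineOpen x.1 ∧ IsAffineOpen x.2 ∧ x.1 ≤ g ⁻¹ᵁ x.2}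
  have hcov : IsOpenCover (fun i : I => i.1.1) := by
    refine eq_top_iff.mpr fun y' _ => ?_
    obtain ⟨U, hyU⟩ := TopologicalSpace.Opens.mem_iSup.mp
      ((iSup_affineOpens_eq_top S).ge (Set.mem_univ (g y')))
    have hy' : y' ∈ g ⁻¹ᵁ U.1 := hyU
    obtain ⟨U', hU', hyU', hle⟩ := ChartOpens.exists_affine_le hy'
    exact TopologicalSpace.Opens.mem_iSup.mpr ⟨⟨(U', U.1), hU', U.2, hle⟩, hyU'⟩
  refine isPullback_of_forall_restrict g h B.π A.π (fun i : I => i.1.1) hcov ?_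
  rintro ⟨⟨U', U⟩, hU', hU, hle⟩
  exact isPullback_restrict_of_isSpecQMap u hu h hh U hU U' hU' hle

end spec

end Groth.Agent.Lib.Helper74.QMap
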