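import Groth.Agent.Lib.Helper74.QMapAffine
import Mathlib.AlgebraicGeometry.Morphisms.ClosedImmersion
import Mathlib.AlgebraicGeometry.Morphisms.IsIso

set_option autoImplicit false
universe u
open CategoryTheory CategoryTheory.Limits AlgebraicGeometry TopologicalSpace Opposite
open scoped HomogeneousIdeal
open HomogeneousLocalization

namespace Groth.Agent.Lib.Helper74.QMap

open Groth.Agent.Lib.Helper74.RelProjLib

section local_

/-- A property local at the target holds if the target is covered by open immersions over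
which the morphism is a pullback of a morphism with the property. -/
theorem of_forall_exists_isPullback {Q : MorphismProperty Scheme.{u}} [IsZariskiLocalAtTarget Q]
    {X Y : Scheme.{u}} (f : X ⟶ Y)
    (H : ∀ y : Y, ∃ (UX UY : Scheme.{u}) (iX : UX ⟶ X) (iY : UY ⟶ Y) (f' : UX ⟶ UY),
      IsOpenImmersion iY ∧ y ∈ Set.range iY ∧ IsPullback iX f' f iY ∧ Q f') : Q f := by
  refine IsZariskiLocalAtTarget.of_forall_exists_morphismRestrict fun y => ?_
  obtain ⟨UX, UY, iX, iY, f', hoi, hy, hpb, hQ⟩ := H y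
  refine ⟨iY.opensRange, hy, ?_⟩
  rw [Q.arrow_mk_iso_iff (morphismRestrictOpensRange f iY)]
  have e : Arrow.mk f' ≅ Arrow.mk (pullback.snd f iY) :=
    Arrow.isoMk hpb.isoPullback (Iso.refl _) (by simp)
  exact (Q.arrow_mk_iso_iff e).mp hQ

end local_

section ring

variable {A B σ τ : Type u} [CommRing A] [SetLike σ A] [AddSubgroupClass σ A]
  [CommRing B] [SetLike τ B] [AddSubgroupClass τ B]
  {𝒜 : ℕ → σ} {ℬ : ℕ → τ} [GradedRing 𝒜] [GradedRing ℬ]

theorem away_mk_eq_mk_mul {f : A} {d : ℕ} (hf : f ∈ 𝒜 d) (n m : ℕ) (a : A) (ha : a ∈ 𝒜 (n • d))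
    (ha' : a * f ^ m ∈ 𝒜 ((n + m) • d)) :
    Away.mk 𝒜 hf (n + m) (a * f ^ m) ha' = Away.mk 𝒜 hf n a ha := by
  apply HomogeneousLocalization.val_injective
  rw [Away.val_mk, Away.val_mk, Localization.mk_eq_mk_iff, Localization.r_iff_exists]
  refine ⟨1, ?_⟩
  simp only [OneMemClass.coe_one, one_mul]
  ring

theorem away_map_surjective_of_tn (ψ : 𝒜 →+*ᵍ ℬ) {N : ℕ}
    (hN : ∀ k, N ≤ k → ∀ y ∈ ℬ k, ∃ x ∈ 𝒜 k, ψ x = y) {f : A} {d : ℕ} (hd : 0 < d)
    (hf : f ∈ 𝒜 d) : Function.Surjective (Away.map ψ f) := by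
  intro y
  obtain ⟨n, b, hb, rfl⟩ := Away.mk_surjective ℬ (ψ.map_mem hf) y
  have hb' : b * ψ f ^ N ∈ ℬ ((n + N) • d) := by
    rw [add_smul]
    exact SetLike.mul_mem_graded hb (SetLike.pow_mem_graded N (ψ.map_mem hf))
  have hle : N ≤ (n + N) • d := by
    rw [smul_eq_mul]
    calc N ≤ n + N := Nat.le_add_left _ _
      _ = (n + N) * 1 := (mul_one _).symm
      _ ≤ (n + N) * d := Nat.mul_le_mul_left _ hd
  obtain ⟨a, ha, hab⟩ := hN _ hle _ hb'
  refine ⟨Away.mk 𝒜 hf (n + N) a ha, ?_⟩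
  rw [Away.map_mk]
  rw [← away_mk_eq_mk_mul (ψ.map_mem hf) n N b hb hb']
  exact away_mk_congr _ _ _ _ hab

theorem away_mk_eq_zero_of_pow_mul {f : A} {d : ℕ} (hf : f ∈ 𝒜 d) (n m : ℕ) (a : A)
    (ha : a ∈ 𝒜 (n • d)) (h : f ^ m * a = 0) : Away.mk 𝒜 hf n a ha = 0 := by
  apply HomogeneousLocalization.val_injective
  rw [Away.val_mk, HomogeneousLocalization.val_zero, Localization.mk_eq_mk', IsLocalization.mk'_eq_zero_iff]
  exact ⟨⟨f ^ m, m, rfl⟩, h⟩

theorem away_map_injective_of_tn (ψ : 𝒜 →+*ᵍ ℬ) {N : ℕ}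
    (hN : ∀ k, N ≤ k → ∀ x ∈ 𝒜 k, ψ x = 0 → x = 0) {f : A} {d : ℕ} (hd : 0 < d)
    (hf : f ∈ 𝒜 d) : Function.Injective (Away.map ψ f) := by
  rw [injective_iff_map_eq_zero]
  intro x hx
  obtain ⟨n, a, ha, rfl⟩ := Away.mk_surjective 𝒜 hf x
  rw [Away.map_mk] at hx
  have hx' := congrArg HomogeneousLocalization.val hx
  rw [Away.val_mk, HomogeneousLocalization.val_zero, Localization.mk_eq_mk',
    IsLocalization.mk'_eq_zero_iff] at hx'
  obtain ⟨⟨_, m, rfl⟩, hm⟩ := hx'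
  have h1 : f ^ (m + N) * a ∈ 𝒜 ((m + N + n) • d) := by
    rw [add_smul]
    exact SetLike.mul_mem_graded (SetLike.pow_mem_graded _ hf) ha
  have hle : N ≤ (m + N + n) • d := by
    rw [smul_eq_mul]
    calc N ≤ m + N + n := by omega
      _ = (m + N + n) * 1 := (mul_one _).symm
      _ ≤ (m + N + n) * d := Nat.mul_le_mul_left _ hd
  have h2 : ψ (f ^ (m + N) * a) = 0 := by
    have hm' : ψ f ^ m * ψ a = 0 := hm
    rw [map_mul, map_pow, pow_add]
    calc ψ f ^ m * ψ f ^ N * ψ a = ψ f ^ N * (ψ f ^ m * ψ a) := by ring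
      _ = 0 := by rw [hm', mul_zero]
  exact away_mk_eq_zero_of_pow_mul hf n (m + N) a ha (hN _ hle _ h1 h2)

theorem domOpen_eq_top_of_tn (ψ : 𝒜 →+*ᵍ ℬ) {N : ℕ}
    (hN : ∀ k, N ≤ k → ∀ y ∈ ℬ k, ∃ x ∈ 𝒜 k, ψ x = y) : RelCone.domOpen ψ = ⊤ := by
  rw [_root_.eq_top_iff]
  intro y _
  obtain ⟨d, hd, b, hb, hyb⟩ := exists_pos_homog_mem_basicOpen y
  have hb' : b ^ (N + 1) ∈ ℬ ((N + 1) • d) := SetLike.pow_mem_graded _ hb
  have hle : N ≤ (N + 1) • d := by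
    rw [smul_eq_mul]
    calc N ≤ N + 1 := Nat.le_succ _
      _ = (N + 1) * 1 := (mul_one _).symm
      _ ≤ (N + 1) * d := Nat.mul_le_mul_left _ hd
  obtain ⟨a, ha, hab⟩ := hN _ hle _ hb'
  rw [mem_domOpen_iff_homog]
  refine ⟨(N + 1) • d, by rw [smul_eq_mul]; positivity, a, ha, ?_⟩
  rw [hab, Proj.basicOpen_pow _ _ _ (Nat.succ_pos N)]
  exact hyb

end ring

section rel

variable {Y Y' : Scheme.{u}} {g : Y' ⟶ Y} {𝒮 : RelProj.QCGrAlg Y} {𝒮' : RelProj.QCGrAlg Y'}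
  (u : RelProj.QGrHom g 𝒮 𝒮')
  {P P' : Scheme.{u}} {p : P ⟶ Y}
  {chart : ∀ (U : Y.Opens) (hU : IsAffineOpen U),
    (((p ⁻¹ᵁ U : P.Opens) : Scheme.{u}) ≅ Proj (𝒮.deg U hU))}
  {p' : P' ⟶ Y'}
  {chart' : ∀ (U' : Y'.Opens) (hU' : IsAffineOpen U'),
    (((p' ⁻¹ᵁ U' : P'.Opens) : Scheme.{u}) ≅ Proj (𝒮'.deg U' hU'))}

theorem isProjQMap_comp (hP : RelProj.IsRelProj 𝒮 p chart) (hP' : RelProj.IsRelProj 𝒮' p' chart')
    (h : P' ⟶ P) (hh : RelProj.IsProjQMap u p chart p' chart' h) : h ≫ p = p' ≫ g := by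
  have hdom := hh.1
  have hiso : IsIso (RelProj.domQ u p' chart').ι := by
    rw [hdom]; exact inferInstanceAs (IsIso P'.topIso.hom)
  rw [← cancel_epi (RelProj.domQ u p' chart').ι, ← Category.assoc]
  exact isProjQMapOn_comp hP hP' _ ((isProjQMap_iff u h).mp hh).2

theorem mem_range_chartEmb_iff_of_isProjQMap (hP' : RelProj.IsRelProj 𝒮' p' chart')
    (h : P' ⟶ P) (hh : RelProj.IsProjQMap u p chart p' chart' h) (i : ChartIdx g 𝒮) (x : P') :
    x ∈ Set.range (chartEmb u p' chart' i) ↔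
      x ∈ p' ⁻¹ᵁ i.U' ∧ h x ∈ Set.range (stdChart p chart i.U i.hU i.hd i.f i.hf) := by
  have hx : x ∈ RelProj.domQ u p' chart' := by rw [hh.1]; trivial
  have key := mem_range_chartLift_iff u hP' _ ((isProjQMap_iff u h).mp hh).2 i ⟨x, hx⟩
  refine Iff.trans ?_ key
  constructor
  · rintro ⟨ξ, hξ⟩
    refine ⟨ξ, ?_⟩
    apply (RelProj.domQ u p' chart').ι.isOpenEmbedding.injective
    have h3 : (RelProj.domQ u p' chart').ι
        (chartLift (u := u) (p' := p') (chart' := chart') i ξ) = chartEmb u p' chart' i ξ := by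
      rw [← Scheme.Hom.comp_apply, chartLift_ι]
    rw [h3]
    exact hξ
  · rintro ⟨ξ, hξ⟩
    refine ⟨ξ, ?_⟩
    have h3 : (RelProj.domQ u p' chart').ι
        (chartLift (u := u) (p' := p') (chart' := chart') i ξ) = chartEmb u p' chart' i ξ := by
      rw [← Scheme.Hom.comp_apply, chartLift_ι]
    rw [← h3, hξ]
    rfl

end rel

section same

variable {Y : Scheme.{u}} {𝒜 ℬ : RelProj.QCGrAlg Y} (φ : 𝒜.toQCAlg ⟶ ℬ.toQCAlg)
  (hφ : RelProj.IsGradedHom φ)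
  {PA PB : Scheme.{u}} {pA : PA ⟶ Y}
  {chartA : ∀ (U : Y.Opens) (hU : IsAffineOpen U),
    (((pA ⁻¹ᵁ U : PA.Opens) : Scheme.{u}) ≅ Proj (𝒜.deg U hU))}
  {pB : PB ⟶ Y}
  {chartB : ∀ (U : Y.Opens) (hU : IsAffineOpen U),
    (((pB ⁻¹ᵁ U : PB.Opens) : Scheme.{u}) ≅ Proj (ℬ.deg U hU))}

theorem domQ_eq_top_same (hB : RelProj.IsRelProj ℬ pB chartB)
    (h : ∀ (U : Y.Opens) (hU : IsAffineOpen U),
      RelCone.domOpen (RelProj.gradedHomAt φ hφ U hU) = ⊤) :
    RelProj.domQ (RelProj.QGrHom.ofHom φ hφ) pB chartB = ⊤ := by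
  rw [_root_.eq_top_iff]
  intro x _
  obtain ⟨U, hxU⟩ := TopologicalSpace.Opens.mem_iSup.mp
    ((iSup_affineOpens_eq_top Y).ge (Set.mem_univ (pB x)))
  obtain ⟨y, rfl⟩ := RelConeProj.exists_emb_eq (pC := pB) (chartC := chartB) U.1 U.2 x hxU
  have : RelProj.emb pB chartB U.1 U.2 y ∈
      (RelProj.emb pB chartB U.1 U.2) ''ᵁ RelCone.domOpen (RelProj.gradedHomAt φ hφ U.1 U.2) := by
    rw [h U.1 U.2]
    exact ⟨y, trivial, rfl⟩
  rw [← domQ_inf_preimage φ hφ hB U.1 U.2] at this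
  exact this.1

/-- the chart index over `(U, U)` in the same-base case -/
def selfIdx (U : Y.Opens) (hU : IsAffineOpen U) {d : ℕ} (hd : 0 < d)
    (f : 𝒜.presheaf.obj (op U)) (hf : f ∈ 𝒜.deg U hU d) : ChartIdx (𝟙 Y) 𝒜 :=
  ⟨U, hU, U, hU, le_rfl, d, hd, f, hf⟩

/-- over a standard open of the target, `Proj(φ)` is `Spec` of the map of homogeneous
localizations -/
theorem isPullback_chart_of_isProjQMap (hA : RelProj.IsRelProj 𝒜 pA chartA)
    (hB : RelProj.IsRelProj ℬ pB chartB) (h : PB ⟶ PA)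
    (hh : RelProj.IsProjQMap (RelProj.QGrHom.ofHom φ hφ) pA chartA pB chartB h)
    (U : Y.Opens) (hU : IsAffineOpen U) {d : ℕ} (hd : 0 < d)
    (f : 𝒜.presheaf.obj (op U)) (hf : f ∈ 𝒜.deg U hU d) :
    IsPullback (chartEmb (RelProj.QGrHom.ofHom φ hφ) pB chartB (selfIdx U hU hd f hf))
      (Spec.map (CommRingCat.ofHom (Away.map
        ((RelProj.QGrHom.ofHom φ hφ).gradedAt U hU U hU le_rfl) f))) h
      (stdChart pA chartA U hU hd f hf) := by
  refine (IsOpenImmersion.isPullback _ _ _ _ ?_ ?_).flip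
  · exact hh.2 U hU U hU le_rfl d hd f hf
  · ext x
    change h x ∈ Set.range (stdChart pA chartA U hU hd f hf) ↔ x ∈ Set.range (chartEmb _ pB chartB _)
    rw [mem_range_chartEmb_iff_of_isProjQMap (RelProj.QGrHom.ofHom φ hφ) hB h hh
      (selfIdx U hU hd f hf) x]
    refine ⟨fun hx => ⟨?_, hx⟩, fun hx => hx.2⟩
    have h1 := range_stdChart_subset U hU hd f hf hx
    have h2 := congrArg (fun ψ => ψ.base x)
      (isProjQMap_comp (RelProj.QGrHom.ofHom φ hφ) hA hB h hh)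
    change pA (h x) = (𝟙 Y : Y ⟶ Y) (pB x) at h2
    change pA (h x) ∈ U at h1
    rw [h2] at h1
    exact h1

/-- a property local at the target holds for `Proj(φ)` if it holds for `Spec` of the maps of
homogeneous localizations -/
theorem isProjQMap_of_forall (Q : MorphismProperty Scheme.{u}) [IsZariskiLocalAtTarget Q]
    (hA : RelProj.IsRelProj 𝒜 pA chartA)
    (hB : RelProj.IsRelProj ℬ pB chartB) (h : PB ⟶ PA)
    (hh : RelProj.IsProjQMap (RelProj.QGrHom.ofHom φ hφ) pA chartA pB chartB h)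
    (H : ∀ (U : Y.Opens) (hU : IsAffineOpen U) (d : ℕ) (_ : 0 < d)
      (f : 𝒜.presheaf.obj (op U)) (_ : f ∈ 𝒜.deg U hU d),
      Q (Spec.map (CommRingCat.ofHom (Away.map
        ((RelProj.QGrHom.ofHom φ hφ).gradedAt U hU U hU le_rfl) f)))) : Q h := by
  refine of_forall_exists_isPullback h fun y => ?_
  obtain ⟨U, hU, d, hd, f, hf, hy⟩ := exists_stdChart_mem (chart := chartA) y
  exact ⟨_, _, _, stdChart pA chartA U hU hd f hf, _, inferInstance, hy,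
    isPullback_chart_of_isProjQMap φ hφ hA hB h hh U hU hd f hf, H U hU d hd f hf⟩

end same

end Groth.Agent.Lib.Helper74.QMap
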