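import Groth.Agent.Lib.Helper74.SymQCAlg
import Groth.Agent.Lib.Helper74.QMapSpec
import Groth.Agent.Lib.Helper74.QMapTN
import Mathlib.RingTheory.FiniteType
import Mathlib.AlgebraicGeometry.Morphisms.FiniteType
import Mathlib.AlgebraicGeometry.Morphisms.ClosedImmersion

/-!
# Properties of relative spectra checked on affine opens; first properties of `V(E) = Spec(Sym E)`
-/

set_option autoImplicit false
universe u

open CategoryTheory CategoryTheory.Limits AlgebraicGeometry TopologicalSpace Opposite

noncomputable section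

namespace Groth.Agent.Lib.Helper74.SymQ

open RelSpec Groth.Agent.Lib.Helper74.QMap

section local_target

variable {S : Scheme.{u}}

/-- A property local at the target holds for the structure morphism of a relative spectrum as soon as it holds
for `Spec A(U) ⟶ Spec O(U)` over all affine opens `U`. -/
theorem spec_π_of_forall (Q : MorphismProperty Scheme.{u}) [IsZariskiLocalAtTarget Q] (A : QCAlg S)
    (H : ∀ (U : S.Opens) (_ : IsAffineOpen U), Q (Spec.map (A.str.app (op U)))) : Q A.π := by
  refine of_forall_exists_isPullback A.π fun y => ?_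
  obtain ⟨U, hyU⟩ := TopologicalSpace.Opens.mem_iSup.mp
    ((iSup_affineOpens_eq_top S).ge (Set.mem_univ y))
  refine ⟨_, _, A.ι U.1 U.2, U.2.fromSpec, Spec.map (A.str.app (op U.1)), inferInstance, ?_,
    isPullback_ι U.1 U.2, H U.1 U.2⟩
  rw [U.2.range_fromSpec]; exact hyU

theorem isPullback_ι_specMap {A B : QCAlg S} (ψ : A ⟶ B) (U : S.Opens) (hU : IsAffineOpen U) :
    IsPullback (B.ι U hU) (Spec.map (ψ.hom.app (op U))) (QCAlg.specMap ψ) (A.ι U hU) := by
  refine (IsOpenImmersion.isPullback _ _ _ _ (QCAlg.ι_specMap U hU ψ) ?_).flip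
  rw [← A.π_preimage U hU, ← B.π_preimage U hU, ← Scheme.Hom.comp_preimage, QCAlg.specMap_π]

/-- A property local at the target holds for the morphism of relative spectra induced by a homomorphism of
quasi-coherent algebras as soon as it holds for `Spec B(U) ⟶ Spec A(U)` over all affine opens `U`. -/
theorem specMap_of_forall (Q : MorphismProperty Scheme.{u}) [IsZariskiLocalAtTarget Q] {A B : QCAlg S}
    (ψ : A ⟶ B) (H : ∀ (U : S.Opens) (_ : IsAffineOpen U), Q (Spec.map (ψ.hom.app (op U)))) :
    Q (QCAlg.specMap ψ) := by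
  refine of_forall_exists_isPullback (QCAlg.specMap ψ) fun y => ?_
  obtain ⟨U, hyU⟩ := TopologicalSpace.Opens.mem_iSup.mp
    ((iSup_affineOpens_eq_top S).ge (Set.mem_univ (A.π y)))
  refine ⟨_, _, B.ι U.1 U.2, A.ι U.1 U.2, Spec.map (ψ.hom.app (op U.1)), inferInstance, ?_,
    isPullback_ι_specMap ψ U.1 U.2, H U.1 U.2⟩
  have : y ∈ A.π ⁻¹ᵁ U.1 := hyU
  rw [A.π_preimage U.1 U.2] at this
  exact this

end local_target

section algebra

variable {R M A : Type*} [CommRing R] [AddCommGroup M] [Module R M] [CommRing A] [Algebra R A]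

/-- The symmetric algebra of a finite module is an algebra of finite type. -/
theorem finiteType_of_isSymmetricAlgebra [Module.Finite R M] {f : M →ₗ[R] A} (hf : IsSymmetricAlgebra f) :
    Algebra.FiniteType R A := by
  classical
  obtain ⟨s, hs⟩ := (Module.finite_def (R := R) (M := M)).mp inferInstance
  refine ⟨⟨s.image f, ?_⟩⟩
  rw [eq_top_iff]
  intro a _
  have hM : ∀ m : M, f m ∈ Algebra.adjoin R ((s.image f : Finset A) : Set A) := by
    intro m
    have hm : m ∈ Submodule.span R (s : Set M) := by rw [hs]; trivial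
    induction hm using Submodule.span_induction with
    | mem x hx => exact Algebra.subset_adjoin (by simpa using ⟨x, hx, rfl⟩)
    | zero => rw [map_zero]; exact zero_mem _
    | add x y _ _ hx hy => rw [map_add]; exact add_mem hx hy
    | smul r x _ hx => rw [map_smul]; exact Subalgebra.smul_mem _ hx r
  induction a using hf.induction with
  | algebraMap r => exact Subalgebra.algebraMap_mem _ r
  | ι m => exact hM m
  | mul a b ha hb => exact mul_mem (ha trivial) (hb trivial)
  | add a b ha hb => exact add_mem (ha trivial) (hb trivial)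

variable {M' A' : Type*} [AddCommGroup M'] [Module R M'] [CommRing A'] [Algebra R A']

/-- A surjection of modules induces a surjection of symmetric algebras. -/
theorem surjective_of_isSymmetricAlgebra {f' : M' →ₗ[R] A'} (hf' : IsSymmetricAlgebra f')
    (f : M →ₗ[R] A) (g : M → M') (hg : Function.Surjective g) (φ : A →+* A')
    (hφ1 : ∀ r, φ (algebraMap R A r) = algebraMap R A' r) (hφ2 : ∀ m, φ (f m) = f' (g m)) :
    Function.Surjective φ := by
  intro a'
  induction a' using hf'.induction with
  | algebraMap r => exact ⟨_, hφ1 r⟩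
  | ι m' =>
    obtain ⟨m, rfl⟩ := hg m'
    exact ⟨_, hφ2 m⟩
  | mul a b ha hb =>
    obtain ⟨x, rfl⟩ := ha
    obtain ⟨y, rfl⟩ := hb
    exact ⟨x * y, map_mul _ _ _⟩
  | add a b ha hb =>
    obtain ⟨x, rfl⟩ := ha
    obtain ⟨y, rfl⟩ := hb
    exact ⟨x + y, map_add _ _ _⟩

end algebra

end Groth.Agent.Lib.Helper74.SymQ
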