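import Groth.Agent.Lib.Helper74.WeakAssFinite
import Mathlib.RingTheory.Unramified.LocalStructure
import Mathlib.RingTheory.Etale.StandardEtale

set_option autoImplicit false
set_option linter.style.haveILetI false

namespace Groth.Agent.Lib.Helper74.WeakAss

universe u
open FlatCA TensorProduct

section loc

variable {A C D : Type u} [CommRing A] [CommRing C] [CommRing D] [Algebra A C] [Algebra C D]
  [Algebra A D] [IsScalarTower A C D] (S : Submonoid C) [IsLocalization S D]
  (M : Type u) [AddCommGroup M] [Module A M]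

include S in
theorem mem_weakAss_tensor_localization_iff (Q : Ideal D) [hQ : Q.IsPrime] :
    Q ∈ weakAss D (D ⊗[A] M) ↔ Q.comap (algebraMap C D) ∈ weakAss C (C ⊗[A] M) := by
  haveI : IsLocalizedModule S (Algebra.linearMap C D) :=
    (isLocalizedModule_iff_isLocalization).2 inferInstance
  let f : C ⊗[A] M →ₗ[C] D ⊗[A] M := AlgebraTensorModule.rTensor A M (Algebra.linearMap C D)
  haveI : IsLocalizedModule S f := inferInstance
  have hP : (Q.comap (algebraMap C D)).IsPrime := Ideal.comap_isPrime _ _
  have hdisj : Disjoint (S : Set C) (Q.comap (algebraMap C D) : Set C) :=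
    ((IsLocalization.isPrime_iff_isPrime_disjoint S D Q).1 hQ).2
  have hmap : Ideal.map (algebraMap C D) (Q.comap (algebraMap C D)) = Q :=
    IsLocalization.map_comap S D Q
  rw [mem_weakAss_iff_map_mem (A := D) S f (Q.comap (algebraMap C D)) hdisj, hmap]

end loc

section etale

variable {A B : Type u} [CommRing A] [CommRing B] [Algebra A B] (M : Type u) [AddCommGroup M]
  [Module A M]

theorem mem_weakAss_tensor_iff_of_etale [Algebra.Etale A B] (p : Ideal A) [p.IsPrime]
    (q : Ideal B) [hq : q.IsPrime] (hqp : q.comap (algebraMap A B) = p) :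
    q ∈ weakAss B (B ⊗[A] M) ↔ p ∈ weakAss A M := by
  obtain ⟨g, hgq, hstd⟩ := Algebra.IsEtaleAt.exists_isStandardEtale (R := A) q
  let Bg := Localization.Away g
  have hdisj : Disjoint (Submonoid.powers g : Set B) (q : Set B) :=
    (Ideal.disjoint_powers_iff_notMem_of_isPrime _).2 hgq
  let Q : Ideal Bg := Ideal.map (algebraMap B Bg) q
  have hQprime : Q.IsPrime :=
    IsLocalization.isPrime_of_isPrime_disjoint (Submonoid.powers g) Bg q hq hdisj
  have hQcomap : Q.comap (algebraMap B Bg) = q :=
    IsLocalization.comap_map_of_isPrime_disjoint (Submonoid.powers g) Bg hq hdisj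
  have step1 : Q ∈ weakAss Bg (Bg ⊗[A] M) ↔ q ∈ weakAss B (B ⊗[A] M) := by
    rw [mem_weakAss_tensor_localization_iff (Submonoid.powers g) M Q, hQcomap]
  rw [← step1]
  obtain ⟨P⟩ := hstd.nonempty_standardEtalePresentation
  let C := AdjoinRoot P.f
  let h : C := AdjoinRoot.mk P.f P.g
  let ε : Bg ≃ₐ[A] Localization.Away h := P.equivRing.trans P.P.equivAwayAdjoinRoot
  let ψ : C →+* Bg := (ε.symm : Localization.Away h →+* Bg).comp (algebraMap C (Localization.Away h))
  letI : Algebra C Bg := ψ.toAlgebra
  haveI : IsScalarTower A C Bg := IsScalarTower.of_algebraMap_eq (fun a => by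
    change algebraMap A Bg a = ε.symm (algebraMap C (Localization.Away h) (algebraMap A C a))
    rw [← IsScalarTower.algebraMap_apply A C (Localization.Away h), AlgEquiv.commutes])
  let ε' : Localization.Away h ≃ₐ[C] Bg :=
    AlgEquiv.ofRingEquiv (f := ε.symm.toRingEquiv) (fun c => rfl)
  haveI : IsLocalization (Submonoid.powers h) Bg :=
    IsLocalization.isLocalization_of_algEquiv (Submonoid.powers h) ε'
  haveI : Module.Finite A C := P.monic_f.finite_adjoinRoot
  haveI : Module.Free A C := P.monic_f.free_adjoinRoot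
  rw [mem_weakAss_tensor_localization_iff (C := C) (Submonoid.powers h) M Q]
  haveI : (Q.comap (algebraMap C Bg)).IsPrime := Ideal.comap_isPrime _ _
  refine mem_weakAss_tensor_iff_of_finite_flat p (Q.comap (algebraMap C Bg)) ?_
  rw [Ideal.comap_comap, ← IsScalarTower.algebraMap_eq A C Bg,
    IsScalarTower.algebraMap_eq A B Bg, ← Ideal.comap_comap, hQcomap, hqp]

end etale

end Groth.Agent.Lib.Helper74.WeakAss
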