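import Mathlib

/-!
# Surjectivity / injectivity of `Away.map` for graded ring homomorphisms, in terms of homogeneous elements
-/

set_option autoImplicit false
universe u
open HomogeneousLocalization

namespace Groth.Agent.Lib.Helper74.AwayMapCrit

variable {A B R : Type*} [CommRing A] [CommRing B] [CommRing R] {σ τ : Type*}
  [SetLike σ A] [AddSubgroupClass σ A] [SetLike τ B] [AddSubgroupClass τ B]
  {𝒜 : ℕ → σ} {ℬ : ℕ → τ} [GradedRing 𝒜] [GradedRing ℬ]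

theorem away_mk_eq_zero_iff {f : A} {d : ℕ} (hf : f ∈ 𝒜 d) (m : ℕ) (a : A) (ha : a ∈ 𝒜 (m • d)) :
    Away.mk 𝒜 hf m a ha = 0 ↔ ∃ k : ℕ, f ^ k * a = 0 := by
  rw [HomogeneousLocalization.ext_iff_val, Away.val_mk, HomogeneousLocalization.val_zero,
    Localization.mk_eq_mk'_apply, IsLocalization.mk'_eq_zero_iff]
  constructor
  · rintro ⟨⟨_, k, rfl⟩, hk⟩
    exact ⟨k, hk⟩
  · rintro ⟨k, hk⟩
    exact ⟨⟨f ^ k, k, rfl⟩, hk⟩

theorem away_mk_eq_fromZero_iff {f : A} {d : ℕ} (hf : f ∈ 𝒜 d) (m : ℕ) (a : A) (ha : a ∈ 𝒜 (m • d))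
    (b : 𝒜 0) :
    Away.mk 𝒜 hf m a ha = fromZeroRingHom 𝒜 (Submonoid.powers f) b ↔
      ∃ k : ℕ, f ^ k * a = f ^ k * (f ^ m * (b : A)) := by
  rw [HomogeneousLocalization.ext_iff_val, Away.val_mk]
  have h1 : (fromZeroRingHom 𝒜 (Submonoid.powers f) b).val = Localization.mk (b : A) 1 := rfl
  rw [h1, Localization.mk_eq_mk_iff, Localization.r_iff_exists]
  constructor
  · rintro ⟨⟨_, k, rfl⟩, hk⟩
    refine ⟨k, ?_⟩
    simpa using hk
  · rintro ⟨k, hk⟩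
    refine ⟨⟨f ^ k, k, rfl⟩, ?_⟩
    simpa using hk

variable (ψ : 𝒜 →+*ᵍ ℬ) {n : ℕ} {s : A} (hs : s ∈ 𝒜 n)

include hs in
theorem away_map_surjective_iff (φ₀ : R →+* ℬ 0)
    (hφ : Function.Surjective ((fromZeroRingHom ℬ (Submonoid.powers (ψ s))).comp φ₀)) :
    Function.Surjective (Away.map ψ s) ↔
      ∀ t : R, ∃ (m : ℕ) (_ : 0 < m) (s' : A) (_ : s' ∈ 𝒜 (m * n)),
        ((φ₀ t : ℬ 0) : B) * (ψ s) ^ m = ψ s' := by
  constructor
  · intro hsurj t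
    obtain ⟨w, hw⟩ := hsurj (fromZeroRingHom ℬ (Submonoid.powers (ψ s)) (φ₀ t))
    obtain ⟨m, s', hs', rfl⟩ := Away.mk_surjective 𝒜 hs w
    rw [Away.map_mk, away_mk_eq_fromZero_iff] at hw
    obtain ⟨k, hk⟩ := hw
    refine ⟨m + k + 1, Nat.succ_pos _, s ^ (k + 1) * s', ?_, ?_⟩
    · have h1 : s ^ (k + 1) ∈ 𝒜 ((k + 1) • n) := SetLike.pow_mem_graded _ hs
      have h2 := SetLike.mul_mem_graded h1 hs'
      have e : (k + 1) • n + m • n = (m + k + 1) * n := by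
        simp only [smul_eq_mul]; ring
      rw [e] at h2
      exact h2
    · rw [map_mul, map_pow]
      have : ((φ₀ t : ℬ 0) : B) * ψ s ^ (m + k + 1) = ψ s * (ψ s ^ k * (ψ s ^ m * ((φ₀ t : ℬ 0) : B))) := by
        ring
      rw [this, ← hk]
      ring
  · intro H z
    obtain ⟨t, rfl⟩ := hφ z
    obtain ⟨m, _, s', hs', e⟩ := H t
    have hs'' : s' ∈ 𝒜 (m • n) := by rw [smul_eq_mul]; exact hs'
    refine ⟨Away.mk 𝒜 hs m s' hs'', ?_⟩
    rw [Away.map_mk, RingHom.comp_apply, away_mk_eq_fromZero_iff]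
    refine ⟨0, ?_⟩
    rw [← e]
    ring

include hs in
theorem away_map_injective_iff :
    Function.Injective (Away.map ψ s) ↔
      ∀ (m : ℕ), 0 < m → ∀ s' ∈ 𝒜 (m * n), ψ s' = 0 → ∃ k : ℕ, 0 < k ∧ s ^ k * s' = 0 := by
  constructor
  · intro hinj m _ s' hs' h0
    have hs'' : s' ∈ 𝒜 (m • n) := by rw [smul_eq_mul]; exact hs'
    have h1 : Away.map ψ s (Away.mk 𝒜 hs m s' hs'') = 0 := by
      rw [Away.map_mk, away_mk_eq_zero_iff]
      exact ⟨0, by rw [h0, mul_zero]⟩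
    rw [← map_zero (Away.map ψ s)] at h1
    have h2 := hinj h1
    rw [away_mk_eq_zero_iff] at h2
    obtain ⟨k, hk⟩ := h2
    exact ⟨k + 1, Nat.succ_pos _, by rw [pow_succ', mul_assoc, hk, mul_zero]⟩
  · intro H
    rw [injective_iff_map_eq_zero]
    intro w hw
    obtain ⟨m, s', hs', rfl⟩ := Away.mk_surjective 𝒜 hs w
    rw [Away.map_mk, away_mk_eq_zero_iff] at hw
    obtain ⟨k, hk⟩ := hw
    have h1 : s ^ (k + 1) * s' ∈ 𝒜 ((k + 1 + m) * n) := by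
      have h1 : s ^ (k + 1) ∈ 𝒜 ((k + 1) • n) := SetLike.pow_mem_graded _ hs
      have h2 := SetLike.mul_mem_graded h1 hs'
      have e : (k + 1) • n + m • n = (k + 1 + m) * n := by
        simp only [smul_eq_mul]; ring
      rw [e] at h2
      exact h2
    have h2 : ψ (s ^ (k + 1) * s') = 0 := by
      rw [map_mul, map_pow, pow_succ', mul_assoc, hk, mul_zero]
    obtain ⟨k', _, hk'⟩ := H (k + 1 + m) (by omega) _ h1 h2
    rw [away_mk_eq_zero_iff]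
    exact ⟨k' + (k + 1), by rw [pow_add, mul_assoc, hk']⟩

end Groth.Agent.Lib.Helper74.AwayMapCrit
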