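import Groth.Agent.Lib.Helper74.StrSec

set_option autoImplicit false
universe u
open CategoryTheory AlgebraicGeometry TopologicalSpace Opposite
open scoped HomogeneousIdeal
open HomogeneousLocalization

namespace Groth.Agent.Lib.Helper74.AwaySec

open Groth.Agent.Lib.Helper60.TildeSec Groth.Agent.Lib.Helper74.TwistGen

variable {A σ : Type u} [CommRing A] [SetLike σ A] [AddSubgroupClass σ A] (𝒜 : ℕ → σ) [GradedRing 𝒜]

theorem appLE_congr' {X Z : Scheme.{u}} {q q' : X ⟶ Z} (hq : q = q') (U : Z.Opens) (V : X.Opens)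
    (e : V ≤ q ⁻¹ᵁ U) : q.appLE U V e = q'.appLE U V (hq ▸ e) := by
  subst hq; rfl

theorem top_le_preimage {d : ℕ} (hd : 0 < d) {f : A} (hf : f ∈ 𝒜 d) :
    (⊤ : (Spec (CommRingCat.of (Away 𝒜 f))).Opens) ≤
      Proj.awayι 𝒜 f hf hd ⁻¹ᵁ Proj.basicOpen 𝒜 f := by
  intro x _
  change (Proj.awayι 𝒜 f hf hd) x ∈ Proj.basicOpen 𝒜 f
  rw [← Proj.opensRange_awayι 𝒜 f hf hd]
  exact ⟨x, rfl⟩

/-- pulling the section attached to `a ∈ A_(f)` back along the chart `Spec A_(f) ⟶ Proj A` gives `a` -/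
theorem awayToSection_appLE {d : ℕ} (hd : 0 < d) {f : A} (hf : f ∈ 𝒜 d) :
    Proj.awayToSection 𝒜 f ≫ (Proj.awayι 𝒜 f hf hd).appLE (Proj.basicOpen 𝒜 f) ⊤
        (top_le_preimage 𝒜 hd hf) = (Scheme.ΓSpecIso (.of (Away 𝒜 f))).inv := by
  have h2 : (Proj.basicOpenToSpec 𝒜 f).appTop = (Scheme.ΓSpecIso _).hom ≫ Proj.awayToSection 𝒜 f ≫
      (Proj.basicOpen 𝒜 f).topIso.inv := Proj.basicOpenToSpec_app_top 𝒜 f
  have h4 : Proj.basicOpenToSpec 𝒜 f ≫ Proj.awayι 𝒜 f hf hd = (Proj.basicOpen 𝒜 f).ι := by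
    rw [Proj.awayι, ← Proj.basicOpenIsoSpec_hom 𝒜 f hf hd, Iso.hom_inv_id_assoc]
  haveI : IsIso (Proj.basicOpenToSpec 𝒜 f) := by
    rw [← Proj.basicOpenIsoSpec_hom 𝒜 f hf hd]; infer_instance
  have h3 : Proj.awayToSection 𝒜 f = (Scheme.ΓSpecIso _).inv ≫
      (Proj.basicOpenToSpec 𝒜 f).appTop ≫ (Proj.basicOpen 𝒜 f).topIso.hom := by
    rw [h2]
    simp only [Category.assoc, Iso.inv_hom_id, Category.comp_id, Iso.inv_hom_id_assoc]
  -- cancel the iso `(basicOpenToSpec).appTop` on the right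
  haveI : IsIso (Proj.basicOpenToSpec 𝒜 f).appTop := by
    unfold Scheme.Hom.appTop
    exact Scheme.Hom.isIso_app _ _ (by
      intro x _
      exact ⟨inv (Proj.basicOpenToSpec 𝒜 f) x, by
        rw [← Scheme.Hom.comp_apply, IsIso.inv_hom_id]; rfl⟩)
  rw [← cancel_mono (Proj.basicOpenToSpec 𝒜 f).appTop]
  have h5 : (Proj.awayι 𝒜 f hf hd).appLE (Proj.basicOpen 𝒜 f) ⊤ (top_le_preimage 𝒜 hd hf) ≫
      (Proj.basicOpenToSpec 𝒜 f).appTop = (Proj.basicOpen 𝒜 f).topIso.inv := by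
    have := Scheme.Hom.appLE_comp_appLE (Proj.basicOpenToSpec 𝒜 f) (Proj.awayι 𝒜 f hf hd)
      (Proj.basicOpen 𝒜 f) ⊤ ⊤ (top_le_preimage 𝒜 hd hf) le_top
    have e2 : (Proj.basicOpenToSpec 𝒜 f).appLE ⊤ ⊤ le_top = (Proj.basicOpenToSpec 𝒜 f).appTop := by
      simp only [Scheme.Hom.appLE, Scheme.Hom.appTop]
      exact Category.comp_id _
    rw [e2] at this
    rw [this, appLE_congr' h4]
    rw [Scheme.Opens.topIso_inv]
    simp only [Scheme.Hom.appLE, Scheme.Opens.ι_app]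
    erw [← Functor.map_comp]
    rfl
  rw [Category.assoc, h5, h3]
  simp only [Category.assoc, Iso.hom_inv_id, Category.comp_id]

end Groth.Agent.Lib.Helper74.AwaySec
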