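import Groth.Prelude.Def_Exal3
import Groth.Prelude.Def_Exal2
import Mathlib.RingTheory.Smooth.Kaehler

set_option autoImplicit false
set_option linter.unusedSectionVars false
universe u v

namespace Groth.Agent.Lib.Helper74.CharHom

open TensorProduct KaehlerDifferential

variable (A : Type u) {B C L : Type v} [CommRing A] [CommRing B] [CommRing C] [Algebra A B]
  [Algebra B C] [Algebra A C] [IsScalarTower A B C] [AddCommGroup L] [Module C L]
  (X : Exal.Ext B C L)

lemma proj_incl (z : L) : X.proj (X.incl z) = 0 :=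
  (X.isExtension.exact _).2 ⟨z, rfl⟩

lemma incl_mul_incl (z z' : L) : X.incl z * X.incl z' = 0 := by
  rw [X.isExtension.mul_incl, proj_incl, zero_smul, map_zero]

lemma algebraMap_eq (e : X.CharCarrier A) : algebraMap (X.CharCarrier A) C e = X.proj e := rfl

lemma mem_ker_iff (e : X.CharCarrier A) :
    e ∈ RingHom.ker (algebraMap (X.CharCarrier A) C) ↔ ∃ z : L, X.incl z = e := by
  rw [RingHom.mem_ker, algebraMap_eq]
  exact X.isExtension.exact e

lemma incl_mem_ker (z : L) : X.inclC A z ∈ RingHom.ker (algebraMap (X.CharCarrier A) C) :=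
  (mem_ker_iff A X _).2 ⟨z, rfl⟩

lemma ker_sq : (RingHom.ker (algebraMap (X.CharCarrier A) C)) ^ 2 = ⊥ := by
  rw [eq_bot_iff, pow_two, Ideal.mul_le]
  intro x hx y hy
  obtain ⟨z, rfl⟩ := (mem_ker_iff A X x).1 hx
  obtain ⟨z', rfl⟩ := (mem_ker_iff A X y).1 hy
  rw [Ideal.mem_bot]
  exact incl_mul_incl X z z'

lemma algebraMap_surjective : Function.Surjective (algebraMap (X.CharCarrier A) C) :=
  X.isExtension.proj_surjective

lemma deltaL_apply (z : L) :
    X.deltaL A z = (1 : C) ⊗ₜ[X.CharCarrier A] D A (X.CharCarrier A) (X.inclC A z) := rfl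

lemma deltaL_eq_kerToTensor (z : L) :
    X.deltaL A z = kerToTensor A (X.CharCarrier A) C ⟨X.inclC A z, incl_mem_ker A X z⟩ := rfl


lemma deltaL_smul (c : C) (z : L) : X.deltaL A (c • z) = c • X.deltaL A z := by
  obtain ⟨e, rfl⟩ := algebraMap_surjective A X c
  rw [deltaL_apply, deltaL_apply]
  have h1 : X.inclC A (algebraMap (X.CharCarrier A) C e • z) = e * X.inclC A z := by
    rw [algebraMap_eq]
    exact (X.isExtension.mul_incl e z).symm
  rw [h1, Derivation.leibniz, TensorProduct.tmul_add, TensorProduct.tmul_smul,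
    TensorProduct.tmul_smul]
  have h2 : X.inclC A z • ((1 : C) ⊗ₜ[X.CharCarrier A] D A (X.CharCarrier A) e) = 0 := by
    rw [TensorProduct.smul_tmul', Algebra.smul_def, algebraMap_eq]
    have : X.proj (X.inclC A z) = 0 := proj_incl X z
    rw [this, zero_mul, TensorProduct.zero_tmul]
  rw [h2, add_zero, algebraMap_smul]

/-- The `A`-algebra section of `E → C` given by triviality over `A`. -/
lemma exists_section (hX : X.IsTrivialOver A) :
    ∃ g : C →ₐ[A] X.CharCarrier A,
      (IsScalarTower.toAlgHom A (X.CharCarrier A) C).comp g = AlgHom.id A C := by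
  obtain ⟨s, hs⟩ := hX
  refine ⟨{ toRingHom := s.toRingHom, commutes' := fun a => s.commutes a }, ?_⟩
  ext c
  exact hs c

lemma deltaL_injective (hX : X.IsTrivialOver A) : Function.Injective (X.deltaL A) := by
  obtain ⟨g, hg⟩ := exists_section A X hX
  have hret := _root_.retractionOfSectionOfKerSqZero_comp_kerToTensor g (ker_sq A X) hg
  intro z z' h
  rw [deltaL_eq_kerToTensor, deltaL_eq_kerToTensor] at h
  have h' := congrArg (_root_.retractionOfSectionOfKerSqZero g (ker_sq A X) hg) h
  have e1 := LinearMap.congr_fun hret ⟨X.inclC A z, incl_mem_ker A X z⟩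
  have e2 := LinearMap.congr_fun hret ⟨X.inclC A z', incl_mem_ker A X z'⟩
  simp only [LinearMap.comp_apply, LinearMap.id_apply] at e1 e2
  rw [e1, e2] at h'
  exact X.isExtension.incl_injective (congrArg Subtype.val h')

lemma exists_deltaL_eq (w : C ⊗[X.CharCarrier A] Ω[X.CharCarrier A⁄A])
    (hw : mapBaseChange A (X.CharCarrier A) C w = 0) : ∃ z : L, X.deltaL A z = w := by
  obtain ⟨y, rfl⟩ := (exact_kerCotangentToTensor_mapBaseChange A (X.CharCarrier A) C
    (algebraMap_surjective A X) w).1 hw
  obtain ⟨x, rfl⟩ := Ideal.toCotangent_surjective _ y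
  obtain ⟨z, hz⟩ := (mem_ker_iff A X x.1).1 x.2
  refine ⟨z, ?_⟩
  rw [kerCotangentToTensor_toCotangent, deltaL_apply]
  congr 2


lemma baseChangeToMiddle_tmul (c : C) (ω : Ω[B⁄A]) :
    X.baseChangeToMiddle A (c ⊗ₜ[B] ω) =
      c ⊗ₜ[X.CharCarrier A] KaehlerDifferential.map A A B (X.CharCarrier A) ω := rfl

lemma baseChangeToMiddle_smul (c : C) (z : C ⊗[B] Ω[B⁄A]) :
    X.baseChangeToMiddle A (c • z) = c • X.baseChangeToMiddle A z := by
  induction z using TensorProduct.induction_on with
  | zero => rw [smul_zero, map_zero, smul_zero]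
  | tmul c' ω =>
    rw [TensorProduct.smul_tmul', baseChangeToMiddle_tmul, baseChangeToMiddle_tmul,
      TensorProduct.smul_tmul']
  | add x y hx hy => rw [smul_add, map_add, hx, hy, map_add, smul_add]

lemma mapBaseChange_baseChangeToMiddle (z : C ⊗[B] Ω[B⁄A]) :
    mapBaseChange A (X.CharCarrier A) C (X.baseChangeToMiddle A z) = mapBaseChange A B C z := by
  induction z using TensorProduct.induction_on with
  | zero => rw [map_zero, map_zero, map_zero]
  | tmul c ω =>
    rw [baseChangeToMiddle_tmul, mapBaseChange_tmul, mapBaseChange_tmul]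
    congr 1
    have hω : ω ∈ Submodule.span B (Set.range (D A B)) := by
      rw [KaehlerDifferential.span_range_derivation]; trivial
    induction hω using Submodule.span_induction with
    | mem x hx =>
      obtain ⟨b, rfl⟩ := hx
      rw [KaehlerDifferential.map_D, KaehlerDifferential.map_D, KaehlerDifferential.map_D,
        ← IsScalarTower.algebraMap_apply]
    | zero => rw [map_zero, map_zero, map_zero]
    | add x y _ _ hx hy => rw [map_add, map_add, map_add, hx, hy]
    | smul b x _ hx =>
      rw [LinearMap.map_smul (KaehlerDifferential.map A A B (X.CharCarrier A)) b x,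
        ← IsScalarTower.algebraMap_smul (X.CharCarrier A) b
          (KaehlerDifferential.map A A B (X.CharCarrier A) x),
        LinearMap.map_smul, hx, LinearMap.map_smul (KaehlerDifferential.map A A B C) b x,
        IsScalarTower.algebraMap_smul]
  | add x y hx hy => rw [map_add, map_add, map_add, hx, hy]


lemma addHom_ext_tmul_D {M : Type*} [AddCommMonoid M] (f f' : C ⊗[B] Ω[B⁄A] →+ M)
    (h : ∀ (c : C) (b : B), f (c ⊗ₜ[B] D A B b) = f' (c ⊗ₜ[B] D A B b)) : f = f' := by
  have key : ∀ (ω : Ω[B⁄A]) (c : C), f (c ⊗ₜ[B] ω) = f' (c ⊗ₜ[B] ω) := by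
    intro ω
    have hω : ω ∈ Submodule.span B (Set.range (D A B)) := by
      rw [KaehlerDifferential.span_range_derivation]; trivial
    induction hω using Submodule.span_induction with
    | mem x hx =>
      obtain ⟨b, rfl⟩ := hx
      exact fun c => h c b
    | zero => intro c; rw [TensorProduct.tmul_zero, map_zero, map_zero]
    | add x y _ _ hx hy => intro c; rw [TensorProduct.tmul_add, map_add, map_add, hx, hy]
    | smul b x _ hx => intro c; rw [← TensorProduct.smul_tmul]; exact hx (b • c)
  ext w
  induction w using TensorProduct.induction_on with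
  | zero => rw [map_zero, map_zero]
  | tmul c ω => exact key ω c
  | add x y hx hy => rw [map_add, map_add, hx, hy]

section Section

variable (g : C →ₐ[A] X.CharCarrier A)
  (hg : (IsScalarTower.toAlgHom A (X.CharCarrier A) C).comp g = AlgHom.id A C)

/-- The retraction of `deltaL` attached to an `A`-algebra section `g` of `E → C`. -/
noncomputable def retr : C ⊗[X.CharCarrier A] Ω[X.CharCarrier A⁄A] →ₗ[X.CharCarrier A]
    RingHom.ker (algebraMap (X.CharCarrier A) C) :=
  retractionOfSectionOfKerSqZero g (ker_sq A X) hg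

lemma retr_deltaL (z : L) : (retr A X g hg (X.deltaL A z)).1 = X.incl z := by
  have hret := retractionOfSectionOfKerSqZero_comp_kerToTensor g (ker_sq A X) hg
  have e1 := LinearMap.congr_fun hret ⟨X.inclC A z, incl_mem_ker A X z⟩
  simp only [LinearMap.comp_apply, LinearMap.id_apply] at e1
  rw [deltaL_eq_kerToTensor]
  exact congrArg Subtype.val e1

include hg in
lemma proj_section (c : C) : X.proj (g c) = c := AlgHom.congr_fun hg c

include hg in
lemma isTrivialOver_of_section : X.IsTrivialOver A :=
  ⟨{ toRingHom := g.toRingHom, commutes' := fun a => g.commutes a }, fun c => AlgHom.congr_fun hg c⟩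

lemma retr_baseChangeToMiddle_tmul_D (c : C) (b : B) :
    (retr A X g hg (X.baseChangeToMiddle A (c ⊗ₜ[B] D A B b))).1 =
      g c * (algebraMap B (X.CharCarrier A) b - g (algebraMap B C b)) := by
  rw [baseChangeToMiddle_tmul, KaehlerDifferential.map_D, retr,
    retractionOfSectionOfKerSqZero_tmul_D, ← IsScalarTower.algebraMap_apply, mul_sub]

lemma isCharHom_iff (χ : EGA41.imperfection A B C →ₗ[C] L) :
    X.IsCharHom A χ ↔ ∀ z : EGA41.imperfection A B C,
      X.incl (χ z) = (retr A X g hg (X.baseChangeToMiddle A (z : C ⊗[B] Ω[B⁄A]))).1 := by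
  constructor
  · intro h z
    rw [← h z, retr_deltaL]
  · intro h z
    obtain ⟨l, hl⟩ := exists_deltaL_eq A X (X.baseChangeToMiddle A (z : C ⊗[B] Ω[B⁄A]))
      (by rw [mapBaseChange_baseChangeToMiddle]; exact z.2)
    have h1 := h z
    rw [← hl, retr_deltaL] at h1
    rw [X.isExtension.incl_injective h1, hl]

end Section

section Transport

variable {X} {Y : Exal.Ext B C L}

/-- The characteristic-homomorphism predicate is invariant under equivalence of extensions. -/
lemma isCharHom_of_equiv (e : X.Equiv Y) (hX : X.IsTrivialOver A)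
    (χ : EGA41.imperfection A B C →ₗ[C] L) (h : X.IsCharHom A χ) : Y.IsCharHom A χ := by
  obtain ⟨g, hg⟩ := exists_section A X hX
  let g' : C →ₐ[A] Y.CharCarrier A :=
    { toFun := fun c => e.toAlgEquiv (g c)
      map_one' := by rw [map_one]; exact map_one e.toAlgEquiv
      map_mul' := fun x y => by rw [map_mul]; exact map_mul e.toAlgEquiv _ _
      map_zero' := by rw [map_zero]; exact map_zero e.toAlgEquiv
      map_add' := fun x y => by rw [map_add]; exact map_add e.toAlgEquiv _ _
      commutes' := fun a => by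
        rw [g.commutes a]
        exact e.toAlgEquiv.commutes (algebraMap A B a) }
  have hg'app : ∀ c, g' c = e.toAlgEquiv (g c) := fun c => rfl
  have hg' : (IsScalarTower.toAlgHom A (Y.CharCarrier A) C).comp g' = AlgHom.id A C := by
    ext c
    change Y.proj (e.toAlgEquiv (g c)) = c
    rw [e.proj_apply]
    exact proj_section A X g hg c
  rw [isCharHom_iff A X g hg] at h
  rw [isCharHom_iff A Y g' hg']
  let f : C ⊗[B] Ω[B⁄A] →+ Y.CharCarrier A :=
    ((e.toAlgEquiv : X.E →+* Y.E).toAddMonoidHom.comp
      ((RingHom.ker (algebraMap (X.CharCarrier A) C)).subtype.toAddMonoidHom.comp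
        (retr A X g hg).toAddMonoidHom)).comp (X.baseChangeToMiddle A).toAddMonoidHom
  let f' : C ⊗[B] Ω[B⁄A] →+ Y.CharCarrier A :=
    ((RingHom.ker (algebraMap (Y.CharCarrier A) C)).subtype.toAddMonoidHom.comp
      (retr A Y g' hg').toAddMonoidHom).comp (Y.baseChangeToMiddle A).toAddMonoidHom
  have hff' : f = f' := by
    apply addHom_ext_tmul_D A
    intro c b
    change e.toAlgEquiv (retr A X g hg (X.baseChangeToMiddle A (c ⊗ₜ[B] D A B b))).1 =
      (retr A Y g' hg' (Y.baseChangeToMiddle A (c ⊗ₜ[B] D A B b))).1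
    rw [retr_baseChangeToMiddle_tmul_D, retr_baseChangeToMiddle_tmul_D, hg'app, hg'app]
    have h1 : e.toAlgEquiv (algebraMap B (X.CharCarrier A) b) = algebraMap B (Y.CharCarrier A) b :=
      e.toAlgEquiv.commutes b
    rw [← h1]
    exact (map_mul e.toAlgEquiv _ _).trans (congrArg _ (map_sub e.toAlgEquiv _ _))
  intro z
  rw [← e.apply_incl, h z]
  exact DFunLike.congr_fun hff' (z : C ⊗[B] Ω[B⁄A])

end Transport

end Groth.Agent.Lib.Helper74.CharHom
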