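import Groth.Agent.Lib.Helper74.CharHom

set_option autoImplicit false
set_option linter.unusedSectionVars false
universe u v

namespace Groth.Agent.Lib.Helper74.CharHom

open TensorProduct KaehlerDifferential

attribute [local instance] Exal.opModule Exal.isCentralScalar_opModule

section Der

variable {A : Type u} {B C L : Type v} [CommRing A] [CommRing B] [CommRing C]
  [Algebra A B] [Algebra B C] [Algebra A C] [IsScalarTower A B C]
  [AddCommGroup L] [Module C L] [Module B L] [IsScalarTower B C L] [Module A L]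
  [IsScalarTower A B L] [IsScalarTower A C L]
  (D : Derivation A B L)

/-- The `C`-linear map `C ⊗_B Ω_{B/A} → L` attached to an `A`-derivation `B → L`. -/
noncomputable def phi : C ⊗[B] Ω[B⁄A] →ₗ[C] L :=
  LinearMap.liftBaseChange C D.liftKaehlerDifferential

lemma phi_tmul_D (c : C) (b : B) : phi D (c ⊗ₜ[B] KaehlerDifferential.D A B b) = c • D b := by
  rw [phi, LinearMap.liftBaseChange_tmul, Derivation.liftKaehlerDifferential_comp_D]

lemma algebraMap_ofDerivation (b : B) :
    algebraMap B ((Exal.Ext.ofDerivation (C := C) D).CharCarrier A) b =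
      (TrivSqZeroExt.inl (algebraMap B C b) + TrivSqZeroExt.inr (D b) : TrivSqZeroExt C L) := rfl

/-- The evident `A`-algebra section of the extension attached to a derivation. -/
noncomputable def sec : C →ₐ[A] (Exal.Ext.ofDerivation (C := C) D).CharCarrier A where
  toFun c := (TrivSqZeroExt.inl c : TrivSqZeroExt C L)
  map_one' := TrivSqZeroExt.inl_one L
  map_mul' x y := TrivSqZeroExt.inl_mul L x y
  map_zero' := TrivSqZeroExt.inl_zero L
  map_add' x y := TrivSqZeroExt.inl_add L x y
  commutes' a := by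
    change (TrivSqZeroExt.inl (algebraMap A C a) : TrivSqZeroExt C L) =
      TrivSqZeroExt.inl (algebraMap B C (algebraMap A B a)) + TrivSqZeroExt.inr (D (algebraMap A B a))
    rw [Derivation.map_algebraMap, TrivSqZeroExt.inr_zero, add_zero,
      ← IsScalarTower.algebraMap_apply A B C]

lemma sec_apply (c : C) : sec D c = (TrivSqZeroExt.inl c : TrivSqZeroExt C L) := rfl

lemma sec_comp : (IsScalarTower.toAlgHom A ((Exal.Ext.ofDerivation (C := C) D).CharCarrier A) C).comp
    (sec D) = AlgHom.id A C := by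
  ext c
  rfl

lemma incl_ofDerivation (l : L) :
    (Exal.Ext.ofDerivation (C := C) D).incl l = (TrivSqZeroExt.inr l : TrivSqZeroExt C L) := rfl

lemma retr_ofDerivation (w : C ⊗[B] Ω[B⁄A]) :
    (retr A (Exal.Ext.ofDerivation (C := C) D) (sec D) (sec_comp D)
      ((Exal.Ext.ofDerivation (C := C) D).baseChangeToMiddle A w)).1 =
      (TrivSqZeroExt.inr (phi D w) : TrivSqZeroExt C L) := by
  let X := Exal.Ext.ofDerivation (C := C) D
  let f : C ⊗[B] Ω[B⁄A] →+ X.CharCarrier A :=
    ((RingHom.ker (algebraMap (X.CharCarrier A) C)).subtype.toAddMonoidHom.comp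
      (retr A X (sec D) (sec_comp D)).toAddMonoidHom).comp (X.baseChangeToMiddle A).toAddMonoidHom
  let f' : C ⊗[B] Ω[B⁄A] →+ X.CharCarrier A :=
    (TrivSqZeroExt.inrHom C L).toAddMonoidHom.comp (phi D).toAddMonoidHom
  have hff' : f = f' := by
    apply addHom_ext_tmul_D A
    intro c b
    change (retr A X (sec D) (sec_comp D) (X.baseChangeToMiddle A (c ⊗ₜ[B] KaehlerDifferential.D A B b))).1 =
      (TrivSqZeroExt.inr (phi D (c ⊗ₜ[B] KaehlerDifferential.D A B b)) : TrivSqZeroExt C L)
    rw [retr_baseChangeToMiddle_tmul_D, phi_tmul_D]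
    change ((TrivSqZeroExt.inl c : TrivSqZeroExt C L) *
      ((TrivSqZeroExt.inl (algebraMap B C b) + TrivSqZeroExt.inr (D b) : TrivSqZeroExt C L) -
        (TrivSqZeroExt.inl (algebraMap B C b) : TrivSqZeroExt C L)) : TrivSqZeroExt C L) =
      TrivSqZeroExt.inr (c • D b)
    rw [add_sub_cancel_left]
    exact TrivSqZeroExt.inl_mul_inr c (D b)
  exact DFunLike.congr_fun hff' w

lemma isCharHom_ofDerivation_iff (χ : EGA41.imperfection A B C →ₗ[C] L) :
    (Exal.Ext.ofDerivation (C := C) D).IsCharHom A χ ↔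
      ∀ z : EGA41.imperfection A B C, χ z = phi D (z : C ⊗[B] Ω[B⁄A]) := by
  rw [isCharHom_iff A _ (sec D) (sec_comp D)]
  refine forall_congr' fun z => ?_
  rw [retr_ofDerivation, incl_ofDerivation]
  exact TrivSqZeroExt.inr_injective.eq_iff

/-- The shear automorphism of `C ⊕ L` attached to a derivation `δ : C → L`. -/
noncomputable def shear (δ : Derivation A C L) : TrivSqZeroExt C L →+* TrivSqZeroExt C L where
  toFun t := TrivSqZeroExt.inl t.fst + TrivSqZeroExt.inr (t.snd - δ t.fst)
  map_one' := by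
    apply TrivSqZeroExt.ext <;> simp
  map_mul' x y := by
    apply TrivSqZeroExt.ext
    · simp
    · simp only [TrivSqZeroExt.snd_add, TrivSqZeroExt.snd_inl, TrivSqZeroExt.snd_inr, zero_add,
        TrivSqZeroExt.snd_mul, TrivSqZeroExt.fst_add, TrivSqZeroExt.fst_inl, TrivSqZeroExt.fst_inr,
        add_zero, TrivSqZeroExt.fst_mul, Derivation.leibniz, op_smul_eq_smul, smul_sub]
      abel
  map_zero' := by
    apply TrivSqZeroExt.ext <;> simp
  map_add' x y := by
    apply TrivSqZeroExt.ext
    · simp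
    · simp only [TrivSqZeroExt.snd_add, TrivSqZeroExt.snd_inl, TrivSqZeroExt.snd_inr, zero_add,
        TrivSqZeroExt.fst_add, map_add]
      abel

lemma shear_apply (δ : Derivation A C L) (t : TrivSqZeroExt C L) :
    shear δ t = TrivSqZeroExt.inl t.fst + TrivSqZeroExt.inr (t.snd - δ t.fst) := rfl

lemma shear_shear_neg (δ : Derivation A C L) (t : TrivSqZeroExt C L) :
    shear (-δ) (shear δ t) = t := by
  apply TrivSqZeroExt.ext <;> simp [shear_apply]

/-- Two derivations differing by the restriction of a derivation of `C` give equivalent extensions. -/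
noncomputable def equivOfDer (D₁ D₂ : Derivation A B L) (δ : Derivation A C L)
    (hδ : ∀ b, δ (algebraMap B C b) = D₁ b - D₂ b) :
    (Exal.Ext.ofDerivation (C := C) D₁).Equiv (Exal.Ext.ofDerivation (C := C) D₂) where
  toAlgEquiv :=
    { toFun := fun t => shear δ t
      invFun := fun t => shear (-δ) t
      left_inv := fun t => shear_shear_neg δ t
      right_inv := fun t => by
        have := shear_shear_neg (-δ) t
        rwa [neg_neg] at this
      map_mul' := fun x y => map_mul (shear δ) x y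
      map_add' := fun x y => map_add (shear δ) x y
      commutes' := fun b => by
        change shear δ (TrivSqZeroExt.inl (algebraMap B C b) + TrivSqZeroExt.inr (D₁ b)) =
          (TrivSqZeroExt.inl (algebraMap B C b) + TrivSqZeroExt.inr (D₂ b) : TrivSqZeroExt C L)
        apply TrivSqZeroExt.ext
        · simp [shear_apply]
        · simp [shear_apply, hδ] }
  proj_apply := fun t => by
    change TrivSqZeroExt.fst (shear δ t) = TrivSqZeroExt.fst t
    simp [shear_apply]
  apply_incl := fun z => by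
    change shear δ (TrivSqZeroExt.inr z) = (TrivSqZeroExt.inr z : TrivSqZeroExt C L)
    apply TrivSqZeroExt.ext <;> simp [shear_apply]

end Der

section Factor

variable (A : Type u) (B C : Type v) {L : Type v} [CommRing A] [CommRing B] [CommRing C]
  [Algebra A B] [Algebra B C] [Algebra A C] [IsScalarTower A B C]
  [AddCommGroup L] [Module C L]

lemma exists_factor
    (h : Module.Injective C L ∨
      ∃ s : Ω[C⁄B] →ₗ[C] Ω[C⁄A], ∀ ω : Ω[C⁄B], KaehlerDifferential.map A B C C (s ω) = ω)
    (Θ : C ⊗[B] Ω[B⁄A] →ₗ[C] L)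
    (hΘ : ∀ z ∈ EGA41.imperfection A B C, Θ z = 0) :
    ∃ Ψ : Ω[C⁄A] →ₗ[C] L, ∀ w, Ψ (mapBaseChange A B C w) = Θ w := by
  let Υ := EGA41.imperfection A B C
  have hΥ : Υ = LinearMap.ker (mapBaseChange A B C) := rfl
  let f' : (C ⊗[B] Ω[B⁄A] ⧸ Υ) →ₗ[C] Ω[C⁄A] := Υ.liftQ (mapBaseChange A B C) hΥ.le
  let Θ' : (C ⊗[B] Ω[B⁄A] ⧸ Υ) →ₗ[C] L := Υ.liftQ Θ (fun z hz => hΘ z hz)
  have hinj : Function.Injective f' := by
    rw [← LinearMap.ker_eq_bot]
    exact Submodule.ker_liftQ_eq_bot _ _ _ hΥ.ge
  have hf' : ∀ w, f' (Submodule.Quotient.mk w) = mapBaseChange A B C w := fun w => rfl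
  have hΘ' : ∀ w, Θ' (Submodule.Quotient.mk w) = Θ w := fun w => rfl
  rcases h with h | ⟨s, hs⟩
  · obtain ⟨Ψ, hΨ⟩ := Module.Injective.extension_property C L
      (C ⊗[B] Ω[B⁄A] ⧸ Υ) (Ω[C⁄A]) f' hinj Θ'
    refine ⟨Ψ, fun w => ?_⟩
    rw [← hf', ← hΘ']
    exact LinearMap.congr_fun hΨ _
  · have hex := KaehlerDifferential.exact_mapBaseChange_map A B C
    let m := KaehlerDifferential.map A B C C
    have hrange : ∀ x : Ω[C⁄A], x - s (m x) ∈ LinearMap.range f' := by
      intro x
      have hx : m (x - s (m x)) = 0 := by rw [map_sub, hs, sub_self]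
      obtain ⟨w, hw⟩ := (hex _).1 hx
      exact ⟨Submodule.Quotient.mk w, hw⟩
    let π : Ω[C⁄A] →ₗ[C] LinearMap.range f' :=
      LinearMap.codRestrict (LinearMap.range f') (LinearMap.id - s ∘ₗ m) hrange
    let e := LinearEquiv.ofInjective f' hinj
    refine ⟨Θ' ∘ₗ e.symm.toLinearMap ∘ₗ π, fun w => ?_⟩
    have h1 : π (mapBaseChange A B C w) = e (Submodule.Quotient.mk w) := by
      apply Subtype.ext
      change mapBaseChange A B C w - s (m (mapBaseChange A B C w)) = f' (Submodule.Quotient.mk w)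
      rw [hex.apply_apply_eq_zero, map_zero, sub_zero, hf']
    rw [LinearMap.comp_apply, LinearMap.comp_apply, h1]
    change Θ' (e.symm (e (Submodule.Quotient.mk w))) = Θ w
    rw [e.symm_apply_apply, hΘ']

end Factor

end Groth.Agent.Lib.Helper74.CharHom
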