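import Mathlib.AlgebraicGeometry.AffineScheme

set_option autoImplicit false
universe u
open CategoryTheory CategoryTheory.Limits AlgebraicGeometry TopologicalSpace Opposite

namespace Groth.Agent.Lib.Helper74.ChartOpens

variable {X Y : Scheme.{u}} (π : X ⟶ Y)
  (O : ∀ (U : Y.Opens), IsAffineOpen U → X.Opens)

theorem congr_open {U U' : Y.Opens} (h : U = U') (hU : IsAffineOpen U) (hU' : IsAffineOpen U') :
    O U hU = O U' hU' := by
  subst h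
  rfl

variable {O}

/-- A family of opens `O_U ⊆ π⁻¹(U)` over the affine opens `U` of the base, compatible with
restriction to basic opens, is compatible over all pairs of affine opens. -/
theorem mem_iff_of_mem
    (hbasic : ∀ (U : Y.Opens) (hU : IsAffineOpen U) (r : Γ(Y, U)),
      O (Y.basicOpen r) (hU.basicOpen r) = O U hU ⊓ π ⁻¹ᵁ (Y.basicOpen r))
    (U V : Y.Opens) (hU : IsAffineOpen U) (hV : IsAffineOpen V) (x : X)
    (hxU : x ∈ π ⁻¹ᵁ U) (hxV : x ∈ π ⁻¹ᵁ V) :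
    x ∈ O U hU ↔ x ∈ O V hV := by
  obtain ⟨a, b, e, hxa⟩ := exists_basicOpen_le_affine_inter hU hV (π x) ⟨hxU, hxV⟩
  have hxb : π x ∈ Y.basicOpen b := e ▸ hxa
  have h1 := hbasic U hU a
  have h2 := hbasic V hV b
  have h3 := congr_open O e (hU.basicOpen a) (hV.basicOpen b)
  constructor
  · intro hx
    have : x ∈ O (Y.basicOpen a) (hU.basicOpen a) := by
      rw [h1]; exact ⟨hx, hxa⟩
    rw [h3, h2] at this
    exact this.1
  · intro hx
    have : x ∈ O (Y.basicOpen b) (hV.basicOpen b) := by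
      rw [h2]; exact ⟨hx, hxb⟩
    rw [← h3, h1] at this
    exact this.1

theorem iSup_inf_eq
    (hle : ∀ (U : Y.Opens) (hU : IsAffineOpen U), O U hU ≤ π ⁻¹ᵁ U)
    (hbasic : ∀ (U : Y.Opens) (hU : IsAffineOpen U) (r : Γ(Y, U)),
      O (Y.basicOpen r) (hU.basicOpen r) = O U hU ⊓ π ⁻¹ᵁ (Y.basicOpen r))
    (V : Y.Opens) (hV : IsAffineOpen V) :
    (⨆ U : Y.affineOpens, O U.1 U.2) ⊓ π ⁻¹ᵁ V = O V hV := by
  apply le_antisymm
  · rintro x ⟨hx, hxV⟩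
    obtain ⟨U, hxU⟩ := TopologicalSpace.Opens.mem_iSup.mp hx
    exact (mem_iff_of_mem π hbasic U.1 V U.2 hV x (hle _ _ hxU) hxV).mp hxU
  · intro x hx
    exact ⟨TopologicalSpace.Opens.mem_iSup.mpr ⟨⟨V, hV⟩, hx⟩, hle _ _ hx⟩

theorem mem_iSup_iff
    (hle : ∀ (U : Y.Opens) (hU : IsAffineOpen U), O U hU ≤ π ⁻¹ᵁ U)
    (hbasic : ∀ (U : Y.Opens) (hU : IsAffineOpen U) (r : Γ(Y, U)),
      O (Y.basicOpen r) (hU.basicOpen r) = O U hU ⊓ π ⁻¹ᵁ (Y.basicOpen r))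
    (V : Y.Opens) (hV : IsAffineOpen V) (x : X) (hxV : x ∈ π ⁻¹ᵁ V) :
    x ∈ (⨆ U : Y.affineOpens, O U.1 U.2) ↔ x ∈ O V hV := by
  rw [← iSup_inf_eq π hle hbasic V hV]
  exact ⟨fun h => ⟨h, hxV⟩, fun h => h.1⟩

theorem exists_affine_le {Y : Scheme.{u}} {y : Y} {O : Y.Opens} (hy : y ∈ O) :
    ∃ W : Y.Opens, IsAffineOpen W ∧ y ∈ W ∧ W ≤ O := by
  obtain ⟨W, hW, hyW, hWO⟩ := TopologicalSpace.Opens.isBasis_iff_nbhd.mp Y.isBasis_affineOpens hy
  exact ⟨W, hW, hyW, hWO⟩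

end Groth.Agent.Lib.Helper74.ChartOpens
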