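import Mathlib.AlgebraicGeometry.ProjectiveSpectrum.Functor
import Mathlib.RingTheory.GradedAlgebra.HomogeneousLocalization
import Mathlib.Algebra.Polynomial.AlgebraMap

set_option autoImplicit false
universe u
open CategoryTheory AlgebraicGeometry
open scoped HomogeneousIdeal
open HomogeneousLocalization DirectSum

namespace Groth.Agent.Lib.Helper74.ConeAlg

variable {A B σ τ : Type u} [CommRing A] [SetLike σ A] [AddSubgroupClass σ A]
  [CommRing B] [SetLike τ B] [AddSubgroupClass τ B]
  {𝒜 : ℕ → σ} {ℬ : ℕ → τ} [GradedRing 𝒜] [GradedRing ℬ]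
  (φ : 𝒜 →+*ᵍ ℬ) {z : B} (hz : z ∈ ℬ 1)

include hz in
theorem pow_mem (j : ℕ) : z ^ j ∈ ℬ j := by
  have := SetLike.pow_mem_graded j hz
  simpa using this

include hz in
/-- the degree `n` component of `φ b * z ^ j` -/
theorem decompose_map_mul_pow (b : A) (j n : ℕ) :
    (decompose ℬ (φ b * z ^ j) n : B) =
      if j ≤ n then φ (decompose 𝒜 b (n - j)) * z ^ j else 0 := by
  rw [coe_decompose_mul_of_right_mem ℬ n (pow_mem hz j)]
  split_ifs with h
  · rw [GradedRingHom.map_directSumDecompose 𝒜 ℬ φ]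
  · rfl

section poly

variable (hsurj : Function.Surjective (Polynomial.eval₂RingHom φ.toRingHom z))

include hz hsurj in
/-- every homogeneous element of `B = A[z]` of degree `n` is `∑ φ (a j) z ^ j` with `a j` of
degree `n - j` -/
theorem exists_decomp (n : ℕ) (y : B) (hy : y ∈ ℬ n) :
    ∃ a : ℕ → A, (∀ j, a j ∈ 𝒜 (n - j)) ∧
      y = ∑ j ∈ Finset.range (n + 1), φ (a j) * z ^ j := by
  classical
  obtain ⟨p, rfl⟩ := hsurj y
  refine ⟨fun j => decompose 𝒜 (p.coeff j) (n - j), fun j => SetLike.coe_mem _, ?_⟩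
  set N := max (p.natDegree + 1) (n + 1) with hN
  have h1 : Polynomial.eval₂RingHom φ.toRingHom z p =
      ∑ j ∈ Finset.range N, φ (p.coeff j) * z ^ j := by
    rw [Polynomial.coe_eval₂RingHom,
      Polynomial.eval₂_eq_sum_range' φ.toRingHom (lt_of_lt_of_le (Nat.lt_succ_self _)
        (le_max_left _ _)) z]
    rfl
  have h2 : (decompose ℬ (Polynomial.eval₂RingHom φ.toRingHom z p) n : B) =
      Polynomial.eval₂RingHom φ.toRingHom z p := decompose_of_mem_same ℬ hy
  rw [← h2, h1, decompose_sum, DFinsupp.finset_sum_apply, AddSubmonoidClass.coe_finset_sum]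
  simp only [decompose_map_mul_pow φ hz]
  rw [← Finset.sum_subset (s₁ := Finset.range (n + 1)) (s₂ := Finset.range N)]
  · refine Finset.sum_congr rfl fun j hj => ?_
    rw [if_pos (Nat.lt_succ_iff.mp (Finset.mem_range.mp hj))]
  · intro j hj
    exact Finset.mem_range.mpr (lt_of_lt_of_le (Finset.mem_range.mp hj) (le_max_right _ _))
  · intro j _ hj
    rw [if_neg]
    intro hle
    exact hj (Finset.mem_range.mpr (Nat.lt_succ_of_le hle))

include hsurj in
/-- a retraction of `φ` killing `z` has kernel inside `(z)` -/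
theorem sub_map_mem_span (ψ : B →+* A) (hψφ : ∀ a, ψ (φ a) = a) (hψz : ψ z = 0) (b : B) :
    b - φ (ψ b) ∈ Ideal.span {z} := by
  obtain ⟨p, rfl⟩ := hsurj b
  have hp : p = p.divX * Polynomial.X + Polynomial.C (p.coeff 0) :=
    (Polynomial.divX_mul_X_add p).symm
  have h1 : Polynomial.eval₂RingHom φ.toRingHom z p =
      Polynomial.eval₂RingHom φ.toRingHom z p.divX * z + φ (p.coeff 0) := by
    conv_lhs => rw [hp]
    rw [map_add, map_mul]
    simp only [Polynomial.coe_eval₂RingHom, Polynomial.eval₂_X, Polynomial.eval₂_C]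
    rfl
  have h2 : ψ (Polynomial.eval₂RingHom φ.toRingHom z p) = p.coeff 0 := by
    rw [h1, map_add, map_mul, hψz, mul_zero, zero_add, hψφ]
  have h3 : Polynomial.eval₂RingHom φ.toRingHom z p -
      φ (ψ (Polynomial.eval₂RingHom φ.toRingHom z p)) =
      Polynomial.eval₂RingHom φ.toRingHom z p.divX * z := by
    rw [h2]
    conv_lhs => rw [h1]
    rw [add_sub_cancel_right]
  rw [h3]
  exact Ideal.mul_mem_left _ _ (Ideal.mem_span_singleton_self z)

include hz in
/-- the image of `Proj ψ` for a retraction `ψ` of `φ` with kernel `(z)` is `V₊(z)` -/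
theorem range_projMap_eq (ψ : ℬ →+*ᵍ 𝒜) (hψφ : ∀ a, ψ (φ a) = a) (hψz : ψ z = 0)
    (hker : ∀ b : B, b - φ (ψ b) ∈ Ideal.span {z})
    (hψ : 𝒜₊ ≤ ℬ₊.map ψ) :
    Set.range (Proj.map ψ hψ).base = ((Proj.basicOpen ℬ z : Set (Proj ℬ)))ᶜ := by
  apply Set.eq_of_subset_of_subset
  · rintro _ ⟨x, rfl⟩
    change ¬ ((Proj.map ψ hψ).base x ∈ Proj.basicOpen ℬ z)
    rw [Proj.mem_basicOpen, not_not]
    change ψ z ∈ x.asHomogeneousIdeal.toIdeal
    rw [hψz]
    exact zero_mem _
  · intro y hy
    have hzy : z ∈ y.asHomogeneousIdeal.toIdeal := by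
      have : ¬ (y ∈ Proj.basicOpen ℬ z) := hy
      rw [Proj.mem_basicOpen, not_not] at this
      exact this
    have hspan : ∀ b : B, b - φ (ψ b) ∈ y.asHomogeneousIdeal.toIdeal := fun b =>
      (Ideal.span_singleton_le_iff_mem (I := y.asHomogeneousIdeal.toIdeal)).mpr hzy (hker b)
    have hiff : ∀ b : B, φ (ψ b) ∈ y.asHomogeneousIdeal.toIdeal ↔
        b ∈ y.asHomogeneousIdeal.toIdeal := by
      intro b
      constructor
      · intro h
        have := add_mem (hspan b) h
        rwa [sub_add_cancel] at this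
      · intro h
        have := sub_mem h (hspan b)
        rwa [sub_sub_cancel] at this
    have hrel : ¬ 𝒜₊ ≤ y.asHomogeneousIdeal.comap φ := by
      intro hle
      apply y.not_irrelevant_le
      rw [HomogeneousIdeal.irrelevant_le]
      intro i hi b hb
      change b ∈ y.asHomogeneousIdeal.toIdeal
      rw [← hiff]
      apply hle
      exact HomogeneousIdeal.mem_irrelevant_of_mem _ hi (ψ.map_mem hb)
    let x : Proj 𝒜 := (⟨y.asHomogeneousIdeal.comap φ, y.isPrime.comap φ, hrel⟩ :
      ProjectiveSpectrum 𝒜)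
    refine ⟨x, ?_⟩
    apply ProjectiveSpectrum.ext
    apply HomogeneousIdeal.toIdeal_injective
    ext b
    exact hiff b

end poly

section away

include hz in
theorem map_mem_smul {k : ℕ} {x : A} (hx : x ∈ 𝒜 k) : φ x ∈ ℬ (k • 1) := by
  simpa using φ.map_mem hx

/-- the element `φ x / z ^ k` of `B_(z)`, for `x` of degree `k` -/
noncomputable def frac (k : ℕ) (x : A) (hx : x ∈ 𝒜 k) : Away ℬ z :=
  Away.mk ℬ hz k (φ x) (map_mem_smul φ hz hx)

theorem val_frac (k : ℕ) (x : A) (hx : x ∈ 𝒜 k) :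
    (frac φ hz k x hx).val = Localization.mk (φ x) (⟨z ^ k, k, rfl⟩ : Submonoid.powers z) :=
  Away.val_mk ..

variable (T : Away ℬ z →+* A) (hT : ∀ (k : ℕ) (x : A) (hx : x ∈ 𝒜 k), T (frac φ hz k x hx) = x)

include hT in
theorem surjective_of_frac : Function.Surjective T := by
  classical
  intro x
  refine ⟨∑ i ∈ (decompose 𝒜 x).support, frac φ hz i (decompose 𝒜 x i) (SetLike.coe_mem _), ?_⟩
  rw [map_sum]
  simp only [hT]
  exact sum_support_decompose 𝒜 x

theorem mk_eq_sum_frac (n : ℕ) (a : ℕ → A) (ha : ∀ j, a j ∈ 𝒜 (n - j))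
    (hy : ∑ j ∈ Finset.range (n + 1), φ (a j) * z ^ j ∈ ℬ (n • 1)) :
    Away.mk ℬ hz n (∑ j ∈ Finset.range (n + 1), φ (a j) * z ^ j) hy =
      ∑ j ∈ Finset.range (n + 1), frac φ hz (n - j) (a j) (ha j) := by
  apply HomogeneousLocalization.val_injective
  rw [← HomogeneousLocalization.algebraMap_apply
    (y := ∑ j ∈ Finset.range (n + 1), frac φ hz (n - j) (a j) (ha j)), map_sum]
  simp only [HomogeneousLocalization.algebraMap_apply, val_frac, Away.val_mk]
  rw [Localization.mk_sum]
  refine Finset.sum_congr rfl fun j hj => ?_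
  have hjn : j ≤ n := Nat.lt_succ_iff.mp (Finset.mem_range.mp hj)
  rw [Localization.mk_eq_mk_iff, Localization.r_iff_exists]
  refine ⟨1, ?_⟩
  simp only [OneMemClass.coe_one, one_mul]
  change z ^ (n - j) * (φ (a j) * z ^ j) = z ^ n * φ (a j)
  rw [← Nat.sub_add_cancel hjn, pow_add, Nat.add_sub_cancel]
  ring

include hT in
theorem injective_of_frac (hsurj : Function.Surjective (Polynomial.eval₂RingHom φ.toRingHom z)) :
    Function.Injective T := by
  classical
  rw [injective_iff_map_eq_zero]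
  intro q hq
  obtain ⟨n, y, hy, rfl⟩ := Away.mk_surjective ℬ hz q
  have hy' : y ∈ ℬ n := by simpa using hy
  obtain ⟨a, ha, rfl⟩ := exists_decomp φ hz hsurj n y hy'
  rw [mk_eq_sum_frac φ hz n a ha hy, map_sum] at hq
  simp only [hT] at hq
  have hzero : ∀ j ∈ Finset.range (n + 1), a j = 0 := by
    intro j₀ hj₀
    have hj₀n : j₀ ≤ n := Nat.lt_succ_iff.mp (Finset.mem_range.mp hj₀)
    have h1 : ((decompose 𝒜 (∑ j ∈ Finset.range (n + 1), a j) (n - j₀) : 𝒜 (n - j₀)) : A) = 0 := by
      rw [hq, decompose_zero, DirectSum.zero_apply, ZeroMemClass.coe_zero]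
    rw [decompose_sum, DFinsupp.finsetSum_apply, AddSubmonoidClass.coe_finsetSum,
      Finset.sum_eq_single j₀] at h1
    · rwa [decompose_of_mem_same 𝒜 (ha j₀)] at h1
    · intro j hj hne
      have hjn : j ≤ n := Nat.lt_succ_iff.mp (Finset.mem_range.mp hj)
      apply decompose_of_mem_ne 𝒜 (ha j)
      omega
    · intro h
      exact absurd hj₀ h
  rw [mk_eq_sum_frac φ hz n a ha hy]
  refine Finset.sum_eq_zero fun j hj => ?_
  apply HomogeneousLocalization.val_injective
  rw [val_frac, HomogeneousLocalization.val_zero, hzero j hj, map_zero, Localization.mk_zero]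

include hT in
theorem bijective_of_frac (hsurj : Function.Surjective (Polynomial.eval₂RingHom φ.toRingHom z)) :
    Function.Bijective T :=
  ⟨injective_of_frac φ hz T hT hsurj, surjective_of_frac φ hz T hT⟩

/-- ring homs out of `B_(z)` are determined by their values on the fractions `φ x / z ^ k` -/
theorem ringHom_ext_of_frac {R : Type*} [Semiring R] (T T' : Away ℬ z →+* R)
    (hsurj : Function.Surjective (Polynomial.eval₂RingHom φ.toRingHom z))
    (h : ∀ (k : ℕ) (x : A) (hx : x ∈ 𝒜 k), T (frac φ hz k x hx) = T' (frac φ hz k x hx)) :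
    T = T' := by
  ext q
  obtain ⟨n, y, hy, rfl⟩ := Away.mk_surjective ℬ hz q
  have hy' : y ∈ ℬ n := by simpa using hy
  obtain ⟨a, ha, rfl⟩ := exists_decomp φ hz hsurj n y hy'
  rw [mk_eq_sum_frac φ hz n a ha hy, map_sum, map_sum]
  exact Finset.sum_congr rfl fun j _ => h _ _ _

theorem mul_right_cancel_z (hinj : Function.Injective (Polynomial.eval₂RingHom φ.toRingHom z))
    (hsurj : Function.Surjective (Polynomial.eval₂RingHom φ.toRingHom z)) {b : B}
    (hb : z * b = 0) : b = 0 := by
  obtain ⟨p, rfl⟩ := hsurj b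
  have h1 : Polynomial.eval₂RingHom φ.toRingHom z (Polynomial.X * p) = 0 := by
    rw [map_mul]
    simpa using hb
  have h2 : Polynomial.X * p = 0 := hinj (by rw [h1, map_zero])
  have h3 : p = 0 := by
    apply (Polynomial.isRegular_X (R := A)).left
    change Polynomial.X * p = Polynomial.X * 0
    rw [h2, mul_zero]
  rw [h3, map_zero]

theorem pow_mul_right_cancel_z
    (hinj : Function.Injective (Polynomial.eval₂RingHom φ.toRingHom z))
    (hsurj : Function.Surjective (Polynomial.eval₂RingHom φ.toRingHom z)) (n : ℕ) {b : B}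
    (hb : z ^ n * b = 0) : b = 0 := by
  induction n with
  | zero => simpa using hb
  | succ n ih =>
    apply ih
    apply mul_right_cancel_z φ hinj hsurj
    rw [← mul_assoc, ← pow_succ']
    exact hb

/-- `B_(f) → B_(f z)` is injective, `z` being a non-zero-divisor -/
theorem awayMap_injective (hinj : Function.Injective (Polynomial.eval₂RingHom φ.toRingHom z))
    (hsurj : Function.Surjective (Polynomial.eval₂RingHom φ.toRingHom z))
    {d : ℕ} {f : B} (hf : f ∈ ℬ d) {x : B} (hx : x = f * z) :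
    Function.Injective (awayMap ℬ hz hx) := by
  rw [injective_iff_map_eq_zero]
  intro q hq
  obtain ⟨n, a, ha, rfl⟩ := Away.mk_surjective ℬ hf q
  rw [awayMap_mk] at hq
  have hq' := congrArg HomogeneousLocalization.val hq
  rw [Away.val_mk, HomogeneousLocalization.val_zero, Localization.mk_eq_mk',
    IsLocalization.mk'_eq_zero_iff] at hq'
  obtain ⟨⟨_, m, rfl⟩, hm⟩ := hq'
  have h1 : z ^ (m + n) * (f ^ m * a) = 0 := by
    have : x ^ m * (a * z ^ n) = 0 := hm
    rw [hx, mul_pow] at this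
    rw [pow_add]
    linear_combination this
  have h2 := pow_mul_right_cancel_z φ hinj hsurj (m + n) h1
  apply HomogeneousLocalization.val_injective
  rw [Away.val_mk, HomogeneousLocalization.val_zero, Localization.mk_eq_mk',
    IsLocalization.mk'_eq_zero_iff]
  exact ⟨⟨f ^ m, m, rfl⟩, h2⟩

end away

end Groth.Agent.Lib.Helper74.ConeAlg
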