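import Groth.Agent.Lib.Helper74.QMapPoint
import Groth.Agent.Lib.Helper74.QMapComp

set_option autoImplicit false
universe u
open CategoryTheory CategoryTheory.Limits AlgebraicGeometry TopologicalSpace Opposite
open scoped HomogeneousIdeal
open HomogeneousLocalization

namespace Groth.Agent.Lib.Helper74.QMap

open Groth.Agent.Lib.Helper74.RelProjLib

section transport

variable {Y Y' : Scheme.{u}} {g : Y' ⟶ Y} {𝒮 : RelProj.QCGrAlg Y} {𝒮' : RelProj.QCGrAlg Y'}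
  (u : RelProj.QGrHom g 𝒮 𝒮')
  {P P' : Scheme.{u}} {p : P ⟶ Y}
  {chart : ∀ (U : Y.Opens) (hU : IsAffineOpen U),
    (((p ⁻¹ᵁ U : P.Opens) : Scheme.{u}) ≅ Proj (𝒮.deg U hU))}
  {p' : P' ⟶ Y'}
  {chart' : ∀ (U : Y'.Opens) (hU : IsAffineOpen U),
    (((p' ⁻¹ᵁ U : P'.Opens) : Scheme.{u}) ≅ Proj (𝒮'.deg U hU))}

theorem isProjQMapOn_of_eq {W W' : P'.Opens} (h : W = W') (r' : (W' : Scheme.{u}) ⟶ P)
    (hr : RelProj.IsProjQMapOn u p chart p' chart' W' r') :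
    RelProj.IsProjQMapOn u p chart p' chart' W ((P'.isoOfEq h).hom ≫ r') := by
  subst h
  rw [Scheme.isoOfEq_rfl]
  simpa using hr

end transport

section cone

variable {Y : Scheme.{u}} {𝒮 𝒮h : RelProj.QCGrAlg Y} {ι : 𝒮.toQCAlg ⟶ 𝒮h.toQCAlg}
  {z : 𝒮h.presheaf.obj (op ⊤)} (hz : RelCone.IsPolyOver 𝒮 𝒮h ι z)
  {PC P : Scheme.{u}} {pC : PC ⟶ Y}
  {chartC : ∀ (U : Y.Opens) (hU : IsAffineOpen U),
    (((pC ⁻¹ᵁ U : PC.Opens) : Scheme.{u}) ≅ Proj (𝒮h.deg U hU))}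
  {p : P ⟶ Y}
  {chart : ∀ (U : Y.Opens) (hU : IsAffineOpen U),
    (((p ⁻¹ᵁ U : P.Opens) : Scheme.{u}) ≅ Proj (𝒮.deg U hU))}

/-- the chartwise characterization of the retraction `p̂ : Ê → X` used by the statements -/
def RetrForm (pC : PC ⟶ Y)
    (chartC : ∀ (U : Y.Opens) (hU : IsAffineOpen U),
      (((pC ⁻¹ᵁ U : PC.Opens) : Scheme.{u}) ≅ Proj (𝒮h.deg U hU)))
    (p : P ⟶ Y)
    (chart : ∀ (U : Y.Opens) (hU : IsAffineOpen U),
      (((p ⁻¹ᵁ U : P.Opens) : Scheme.{u}) ≅ Proj (𝒮.deg U hU)))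
    (r : ((RelCone.pointedProjCone 𝒮 hz pC chartC : PC.Opens) : Scheme.{u}) ⟶ P) : Prop :=
  ∀ (U : Y.Opens) (hU : IsAffineOpen U) (d : ℕ) (hd : 0 < d) (f : 𝒮.presheaf.obj (op U))
    (hf : f ∈ 𝒮.deg U hU d)
    (g : Spec (CommRingCat.of (HomogeneousLocalization.Away (𝒮h.deg U hU)
      ((RelProj.gradedHomAt ι hz.graded U hU) f))) ⟶
        ((RelCone.pointedProjCone 𝒮 hz pC chartC : PC.Opens) : Scheme.{u})),
    g ≫ (RelCone.pointedProjCone 𝒮 hz pC chartC).ι =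
        Proj.awayι (𝒮h.deg U hU) ((RelProj.gradedHomAt ι hz.graded U hU) f)
          ((RelProj.gradedHomAt ι hz.graded U hU).2 hf) hd ≫ RelProj.emb pC chartC U hU →
      g ≫ r =
        Spec.map (CommRingCat.ofHom (HomogeneousLocalization.Away.map
          (RelProj.gradedHomAt ι hz.graded U hU) f)) ≫
          Proj.awayι (𝒮.deg U hU) f hf hd ≫ RelProj.emb p chart U hU

theorem retrForm_of_isProjQMapOn (hPC : RelProj.IsRelProj 𝒮h pC chartC)
    (r : ((RelCone.pointedProjCone 𝒮 hz pC chartC : PC.Opens) : Scheme.{u}) ⟶ P)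
    (hr : RelProj.IsProjQMapOn (RelProj.QGrHom.ofHom ι hz.graded) p chart pC chartC
      (RelCone.pointedProjCone 𝒮 hz pC chartC) r) : RetrForm hz pC chartC p chart r := by
  intro U hU d hd f hf g hg
  have hW := range_awayι_ι_subset_pointed hz hPC U hU hd f hf
  have h1 : g = IsOpenImmersion.lift (RelCone.pointedProjCone 𝒮 hz pC chartC).ι
      (Proj.awayι (𝒮h.deg U hU) (RelConeProj.ιAt hz U hU f)
        ((RelConeProj.ιAt hz U hU).map_mem hf) hd ≫ RelProj.emb pC chartC U hU) hW := by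
    rw [← cancel_mono (RelCone.pointedProjCone 𝒮 hz pC chartC).ι, IsOpenImmersion.lift_fac]
    exact hg
  rw [h1]
  exact retraction_chart hz hPC r hr U hU hd f hf

theorem retrForm_unique (hPC : RelProj.IsRelProj 𝒮h pC chartC)
    {r r' : ((RelCone.pointedProjCone 𝒮 hz pC chartC : PC.Opens) : Scheme.{u}) ⟶ P}
    (h : RetrForm hz pC chartC p chart r) (h' : RetrForm hz pC chartC p chart r') : r = r' := by
  refine hom_ext_of_forall_exists _ _ fun x => ?_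
  obtain ⟨U, hxU⟩ := TopologicalSpace.Opens.mem_iSup.mp
    ((iSup_affineOpens_eq_top Y).ge (Set.mem_univ (pC x.1)))
  obtain ⟨y, hy⟩ := RelConeProj.exists_emb_eq (pC := pC) (chartC := chartC) U.1 U.2 x.1 hxU
  have hx2 : x.1 ∈ RelCone.pointedProjCone 𝒮 hz pC chartC := x.2
  rw [← hy, emb_mem_pointedProjCone_iff hz hPC U.1 U.2 y, mem_domOpen_iff_homog] at hx2
  obtain ⟨d, hd, f, hf, hyf⟩ := hx2
  have hW := range_awayι_ι_subset_pointed hz hPC U.1 U.2 hd f hf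
  have hfac := IsOpenImmersion.lift_fac (RelCone.pointedProjCone 𝒮 hz pC chartC).ι
      (Proj.awayι (𝒮h.deg U.1 U.2) (RelConeProj.ιAt hz U.1 U.2 f)
        ((RelConeProj.ιAt hz U.1 U.2).map_mem hf) hd ≫ RelProj.emb pC chartC U.1 U.2) hW
  have hg : IsOpenImmersion (IsOpenImmersion.lift (RelCone.pointedProjCone 𝒮 hz pC chartC).ι
      (Proj.awayι (𝒮h.deg U.1 U.2) (RelConeProj.ιAt hz U.1 U.2 f)
        ((RelConeProj.ιAt hz U.1 U.2).map_mem hf) hd ≫ RelProj.emb pC chartC U.1 U.2) hW) := by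
    have : IsOpenImmersion (IsOpenImmersion.lift (RelCone.pointedProjCone 𝒮 hz pC chartC).ι
      (Proj.awayι (𝒮h.deg U.1 U.2) (RelConeProj.ιAt hz U.1 U.2 f)
        ((RelConeProj.ιAt hz U.1 U.2).map_mem hf) hd ≫ RelProj.emb pC chartC U.1 U.2) hW ≫
          (RelCone.pointedProjCone 𝒮 hz pC chartC).ι) := by
      rw [hfac]; infer_instance
    exact IsOpenImmersion.of_comp _ (RelCone.pointedProjCone 𝒮 hz pC chartC).ι
  refine ⟨_, _, hg, ?_, (h U.1 U.2 d hd f hf _ hfac).trans (h' U.1 U.2 d hd f hf _ hfac).symm⟩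
  rw [← Proj.opensRange_awayι (𝒮h.deg U.1 U.2) (RelConeProj.ιAt hz U.1 U.2 f)
    ((RelConeProj.ιAt hz U.1 U.2).map_mem hf) hd] at hyf
  obtain ⟨ξ, hξ⟩ := hyf
  refine ⟨ξ, ?_⟩
  apply (RelCone.pointedProjCone 𝒮 hz pC chartC).ι.isOpenEmbedding.injective
  rw [← Scheme.Hom.comp_apply, hfac]
  change RelProj.emb pC chartC U.1 U.2 (Proj.awayι _ _ _ _ ξ) = x.1
  rw [← hy]
  exact congrArg _ hξ

theorem exists_isProjQMapOn_pointed (hP : RelProj.IsRelProj 𝒮 p chart)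
    (hPC : RelProj.IsRelProj 𝒮h pC chartC) :
    ∃ r : ((RelCone.pointedProjCone 𝒮 hz pC chartC : PC.Opens) : Scheme.{u}) ⟶ P,
      RelProj.IsProjQMapOn (RelProj.QGrHom.ofHom ι hz.graded) p chart pC chartC
        (RelCone.pointedProjCone 𝒮 hz pC chartC) r := by
  obtain ⟨r₁, hr₁, -⟩ := existsUnique_isProjQMapOn (u := RelProj.QGrHom.ofHom ι hz.graded) hP hPC
  exact ⟨_, isProjQMapOn_of_eq _ (pointedProjCone_eq_domQ hz hPC) r₁ hr₁⟩

theorem isProjQMapOn_of_retrForm (hP : RelProj.IsRelProj 𝒮 p chart)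
    (hPC : RelProj.IsRelProj 𝒮h pC chartC)
    (r : ((RelCone.pointedProjCone 𝒮 hz pC chartC : PC.Opens) : Scheme.{u}) ⟶ P)
    (hr : RetrForm hz pC chartC p chart r) :
    RelProj.IsProjQMapOn (RelProj.QGrHom.ofHom ι hz.graded) p chart pC chartC
      (RelCone.pointedProjCone 𝒮 hz pC chartC) r := by
  obtain ⟨r₂, hr₂⟩ := exists_isProjQMapOn_pointed hz hP hPC
  rw [retrForm_unique hz hPC hr (retrForm_of_isProjQMapOn hz hPC r₂ hr₂)]
  exact hr₂

end cone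

section ring

variable {A B σ τ : Type u} [CommRing A] [SetLike σ A] [AddSubgroupClass σ A]
  [CommRing B] [SetLike τ B] [AddSubgroupClass τ B]
  {𝒜 : ℕ → σ} {ℬ : ℕ → τ} [GradedRing 𝒜] [GradedRing ℬ]

theorem comapPt_congr {ψ ψ' : 𝒜 →+*ᵍ ℬ} (h : ψ = ψ') (y : Proj ℬ) (hy : y ∈ RelCone.domOpen ψ)
    (hy' : y ∈ RelCone.domOpen ψ') : comapPt ψ y hy = comapPt ψ' y hy' := by
  subst h; rfl

theorem map_comp_eq_id (g₁ : 𝒜 →+*ᵍ ℬ) (g₂ : ℬ →+*ᵍ 𝒜)
    {P : Submonoid A} {Q : Submonoid B}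
    (h₁ : P ≤ Q.comap g₁) (h₂ : Q ≤ P.comap g₂) (hcomm : ∀ a, g₂ (g₁ a) = a) :
    (HomogeneousLocalization.map g₂ h₂).comp (HomogeneousLocalization.map g₁ h₁) =
      RingHom.id _ := by
  ext x
  obtain ⟨c, rfl⟩ := x.mk_surjective
  simp only [RingHom.comp_apply, HomogeneousLocalization.map_mk, RingHom.id_apply]
  simp only [HomogeneousLocalization.val_mk]
  congr 1
  · exact hcomm _
  · exact Subtype.ext (hcomm _)

end ring

section cone2

variable {Y : Scheme.{u}} {𝒮 𝒮h : RelProj.QCGrAlg Y} {ι : 𝒮.toQCAlg ⟶ 𝒮h.toQCAlg}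
  {z : 𝒮h.presheaf.obj (op ⊤)} (hz : RelCone.IsPolyOver 𝒮 𝒮h ι z)
  {PC P : Scheme.{u}} {pC : PC ⟶ Y}
  {chartC : ∀ (U : Y.Opens) (hU : IsAffineOpen U),
    (((pC ⁻¹ᵁ U : PC.Opens) : Scheme.{u}) ≅ Proj (𝒮h.deg U hU))}
  {p : P ⟶ Y}
  {chart : ∀ (U : Y.Opens) (hU : IsAffineOpen U),
    (((p ⁻¹ᵁ U : P.Opens) : Scheme.{u}) ≅ Proj (𝒮.deg U hU))}

/-- the retraction restricted to `G(ι)` (which is the pointed projective cone) -/
theorem exists_domQ_form (hPC : RelProj.IsRelProj 𝒮h pC chartC)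
    (r : ((RelCone.pointedProjCone 𝒮 hz pC chartC : PC.Opens) : Scheme.{u}) ⟶ P)
    (hr : RelProj.IsProjQMapOn (RelProj.QGrHom.ofHom ι hz.graded) p chart pC chartC
      (RelCone.pointedProjCone 𝒮 hz pC chartC) r) :
    ∃ r₁ : ((RelProj.domQ (RelProj.QGrHom.ofHom ι hz.graded) pC chartC : PC.Opens) :
        Scheme.{u}) ⟶ P,
      RelProj.IsProjQMapOn (RelProj.QGrHom.ofHom ι hz.graded) p chart pC chartC
        (RelProj.domQ (RelProj.QGrHom.ofHom ι hz.graded) pC chartC) r₁ ∧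
      r = (PC.isoOfEq (pointedProjCone_eq_domQ hz hPC)).hom ≫ r₁ := by
  refine ⟨(PC.isoOfEq (pointedProjCone_eq_domQ hz hPC)).inv ≫ r, ?_,
    by rw [Iso.hom_inv_id_assoc]⟩
  exact isProjQMapOn_of_eq _ (pointedProjCone_eq_domQ hz hPC).symm r hr

theorem isAffineHom_retraction (hP : RelProj.IsRelProj 𝒮 p chart)
    (hPC : RelProj.IsRelProj 𝒮h pC chartC)
    (r : ((RelCone.pointedProjCone 𝒮 hz pC chartC : PC.Opens) : Scheme.{u}) ⟶ P)
    (hr : RelProj.IsProjQMapOn (RelProj.QGrHom.ofHom ι hz.graded) p chart pC chartC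
      (RelCone.pointedProjCone 𝒮 hz pC chartC) r) : IsAffineHom r := by
  obtain ⟨r₁, hr₁, rfl⟩ := exists_domQ_form hz hPC r hr
  have := isAffineHom_of_isProjQMapOn ι hz.graded hP hPC r₁ hr₁
  infer_instance

theorem retraction_comp (hP : RelProj.IsRelProj 𝒮 p chart)
    (hPC : RelProj.IsRelProj 𝒮h pC chartC)
    (r : ((RelCone.pointedProjCone 𝒮 hz pC chartC : PC.Opens) : Scheme.{u}) ⟶ P)
    (hr : RelProj.IsProjQMapOn (RelProj.QGrHom.ofHom ι hz.graded) p chart pC chartC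
      (RelCone.pointedProjCone 𝒮 hz pC chartC) r) :
    r ≫ p = (RelCone.pointedProjCone 𝒮 hz pC chartC).ι ≫ pC := by
  obtain ⟨r₁, hr₁, rfl⟩ := exists_domQ_form hz hPC r hr
  rw [Category.assoc, isProjQMapOn_comp hP hPC r₁ hr₁, Scheme.isoOfEq_hom_ι_assoc,
    Category.comp_id]

/-- the retraction on points -/
theorem retraction_apply_emb (hP : RelProj.IsRelProj 𝒮 p chart)
    (hPC : RelProj.IsRelProj 𝒮h pC chartC)
    (r : ((RelCone.pointedProjCone 𝒮 hz pC chartC : PC.Opens) : Scheme.{u}) ⟶ P)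
    (hr : RelProj.IsProjQMapOn (RelProj.QGrHom.ofHom ι hz.graded) p chart pC chartC
      (RelCone.pointedProjCone 𝒮 hz pC chartC) r)
    (U : Y.Opens) (hU : IsAffineOpen U) (y : Proj (𝒮h.deg U hU))
    (hy' : y ∈ RelCone.domOpen (RelConeProj.ιAt hz U hU))
    (hx : RelProj.emb pC chartC U hU y ∈ RelCone.pointedProjCone 𝒮 hz pC chartC) :
    r ⟨RelProj.emb pC chartC U hU y, hx⟩ =
      RelProj.emb p chart U hU (comapPt (RelConeProj.ιAt hz U hU) y hy') := by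
  obtain ⟨r₁, hr₁, rfl⟩ := exists_domQ_form hz hPC r hr
  have hx' : RelProj.emb pC chartC U hU y ∈
      RelProj.domQ (RelProj.QGrHom.ofHom ι hz.graded) pC chartC := by
    rw [← pointedProjCone_eq_domQ hz hPC]; exact hx
  have h1 : (PC.isoOfEq (pointedProjCone_eq_domQ hz hPC)).hom
      ⟨RelProj.emb pC chartC U hU y, hx⟩ = ⟨RelProj.emb pC chartC U hU y, hx'⟩ := by
    apply Subtype.ext
    exact congrArg (fun ψ => ψ.base ⟨RelProj.emb pC chartC U hU y, hx⟩)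
      (PC.isoOfEq_hom_ι (pointedProjCone_eq_domQ hz hPC))
  have hle : U ≤ (𝟙 Y) ⁻¹ᵁ U := le_rfl
  have hy'' : y ∈ RelCone.domOpen
      ((RelProj.QGrHom.ofHom ι hz.graded).gradedAt U hU U hU hle) := by
    rw [gradedAt_ofHom]; exact hy'
  rw [Scheme.Hom.comp_apply, h1,
    qmap_apply_emb (RelProj.QGrHom.ofHom ι hz.graded) hP hPC r₁ hr₁ U hU U hU hle y hx' hy'',
    comapPt_congr (gradedAt_ofHom (φ := ι) (hφ := hz.graded) U hU hle) y hy'' hy']

variable {i : 𝒮.toQCAlg.spec ⟶ PC}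

/-- every point of `X = Proj(𝒮)` is the image under the retraction of a point of the pointed
affine cone -/
theorem exists_cone_point (hP : RelProj.IsRelProj 𝒮 p chart)
    (hPC : RelProj.IsRelProj 𝒮h pC chartC)
    (r : ((RelCone.pointedProjCone 𝒮 hz pC chartC : PC.Opens) : Scheme.{u}) ⟶ P)
    (hr : RelProj.IsProjQMapOn (RelProj.QGrHom.ofHom ι hz.graded) p chart pC chartC
      (RelCone.pointedProjCone 𝒮 hz pC chartC) r)
    (hi : RelCone.IsConeImm 𝒮 hz pC chartC i) (x : P) :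
    ∃ (c : 𝒮.toQCAlg.spec) (hc : i c ∈ RelCone.pointedProjCone 𝒮 hz pC chartC),
      r ⟨i c, hc⟩ = x := by
  obtain ⟨U, hxU⟩ := TopologicalSpace.Opens.mem_iSup.mp
    ((iSup_affineOpens_eq_top Y).ge (Set.mem_univ (p x)))
  obtain ⟨w, rfl⟩ := RelConeProj.exists_emb_eq (pC := p) (chartC := chart) U.1 U.2 x hxU
  let c₀ : Spec (𝒮.presheaf.obj (op U.1)) :=
    (⟨w.asHomogeneousIdeal.toIdeal, w.isPrime⟩ : PrimeSpectrum (𝒮.presheaf.obj (op U.1)))
  have hmem : ∀ d, 0 < d → ∀ f ∈ 𝒮.deg U.1 U.2 d,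
      (RelConeProj.chartPt hz U.1 U.2 c₀ ∈
        Proj.basicOpen (𝒮h.deg U.1 U.2) (RelConeProj.ιAt hz U.1 U.2 f) ↔
        w ∈ Proj.basicOpen (𝒮.deg U.1 U.2) f) := by
    intro d hd f hf
    rw [Proj.mem_basicOpen, Proj.mem_basicOpen]
    exact not_congr (RelConeProj.map_mem_chartPt_iff hz U.1 U.2 c₀ hd hf)
  have hy' : RelConeProj.chartPt hz U.1 U.2 c₀ ∈ RelCone.domOpen (RelConeProj.ιAt hz U.1 U.2) := by
    obtain ⟨d, hd, f, hf, hfw⟩ := exists_pos_homog_mem_basicOpen w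
    exact (mem_domOpen_iff_homog _ _).mpr ⟨d, hd, f, hf, (hmem d hd f hf).mpr hfw⟩
  have hic := RelConeProj.coneImm_ι hz hi U.1 U.2 c₀
  have hx : RelProj.emb pC chartC U.1 U.2 (RelConeProj.chartPt hz U.1 U.2 c₀) ∈
      RelCone.pointedProjCone 𝒮 hz pC chartC :=
    (emb_mem_pointedProjCone_iff hz hPC U.1 U.2 _).mpr hy'
  refine ⟨𝒮.toQCAlg.ι U.1 U.2 c₀, hic ▸ hx, ?_⟩
  have h2 : (⟨i (𝒮.toQCAlg.ι U.1 U.2 c₀), hic ▸ hx⟩ :
      ((RelCone.pointedProjCone 𝒮 hz pC chartC : PC.Opens) : Scheme.{u})) =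
      ⟨RelProj.emb pC chartC U.1 U.2 (RelConeProj.chartPt hz U.1 U.2 c₀), hx⟩ :=
    Subtype.ext hic
  rw [h2, retraction_apply_emb hz hP hPC r hr U.1 U.2 _ hy' hx]
  congr 1
  refine proj_ext_of_pos_homog _ _ fun d hd f hf => ?_
  rw [comapPt_mem_basicOpen_iff]
  exact hmem d hd f hf

/-- the retraction is a retraction of the immersion at infinity -/
theorem retraction_infty (hPC : RelProj.IsRelProj 𝒮h pC chartC)
    (r : ((RelCone.pointedProjCone 𝒮 hz pC chartC : PC.Opens) : Scheme.{u}) ⟶ P)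
    (hr : RelProj.IsProjQMapOn (RelProj.QGrHom.ofHom ι hz.graded) p chart pC chartC
      (RelCone.pointedProjCone 𝒮 hz pC chartC) r)
    (θ : 𝒮h.toQCAlg ⟶ 𝒮.toQCAlg) (hθ : RelProj.IsGradedHom θ) (hθι : ι ≫ θ = 𝟙 _)
    (hirr : ∀ (U : Y.Opens) (hU : IsAffineOpen U),
      (𝒮.deg U hU)₊ ≤ ((𝒮h.deg U hU)₊).map (RelProj.gradedHomAt θ hθ U hU))
    (j : P ⟶ PC) (hj : RelProj.IsRelProjMap θ hθ hirr chartC chart j)
    (j' : P ⟶ ((RelCone.pointedProjCone 𝒮 hz pC chartC : PC.Opens) : Scheme.{u}))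
    (hj' : j' ≫ (RelCone.pointedProjCone 𝒮 hz pC chartC).ι = j) : j' ≫ r = 𝟙 P := by
  refine hom_ext_of_forall_exists _ _ fun x => ?_
  obtain ⟨U, hU, d, hd, f, hf, hx⟩ := exists_stdChart_mem (chart := chart) x
  refine ⟨_, stdChart p chart U hU hd f hf, inferInstance, hx, ?_⟩
  have hθιf : ∀ a, RelProj.gradedHomAt θ hθ U hU (RelConeProj.ιAt hz U hU a) = a := fun a =>
    congrArg (fun ψ => (ψ.hom.app (op U)).hom a) hθι
  have h0 := RelConeProj.awayι_comp_map_of_eq (RelProj.gradedHomAt θ hθ U hU) (hirr U hU) hd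
    ((RelConeProj.ιAt hz U hU).map_mem hf) hf (hθιf f)
  have h1 : stdChart p chart U hU hd f hf ≫ j =
      Spec.map (CommRingCat.ofHom (HomogeneousLocalization.map (RelProj.gradedHomAt θ hθ U hU)
        (RelConeProj.powers_le_comap_of_eq _ (hθιf f)))) ≫
        Proj.awayι (𝒮h.deg U hU) (RelConeProj.ιAt hz U hU f)
          ((RelConeProj.ιAt hz U hU).map_mem hf) hd ≫ RelProj.emb pC chartC U hU := by
    rw [stdChart, Category.assoc, RelConeProj.emb_comp_relProjMap θ hθ hirr j hj U hU,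
      reassoc_of% h0]
    rfl
  have hW := range_awayι_ι_subset_pointed hz hPC U hU hd f hf
  have h2 : stdChart p chart U hU hd f hf ≫ j' =
      Spec.map (CommRingCat.ofHom (HomogeneousLocalization.map (RelProj.gradedHomAt θ hθ U hU)
        (RelConeProj.powers_le_comap_of_eq _ (hθιf f)))) ≫
        IsOpenImmersion.lift (RelCone.pointedProjCone 𝒮 hz pC chartC).ι
          (Proj.awayι (𝒮h.deg U hU) (RelConeProj.ιAt hz U hU f)
            ((RelConeProj.ιAt hz U hU).map_mem hf) hd ≫ RelProj.emb pC chartC U hU) hW := by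
    rw [← cancel_mono (RelCone.pointedProjCone 𝒮 hz pC chartC).ι, Category.assoc, hj',
      Category.assoc, IsOpenImmersion.lift_fac]
    exact h1
  have h3 := retraction_chart hz hPC r hr U hU hd f hf
  have h5 : (HomogeneousLocalization.map (RelProj.gradedHomAt θ hθ U hU)
      (RelConeProj.powers_le_comap_of_eq _ (hθιf f))).comp
      (Away.map (RelConeProj.ιAt hz U hU) f) = RingHom.id _ :=
    map_comp_eq_id _ _ _ _ hθιf
  rw [reassoc_of% h2, h3, ← Spec.map_comp_assoc, ← CommRingCat.ofHom_comp, h5, Category.comp_id]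
  change Spec.map (𝟙 _) ≫ _ = _
  rw [Spec.map_id, Category.id_comp]
  rfl

end cone2

end Groth.Agent.Lib.Helper74.QMap
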