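import Groth.Agent.Lib.Helper60.TildeQCoh


/-!
# Dehomogenization `A → A_(f)` for `f` homogeneous of degree one (helper74)
-/

set_option autoImplicit false
universe u
open CategoryTheory AlgebraicGeometry TopologicalSpace Opposite
open scoped HomogeneousIdeal

namespace Groth.Agent.Lib.Helper74.Dehom

open HomogeneousLocalization Groth.Agent.Lib.Helper60.TildeSec

variable {A σ : Type u} [CommRing A] [SetLike σ A] [AddSubgroupClass σ A] (𝒜 : ℕ → σ) [GradedRing 𝒜]
variable {f : A} (hf : f ∈ 𝒜 1)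

include hf in
theorem pow_mem_deg (a : ℕ) : f ^ a ∈ 𝒜 a := by
  have := SetLike.pow_mem_graded a hf
  rwa [smul_eq_mul, mul_one] at this

omit [CommRing A] [AddSubgroupClass σ A] [GradedRing 𝒜] in
theorem mem_smul_one {i : ℕ} {a : A} (ha : a ∈ 𝒜 i) : a ∈ 𝒜 (i • 1) := by
  rwa [smul_eq_mul, mul_one]

/-- the components of the dehomogenization -/
noncomputable def dehComp (i : ℕ) : 𝒜 i →+ Away 𝒜 f where
  toFun a := Away.mk 𝒜 hf i a (mem_smul_one 𝒜 a.2)
  map_zero' := by
    apply HomogeneousLocalization.val_injective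
    rw [Away.val_mk, HomogeneousLocalization.val_zero]
    exact Localization.mk_zero _
  map_add' a b := by
    apply HomogeneousLocalization.val_injective
    rw [HomogeneousLocalization.val_add, Away.val_mk, Away.val_mk, Away.val_mk]
    exact (Localization.add_mk_self _ _ _).symm

/-- **dehomogenization**: the ring homomorphism `A → A_(f)`, `a ↦ a / f ^ deg a`, for `f` of degree one -/
noncomputable def dehSum : (DirectSum ℕ fun i => 𝒜 i) →+* Away 𝒜 f :=
  DirectSum.toSemiring (dehComp 𝒜 hf)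
    (by
      apply HomogeneousLocalization.val_injective
      change (Away.mk 𝒜 hf 0 (1 : A) _).val = _
      rw [Away.val_mk, HomogeneousLocalization.val_one]
      simp)
    (by
      intro i j a b
      apply HomogeneousLocalization.val_injective
      change (Away.mk 𝒜 hf (i + j) ((a : A) * (b : A)) _).val = _
      rw [HomogeneousLocalization.val_mul]
      change _ = (Away.mk 𝒜 hf i (a : A) _).val * (Away.mk 𝒜 hf j (b : A) _).val
      rw [Away.val_mk, Away.val_mk, Away.val_mk, Localization.mk_mul]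
      congr 1
      exact Subtype.ext (pow_add f i j))

theorem dehSum_of (i : ℕ) (a : 𝒜 i) :
    dehSum 𝒜 hf (DirectSum.of (fun i => 𝒜 i) i a) = Away.mk 𝒜 hf i a (mem_smul_one 𝒜 a.2) :=
  (DirectSum.toSemiring_of (dehComp 𝒜 hf) _ _ i a).trans rfl

/-- **dehomogenization**: the ring homomorphism `A → A_(f)`, `a ↦ a / f ^ deg a`, for `f` of degree one -/
noncomputable def deh : A →+* Away 𝒜 f :=
  (dehSum 𝒜 hf).comp (DirectSum.decomposeRingEquiv 𝒜).toRingHom

theorem deh_of_mem {i : ℕ} {a : A} (ha : a ∈ 𝒜 i) :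
    deh 𝒜 hf a = Away.mk 𝒜 hf i a (mem_smul_one 𝒜 ha) := by
  change dehSum 𝒜 hf (DirectSum.decompose 𝒜 a) = _
  rw [DirectSum.decompose_of_mem 𝒜 ha, dehSum_of]

theorem deh_self : deh 𝒜 hf f = 1 := by
  rw [deh_of_mem 𝒜 hf hf]
  apply HomogeneousLocalization.val_injective
  rw [Away.val_mk, HomogeneousLocalization.val_one]
  convert Localization.mk_self (⟨f ^ 1, 1, rfl⟩ : Submonoid.powers f) using 2
  exact (pow_one f).symm

/-- section-level dehomogenization `A → Γ(Proj 𝒜, D₊(f))` -/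
noncomputable def θ : A →+* Γ(Proj 𝒜, Proj.basicOpen 𝒜 f) :=
  (Proj.awayToSection 𝒜 f).hom.comp (deh 𝒜 hf)

theorem θ_self : θ 𝒜 hf f = 1 := by
  change (Proj.awayToSection 𝒜 f).hom (deh 𝒜 hf f) = 1
  rw [deh_self, map_one]

theorem θ_val {i : ℕ} {a : A} (ha : a ∈ 𝒜 i) (y : Proj.basicOpen 𝒜 f) :
    ((show OSec 𝒜 (Proj.basicOpen 𝒜 f) from θ 𝒜 hf a).1 y).val =
      Localization.mk a (⟨f ^ i, fun h => y.2 (y.1.isPrime.mem_of_pow_mem i h)⟩ :
        y.1.asHomogeneousIdeal.toIdeal.primeCompl) := by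
  have h := ProjectiveSpectrum.Proj.awayToSection_apply 𝒜 f (deh 𝒜 hf a) y
  refine h.trans ?_
  rw [deh_of_mem 𝒜 hf ha, Away.val_mk, Localization.mk_eq_mk', IsLocalization.map_mk',
    ← Localization.mk_eq_mk']
  rfl

/-- sections of the structure sheaf over `D₊(f)` are determined by their values -/
theorem osec_ext {W : (Proj 𝒜).Opens} (c c' : Γ(Proj 𝒜, W))
    (h : ∀ y : W, ((show OSec 𝒜 W from c).1 y).val = ((show OSec 𝒜 W from c').1 y).val) :
    c = c' := by
  change (show OSec 𝒜 W from c) = (show OSec 𝒜 W from c')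
  apply Subtype.ext
  funext y
  exact HomogeneousLocalization.val_injective _ (h y)

theorem θ_surjective : Function.Surjective (θ 𝒜 hf) := by
  intro c
  obtain ⟨k, a, ha, hc⟩ := exists_eq_away 𝒜 Nat.one_pos hf c
  rw [mul_one] at ha
  refine ⟨a, osec_ext 𝒜 _ _ fun y => ?_⟩
  rw [θ_val 𝒜 hf ha, hc]

section naturality

variable {B σ' : Type u} [CommRing B] [SetLike σ' B] [AddSubgroupClass σ' B]
  {ℬ : ℕ → σ'} [GradedRing ℬ] (ψ : 𝒜 →+*ᵍ ℬ)

theorem map_deh (a : A) :
    Away.map ψ f (deh 𝒜 hf a) = deh ℬ (ψ.map_mem hf) (ψ a) := by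
  induction a using DirectSum.Decomposition.inductionOn 𝒜 with
  | zero => simp
  | @homogeneous i a =>
    rw [deh_of_mem 𝒜 hf a.2, Away.map_mk]
    exact (deh_of_mem ℬ (ψ.map_mem hf) (ψ.map_mem a.2)).symm
  | add a b ha hb => rw [map_add, map_add, ha, hb, map_add, map_add]

theorem appLE_θ (hψ : ℬ₊ ≤ (𝒜₊).map ψ) (a : A) :
    ((Proj.map ψ hψ).appLE (Proj.basicOpen 𝒜 f) (Proj.basicOpen ℬ (ψ f)) (by rfl)).hom (θ 𝒜 hf a) =
      θ ℬ (ψ.map_mem hf) (ψ a) := by
  have h := Proj.awayToSection_comp_appLE ψ hψ hf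
  have h2 := congrArg (fun φ => φ.hom (deh 𝒜 hf a)) h
  simp only [CommRingCat.hom_comp, RingHom.comp_apply, CommRingCat.hom_ofHom] at h2
  rw [map_deh] at h2
  exact h2

end naturality

end Groth.Agent.Lib.Helper74.Dehom
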