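import Groth.Agent.Lib.Helper74.WeakAss

set_option autoImplicit false
universe u
open FlatCA TensorProduct

namespace Groth.Agent.Lib.Helper74.FiberAss

attribute [local instance] Algebra.TensorProduct.rightAlgebra

local macro "ann" R:term:max m:term:max : term =>
  `(Submodule.annihilator (Submodule.span $R (Singleton.singleton $m : Set _)))

variable {R S : Type u} [CommRing R] [CommRing S] [Algebra R S] (N : Type u) [AddCommGroup N]
  [Module S N] (p : Ideal R) [p.IsPrime]

theorem tower : IsScalarTower S (p.Fiber S) (fiberMod p S N) :=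
  inferInstanceAs (IsScalarTower S (p.Fiber S) ((p.Fiber S) ⊗[S] N))

theorem isUnit_algebraMap_fiber {r : R} (hr : r ∉ p) : IsUnit (algebraMap R (p.Fiber S) r) := by
  rw [IsScalarTower.algebraMap_apply R p.ResidueField (p.Fiber S) r]
  apply IsUnit.map
  rw [isUnit_iff_ne_zero, ne_eq, Ideal.algebraMap_residueField_eq_zero]
  exact hr

theorem isPrime_ann_fiber (x : fiberMod p S N) (hx : (ann S x).IsPrime) :
    (ann (p.Fiber S) x).IsPrime := by
  have htow := tower (S := S) N p
  have hcomap : ann S x = Ideal.comap (algebraMap S (p.Fiber S)) (ann (p.Fiber S) x) :=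
    WeakAss.ann_tower x
  have key : ∀ a b : p.Fiber S, a * b ∈ ann (p.Fiber S) x → ∀ (ra : R) (hra : ra ∉ p) (sa : S)
      (ea : ra • a = 1 ⊗ₜ[R] sa) (rb : R) (hrb : rb ∉ p) (sb : S) (eb : rb • b = 1 ⊗ₜ[R] sb),
      sa ∈ ann S x → a ∈ ann (p.Fiber S) x := by
    intro a b hab ra hra sa ea rb hrb sb eb h
    have hua : IsUnit (algebraMap R (p.Fiber S) ra) := isUnit_algebraMap_fiber p hra
    have h1 : algebraMap S (p.Fiber S) sa ∈ ann (p.Fiber S) x := by rw [hcomap] at h; exact h
    have e : algebraMap S (p.Fiber S) sa = algebraMap R (p.Fiber S) ra * a := by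
      rw [← Algebra.smul_def, ea]; rfl
    rw [e] at h1
    exact (Ideal.unit_mul_mem_iff_mem _ hua).mp h1
  constructor
  · intro htop
    apply hx.ne_top
    rw [hcomap, htop, Ideal.comap_top]
  · intro a b hab
    obtain ⟨ra, hra, sa, ea⟩ := Ideal.Fiber.exists_smul_eq_one_tmul p a
    obtain ⟨rb, hrb, sb, eb⟩ := Ideal.Fiber.exists_smul_eq_one_tmul p b
    have h1 : algebraMap S (p.Fiber S) (sa * sb) ∈ ann (p.Fiber S) x := by
      have e1 : algebraMap S (p.Fiber S) (sa * sb) = (ra • a) * (rb • b) := by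
        rw [ea, eb, map_mul]; rfl
      rw [e1, Algebra.smul_def, Algebra.smul_def]
      have e2 : algebraMap R (p.Fiber S) ra * a * (algebraMap R (p.Fiber S) rb * b) =
          (algebraMap R (p.Fiber S) ra * algebraMap R (p.Fiber S) rb) * (a * b) := by ring
      rw [e2]
      exact Ideal.mul_mem_left _ _ hab
    have h2 : sa * sb ∈ ann S x := by rw [hcomap]; exact h1
    rcases hx.mem_or_mem h2 with h | h
    · exact Or.inl (key a b hab ra hra sa ea rb hrb sb eb h)
    · exact Or.inr (key b a (by rw [mul_comm]; exact hab) rb hrb sb eb ra hra sa ea h)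

theorem mem_ass_fiberMod_iff (q : Ideal S) :
    q ∈ ass S (fiberMod p S N) ↔
      ∃ Q ∈ ass (p.Fiber S) (fiberMod p S N),
        Q.comap (Algebra.TensorProduct.includeRight (R := R) (A := p.ResidueField)
          (B := S)).toRingHom = q := by
  have htow := tower (S := S) N p
  constructor
  · rintro ⟨hq, x, rfl⟩
    exact ⟨ann (p.Fiber S) x, ⟨isPrime_ann_fiber N p x hq, x, rfl⟩, (WeakAss.ann_tower x).symm⟩
  · rintro ⟨Q, hQ, rfl⟩
    exact WeakAss.comap_ass_subset (R := S) (A := p.Fiber S) ⟨Q, hQ, rfl⟩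

end Groth.Agent.Lib.Helper74.FiberAss
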