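import Groth.Agent.Lib.Helper74.FiberAss
import Mathlib.Algebra.Module.LocalizedModule.Submodule
import Mathlib.RingTheory.LocalProperties.Basic
import Mathlib.LinearAlgebra.TensorProduct.Quotient

set_option autoImplicit false
universe u
open FlatCA TensorProduct

namespace Groth.Agent.Lib.Helper74.FiberAss

attribute [local instance] Algebra.TensorProduct.rightAlgebra

variable {R : Type u} [CommRing R] (S : Type u) [CommRing S] [Algebra R S] (N : Type u)
  [AddCommGroup N] [Module S N] (p : Ideal R) [p.IsPrime]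

abbrev TS : Submonoid S := Algebra.algebraMapSubmonoid S p.primeCompl

abbrev Sp : Type u := Localization (TS S p)

abbrev JJ : Ideal (Sp S p) := (p.map (algebraMap R S)).map (algebraMap S (Sp S p))

noncomputable def detector :
    fiberMod p S N →+ (Sp S p ⧸ JJ S p) ⊗[Sp S p] LocalizedModule (TS S p) N :=
  TensorProduct.liftAddHom
    { toFun := fun a =>
        { toFun := fun n => (Ideal.Fiber.algEquivAux₁ p a) ⊗ₜ
            (LocalizedModule.mkLinearMap (TS S p) N n)
          map_zero' := by rw [map_zero, tmul_zero]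
          map_add' := fun x y => by rw [map_add, tmul_add] }
      map_zero' := by ext; simp only [map_zero, zero_tmul, AddMonoidHom.coe_mk, ZeroHom.coe_mk,
        AddMonoidHom.zero_apply]
      map_add' := fun x y => by ext; simp only [map_add, add_tmul, AddMonoidHom.coe_mk,
        ZeroHom.coe_mk, AddMonoidHom.add_apply] }
    (by
      intro s a n
      simp only [AddMonoidHom.coe_mk, ZeroHom.coe_mk]
      rw [map_smul, map_smul, ← algebraMap_smul (Sp S p) s ((Ideal.Fiber.algEquivAux₁ p) a),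
        ← algebraMap_smul (Sp S p) s ((LocalizedModule.mkLinearMap (TS S p) N) n),
        TensorProduct.smul_tmul])

theorem detector_one_tmul (n : N) :
    detector S N p ((1 : p.Fiber S) ⊗ₜ[S] n) =
      (1 : Sp S p ⧸ JJ S p) ⊗ₜ (LocalizedModule.mkLinearMap (TS S p) N n) := by
  change (Ideal.Fiber.algEquivAux₁ p (1 : p.Fiber S)) ⊗ₜ _ = _
  rw [map_one]

theorem exists_smul_mem_of_toFiberMod_eq_zero (n : N) (h : toFiberMod p S N n = 0) :
    ∃ t ∈ TS S p, t • n ∈ (p.map (algebraMap R S)) • (⊤ : Submodule S N) := by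
  have h1 : detector S N p (toFiberMod p S N n) = 0 := by rw [h, map_zero]
  change detector S N p ((1 : p.Fiber S) ⊗ₜ[S] n) = 0 at h1
  rw [detector_one_tmul] at h1
  have h2 := congrArg
    (TensorProduct.quotTensorEquivQuotSMul (LocalizedModule (TS S p) N) (JJ S p)) h1
  rw [TensorProduct.quotTensorEquivQuotSMul_mk_one_tmul, map_zero,
    Submodule.Quotient.mk_eq_zero] at h2
  have h3 : (JJ S p) • (⊤ : Submodule (Sp S p) (LocalizedModule (TS S p) N)) =
      ((p.map (algebraMap R S)) • (⊤ : Submodule S N)).localized' (Sp S p) (TS S p)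
        (LocalizedModule.mkLinearMap (TS S p) N) := by
    rw [Submodule.localized'_smul, Ideal.localized'_eq_map, Submodule.localized'_top]
  rw [h3, Submodule.mem_localized'] at h2
  obtain ⟨m, hm, s, hs⟩ := h2
  rw [IsLocalizedModule.mk'_eq_iff, Submonoid.smul_def, ← map_smul] at hs
  obtain ⟨u, hu⟩ := IsLocalizedModule.exists_of_eq (S := TS S p) hs
  refine ⟨(u * s : TS S p), (u * s).2, ?_⟩
  rw [Submonoid.coe_mul, mul_smul]
  have : (u : S) • (s : S) • n = u • m := hu.symm
  rw [this]
  exact Submodule.smul_mem _ _ hm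

theorem algebraMap_fiber_eq_zero {a : S} (ha : a ∈ p.map (algebraMap R S)) :
    algebraMap S (p.Fiber S) a = 0 := by
  have hle : p.map (algebraMap R S) ≤ RingHom.ker (algebraMap S (p.Fiber S)) := by
    rw [Ideal.map_le_iff_le_comap]
    intro r hr
    rw [Ideal.mem_comap, RingHom.mem_ker, ← IsScalarTower.algebraMap_apply R S (p.Fiber S),
      IsScalarTower.algebraMap_apply R p.ResidueField (p.Fiber S),
      (Ideal.algebraMap_residueField_eq_zero).mpr hr, map_zero]
  exact hle ha

theorem toFiberMod_eq_zero_of_mem {x : N}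
    (hx : x ∈ (p.map (algebraMap R S)) • (⊤ : Submodule S N)) : toFiberMod p S N x = 0 := by
  refine Submodule.smul_induction_on hx ?_ ?_
  · intro a ha n _
    rw [map_smul]
    change a • ((1 : p.Fiber S) ⊗ₜ[S] n) = 0
    rw [TensorProduct.smul_tmul', ← Algebra.algebraMap_eq_smul_one,
      algebraMap_fiber_eq_zero S p ha, zero_tmul]
  · intro x y hx hy
    rw [map_add, hx, hy, add_zero]

noncomputable def phi :
    (N ⧸ (p.map (algebraMap R S)) • (⊤ : Submodule S N)) →ₗ[S] fiberMod p S N :=
  Submodule.liftQ _ (toFiberMod p S N) (fun _ hx => toFiberMod_eq_zero_of_mem S N p hx)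

theorem phi_mk (n : N) : phi S N p (Submodule.Quotient.mk n) = toFiberMod p S N n := rfl

theorem smul_fiberMod_eq (t : S) (x : fiberMod p S N) :
    t • x = (algebraMap S (p.Fiber S) t) • x := by
  have htow := tower (S := S) N p
  rw [algebraMap_smul]

theorem isUnit_algebraMap_of_mem_TS {t : S} (ht : t ∈ TS S p) :
    IsUnit (algebraMap S (p.Fiber S) t) := by
  obtain ⟨r, hr, rfl⟩ := ht
  rw [← IsScalarTower.algebraMap_apply R S (p.Fiber S)]
  exact isUnit_algebraMap_fiber p hr

theorem fiberMod_induction {P : fiberMod p S N → Prop} (h0 : P 0)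
    (ht : ∀ (a : p.Fiber S) (n : N), P (a ⊗ₜ[S] n : (p.Fiber S) ⊗[S] N))
    (ha : ∀ x y, P x → P y → P (x + y)) (y : fiberMod p S N) : P y :=
  TensorProduct.induction_on (motive := P) y h0 ht ha

theorem phi_surj (y : fiberMod p S N) :
    ∃ x : (N ⧸ (p.map (algebraMap R S)) • (⊤ : Submodule S N)) × TS S p,
      x.2 • y = phi S N p x.1 := by
  refine fiberMod_induction S N p
    (P := fun y => ∃ x : (N ⧸ (p.map (algebraMap R S)) • (⊤ : Submodule S N)) × TS S p,
      x.2 • y = phi S N p x.1) ?_ ?_ ?_ y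
  · exact ⟨(0, 1), by rw [map_zero]; exact smul_zero _⟩
  · intro a n
    obtain ⟨r, hr, s, e⟩ := Ideal.Fiber.exists_smul_eq_one_tmul p a
    refine ⟨(Submodule.Quotient.mk (s • n), ⟨algebraMap R S r, r, hr, rfl⟩), ?_⟩
    change (algebraMap R S r) • (a ⊗ₜ[S] n) = (1 : p.Fiber S) ⊗ₜ[S] (s • n)
    rw [TensorProduct.smul_tmul', algebraMap_smul, e, ← TensorProduct.smul_tmul]
    congr 1
    rw [Algebra.smul_def, mul_one]
    rfl
  · rintro y₁ y₂ ⟨⟨x₁, t₁⟩, e₁⟩ ⟨⟨x₂, t₂⟩, e₂⟩
    simp only at e₁ e₂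
    refine ⟨((t₂ : S) • x₁ + (t₁ : S) • x₂, t₁ * t₂), ?_⟩
    simp only
    rw [map_add, map_smul, map_smul, ← e₁, ← e₂, smul_add, Submonoid.smul_def, Submonoid.smul_def,
      Submonoid.smul_def, Submonoid.smul_def, Submonoid.coe_mul, mul_smul, mul_smul,
      smul_comm (t₁ : S) (t₂ : S) y₁]

theorem isLocalizedModule_phi : IsLocalizedModule (TS S p) (phi S N p) where
  map_units t := by
    have hu := isUnit_algebraMap_of_mem_TS S p t.2
    rw [Module.End.isUnit_iff]
    constructor
    · intro x y hxy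
      simp only [Module.algebraMap_end_apply] at hxy
      rw [smul_fiberMod_eq, smul_fiberMod_eq] at hxy
      exact hu.smul_left_cancel.mp hxy
    · intro y
      refine ⟨(hu.unit⁻¹ : (p.Fiber S)ˣ) • y, ?_⟩
      simp only [Module.algebraMap_end_apply]
      rw [smul_fiberMod_eq, Units.smul_def, smul_smul, IsUnit.mul_val_inv, one_smul]
  surj y := phi_surj S N p y
  exists_of_eq := by
    intro x₁ x₂ h
    obtain ⟨n₁, rfl⟩ := Submodule.Quotient.mk_surjective _ x₁
    obtain ⟨n₂, rfl⟩ := Submodule.Quotient.mk_surjective _ x₂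
    rw [phi_mk, phi_mk, ← sub_eq_zero, ← map_sub] at h
    obtain ⟨t, ht, hmem⟩ := exists_smul_mem_of_toFiberMod_eq_zero S N p _ h
    refine ⟨⟨t, ht⟩, ?_⟩
    rw [Submonoid.smul_def, Submonoid.smul_def, ← Submodule.Quotient.mk_smul,
      ← Submodule.Quotient.mk_smul, Submodule.Quotient.eq, ← smul_sub]
    exact hmem

local macro "ann" R:term:max m:term:max : term =>
  `(Submodule.annihilator (Submodule.span $R (Singleton.singleton $m : Set _)))

theorem mem_ass_of_mem_ass_loc_of_fg {A : Type u} [CommRing A] (T : Submonoid A)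
    {M M' : Type u} [AddCommGroup M] [Module A M] [AddCommGroup M'] [Module A M']
    (f : M →ₗ[A] M') [IsLocalizedModule T f] {q : Ideal A} (hfg : q.FG)
    (hq : q ∈ ass A M') : q ∈ ass A M := by
  classical
  obtain ⟨hqp, x, hx⟩ := hq
  obtain ⟨m, hm⟩ := WeakAss.exists_ann_loc_eq_R T f x
  rw [hm] at hx
  obtain ⟨F, hF⟩ := hfg
  have hkill : ∀ G : Finset A, (∀ r ∈ G, r ∈ q) → ∃ c : T, ∀ r ∈ G, (c : A) • r • m = 0 := by
    intro G
    induction G using Finset.induction_on with
    | empty => intro _; exact ⟨1, by simp⟩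
    | insert a G _ ih =>
      intro hG
      obtain ⟨c, hc⟩ := ih (fun r hr => hG r (Finset.mem_insert_of_mem hr))
      have ha : a ∈ ann A (f m) := by rw [← hx]; exact hG a (Finset.mem_insert_self a G)
      rw [WeakAss.mem_ann, ← map_smul] at ha
      obtain ⟨c', hc'⟩ := (IsLocalizedModule.eq_zero_iff T f).mp ha
      refine ⟨c * c', ?_⟩
      intro r hr
      rcases Finset.mem_insert.mp hr with rfl | hr
      · rw [Submonoid.coe_mul, mul_smul]
        have : (c' : A) • r • m = 0 := hc'
        rw [this, smul_zero]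
      · rw [Submonoid.coe_mul, mul_comm, mul_smul, hc r hr, smul_zero]
  obtain ⟨c, hc⟩ := hkill F (fun r hr => by rw [← hF]; exact Ideal.subset_span hr)
  refine ⟨hqp, (c : A) • m, le_antisymm ?_ ?_⟩
  · rw [← hF, Ideal.span_le]
    intro r hr
    rw [SetLike.mem_coe, WeakAss.mem_ann, smul_comm]
    exact hc r hr
  · intro r hr
    rw [hx, WeakAss.mem_ann]
    rw [WeakAss.mem_ann] at hr
    have h1 : (c : A) • (r • f m) = 0 := by
      rw [← map_smul, ← map_smul, smul_comm, hr, map_zero]
    exact (IsLocalizedModule.smul_injective f c) (by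
      change (c : A) • (r • f m) = (c : A) • (0 : M')
      rw [h1, smul_zero])

theorem mem_ass_fiberMod_of_mem_ass_quotient {q : Ideal S}
    (hq : q.comap (algebraMap R S) = p)
    (h : q ∈ ass S (N ⧸ (p.map (algebraMap R S)) • (⊤ : Submodule S N))) :
    q ∈ ass S (fiberMod p S N) := by
  have := isLocalizedModule_phi S N p
  refine WeakAss.mem_ass_loc_of_mem_ass (TS S p) (phi S N p) h ?_
  rw [Set.disjoint_left]
  rintro _ ⟨r, hr, rfl⟩ hrq
  apply hr
  rw [← hq]
  exact hrq

theorem mem_ass_quotient_of_mem_ass_fiberMod [IsNoetherianRing S] {q : Ideal S}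
    (h : q ∈ ass S (fiberMod p S N)) :
    q ∈ ass S (N ⧸ (p.map (algebraMap R S)) • (⊤ : Submodule S N)) := by
  have := isLocalizedModule_phi S N p
  exact mem_ass_of_mem_ass_loc_of_fg (TS S p) (phi S N p)
    ((isNoetherianRing_iff_ideal_fg S).mp ‹_› q) h

end Groth.Agent.Lib.Helper74.FiberAss
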