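import Groth.Agent.Lib.Lead.Tw4

/-!
# Finitely many global sections suffice (helper74)
-/

set_option autoImplicit false
universe u
open CategoryTheory AlgebraicGeometry TopologicalSpace Opposite

namespace Groth.Agent.Lib.Helper74.FinGen

open Groth.Agent.Lib.Lead.Inv Groth.Agent.Lib.Lead.QCohAff Groth.Agent.Lib.Lead.CohAff

variable {X : Scheme.{u}}

/-- restrictions of elements of a span lie in the span of the restrictions -/
theorem res_mem_span (M : X.Modules) {W W' : X.Opens} (h : W' ≤ W) (S : Set Γ(M, ⊤))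
    {z : Γ(M, W)}
    (hz : z ∈ Submodule.span Γ(X, W)
      ((fun s : Γ(M, ⊤) => M.presheaf.map (homOfLE (le_top : W ≤ ⊤)).op s) '' S)) :
    M.presheaf.map (homOfLE h).op z ∈ Submodule.span Γ(X, W')
      ((fun s : Γ(M, ⊤) => M.presheaf.map (homOfLE (le_top : W' ≤ ⊤)).op s) '' S) := by
  induction hz using Submodule.span_induction with
  | mem a ha =>
    obtain ⟨s, hs, rfl⟩ := ha
    refine Submodule.subset_span ⟨s, hs, ?_⟩
    change _ = M.presheaf.map (homOfLE h).op (M.presheaf.map (homOfLE (le_top : W ≤ ⊤)).op s)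
    rw [res_res]
  | zero => rw [map_zero]; exact Submodule.zero_mem _
  | add a b _ _ ha hb => rw [map_add]; exact Submodule.add_mem _ ha hb
  | smul r a _ ha => rw [res_smul]; exact Submodule.smul_mem _ _ ha

/-- around every point finitely many global sections generate -/
theorem exists_local_finset (M : X.Modules) (hM : Coh.IsCoh M) (h : GG M) (x : X) :
    ∃ (W₀ : X.Opens) (S : Finset Γ(M, ⊤)), x ∈ W₀ ∧
      ∀ (U : X.Opens) (t : Γ(M, U)) (y : X), y ∈ U → y ∈ W₀ →
        ∃ (W' : X.Opens) (hW' : W' ≤ U), y ∈ W' ∧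
          M.presheaf.map (homOfLE hW').op t ∈ Submodule.span Γ(X, W')
            ((fun s : Γ(M, ⊤) => M.presheaf.map (homOfLE (le_top : W' ≤ ⊤)).op s) '' (S : Set _)) := by
  classical
  haveI := hM.1
  obtain ⟨U₀, hU₀, hxU₀, -⟩ := exists_isAffineOpen_mem_and_subset (x := x) (U := ⊤) trivial
  have hfin : Module.Finite Γ(X, U₀) Γ(M, U₀) := finite_sections_of_isFiniteType M hM.2 hU₀
  obtain ⟨T, hT⟩ := hfin.fg_top
  have hτ : ∀ τ : Γ(M, U₀), ∃ (W : X.Opens) (hW : W ≤ U₀) (S : Finset Γ(M, ⊤)), x ∈ W ∧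
      M.presheaf.map (homOfLE hW).op τ ∈ Submodule.span Γ(X, W)
        ((fun s : Γ(M, ⊤) => M.presheaf.map (homOfLE (le_top : W ≤ ⊤)).op s) '' (S : Set _)) := by
    intro τ
    obtain ⟨W, hW, hxW, hmem⟩ := h U₀ τ x hxU₀
    obtain ⟨c, hc⟩ := (Finsupp.mem_span_range_iff_exists_finsupp).1 hmem
    refine ⟨W, hW, c.support, hxW, ?_⟩
    rw [← hc]
    refine Submodule.sum_mem _ fun s hs => Submodule.smul_mem _ _ (Submodule.subset_span ⟨s, hs, rfl⟩)
  choose W hW S hxW hmem using hτ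
  refine ⟨U₀ ⊓ T.inf W, T.biUnion S, ⟨hxU₀, ?_⟩, ?_⟩
  · exact Finset.inf_induction (p := fun V : X.Opens => x ∈ V) trivial
      (fun a ha b hb => ⟨ha, hb⟩) (fun τ _ => hxW τ)
  · intro U t y hyU hyW₀
    obtain ⟨f, hfW, hyf⟩ := hU₀.exists_basicOpen_le (V := U ⊓ (U₀ ⊓ T.inf W))
      ⟨y, ⟨hyU, hyW₀⟩⟩ hyW₀.1
    have hDU : X.basicOpen f ≤ U := hfW.trans inf_le_left
    have hDW : X.basicOpen f ≤ T.inf W := hfW.trans (inf_le_right.trans inf_le_right)
    refine ⟨X.basicOpen f, hDU, hyf, ?_⟩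
    obtain ⟨n, σ, hσ⟩ := (LocOn.of_isQuasicoherent M hU₀).2 f (M.presheaf.map (homOfLE hDU).op t)
    obtain ⟨u, hu⟩ := (isUnit_res_basicOpen f).pow n
    have ht' : M.presheaf.map (homOfLE hDU).op t =
        (↑u⁻¹ : Γ(X, X.basicOpen f)) • M.presheaf.map (homOfLE (X.basicOpen_le f)).op σ := by
      rw [hσ, ← hu, smul_smul, Units.inv_mul, one_smul]
    rw [ht']
    refine Submodule.smul_mem _ _ ?_
    have hσT : σ ∈ Submodule.span Γ(X, U₀) (T : Set Γ(M, U₀)) := by rw [hT]; trivial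
    clear ht' hσ
    induction hσT using Submodule.span_induction with
    | mem τ₀ hτ₀ =>
      have hle : X.basicOpen f ≤ W τ₀ := hDW.trans (Finset.inf_le hτ₀)
      have h1 := res_mem_span M hle _ (hmem τ₀)
      rw [res_res] at h1
      refine Submodule.span_mono (Set.image_mono ?_) h1
      intro s hs
      exact Finset.mem_biUnion.2 ⟨τ₀, hτ₀, hs⟩
    | zero => rw [map_zero]; exact Submodule.zero_mem _
    | add a b _ _ ha hb => rw [map_add]; exact Submodule.add_mem _ ha hb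
    | smul r a _ ha => rw [res_smul]; exact Submodule.smul_mem _ _ ha

/-- on a quasi-compact scheme, a quasi-coherent module of finite type generated by its global
sections is generated by finitely many of them -/
theorem exists_finset_spanGen [CompactSpace X] (M : X.Modules) (hM : Coh.IsCoh M) (h : GG M) :
    ∃ S : Finset Γ(M, ⊤), ∀ (U : X.Opens) (t : Γ(M, U)) (y : X), y ∈ U →
      ∃ (W' : X.Opens) (hW' : W' ≤ U), y ∈ W' ∧
        M.presheaf.map (homOfLE hW').op t ∈ Submodule.span Γ(X, W')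
          ((fun s : Γ(M, ⊤) => M.presheaf.map (homOfLE (le_top : W' ≤ ⊤)).op s) '' (S : Set _)) := by
  classical
  choose W₀ S hx hS using exists_local_finset M hM h
  obtain ⟨t, ht⟩ := CompactSpace.elim_nhds_subcover (fun x => ((W₀ x : X.Opens) : Set X))
    (fun x => (W₀ x).isOpen.mem_nhds (hx x))
  refine ⟨t.biUnion S, fun U τ y hyU => ?_⟩
  have hy : y ∈ ⋃ x ∈ t, ((W₀ x : X.Opens) : Set X) := by rw [ht]; trivial
  simp only [Set.mem_iUnion] at hy
  obtain ⟨x, hxt, hyx⟩ := hy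
  obtain ⟨W', hW', hyW', hmem⟩ := hS x U τ y hyU hyx
  refine ⟨W', hW', hyW', Submodule.span_mono (Set.image_mono ?_) hmem⟩
  intro s hs
  exact Finset.mem_biUnion.2 ⟨x, hxt, hs⟩

end Groth.Agent.Lib.Helper74.FinGen
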