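import Groth.Agent.Lib.Helper6.QAffCanon

set_option autoImplicit false
universe u
open CategoryTheory CategoryTheory.Limits AlgebraicGeometry TopologicalSpace Opposite

namespace Groth.Agent.Lib.Helper74.FinProj

open RelSpec Groth.Agent.Lib.Helper6

theorem isIso_of_appLE {X S : Scheme.{u}} (A : QCAlg S) (f : X ⟶ S) [IsAffineHom f]
    (c : X ⟶ A.spec) (e : c ≫ A.π = f) [IsOpenImmersion c]
    (hiso : ∀ (U : S.Opens) (_ : IsAffineOpen U),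
      IsIso (c.appLE (A.π ⁻¹ᵁ U) (f ⁻¹ᵁ U) (AffUniv.preimage_le A.π f c e U))) : IsIso c := by
  apply isIso_of_isOpenImmersion_of_opensRange_eq_top
  rw [_root_.eq_top_iff]
  intro y _
  obtain ⟨U, hU, hyU, -⟩ := Opens.isBasis_iff_nbhd.mp S.isBasis_affineOpens
    (show A.π y ∈ (⊤ : S.Opens) from trivial)
  have hW : IsAffineOpen (A.π ⁻¹ᵁ U) := hU.preimage A.π
  have hV : IsAffineOpen (f ⁻¹ᵁ U) := hU.preimage f
  have hle : f ⁻¹ᵁ U ≤ c ⁻¹ᵁ (A.π ⁻¹ᵁ U) := AffUniv.preimage_le A.π f c e U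
  have h1 := AffUniv.ι_comp_eq c hW (f ⁻¹ᵁ U) hle
  have h3 : IsIso (c.appLE (A.π ⁻¹ᵁ U) (f ⁻¹ᵁ U) hle) := hiso U hU
  have h4 : IsIso (f ⁻¹ᵁ U).toSpecΓ := by
    have : IsAffine (f ⁻¹ᵁ U).toScheme := hV
    unfold Scheme.Opens.toSpecΓ
    infer_instance
  have hy : y ∈ Set.range hW.fromSpec := by
    rw [hW.range_fromSpec]
    exact hyU
  obtain ⟨y', rfl⟩ := hy
  have h5 : IsIso (Spec.map (c.appLE (A.π ⁻¹ᵁ U) (f ⁻¹ᵁ U) hle)) := inferInstance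
  have h6 : IsIso ((f ⁻¹ᵁ U).toSpecΓ ≫ Spec.map (c.appLE (A.π ⁻¹ᵁ U) (f ⁻¹ᵁ U) hle)) :=
    inferInstance
  have hsurj : Function.Surjective
      ((f ⁻¹ᵁ U).toSpecΓ ≫ Spec.map (c.appLE (A.π ⁻¹ᵁ U) (f ⁻¹ᵁ U) hle)) :=
    (Scheme.Hom.homeomorph ((f ⁻¹ᵁ U).toSpecΓ ≫
      Spec.map (c.appLE (A.π ⁻¹ᵁ U) (f ⁻¹ᵁ U) hle))).surjective
  obtain ⟨x, rfl⟩ := hsurj y'
  refine ⟨(f ⁻¹ᵁ U).ι x, ?_⟩
  have := congrArg (fun g => g.base x) h1
  exact this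

/-- an affine morphism is the relative spectrum of its direct image algebra -/
theorem exists_iso_spec {X S : Scheme.{u}} (f : X ⟶ S) [IsAffineHom f] :
    ∃ c : X ⟶ (QCAlg.directImage f).spec, c ≫ (QCAlg.directImage f).π = f ∧ IsIso c := by
  have hqa : MoreMor.IsQuasiAffineHom f := by
    refine ⟨inferInstance, fun V hV => ?_⟩
    have : IsAffine (f ⁻¹ᵁ V).toScheme := hV.preimage f
    infer_instance
  obtain ⟨c, e, hc, -, hoi⟩ := QAff.exists_canonical f hqa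
  refine ⟨c, e, ?_⟩
  have hiso : IsIso (QCAlg.directImage f).gammaMap := Groth.Agent.S8255.result _
  refine isIso_of_appLE (QCAlg.directImage f) f c e fun U hU => ?_
  rw [← AffUniv.algHom_app (QCAlg.directImage f).π f c e U, ← hc]
  exact NatIso.isIso_app_of_isIso (QCAlg.directImage f).gammaMap (op U)

end Groth.Agent.Lib.Helper74.FinProj
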