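import Groth.Agent.Lib.Helper74.PolyAlg2
import Groth.Agent.Lib.Helper74.FinProj1
import Groth.Agent.Lib.Helper74.RelProjExists
import Mathlib.AlgebraicGeometry.Morphisms.Finite

set_option autoImplicit false
universe u
open CategoryTheory CategoryTheory.Limits AlgebraicGeometry TopologicalSpace Opposite Polynomial

namespace Groth.Agent.Lib.Helper74.FinProj

open RelSpec Groth.Agent.Lib.Helper74.PolyAlg Groth.Agent.Lib.Helper74.PolyGr
open Groth.Agent.Lib.Helper74.TrivGr

variable {S : Scheme.{u}} (𝒜 : RelSpec.QCAlg S)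

theorem isGenDegOne_polyGr : (polyGr 𝒜).IsGenDegOne := by
  intro U hU
  rw [_root_.eq_top_iff]
  intro x _
  obtain ⟨q, rfl⟩ := (secIsoG 𝒜 U hU).symm.surjective x
  induction q using Polynomial.induction_on with
  | C a =>
    apply Subring.subset_closure
    left
    change _ ∈ (polyGr 𝒜).deg U hU 0
    rw [mem_deg_iff, RingEquiv.apply_symm_apply]
    exact C_mem a
  | add p q hp hq =>
    rw [map_add]
    exact Subring.add_mem _ (hp trivial) (hq trivial)
  | monomial n a h =>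
    rw [pow_succ, ← mul_assoc, map_mul]
    refine Subring.mul_mem _ (h trivial) ?_
    apply Subring.subset_closure
    right
    change _ ∈ (polyGr 𝒜).deg U hU 1
    rw [mem_deg_iff, RingEquiv.apply_symm_apply]
    exact X_mem

theorem isFTDeg_one_polyGr
    (hfin : ∀ (U : S.Opens) (_ : IsAffineOpen U), ∃ G : Finset (𝒜.presheaf.obj (op U)),
      ∀ a : 𝒜.presheaf.obj (op U), ∃ c : 𝒜.presheaf.obj (op U) → Γ(S, U),
        a = ∑ g ∈ G, (𝒜.str.app (op U)).hom (c g) * g) :
    (polyGr 𝒜).IsFTDeg 1 := by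
  classical
  intro U hU
  obtain ⟨G, hG⟩ := hfin U hU
  let h : 𝒜.presheaf.obj (op U) → (polyGr 𝒜).presheaf.obj (op U) :=
    fun g => (secIsoG 𝒜 U hU).symm (monomial 1 g)
  have hinj : Function.Injective h := by
    intro g g' hgg
    have := (secIsoG 𝒜 U hU).symm.injective hgg
    exact Polynomial.monomial_injective 1 this
  refine ⟨G.image h, ?_, ?_⟩
  · intro t ht
    rw [Finset.mem_coe, Finset.mem_image] at ht
    obtain ⟨g, -, rfl⟩ := ht
    change _ ∈ (polyGr 𝒜).deg U hU 1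
    rw [mem_deg_iff, RingEquiv.apply_symm_apply]
    exact monomial_mem 1 g
  · intro x hx
    rw [mem_deg_iff, mem_polyDeg_iff] at hx
    obtain ⟨a, ha⟩ := hx
    obtain ⟨c, hc⟩ := hG a
    refine ⟨fun t => c ((secIsoG 𝒜 U hU t).coeff 1), ?_⟩
    rw [Finset.sum_image (fun g _ g' _ hgg => hinj hgg)]
    apply (secIsoG 𝒜 U hU).injective
    rw [ha, map_sum]
    have h1 : ∀ g ∈ G, secIsoG 𝒜 U hU (((polyGr 𝒜).str.app (op U)).hom
        (c ((secIsoG 𝒜 U hU (h g)).coeff 1)) * h g) =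
        monomial 1 ((𝒜.str.app (op U)).hom (c g) * g) := by
      intro g _
      rw [map_mul, secIsoG_str]
      simp only [h, RingEquiv.apply_symm_apply]
      rw [Polynomial.coeff_monomial, if_pos rfl, Polynomial.C_mul_monomial]
    rw [Finset.sum_congr rfl h1, ← map_sum, ← hc]

end Groth.Agent.Lib.Helper74.FinProj

namespace Groth.Agent.Lib.Helper74.FinProj

open RelSpec Groth.Agent.Lib.Helper74.PolyAlg Groth.Agent.Lib.Helper74.PolyGr
open Groth.Agent.Lib.Helper74.TrivGr Groth.Agent.Lib.Helper74.RelProjLib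

theorem finite_sections {X Y : Scheme.{u}} (f : X ⟶ Y) [IsFinite f] (U : Y.Opens)
    (hU : IsAffineOpen U) :
    ∃ G : Finset Γ(X, f ⁻¹ᵁ U), ∀ a : Γ(X, f ⁻¹ᵁ U), ∃ c : Γ(X, f ⁻¹ᵁ U) → Γ(Y, U),
      a = ∑ g ∈ G, (f.app U).hom (c g) * g := by
  classical
  have hfin : (f.app U).hom.Finite := IsFinite.finite_app f U hU
  let _ := (f.app U).hom.toAlgebra
  have hfin' : Module.Finite Γ(Y, U) Γ(X, f ⁻¹ᵁ U) := hfin
  obtain ⟨G, hG⟩ := hfin'.fg_top
  refine ⟨G, fun a => ?_⟩
  have ha : a ∈ Submodule.span Γ(Y, U) (G : Set Γ(X, f ⁻¹ᵁ U)) := by rw [hG]; trivial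
  obtain ⟨c, -, hsum⟩ := Submodule.mem_span_finset.1 ha
  refine ⟨c, ?_⟩
  rw [← hsum]
  refine Finset.sum_congr rfl fun g _ => ?_
  rw [Algebra.smul_def]
  rfl

theorem isProjective_of_isFinite {X Y : Scheme.{u}} (f : X ⟶ Y) [IsFinite f] :
    RelProj.IsProjective f := by
  classical
  have hpo := isPolyOver_poly (QCAlg.directImage f)
  have hP := isRelProj_relProj (polyGr (QCAlg.directImage f))
  obtain ⟨i, hi⟩ := Groth.Agent.Lib.Helper74.RelConeProj.exists_coneImm hpo hP
  have hiso : IsIso i := isIso_coneImm hpo hP i hi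
  obtain ⟨c, hc, hciso⟩ := exists_iso_spec f
  have hcomp := Groth.Agent.Lib.Helper74.RelConeProj.coneImm_comp hpo hP hi
  let i' : (QCAlg.directImage f).spec ⟶ relProj (polyGr (QCAlg.directImage f)) := i
  have hiso' : IsIso i' := hiso
  refine ⟨polyGr (QCAlg.directImage f), relProj (polyGr (QCAlg.directImage f)),
    relProjHom _, relProjChart _, asIso c ≪≫ asIso i', isGenDegOne_polyGr _,
    isFTDeg_one_polyGr _ ?_, hP, ?_⟩
  · intro U hU
    exact finite_sections f U hU
  · change (c ≫ i') ≫ relProjHom _ = f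
    rw [Category.assoc]
    exact (congrArg (c ≫ ·) hcomp).trans hc

end Groth.Agent.Lib.Helper74.FinProj
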