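import Groth.Agent.Lib.Helper74.GrBaseChange

/-!
# Abstract criterion: a map between "modules of fractions" compatible with a graded base change is
bijective (helper74)
-/

set_option autoImplicit false
universe u
open CategoryTheory CategoryTheory.Limits

namespace Groth.Agent.Lib.Helper74.FracBC

open Groth.Agent.Lib.Helper74.GrBaseChange

variable {R' R B A : Type u} [CommRing R'] [CommRing R] [CommRing B] [CommRing A]
  (ℬ : ℕ → AddSubgroup B) [GradedRing ℬ] (𝒜 : ℕ → AddSubgroup A) [GradedRing 𝒜]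
  (f₀ : R' →+* R) (sB : R' →+* B) (sA : R →+* A) (hA : ∀ r, sA r ∈ 𝒜 0)
  (hB : ∀ r', sB r' ∈ ℬ 0) (φ : ℬ →+*ᵍ 𝒜)

include hA in
theorem Im_le (d : ℕ) : Im ℬ 𝒜 sA φ d ≤ 𝒜 d := by
  refine (AddSubgroup.closure_le _).2 ?_
  rintro _ ⟨b, hb, r, rfl⟩
  simpa using SetLike.mul_mem_graded (φ.map_mem hb) (hA r)

theorem he_raise {d : ℕ} {n : ℤ} {K e : ℕ} (he : (e : ℤ) = ((K • d : ℕ) : ℤ) + n) (N : ℕ) :
    ((e + N • d : ℕ) : ℤ) = (((K + N) • d : ℕ) : ℤ) + n := by
  simp only [smul_eq_mul] at he ⊢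
  push_cast at he ⊢
  rw [he]; ring

variable {ℬ} in
theorem pow_mul_mem {d : ℕ} {f : B} (hf : f ∈ ℬ d) {e : ℕ} (N : ℕ) (b : ℬ e) :
    f ^ N * (b : B) ∈ ℬ (e + N • d) := by
  rw [add_comm]
  exact SetLike.mul_mem_graded (SetLike.pow_mem_graded N hf) b.2

variable {ℬ sB} in
include hB in
theorem sB_mul_mem {e : ℕ} (r' : R') (b : ℬ e) : sB r' * (b : B) ∈ ℬ e := by
  simpa using SetLike.mul_mem_graded (hB r') b.2

variable {ℬ 𝒜 sA φ} in
include hA in
theorem phi_mul_mem {e : ℕ} (b : ℬ e) (r : R) : φ b * sA r ∈ 𝒜 e := by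
  simpa using SetLike.mul_mem_graded (φ.map_mem b.2) (hA r)

section main

variable {ℬ 𝒜 f₀ sB sA φ}
variable {d : ℕ} {f : B} (hf : f ∈ ℬ d) (n : ℤ)
  {X Y : Type*} [AddCommGroup X] [AddCommGroup Y] (Φ : X →+ Y)
  (P : ∀ (K e : ℕ), (e : ℤ) = ((K • d : ℕ) : ℤ) + n → (ℬ e →+ R →+ X))
  (Q : ∀ (K e : ℕ), (e : ℤ) = ((K • d : ℕ) : ℤ) + n → (𝒜 e →+ Y))
  (hbal : ∀ K e he (r' : R') (b : ℬ e) (r : R),
    P K e he ⟨sB r' * b, sB_mul_mem hB r' b⟩ r = P K e he b (f₀ r' * r))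
  (hΦ : ∀ K e he (b : ℬ e) (r : R), Φ (P K e he b r) = Q K e he ⟨φ b * sA r, phi_mul_mem hA b r⟩)
  (hraise : ∀ K e he (N : ℕ) (b : ℬ e) (r : R),
    P K e he b r = P (K + N) (e + N • d) (he_raise he N) ⟨f ^ N * b, pow_mul_mem hf N b⟩ r)
  (hQ0 : ∀ K e he (a : 𝒜 e), Q K e he a = 0 → ∃ N : ℕ, (φ f) ^ N * (a : A) = 0)
  (hQs : ∀ y : Y, ∃ K e he a, y = Q K e he a)
  (hPgen : ∀ x : X, x ∈ AddSubgroup.closure {x | ∃ K e he b r, x = P K e he b r})
  (hpo : IsPushout (CommRingCat.ofHom f₀) (CommRingCat.ofHom sB) (CommRingCat.ofHom sA)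
      (CommRingCat.ofHom φ.toRingHom))

/-- list sums of the fraction map -/
def lsum (K e : ℕ) (he : (e : ℤ) = ((K • d : ℕ) : ℤ) + n) (l : List (ℬ e × R)) : X :=
  (l.map fun p => P K e he p.1 p.2).sum

include hraise in
theorem lsum_raise (K e : ℕ) (he : (e : ℤ) = ((K • d : ℕ) : ℤ) + n) (N : ℕ) (l : List (ℬ e × R)) :
    lsum n P K e he l = lsum n P (K + N) (e + N • d) (he_raise he N)
      (l.map fun p => (⟨f ^ N * p.1, pow_mul_mem hf N p.1⟩, p.2)) := by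
  unfold lsum
  rw [List.map_map]
  congr 1
  refine List.map_congr_left fun p _ => ?_
  exact hraise K e he N p.1 p.2

theorem lsum_congr {K e K' e' : ℕ} (he : (e : ℤ) = ((K • d : ℕ) : ℤ) + n)
    (he' : (e' : ℤ) = ((K' • d : ℕ) : ℤ) + n) (hK : K = K') (hee : e = e') (l : List (ℬ e × R)) :
    ∃ l' : List (ℬ e' × R), lsum n P K e he l = lsum n P K' e' he' l' := by
  subst hK hee
  exact ⟨l, rfl⟩

theorem lsum_neg (K e : ℕ) (he : (e : ℤ) = ((K • d : ℕ) : ℤ) + n) (l : List (ℬ e × R)) :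
    - lsum n P K e he l = lsum n P K e he (l.map fun p => (p.1, -p.2)) := by
  unfold lsum
  induction l with
  | nil => simp
  | cons p l ih =>
    simp only [List.map_cons, List.sum_cons, neg_add, ih, map_neg]

include hraise hPgen in
theorem exists_lsum (x : X) : x = 0 ∨ ∃ K e he l, x = lsum n P K e he l := by
  have hx := hPgen x
  induction hx using AddSubgroup.closure_induction with
  | mem x hx =>
    obtain ⟨K, e, he, b, r, rfl⟩ := hx
    exact Or.inr ⟨K, e, he, [(b, r)], by simp [lsum]⟩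
  | zero => exact Or.inl rfl
  | add x y _ _ hx hy =>
    rcases hx with rfl | ⟨K₁, e₁, he₁, l₁, rfl⟩
    · rw [zero_add]; exact hy
    rcases hy with rfl | ⟨K₂, e₂, he₂, l₂, rfl⟩
    · rw [add_zero]; exact Or.inr ⟨K₁, e₁, he₁, l₁, rfl⟩
    right
    rw [lsum_raise hf n P hraise K₁ e₁ he₁ K₂ l₁, lsum_raise hf n P hraise K₂ e₂ he₂ K₁ l₂]
    have hK : K₂ + K₁ = K₁ + K₂ := add_comm _ _
    have hee : e₂ + K₁ • d = e₁ + K₂ • d := by
      simp only [smul_eq_mul] at he₁ he₂ ⊢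
      push_cast at he₁ he₂
      have : ((e₂ + K₁ * d : ℕ) : ℤ) = ((e₁ + K₂ * d : ℕ) : ℤ) := by
        push_cast; rw [he₁, he₂]; ring
      exact_mod_cast this
    obtain ⟨l', hl'⟩ := lsum_congr n P (he_raise he₂ K₁) (he_raise he₁ K₂) hK hee
      (l₂.map fun p : ℬ e₂ × R =>
        ((⟨f ^ K₁ * p.1, pow_mul_mem hf K₁ p.1⟩ : ℬ (e₂ + K₁ • d)), p.2))
    rw [hl']
    refine ⟨_, _, he_raise he₁ K₂,
      (l₁.map fun p : ℬ e₁ × R =>
        ((⟨f ^ K₂ * p.1, pow_mul_mem hf K₂ p.1⟩ : ℬ (e₁ + K₂ • d)), p.2)) ++ l', ?_⟩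
    simp [lsum]
  | neg x _ hx =>
    rcases hx with rfl | ⟨K, e, he, l, rfl⟩
    · left; rw [neg_zero]
    right
    exact ⟨K, e, he, l.map fun p => (p.1, -p.2), lsum_neg n P K e he l⟩

include hB in
theorem list_sum_eq_zero_of_balanced
    (hpo : IsPushout (CommRingCat.ofHom f₀) (CommRingCat.ofHom sB) (CommRingCat.ofHom sA)
      (CommRingCat.ofHom φ.toRingHom)) (e : ℕ)
    {Q' : Type*} [AddCommGroup Q'] (β : ℬ e →+ R →+ Q')
    (hβ : ∀ (r' : R') (b : ℬ e) (r : R),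
      β ⟨sB r' * b, sB_mul_mem hB r' b⟩ r = β b (f₀ r' * r))
    (l : List (ℬ e × R)) (h0 : (l.map fun p => φ p.1 * sA p.2).sum = 0) :
    (l.map fun p => β p.1 p.2).sum = 0 := by
  have key := sum_eq_zero_of_balanced ℬ 𝒜 f₀ sB sA φ hB hpo e β hβ
    (Finset.univ : Finset (Fin l.length)) (fun k => l[k.1].1) (fun k => l[k.1].2) ?_
  · rw [← Fin.sum_univ_fun_getElem l (fun p => β p.1 p.2)]
    exact key
  · rw [← h0, ← Fin.sum_univ_fun_getElem l (fun p => φ p.1 * sA p.2)]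

include hA hB hf hbal hΦ hraise hQ0 hQs hPgen hpo in
/-- **the criterion** -/
theorem bijective : Function.Bijective Φ := by
  constructor
  · rw [injective_iff_map_eq_zero]
    intro x hx
    rcases exists_lsum hf n P hraise hPgen x with rfl | ⟨K, e, he, l, rfl⟩
    · rfl
    have hmem : ∀ l : List (ℬ e × R), (l.map fun p => φ p.1 * sA p.2).sum ∈ 𝒜 e := by
      intro l
      refine AddSubgroup.list_sum_mem _ fun x hx => ?_
      obtain ⟨p, -, rfl⟩ := List.mem_map.1 hx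
      exact phi_mul_mem hA p.1 p.2
    have h1 : ∀ l : List (ℬ e × R), Φ (lsum n P K e he l) =
        Q K e he ⟨(l.map fun p => φ p.1 * sA p.2).sum, hmem l⟩ := by
      intro l
      induction l with
      | nil =>
        have : (⟨(([] : List (ℬ e × R)).map fun p => φ p.1 * sA p.2).sum, hmem []⟩ : 𝒜 e) = 0 := rfl
        rw [this, map_zero]
        simp [lsum]
      | cons p l ih =>
        have : (⟨((p :: l).map fun p => φ p.1 * sA p.2).sum, hmem (p :: l)⟩ : 𝒜 e) =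
            ⟨φ p.1 * sA p.2, phi_mul_mem hA p.1 p.2⟩ +
              ⟨(l.map fun p => φ p.1 * sA p.2).sum, hmem l⟩ := by
          apply Subtype.ext
          simp
        rw [this, map_add, ← ih, ← hΦ]
        simp [lsum]
    rw [h1 l] at hx
    obtain ⟨N, hN⟩ := hQ0 K e he _ hx
    rw [lsum_raise hf n P hraise K e he N l]
    refine list_sum_eq_zero_of_balanced hB hpo (e + N • d) (P (K + N) (e + N • d) (he_raise he N))
      (hbal _ _ _) _ ?_
    rw [List.map_map]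
    have : ((fun q : ℬ (e + N • d) × R => φ q.1 * sA q.2) ∘
        fun p : ℬ e × R => ((⟨f ^ N * p.1, pow_mul_mem hf N p.1⟩ : ℬ (e + N • d)), p.2)) =
        fun p => φ f ^ N * (φ p.1 * sA p.2) := by
      funext p
      simp only [Function.comp_apply, map_mul, map_pow]
      ring
    rw [this, List.sum_map_mul_left]
    exact hN
  · intro y
    obtain ⟨K, e, he, a, rfl⟩ := hQs y
    have key : ∀ x ∈ Im ℬ 𝒜 sA φ e, ∀ hx : x ∈ 𝒜 e, Q K e he ⟨x, hx⟩ ∈ Φ.range := by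
      intro x hx
      induction hx using AddSubgroup.closure_induction with
      | mem x hx =>
        obtain ⟨b, hb, r, rfl⟩ := hx
        intro hx'
        exact ⟨P K e he ⟨b, hb⟩ r, hΦ K e he ⟨b, hb⟩ r⟩
      | zero =>
        intro hx'
        have : (⟨0, hx'⟩ : 𝒜 e) = 0 := rfl
        rw [this, map_zero]
        exact zero_mem _
      | add x y hx hy ihx ihy =>
        intro hxy
        have hx' := Im_le ℬ 𝒜 sA hA φ e hx
        have hy' := Im_le ℬ 𝒜 sA hA φ e hy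
        have : (⟨x + y, hxy⟩ : 𝒜 e) = ⟨x, hx'⟩ + ⟨y, hy'⟩ := rfl
        rw [this, map_add]
        exact add_mem (ihx hx') (ihy hy')
      | neg x hx ihx =>
        intro hnx
        have hx' := Im_le ℬ 𝒜 sA hA φ e hx
        have : (⟨-x, hnx⟩ : 𝒜 e) = -⟨x, hx'⟩ := rfl
        rw [this, map_neg]
        exact neg_mem (ihx hx')
    exact key a.1 (le_Im ℬ 𝒜 f₀ sB sA hA φ hpo e a.2) a.2

end main

end Groth.Agent.Lib.Helper74.FracBC
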