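import Mathlib
import Groth.Prelude.Def_RelProj2

/-!
# The directed preorder of quasi-coherent finite-type subobjects of a module
-/

set_option autoImplicit false
universe u

open CategoryTheory CategoryTheory.Limits AlgebraicGeometry TopologicalSpace Opposite

noncomputable section

namespace Groth.Agent.Lib.Helper74.FtSub

/-- a quasi-coherent subobject of finite type of `F` -/
structure FtSub {Y : Scheme.{u}} (F : Y.Modules) where
  /-- the module -/
  E : Y.Modules
  /-- the inclusion -/
  ι : E ⟶ F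
  mono : Mono ι
  qcoh : E.IsQuasicoherent
  ft : SheafOfModules.IsFiniteType (R := Y.ringCatSheaf) E

variable {Y : Scheme.{u}} {F : Y.Modules}

instance : Preorder (FtSub F) where
  le a b := ∃ f : a.E ⟶ b.E, f ≫ b.ι = a.ι
  le_refl a := ⟨𝟙 _, Category.id_comp _⟩
  le_trans a b c := fun ⟨f, hf⟩ ⟨g, hg⟩ => ⟨f ≫ g, by rw [Category.assoc, hg, hf]⟩

theorem le_def (a b : FtSub F) : a ≤ b ↔ ∃ f : a.E ⟶ b.E, f ≫ b.ι = a.ι := Iff.rfl

/-- the (unique) comparison map -/
def fac {a b : FtSub F} (h : a ≤ b) : a.E ⟶ b.E := h.choose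

@[reassoc (attr := simp)]
theorem fac_ι {a b : FtSub F} (h : a ≤ b) : fac h ≫ b.ι = a.ι := h.choose_spec

end Groth.Agent.Lib.Helper74.FtSub
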