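import Groth.Agent.Lib.Helper74.QMapBC

/-!
# Graded base change at ring level: spanning and independence of the graded pieces (helper74)
-/

set_option autoImplicit false
universe u
open CategoryTheory CategoryTheory.Limits TensorProduct

namespace Groth.Agent.Lib.Helper74.GrBaseChange

variable {R' R B A : Type u} [CommRing R'] [CommRing R] [CommRing B] [CommRing A]
  (ℬ : ℕ → AddSubgroup B) [GradedRing ℬ] (𝒜 : ℕ → AddSubgroup A) [GradedRing 𝒜]
  (f : R' →+* R) (sB : R' →+* B) (sA : R →+* A) (hA : ∀ r, sA r ∈ 𝒜 0)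
  (φ : ℬ →+*ᵍ 𝒜)

/-- the image of the degree-`d` part under base change -/
def Im (d : ℕ) : AddSubgroup A :=
  AddSubgroup.closure {x | ∃ b ∈ ℬ d, ∃ r : R, x = φ b * sA r}

variable {ℬ 𝒜 sA φ} in
theorem mul_mem_Im {d : ℕ} {b : B} (hb : b ∈ ℬ d) (r : R) : φ b * sA r ∈ Im ℬ 𝒜 sA φ d :=
  AddSubgroup.subset_closure ⟨b, hb, r, rfl⟩

theorem sA_mul_mem_Im {d : ℕ} (r : R) {x : A} (hx : x ∈ Im ℬ 𝒜 sA φ d) :
    sA r * x ∈ Im ℬ 𝒜 sA φ d := by
  induction hx using AddSubgroup.closure_induction with
  | mem x hx =>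
    obtain ⟨b, hb, r', rfl⟩ := hx
    have : sA r * (φ b * sA r') = φ b * sA (r * r') := by rw [map_mul]; ring
    rw [this]
    exact mul_mem_Im hb _
  | zero => rw [mul_zero]; exact zero_mem _
  | add x y _ _ hx hy => rw [mul_add]; exact add_mem hx hy
  | neg x _ hx => rw [mul_neg]; exact neg_mem hx

include hA in
/-- spanning: the degree-`d` part of the base change is generated by the image of the
degree-`d` part -/
theorem le_Im
    (hpo : IsPushout (CommRingCat.ofHom f) (CommRingCat.ofHom sB) (CommRingCat.ofHom sA)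
      (CommRingCat.ofHom φ.toRingHom)) (d : ℕ) : 𝒜 d ≤ Im ℬ 𝒜 sA φ d := by
  classical
  let _ : Algebra R' R := f.toAlgebra
  let _ : Algebra R' B := sB.toAlgebra
  let _ : Algebra R A := sA.toAlgebra
  let _ : Algebra R' A := (sA.comp f).toAlgebra
  let _ : Algebra B A := φ.toRingHom.toAlgebra
  have : IsScalarTower R' R A := .of_algebraMap_eq' rfl
  have hw : sA.comp f = φ.toRingHom.comp sB := by
    have := congrArg CommRingCat.Hom.hom hpo.w
    exact this
  have : IsScalarTower R' B A := .of_algebraMap_eq' hw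
  have hpush : Algebra.IsPushout R' R B A := CommRingCat.isPushout_iff_isPushout.mp hpo
  have key : ∀ y : A, ∀ d, ((DirectSum.decompose 𝒜 y d : 𝒜 d) : A) ∈ Im ℬ 𝒜 sA φ d := by
    intro y
    refine hpush.out.inductionOn y
      (fun y => ∀ d, ((DirectSum.decompose 𝒜 y d : 𝒜 d) : A) ∈ Im ℬ 𝒜 sA φ d) ?_ ?_ ?_ ?_
    · intro d
      rw [DirectSum.decompose_zero, DirectSum.zero_apply, ZeroMemClass.coe_zero]
      exact zero_mem _
    · intro b d
      change ((DirectSum.decompose 𝒜 (φ b) d : 𝒜 d) : A) ∈ _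
      rw [← GradedRingHom.map_directSumDecompose]
      have := mul_mem_Im (sA := sA) (φ := φ) (𝒜 := 𝒜) (SetLike.coe_mem (DirectSum.decompose ℬ b d)) 1
      rwa [map_one, mul_one] at this
    · intro r n hn d
      change ((DirectSum.decompose 𝒜 (sA r * n) d : 𝒜 d) : A) ∈ _
      rw [DirectSum.coe_decompose_mul_of_left_mem 𝒜 d (hA r)]
      simp only [zero_le, if_true, Nat.sub_zero]
      exact sA_mul_mem_Im ℬ 𝒜 sA φ r (hn d)
    · intro n₁ n₂ h₁ h₂ d
      rw [DirectSum.decompose_add, DirectSum.add_apply, AddMemClass.coe_add]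
      exact add_mem (h₁ d) (h₂ d)
  intro x hx
  have := key x d
  rwa [DirectSum.decompose_of_mem_same 𝒜 hx] at this

section indep

variable (hB : ∀ r', sB r' ∈ ℬ 0)

include hB in
/-- independence: a relation `∑ φ(b_k) * sA(r_k) = 0` with all `b_k` of degree `d` is killed by every
balanced biadditive map on `ℬ d × R`. -/
theorem sum_eq_zero_of_balanced
    (hpo : IsPushout (CommRingCat.ofHom f) (CommRingCat.ofHom sB) (CommRingCat.ofHom sA)
      (CommRingCat.ofHom φ.toRingHom)) (d : ℕ)
    {Q : Type*} [AddCommGroup Q] (β : ℬ d →+ R →+ Q)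
    (hβ : ∀ (r' : R') (b : ℬ d) (r : R),
      β ⟨sB r' * b, by simpa using SetLike.mul_mem_graded (hB r') b.2⟩ r = β b (f r' * r))
    {κ : Type*} (s : Finset κ) (b : κ → ℬ d) (r : κ → R)
    (h0 : ∑ k ∈ s, φ (b k) * sA (r k) = 0) : ∑ k ∈ s, β (b k) (r k) = 0 := by
  classical
  let _ : Algebra R' R := f.toAlgebra
  let _ : Algebra R' B := sB.toAlgebra
  let _ : Algebra R A := sA.toAlgebra
  let _ : Algebra R' A := (sA.comp f).toAlgebra
  let _ : Algebra B A := φ.toRingHom.toAlgebra
  have : IsScalarTower R' R A := .of_algebraMap_eq' rfl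
  have hw : sA.comp f = φ.toRingHom.comp sB := by
    have := congrArg CommRingCat.Hom.hom hpo.w
    exact this
  have : IsScalarTower R' B A := .of_algebraMap_eq' hw
  have hpush : Algebra.IsPushout R' R B A := CommRingCat.isPushout_iff_isPushout.mp hpo
  -- the degree-`d` part as an `R'`-submodule
  let Bd : Submodule R' B :=
    { carrier := ℬ d
      add_mem' := fun ha hb => add_mem ha hb
      zero_mem' := zero_mem _
      smul_mem' := fun c x hx => by
        change sB c * x ∈ ℬ d
        simpa using SetLike.mul_mem_graded (hB c) hx }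
  -- projection onto the degree-`d` part
  let π : B →ₗ[R'] Bd :=
    { toFun := fun x => ⟨(DirectSum.decompose ℬ x d : ℬ d), SetLike.coe_mem _⟩
      map_add' := fun x y => by
        apply Subtype.ext
        change ((DirectSum.decompose ℬ (x + y) d : ℬ d) : B) = _
        rw [DirectSum.decompose_add, DirectSum.add_apply, AddMemClass.coe_add]
        rfl
      map_smul' := fun c x => by
        apply Subtype.ext
        change ((DirectSum.decompose ℬ (sB c * x) d : ℬ d) : B) = sB c * _
        rw [DirectSum.coe_decompose_mul_of_left_mem ℬ d (hB c)]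
        simp only [zero_le, if_true, Nat.sub_zero] }
  have hπ : ∀ x : ℬ d, π x = ⟨x, x.2⟩ := by
    intro x
    apply Subtype.ext
    change ((DirectSum.decompose ℬ (x : B) d : ℬ d) : B) = x
    rw [DirectSum.decompose_of_mem_same ℬ x.2]
  -- the relation in the tensor product
  have h1 : ∑ k ∈ s, (r k) ⊗ₜ[R'] ((b k : B)) = (0 : R ⊗[R'] B) := by
    apply hpush.out.equiv.injective
    rw [map_zero, map_sum]
    rw [← h0]
    refine Finset.sum_congr rfl fun k _ => ?_
    rw [IsBaseChange.equiv_tmul]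
    change sA (r k) * φ (b k) = _
    ring
  have h2 : ∑ k ∈ s, (r k) ⊗ₜ[R'] (⟨b k, (b k).2⟩ : Bd) = (0 : R ⊗[R'] Bd) := by
    have := congrArg (LinearMap.lTensor R π) h1
    rw [map_zero, map_sum] at this
    rw [← this]
    refine Finset.sum_congr rfl fun k _ => ?_
    rw [LinearMap.lTensor_tmul, hπ]
  -- the balanced map
  let β' : R →+ Bd →+ Q :=
    { toFun := fun r =>
        { toFun := fun x => β ⟨x.1, x.2⟩ r
          map_zero' := by
            have : (⟨((0 : Bd) : B), (0 : Bd).2⟩ : ℬ d) = 0 := rfl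
            rw [this, map_zero]; rfl
          map_add' := fun x y => by
            have : (⟨((x + y : Bd) : B), (x + y).2⟩ : ℬ d) = ⟨x.1, x.2⟩ + ⟨y.1, y.2⟩ := rfl
            rw [this, map_add]; rfl }
      map_zero' := by
        ext x
        change β _ 0 = 0
        rw [map_zero]
      map_add' := fun r₁ r₂ => by
        ext x
        change β _ (r₁ + r₂) = β _ r₁ + β _ r₂
        rw [map_add] }
  have hβ' : ∀ (c : R') (r : R) (x : Bd), β' (c • r) x = β' r (c • x) := by
    intro c r x
    change β ⟨x.1, x.2⟩ (f c * r) = β ⟨sB c * x.1, _⟩ r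
    rw [← hβ c ⟨x.1, x.2⟩ r]
  have h3 := congrArg (TensorProduct.liftAddHom β' hβ') h2
  rw [map_zero, map_sum] at h3
  rw [← h3]
  refine Finset.sum_congr rfl fun k _ => ?_
  rw [TensorProduct.liftAddHom_tmul]
  rfl

end indep

end Groth.Agent.Lib.Helper74.GrBaseChange
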