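import Mathlib.RingTheory.GradedAlgebra.Basic
import Mathlib.Algebra.Ring.Subring.Basic

set_option autoImplicit false
open DirectSum

namespace Groth.Agent.Lib.Helper74.GrHomGen

variable {A B : Type*} [CommRing A] [CommRing B] {σ τ : Type*} [SetLike σ A] [AddSubgroupClass σ A]
  [SetLike τ B] [AddSubgroupClass τ B] (𝒜 : ℕ → σ) [GradedRing 𝒜] (ℬ : ℕ → τ) [GradedRing ℬ]

/-- a ring homomorphism sending homogeneous generators to homogeneous elements of the same degree
preserves degrees -/
theorem map_mem_of_generators (φ : A →+* B) (G : Set A) (hG : Subring.closure G = ⊤)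
    (hgen : ∀ g ∈ G, ∃ d, g ∈ 𝒜 d ∧ φ g ∈ ℬ d) {d : ℕ} {x : A} (hx : x ∈ 𝒜 d) : φ x ∈ ℬ d := by
  classical
  have hQ : ∀ m ∈ Submonoid.closure G, ∃ d, m ∈ 𝒜 d ∧ φ m ∈ ℬ d := by
    intro m hm
    induction hm using Submonoid.closure_induction with
    | mem g hg => exact hgen g hg
    | one => exact ⟨0, SetLike.one_mem_graded 𝒜, by rw [map_one]; exact SetLike.one_mem_graded ℬ⟩
    | mul a b _ _ ha hb =>
      obtain ⟨da, ha1, ha2⟩ := ha
      obtain ⟨db, hb1, hb2⟩ := hb
      exact ⟨da + db, SetLike.mul_mem_graded ha1 hb1, by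
        rw [map_mul]; exact SetLike.mul_mem_graded ha2 hb2⟩
  have hP : ∀ y : A, ∀ k, φ (decompose 𝒜 y k : A) ∈ ℬ k := by
    intro y
    have hy : y ∈ Subring.closure G := by rw [hG]; trivial
    rw [Subring.mem_closure_iff] at hy
    induction hy using AddSubgroup.closure_induction with
    | mem m hm =>
      obtain ⟨dm, hm1, hm2⟩ := hQ m hm
      intro k
      by_cases hk : dm = k
      · subst hk
        rw [decompose_of_mem_same 𝒜 hm1]
        exact hm2
      · rw [decompose_of_mem_ne 𝒜 hm1 hk, map_zero]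
        exact zero_mem _
    | zero =>
      intro k
      rw [decompose_zero, DirectSum.zero_apply, ZeroMemClass.coe_zero, map_zero]
      exact zero_mem _
    | add a b _ _ ha hb =>
      intro k
      rw [decompose_add, DirectSum.add_apply, AddMemClass.coe_add, map_add]
      exact add_mem (ha k) (hb k)
    | neg a _ ha =>
      intro k
      have h1 : ((decompose 𝒜 (-a)) k : A) = -((decompose 𝒜 a) k : A) := by
        rw [decompose_neg]
        exact congrArg Subtype.val (DFinsupp.neg_apply (decompose 𝒜 a) k)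
      rw [h1, map_neg]
      exact neg_mem (ha k)
  have := hP x d
  rwa [decompose_of_mem_same 𝒜 hx] at this

end Groth.Agent.Lib.Helper74.GrHomGen
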