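import Groth.Agent.Lib.Helper60.TildeQCoh
import Groth.Prelude.Def_RelProj3

/-!
# Ring-level lemmas on `GrMod.tilde` along a localization at a degree-zero element (helper74)
-/

set_option autoImplicit false
universe u
open CategoryTheory CategoryTheory.Limits AlgebraicGeometry TopologicalSpace Opposite
open scoped HomogeneousIdeal

namespace Groth.Agent.Lib.Helper74.GrModLoc

variable {A σ : Type u} [CommRing A] [SetLike σ A] [AddSubgroupClass σ A] {𝒜 : ℕ → σ} [GradedRing 𝒜]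
variable {M τ : Type u} [AddCommGroup M] [Module A M] [SetLike τ M] [AddSubgroupClass τ M]
  {ℳ : ℕ → τ} [SetLike.GradedSMul 𝒜 ℳ]
variable {B σ' : Type u} [CommRing B] [SetLike σ' B] [AddSubgroupClass σ' B] {ℬ : ℕ → σ'}
  [GradedRing ℬ]
variable {N τ' : Type u} [AddCommGroup N] [Module B N] [SetLike τ' N] [AddSubgroupClass τ' N]
  {𝒩 : ℕ → τ'} [SetLike.GradedSMul ℬ 𝒩]

/-- Every section of `M(n)~` is, near any point, a single fraction. -/
theorem exists_frac {n : ℤ} {V : (Proj 𝒜).Opens} (s : Γ(GrMod.tilde 𝒜 ℳ n, V)) (y : V) :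
    ∃ (V' : (Proj 𝒜).Opens) (hV' : V' ≤ V) (_ : y.1 ∈ V') (i j : ℕ) (m : M) (_ : m ∈ ℳ i) (a : A)
      (_ : a ∈ 𝒜 j) (hnin : ∀ z ∈ V', a ∉ z.asHomogeneousIdeal),
      ((i : ℤ) = j + n ∨ m = 0) ∧ ∀ (z : Proj 𝒜) (hz : z ∈ V'),
        GrMod.val s ⟨z, hV' hz⟩ = LocalizedModule.mk m ⟨a, hnin z hz⟩ := by
  obtain ⟨V', hyV', iV', i, j, ⟨m, hm⟩, ⟨a, ha⟩, nin, c, w⟩ :=
    (show GrMod.sect 𝒜 ℳ n (op V) from s).2 y
  exact ⟨V', iV'.le, hyV', i, j, m, hm, a, ha, fun z hz => nin ⟨z, hz⟩, c, fun z hz => w ⟨z, hz⟩⟩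

theorem mk_congr {x : ProjectiveSpectrum 𝒜} {m m' : M}
    {a a' : x.asHomogeneousIdeal.toIdeal.primeCompl} (hm : m = m') (ha : (a : A) = a') :
    (LocalizedModule.mk m a : GrMod.LocMod 𝒜 (M := M) x) = LocalizedModule.mk m' a' := by
  subst hm
  congr 1
  exact Subtype.ext ha

variable (ψ : 𝒜 →+*ᵍ ℬ) (hψ : ℬ₊ ≤ (𝒜₊).map ψ) (v : M →ₛₗ[ψ.toRingHom] N)

theorem isUnit_notMem {c : B} (hc : IsUnit c) (y : ProjectiveSpectrum ℬ) :
    c ∉ y.asHomogeneousIdeal := fun h =>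
  y.isPrime.ne_top (Ideal.eq_top_of_isUnit_mem _ h hc)

omit [AddSubgroupClass τ M] [SetLike.GradedSMul 𝒜 ℳ] [AddSubgroupClass τ' N]
  [SetLike.GradedSMul ℬ 𝒩] in
/-- Along a localization at `c`, the induced maps of localized modules are injective. -/
theorem locModMap_injective (c : A) (hcu : IsUnit (ψ c))
    (hA2 : ∀ b : B, ∃ (k : ℕ) (a : A), ψ a = ψ c ^ k * b)
    (hM1 : ∀ m : M, v m = 0 → ∃ k : ℕ, c ^ k • m = 0) (y : ProjectiveSpectrum ℬ) :
    Function.Injective (GrMod.locModMap ψ hψ v y) := by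
  rw [injective_iff_map_eq_zero]
  intro q hq
  induction q using LocalizedModule.induction_on with
  | h m s =>
    rw [GrMod.locModMap_mk, ← LocalizedModule.zero_mk (1 : y.asHomogeneousIdeal.toIdeal.primeCompl),
      LocalizedModule.mk_eq] at hq
    obtain ⟨⟨b, hb⟩, hb0⟩ := hq
    simp only [Submonoid.smul_def, smul_zero, OneMemClass.coe_one, one_smul] at hb0
    obtain ⟨k, a', ha'⟩ := hA2 b
    have hcy : ∀ l : ℕ, ψ c ^ l ∉ y.asHomogeneousIdeal := fun l =>
      isUnit_notMem (hcu.pow l) y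
    have ha'y : ψ a' ∉ y.asHomogeneousIdeal := by
      rw [ha']
      intro h
      rcases y.isPrime.mem_or_mem h with h1 | h1
      · exact hcy k h1
      · exact hb h1
    have h0 : v (a' • m) = 0 := by
      rw [LinearMap.map_smulₛₗ]
      change ψ a' • v m = 0
      rw [ha', mul_smul, hb0, smul_zero]
    obtain ⟨l, hl⟩ := hM1 _ h0
    have hmem : c ^ l * a' ∈ (ProjectiveSpectrum.comap ψ hψ y).asHomogeneousIdeal.toIdeal.primeCompl := by
      change ψ (c ^ l * a') ∉ y.asHomogeneousIdeal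
      rw [map_mul, map_pow]
      intro h
      rcases y.isPrime.mem_or_mem h with h1 | h1
      · exact hcy l h1
      · exact ha'y h1
    rw [← LocalizedModule.zero_mk (1 : (ProjectiveSpectrum.comap ψ hψ y).asHomogeneousIdeal.toIdeal.primeCompl),
      LocalizedModule.mk_eq]
    refine ⟨⟨c ^ l * a', hmem⟩, ?_⟩
    simp only [Submonoid.smul_def, smul_zero, OneMemClass.coe_one, one_smul]
    rw [mul_smul]
    exact hl

omit [SetLike.GradedSMul 𝒜 ℳ] [SetLike.GradedSMul ℬ 𝒩] in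
theorem map_decompose [DirectSum.Decomposition ℳ] [DirectSum.Decomposition 𝒩]
    (hv : ∀ (i : ℕ) (m : M), m ∈ ℳ i → v m ∈ 𝒩 i) (m : M) (i : ℕ) :
    v (DirectSum.decompose ℳ m i : M) = (DirectSum.decompose 𝒩 (v m) i : N) := by
  classical
  induction m using DirectSum.Decomposition.inductionOn ℳ with
  | zero => simp
  | @homogeneous j m =>
    by_cases h : j = i
    · subst h
      rw [DirectSum.decompose_of_mem_same ℳ m.2, DirectSum.decompose_of_mem_same 𝒩 (hv _ _ m.2)]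
    · rw [DirectSum.decompose_of_mem_ne ℳ m.2 h, DirectSum.decompose_of_mem_ne 𝒩 (hv _ _ m.2) h,
        map_zero]
  | add m m' hm hm' =>
    simp only [DirectSum.decompose_add, DirectSum.add_apply, AddMemClass.coe_add, map_add, hm, hm']

/-- Along a localization at a degree-zero element `c`, sections of `N(n)~` are locally fractions
coming from `M` and `A`. -/
theorem exists_local_lift [DirectSum.Decomposition ℳ] [DirectSum.Decomposition 𝒩]
    (hv : ∀ (i : ℕ) (m : M), m ∈ ℳ i → v m ∈ 𝒩 i)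
    (c : A) (hc : c ∈ 𝒜 0) (hcu : IsUnit (ψ c))
    (hA2 : ∀ b : B, ∃ (k : ℕ) (a : A), ψ a = ψ c ^ k * b)
    (hM2 : ∀ t : N, ∃ (k : ℕ) (m : M), v m = ψ c ^ k • t)
    {n : ℤ} {V : (Proj ℬ).Opens} (t : Γ(GrMod.tilde ℬ 𝒩 n, V)) (y : V) :
    ∃ (V' : (Proj ℬ).Opens) (hV' : V' ≤ V) (_ : y.1 ∈ V') (i j : ℕ) (m : M) (_ : m ∈ ℳ i) (a : A)
      (_ : a ∈ 𝒜 j) (hnin : ∀ z ∈ V', ψ a ∉ z.asHomogeneousIdeal),
      ((i : ℤ) = j + n ∨ m = 0) ∧ ∀ (z : Proj ℬ) (hz : z ∈ V'),
        GrMod.val t ⟨z, hV' hz⟩ = LocalizedModule.mk (v m) ⟨ψ a, hnin z hz⟩ := by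
  classical
  obtain ⟨V', hV', hyV', i, j, n₀, hn₀, b, hb, hnin, hcond, hval⟩ := exists_frac t y
  have hψc0 : ∀ l : ℕ, ψ c ^ l ∈ ℬ 0 := fun l => by
    have := SetLike.pow_mem_graded l (ψ.map_mem hc)
    simpa using this
  have hcz : ∀ (l : ℕ) (z : Proj ℬ), ψ c ^ l ∉ z.asHomogeneousIdeal := fun l z =>
    isUnit_notMem (hcu.pow l) z
  -- lift the denominator
  obtain ⟨k, a₀, ha₀⟩ := hA2 b
  have hkb : ψ c ^ k * b ∈ ℬ j := by
    have := SetLike.mul_mem_graded (hψc0 k) hb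
    rwa [zero_add] at this
  let a : A := (DirectSum.decompose 𝒜 a₀ j : A)
  have ha : a ∈ 𝒜 j := SetLike.coe_mem _
  have hψa : ψ a = ψ c ^ k * b := by
    change ψ (DirectSum.decompose 𝒜 a₀ j : A) = _
    rw [GradedRingHom.map_directSumDecompose, ha₀, DirectSum.decompose_of_mem_same _ hkb]
  have hanin : ∀ z ∈ V', ψ a ∉ z.asHomogeneousIdeal := by
    intro z hz h
    rw [hψa] at h
    rcases z.isPrime.mem_or_mem h with h1 | h1
    · exact hcz k z h1
    · exact hnin z hz h1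
  by_cases hn0 : n₀ = 0
  · refine ⟨V', hV', hyV', i, j, 0, zero_mem _, a, ha, hanin, Or.inr rfl, fun z hz => ?_⟩
    rw [hval z hz, hn0, map_zero, LocalizedModule.zero_mk, LocalizedModule.zero_mk]
  · have hij : (i : ℤ) = j + n := hcond.resolve_right hn0
    obtain ⟨l, m₀, hm₀⟩ := hM2 n₀
    have hln : ψ c ^ l • n₀ ∈ 𝒩 i := by
      have := SetLike.GradedSMul.smul_mem (hψc0 l) hn₀
      rwa [vadd_eq_add, zero_add] at this
    let m : M := (DirectSum.decompose ℳ m₀ i : M)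
    have hm : m ∈ ℳ i := SetLike.coe_mem _
    have hvm : v m = ψ c ^ l • n₀ := by
      change v (DirectSum.decompose ℳ m₀ i : M) = _
      rw [map_decompose ψ v hv, hm₀, DirectSum.decompose_of_mem_same _ hln]
    have hck : ∀ e : ℕ, c ^ e ∈ 𝒜 0 := fun e => by
      have := SetLike.pow_mem_graded e hc
      simpa using this
    have hm' : c ^ k • m ∈ ℳ i := by
      have := SetLike.GradedSMul.smul_mem (hck k) hm
      rwa [vadd_eq_add, zero_add] at this
    have ha' : c ^ l * a ∈ 𝒜 j := by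
      have := SetLike.mul_mem_graded (hck l) ha
      rwa [zero_add] at this
    have hψa' : ψ (c ^ l * a) = ψ c ^ l * (ψ c ^ k * b) := by
      rw [map_mul, map_pow, hψa]
    have hvm' : v (c ^ k • m) = ψ c ^ k • (ψ c ^ l • n₀) := by
      rw [LinearMap.map_smulₛₗ, hvm]
      change ψ (c ^ k) • _ = _
      rw [map_pow]
    have ha'nin : ∀ z ∈ V', ψ (c ^ l * a) ∉ z.asHomogeneousIdeal := by
      intro z hz h
      rw [map_mul, map_pow] at h
      rcases z.isPrime.mem_or_mem h with h1 | h1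
      · exact hcz l z h1
      · exact hanin z hz h1
    refine ⟨V', hV', hyV', i, j, c ^ k • m, hm', c ^ l * a, ha', ha'nin, Or.inl hij,
      fun z hz => ?_⟩
    rw [hval z hz, LocalizedModule.mk_eq]
    refine ⟨1, ?_⟩
    simp only [Submonoid.smul_def, OneMemClass.coe_one, one_smul]
    rw [hψa', hvm', smul_smul, smul_smul]
    congr 1
    ring

/-- a homomorphism of graded rings as a semilinear map over itself -/
def semilin (ψ : 𝒜 →+*ᵍ ℬ) : A →ₛₗ[ψ.toRingHom] B where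
  toFun := ψ
  map_add' := map_add ψ
  map_smul' a b := map_mul ψ a b

@[simp] theorem semilin_apply (ψ : 𝒜 →+*ᵍ ℬ) (a : A) : semilin ψ a = ψ a := rfl

theorem locMap_eq_locModMap (y : ProjectiveSpectrum ℬ)
    (q : GrTwist.Loc 𝒜 (ProjectiveSpectrum.comap ψ hψ y)) :
    GrTwist.locMap ψ hψ y q = GrMod.locModMap ψ hψ (semilin ψ) y q := by
  induction q using Localization.induction_on with
  | H p =>
    obtain ⟨a, s⟩ := p
    rw [GrTwist.locMap_mk]
    rfl

end Groth.Agent.Lib.Helper74.GrModLoc
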