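import Groth.Agent.Lib.Helper74.SymGraded
import Groth.Agent.Lib.Helper74.GrTransport
import Groth.Agent.Lib.Helper74.SymQCAlg
import Groth.Prelude.Def_RelProj2

set_option autoImplicit false
universe u
open CategoryTheory CategoryTheory.Limits AlgebraicGeometry TopologicalSpace Opposite

noncomputable section

namespace Groth.Agent.Lib.Helper74.GrSym

open RelSpec Groth.Agent.Lib.Helper74.SymQ Groth.Agent.Lib.Helper74.OfAffine

variable {S : Scheme.{u}} (E : S.Modules) [E.IsQuasicoherent] (A : QCAlg S) (j : E ⟶ A.toModule)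
  (hA : IsSymAlg E A j)

/-- the degree-`n` part: the `n`-th power of the image of `E(U)` -/
def degSub (U : S.Opens) (n : ℕ) : Submodule Γ(S, U) (A.presheaf.obj (op U)) :=
  LinearMap.range (jLin j U) ^ n

omit [E.IsQuasicoherent] in
theorem res_mem_degSub {U V : S.Opens} (h : V ≤ U) {n : ℕ} {x : A.presheaf.obj (op U)}
    (hx : x ∈ degSub E A j U n) :
    (A.presheaf.map (homOfLE h).op).hom x ∈ degSub E A j V n := by
  induction hx using Submodule.pow_induction_on_left' with
  | algebraMap r =>
    have := str_res A h r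
    change _ ∈ LinearMap.range (jLin j V) ^ 0
    rw [pow_zero, Submodule.one_eq_range]
    exact ⟨resR h r, by rw [Algebra.linearMap_apply]; exact this.symm⟩
  | add x y i hx hy ihx ihy =>
    rw [map_add]
    exact add_mem ihx ihy
  | mem_mul m hm i x hx ih =>
    obtain ⟨m, rfl⟩ := hm
    rw [map_mul]
    have h1 : (A.presheaf.map (homOfLE h).op).hom (jLin j U m) = jLin j V (resM E h m) :=
      (jLin_res j h m).symm
    rw [h1]
    change _ ∈ LinearMap.range (jLin j V) ^ (i + 1)
    rw [pow_succ']
    exact Submodule.mul_mem_mul (LinearMap.mem_range_self _ _) ih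

include hA in
/-- the graded symmetric algebra structure on a symmetric algebra -/
def grSym : RelProj.QCGrAlg S where
  toQCAlg := A
  deg U _ n := GrTransport.comapGr (RingEquiv.refl _) (degSub E A j U) n
  graded U hU :=
    letI : GradedAlgebra (degSub E A j U) :=
      SymGraded.gradedAlgebra (isSymmetricAlgebra_of_isSymAlg hA U hU)
    inferInstanceAs (GradedRing (GrTransport.comapGr (RingEquiv.refl _) (degSub E A j U)))
  map_mem := by
    intro U V hU hV i d x hx
    exact res_mem_degSub E A j i hx
  str_mem U hU r := by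
    change (A.str.app (op U)).hom r ∈ degSub E A j U 0
    rw [degSub, pow_zero, Submodule.one_eq_range]
    exact ⟨r, rfl⟩

theorem isGrSymAlg_grSym : RelProj.IsGrSymAlg E (grSym E A j hA) j := by
  refine ⟨hA, fun U hU x => ?_⟩
  change (j.app U).hom x ∈ degSub E A j U 1
  rw [degSub, pow_one]
  exact ⟨x, rfl⟩

/-- existence of the graded symmetric algebra of a quasi-coherent module -/
theorem exists_isGrSymAlg :
    ∃ (𝒮 : RelProj.QCGrAlg S) (j : E ⟶ 𝒮.toModule), RelProj.IsGrSymAlg E 𝒮 j :=
  ⟨grSym E (symAlg E) (symJ E) (isSymAlg_symAlg E), symJ E,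
    isGrSymAlg_grSym E (symAlg E) (symJ E) (isSymAlg_symAlg E)⟩

end Groth.Agent.Lib.Helper74.GrSym
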