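import Groth.Agent.Lib.Helper74.QMapTN

/-!
# Immersions detected on compatible open charts of source and target
-/

set_option autoImplicit false
universe u
open CategoryTheory CategoryTheory.Limits AlgebraicGeometry TopologicalSpace Opposite

namespace Groth.Agent.Lib.Helper74.ImmLocal

theorem isOpenImmersion_lift {P UY : Scheme.{u}} (W : P.Opens) (iY : UY ⟶ P) [IsOpenImmersion iY]
    (hW : Set.range iY ⊆ Set.range W.ι) : IsOpenImmersion (IsOpenImmersion.lift W.ι iY hW) := by
  have : IsOpenImmersion (IsOpenImmersion.lift W.ι iY hW ≫ W.ι) := by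
    rw [IsOpenImmersion.lift_fac]; infer_instance
  exact IsOpenImmersion.of_comp _ W.ι

section chart

variable {G P : Scheme.{u}} (r : G ⟶ P) {UX UY : Scheme.{u}}
  (iX : UX ⟶ G) (iY : UY ⟶ P) (f' : UX ⟶ UY)
  [IsOpenImmersion iX] [IsOpenImmersion iY]

/-- a chart square is a pullback when the source chart is the preimage of the target chart -/
theorem isPullback_chart (hcomm : iX ≫ r = f' ≫ iY) (hrange : iX.opensRange = r ⁻¹ᵁ iY.opensRange) :
    IsPullback iX f' r iY :=
  (IsOpenImmersion.isPullback f' iX iY r hcomm hrange.symm).flip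

variable {r iX iY f'}

/-- lifting a chart square through an open of the target containing the chart -/
theorem isPullback_chart_lift (hcomm : iX ≫ r = f' ≫ iY) (hrange : iX.opensRange = r ⁻¹ᵁ iY.opensRange)
    (W : P.Opens) (r' : G ⟶ W) (hr' : r' ≫ W.ι = r) (hW : Set.range iY ⊆ Set.range W.ι) :
    IsPullback iX f' r' (IsOpenImmersion.lift W.ι iY hW) := by
  have : IsOpenImmersion (IsOpenImmersion.lift W.ι iY hW) := isOpenImmersion_lift W iY hW
  refine isPullback_chart r' iX _ f' ?_ ?_
  · rw [← cancel_mono W.ι, Category.assoc, Category.assoc, IsOpenImmersion.lift_fac, hr', hcomm]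
  · ext x
    have h1 : x ∈ iX.opensRange ↔ r x ∈ iY.opensRange := by rw [hrange]; rfl
    refine h1.trans ?_
    constructor
    · rintro ⟨z, hz⟩
      refine ⟨z, ?_⟩
      apply W.ι.isOpenEmbedding.injective
      rw [← Scheme.Hom.comp_apply, IsOpenImmersion.lift_fac, hz, ← Scheme.Hom.comp_apply, hr']
    · rintro ⟨z, hz⟩
      refine ⟨z, ?_⟩
      have := congrArg W.ι hz
      rw [← Scheme.Hom.comp_apply, IsOpenImmersion.lift_fac, ← Scheme.Hom.comp_apply, hr'] at this
      exact this

end chart

section family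

variable {G P : Scheme.{u}} (r : G ⟶ P) {ι : Type*} {UX UY : ι → Scheme.{u}}
  (iX : ∀ a, UX a ⟶ G) (iY : ∀ a, UY a ⟶ P) (f' : ∀ a, UX a ⟶ UY a)
  [∀ a, IsOpenImmersion (iX a)] [∀ a, IsOpenImmersion (iY a)]
  (hcomm : ∀ a, iX a ≫ r = f' a ≫ iY a)
  (hrange : ∀ a, (iX a).opensRange = r ⁻¹ᵁ (iY a).opensRange)

include hcomm hrange in
/-- a property local at the target holds when it holds on charts covering the target -/
theorem of_cover_target {Q : MorphismProperty Scheme.{u}} [IsZariskiLocalAtTarget Q]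
    (hcov : ∀ y : P, ∃ a, y ∈ Set.range (iY a)) (h : ∀ a, Q (f' a)) : Q r := by
  refine QMap.of_forall_exists_isPullback r fun y => ?_
  obtain ⟨a, ha⟩ := hcov y
  exact ⟨UX a, UY a, iX a, iY a, f' a, inferInstance, ha,
    isPullback_chart r (iX a) (iY a) (f' a) (hcomm a) (hrange a), h a⟩

/-- the union of the target charts -/
def W : P.Opens := ⨆ a, (iY a).opensRange

omit [∀ a, IsOpenImmersion (iX a)] in
include hcomm in
theorem range_subset_W (hcov : ∀ x : G, ∃ a, x ∈ Set.range (iX a)) :
    Set.range r ⊆ Set.range (W iY).ι := by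
  rw [Scheme.Opens.range_ι]
  rintro _ ⟨x, rfl⟩
  obtain ⟨a, z, rfl⟩ := hcov x
  refine Opens.mem_iSup.mpr ⟨a, f' a z, ?_⟩
  rw [← Scheme.Hom.comp_apply, ← hcomm a]
  rfl

theorem range_iY_subset_W (a : ι) : Set.range (iY a) ⊆ Set.range (W iY).ι := by
  rw [Scheme.Opens.range_ι]
  rintro _ ⟨z, rfl⟩
  exact Opens.mem_iSup.mpr ⟨a, z, rfl⟩

include hcomm hrange in
/-- a property local at the target holds for the corestriction to the union of the target charts, when the source charts
cover the source -/
theorem of_cover_source {Q : MorphismProperty Scheme.{u}} [IsZariskiLocalAtTarget Q]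
    (hcov : ∀ x : G, ∃ a, x ∈ Set.range (iX a)) (h : ∀ a, Q (f' a)) :
    Q (IsOpenImmersion.lift (W iY).ι r (range_subset_W r iX iY f' hcomm hcov)) := by
  set r' := IsOpenImmersion.lift (W iY).ι r (range_subset_W r iX iY f' hcomm hcov) with hr'
  have hfac : r' ≫ (W iY).ι = r := IsOpenImmersion.lift_fac _ _ _
  refine QMap.of_forall_exists_isPullback r' fun y => ?_
  obtain ⟨a, z, hz⟩ := Opens.mem_iSup.mp y.2
  refine ⟨UX a, UY a, iX a, IsOpenImmersion.lift (W iY).ι (iY a) (range_iY_subset_W iY a), f' a, ?_, ?_,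
    isPullback_chart_lift (hcomm a) (hrange a) (W iY) r' hfac (range_iY_subset_W iY a), h a⟩
  · exact isOpenImmersion_lift (W iY) (iY a) (range_iY_subset_W iY a)
  · refine ⟨z, ?_⟩
    apply (W iY).ι.isOpenEmbedding.injective
    rw [← Scheme.Hom.comp_apply, IsOpenImmersion.lift_fac]
    exact hz

include hcomm hrange in
theorem isImmersion_of_cover (hcov : ∀ x : G, ∃ a, x ∈ Set.range (iX a))
    (h : ∀ a, IsClosedImmersion (f' a)) : IsImmersion r := by
  have h1 : IsClosedImmersion (IsOpenImmersion.lift (W iY).ι r (range_subset_W r iX iY f' hcomm hcov)) :=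
    of_cover_source (Q := @IsClosedImmersion) r iX iY f' hcomm hrange hcov h
  rw [← IsOpenImmersion.lift_fac (W iY).ι r (range_subset_W r iX iY f' hcomm hcov)]
  infer_instance

include hcomm hrange in
theorem isOpenImmersion_of_cover (hcov : ∀ x : G, ∃ a, x ∈ Set.range (iX a))
    (h : ∀ a, IsIso (f' a)) : IsOpenImmersion r := by
  have h1 : IsIso (IsOpenImmersion.lift (W iY).ι r (range_subset_W r iX iY f' hcomm hcov)) :=
    of_cover_source (Q := MorphismProperty.isomorphisms Scheme.{u}) r iX iY f' hcomm hrange hcov h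
  rw [← IsOpenImmersion.lift_fac (W iY).ι r (range_subset_W r iX iY f' hcomm hcov)]
  infer_instance

end family

end Groth.Agent.Lib.Helper74.ImmLocal
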