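import Groth.Agent.Lib.Helper74.ModSec
import Groth.Agent.Lib.Lead.Inv3
import Groth.Agent.Lib.Helper60.TensorMod

/-!
# Isomorphism criterion through local generators (helper74)
-/

set_option autoImplicit false
universe u
open CategoryTheory AlgebraicGeometry TopologicalSpace Opposite

namespace Groth.Agent.Lib.Helper74.ModSec

open Groth.Agent.Lib.Lead.Inv

variable {X : Scheme.{u}}

/-- a morphism carrying a generator to a generator is bijective on the sections over the opens
inside -/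
theorem app_bijective_of_isGen {F G : X.Modules} (φ : F ⟶ G) {W : X.Opens} {g : Γ(F, W)}
    (hg : IsGen F W g) (hg' : IsGen G W (φ.app W g)) (W' : X.Opens) (hW' : W' ≤ W) :
    Function.Bijective (φ.app W') := by
  have h1 := hg W' hW'
  have h2 := hg' W' hW'
  have key : (φ.app W') ∘ (fun r : Γ(X, W') => r • F.presheaf.map (homOfLE hW').op g) =
      (fun r : Γ(X, W') => r • G.presheaf.map (homOfLE hW').op (φ.app W g)) := by
    funext r
    change φ.app W' (r • F.presheaf.map (homOfLE hW').op g) = _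
    rw [Scheme.Modules.Hom.app_smul]
    congr 1
    exact hom_rs φ hW' g
  rw [← key] at h2
  exact (Function.Bijective.of_comp_iff _ h1).1 h2

/-- a morphism which locally carries a generator to a generator is an isomorphism -/
theorem isIso_of_isGen {F G : X.Modules} (φ : F ⟶ G)
    (h : ∀ x : X, ∃ (W : X.Opens) (g : Γ(F, W)), x ∈ W ∧ IsGen F W g ∧ IsGen G W (φ.app W g)) :
    IsIso φ := by
  have hbij : ∀ x : X, ∃ W : X.Opens, x ∈ W ∧ ∀ W' : X.Opens, W' ≤ W →
      Function.Bijective (φ.app W') := by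
    intro x
    obtain ⟨W, g, hx, hg, hg'⟩ := h x
    exact ⟨W, hx, app_bijective_of_isGen φ hg hg'⟩
  choose 𝒲 hx𝒲 h𝒲 using hbij
  have hinj : ∀ W₀ : X.Opens, Function.Injective (φ.app W₀) := by
    intro W₀ s s' hss'
    refine sec_ext_of_locally F s s' fun x hx => ⟨W₀ ⊓ 𝒲 x, inf_le_left, ⟨hx, hx𝒲 x⟩, ?_⟩
    apply (h𝒲 x _ inf_le_right).1
    rw [hom_rs, hom_rs, hss']
  apply Groth.Agent.Lib.Helper60.TensorLib.isIso_of_app_bijective
  intro W₀
  refine ⟨hinj W₀, app_surjective_of_locally φ W₀ (fun W' _ => hinj W') fun t x hx => ?_⟩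
  obtain ⟨σ, hσ⟩ := (h𝒲 x (W₀ ⊓ 𝒲 x) inf_le_right).2 (rs G inf_le_left t)
  exact ⟨W₀ ⊓ 𝒲 x, inf_le_left, ⟨hx, hx𝒲 x⟩, σ, hσ⟩

end Groth.Agent.Lib.Helper74.ModSec
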