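import Groth.Agent.Lib.Helper42.Flat
import Groth.Prelude.Def_ModSite

set_option autoImplicit false
universe u
open CategoryTheory MonoidalCategory Limits Opposite ModSite

namespace Groth.Agent.Lib.Helper74.ModInv

open Groth.Agent.Lib.Helper42.TensorSheaf Groth.Agent.Lib.Helper42.ModSiteLib
open Groth.Agent.Lib.Helper42.TensorColim Groth.Agent.Lib.Helper42.ModSheaf Groth.Agent.Lib.Helper42.Flat

variable {C : Type u} [SmallCategory C] {J : GrothendieckTopology C} (O : Sheaf J CommRingCat.{u})

noncomputable def tensRUnitIso : tensR O (ModSite.unit O) ≅ 𝟭 (Mod O) :=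
  NatIso.ofComponents
    (fun M => (shf O).mapIso (ρ_ ((fgt O).obj M)) ≪≫ (asIso (adjS O).counit).app M)
    (by
      intro M M' f
      change (shf O).map ((fgt O).map f ▷ 𝟙_ (PMod O)) ≫
          ((shf O).map (ρ_ ((fgt O).obj M')).hom ≫ (adjS O).counit.app M') =
        ((shf O).map (ρ_ ((fgt O).obj M)).hom ≫ (adjS O).counit.app M) ≫ f
      rw [← Category.assoc, ← Functor.map_comp, rightUnitor_naturality, Functor.map_comp,
        Category.assoc, Category.assoc]
      congr 1
      exact (adjS O).counit.naturality f)

noncomputable def tensRMapIso {N N' : Mod O} (e : N ≅ N') : tensR O N ≅ tensR O N' :=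
  (tensorBi O).flip.mapIso e

theorem tensR_isEquivalence_of_tensL (L : Mod O) (hL : ((tensorBi O).obj L).IsEquivalence) :
    (tensR O L).IsEquivalence := by
  have : (tensL O L).IsEquivalence := hL
  exact Functor.isEquivalence_of_iso (tensLRIso O L)

theorem tensL_isEquivalence_of_tensR (L : Mod O) (hL : (tensR O L).IsEquivalence) :
    ((tensorBi O).obj L).IsEquivalence := by
  have : (tensL O L).IsEquivalence := Functor.isEquivalence_of_iso (tensLRIso O L).symm
  exact this

theorem tensor_invertible (L N : Mod O) (hL : ((tensorBi O).obj L).IsEquivalence)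
    (hN : ((tensorBi O).obj N).IsEquivalence) :
    ((tensorBi O).obj (((tensorBi O).obj L).obj N)).IsEquivalence := by
  have h1 := tensR_isEquivalence_of_tensL O L hL
  have h2 := tensR_isEquivalence_of_tensL O N hN
  apply tensL_isEquivalence_of_tensR
  have : (tensR O L ⋙ tensR O N).IsEquivalence := inferInstance
  exact Functor.isEquivalence_of_iso (tensRTensorIso O L N).symm

theorem dual_invertible (L : Mod O) (hL : ((tensorBi O).obj L).IsEquivalence) [HasSheafHom L] :
    ((tensorBi O).obj ((sheafHom L).obj (ModSite.unit O))).IsEquivalence ∧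
      IsIso ((sheafHomAdj L).counit.app (ModSite.unit O)) := by
  have hE : ((tensorBi O).flip.obj L).IsEquivalence := tensR_isEquivalence_of_tensL O L hL
  have hcounit : IsIso ((sheafHomAdj L).counit.app (ModSite.unit O)) := inferInstance
  refine ⟨?_, hcounit⟩
  apply tensL_isEquivalence_of_tensR
  let X := (sheafHom L).obj (ModSite.unit O)
  have e : tensR O X ⋙ tensR O L ≅ 𝟭 (Mod O) :=
    (tensRTensorIso O X L).symm ≪≫
      tensRMapIso O (asIso ((sheafHomAdj L).counit.app (ModSite.unit O))) ≪≫ tensRUnitIso O
  have h1 : (tensR O L).IsEquivalence := hE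
  have h2 : (tensR O X ⋙ tensR O L).IsEquivalence := Functor.isEquivalence_of_iso e.symm
  exact Functor.isEquivalence_of_comp_right (tensR O X) (tensR O L)

end Groth.Agent.Lib.Helper74.ModInv
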