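import Groth.Prelude.Def_W4c5qllcourbesmultMultCrv
import Mathlib.Algebra.Module.Torsion.Free
import Mathlib.RingTheory.DiscreteValuationRing.Basic
import Mathlib.LinearAlgebra.FreeModule.PID
import Mathlib.RingTheory.AdjoinRoot
import Mathlib.RingTheory.Noetherian.Basic

set_option autoImplicit false

namespace Groth.Agent.Lib.Helper74.MultCrvLib

universe u
open MultCrv Polynomial

variable (R : Type u) [CommRing R] (n : ℕ) (M : Type u) [AddCommGroup M]
  [Module (MultCrv.Rn R n) M] [Module R M] [IsScalarTower R (MultCrv.Rn R n) M]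

theorem finite_Rn : Module.Finite R (MultCrv.Rn R n) :=
  (Polynomial.monic_X_pow n).finite_quotient

theorem finite_base [Module.Finite (MultCrv.Rn R n) M] : Module.Finite R M := by
  have := finite_Rn R n
  exact Module.Finite.trans (MultCrv.Rn R n) M

theorem z_pow_n : MultCrv.z R n ^ n = 0 := by
  change (Ideal.Quotient.mk _ X) ^ n = 0
  rw [← map_pow, Ideal.Quotient.eq_zero_iff_mem]
  exact Ideal.mem_span_singleton_self _

theorem smul_comm' (r : R) (a : MultCrv.Rn R n) (m : M) : r • (a • m) = a • (r • m) :=
  haveI := IsScalarTower.to_smulCommClass (R := R) (A := MultCrv.Rn R n) (M := M)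
  smul_comm r a m


end Groth.Agent.Lib.Helper74.MultCrvLib
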