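import Groth.Prelude.Def_PLie
import Mathlib.Algebra.Lie.Engel
import Mathlib.Algebra.Lie.Solvable
import Mathlib.Algebra.Lie.Nilpotent
import Mathlib.Algebra.Lie.Abelian

set_option autoImplicit false
universe u v w

namespace Groth.Agent.Lib.Helper74.PLieLib

variable {k : Type u} [Field k] {p : ℕ} [Fact p.Prime] [CharP k p]
  {L : Type v} [LieRing L] [LieAlgebra k L]

theorem lie_pmap (φ : PLie.PMap k p L) (x y : L) :
    ⁅φ x, y⁆ = ⁅x, ((LieAlgebra.ad k L x) ^ (p - 1)) y⁆ := by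
  have hp : p = (p - 1) + 1 := (Nat.succ_pred_eq_of_pos (Fact.out : p.Prime).pos).symm
  have h1 : ⁅φ x, y⁆ = (LieAlgebra.ad k L (φ x)) y := rfl
  rw [h1, φ.ad_map x]
  conv_lhs => rw [hp, pow_succ', Module.End.mul_apply, LieAlgebra.ad_apply]

theorem lie_pmap_mem (φ : PLie.PMap k p L) (I : LieIdeal k L) {x : L} (hx : x ∈ I) (y : L) :
    ⁅φ x, y⁆ ∈ I := by
  rw [lie_pmap]
  exact lie_mem_left k L I _ _ hx

theorem lie_pmap_mem' (φ : PLie.PMap k p L) (I : LieIdeal k L) {x : L} (hx : x ∈ I) (y : L) :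
    ⁅y, φ x⁆ ∈ I := by
  rw [← lie_skew]
  exact I.neg_mem (lie_pmap_mem φ I hx y)

omit [Fact (Nat.Prime p)] in
theorem ad_iterate (φ : PLie.PMap k p L) (x : L) (n : ℕ) :
    LieAlgebra.ad k L (φ.toFun^[n] x) = (LieAlgebra.ad k L x) ^ (p ^ n) := by
  induction n generalizing x with
  | zero => simp
  | succ n ih =>
    rw [Function.iterate_succ_apply, ih, φ.ad_map, ← pow_mul, pow_succ']

omit [Fact (Nat.Prime p)] in
theorem isNilpotent_ad_of_isPNilpotent (φ : PLie.PMap k p L) {x : L}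
    (h : PLie.IsPNilpotent φ x) : IsNilpotent (LieAlgebra.ad k L x) := by
  obtain ⟨n, hn⟩ := h
  exact ⟨p ^ n, by rw [← ad_iterate φ, hn, map_zero]⟩

theorem coe_ad_pow (I : LieIdeal k L) (y : I) (n : ℕ) (z : I) :
    (((LieAlgebra.ad k I y) ^ n) z : L) = ((LieAlgebra.ad k L (y : L)) ^ n) (z : L) := by
  induction n generalizing z with
  | zero => simp
  | succ n ih =>
    rw [pow_succ, Module.End.mul_apply, ih, pow_succ, Module.End.mul_apply]
    rfl

theorem isNilpotent_of_forall_isNilpotent_ad [Module.Finite k L] (I : LieIdeal k L)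
    (h : ∀ y ∈ I, IsNilpotent (LieAlgebra.ad k L y)) : LieRing.IsNilpotent I := by
  rw [LieAlgebra.isNilpotent_iff_forall (R := k)]
  intro y
  obtain ⟨n, hn⟩ := h y.1 y.2
  refine ⟨n, ?_⟩
  ext z
  rw [coe_ad_pow, hn]
  simp

theorem isNilpotent_ad_of_mem_of_isNilpotent (I : LieIdeal k L) (hI : LieRing.IsNilpotent I)
    {y : L} (hy : y ∈ I) : IsNilpotent (LieAlgebra.ad k L y) := by
  obtain ⟨n, hn⟩ := LieAlgebra.nilpotent_ad_of_nilpotent_algebra k I
  refine ⟨n + 1, ?_⟩
  ext w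
  rw [pow_succ, Module.End.mul_apply, LieAlgebra.ad_apply]
  have h1 := coe_ad_pow I ⟨y, hy⟩ n ⟨⁅y, w⁆, lie_mem_left k L I y w hy⟩
  rw [hn] at h1
  simpa using h1.symm

open LieAlgebra in
def centralizerModIdeal (I : LieIdeal k L) : LieIdeal k L :=
  { carrier := {y | ∀ z : L, ⁅z, y⁆ ∈ I}
    add_mem' := by
      intro a b ha hb z
      rw [lie_add]
      exact I.add_mem (ha z) (hb z)
    zero_mem' := by
      intro z
      rw [lie_zero]
      exact I.zero_mem
    smul_mem' := by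
      intro c a ha z
      rw [lie_smul]
      exact I.smul_mem c (ha z)
    lie_mem := by
      intro w y hy z
      exact lie_mem_right k L I z _ (hy w) }

theorem mem_centralizerModIdeal (I : LieIdeal k L) (y : L) :
    y ∈ centralizerModIdeal I ↔ ∀ z : L, ⁅z, y⁆ ∈ I := Iff.rfl

open LieAlgebra in
theorem isSolvable_centralizerModIdeal (I : LieIdeal k L) [hI : IsSolvable I] :
    IsSolvable (centralizerModIdeal I) := by
  obtain ⟨m, hm⟩ := (isSolvable_iff k I).mp hI
  rw [LieIdeal.derivedSeries_eq_bot_iff] at hm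
  rw [isSolvable_iff k]
  refine ⟨m + 1, ?_⟩
  rw [LieIdeal.derivedSeries_eq_bot_iff, derivedSeriesOfIdeal_add, eq_bot_iff, ← hm]
  apply derivedSeriesOfIdeal_mono
  rw [derivedSeriesOfIdeal_succ, derivedSeriesOfIdeal_zero, LieSubmodule.lie_le_iff]
  intro a _ b hb
  exact hb a

open LieAlgebra in
theorem radical_stable [Module.Finite k L] (φ : PLie.PMap k p L) {x : L}
    (hx : x ∈ radical k L) : φ x ∈ radical k L := by
  have h1 : φ x ∈ centralizerModIdeal (radical k L) := fun z => lie_pmap_mem' φ _ hx z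
  have h2 : IsSolvable (centralizerModIdeal (radical k L)) := isSolvable_centralizerModIdeal _
  exact (LieIdeal.solvable_iff_le_radical k L _).mp h2 h1

theorem ad_pow_mem (M' : LieSubmodule k L L) (x : L) (j : ℕ) {z : L} (hz : z ∈ M') :
    ((LieAlgebra.ad k L x) ^ j) z ∈ M' := by
  induction j with
  | zero => simpa using hz
  | succ j ih =>
    rw [pow_succ', Module.End.mul_apply, LieAlgebra.ad_apply]
    exact M'.lie_mem ih

theorem exists_lcs_eq_bot [Module.Finite k L] (N : LieIdeal k L) (hN : LieRing.IsNilpotent N) :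
    ∃ m, N.lcs L m = ⊥ := by
  have h1 : LieModule.IsNilpotent N L := by
    rw [LieModule.isNilpotent_iff_forall' (R := k)]
    intro y
    have h2 : LieModule.toEnd k N L y = LieAlgebra.ad k L (y : L) := by
      ext z
      rfl
    rw [h2]
    exact isNilpotent_ad_of_mem_of_isNilpotent N hN y.2
  obtain ⟨m, hm⟩ := (LieModule.isNilpotent_iff k N L).mp h1
  refine ⟨m, ?_⟩
  rw [← LieSubmodule.toSubmodule_eq_bot, LieIdeal.coe_lcs_eq, hm]
  rfl

def addSpan (N : LieIdeal k L) (a : L) (ha : ∀ z : L, ⁅z, a⁆ ∈ N) : LieIdeal k L :=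
  { toSubmodule := N.toSubmodule ⊔ Submodule.span k {a}
    lie_mem := by
      intro z y hy
      obtain ⟨n, hn, s, hs, rfl⟩ := Submodule.mem_sup.mp hy
      obtain ⟨c, rfl⟩ := Submodule.mem_span_singleton.mp hs
      apply Submodule.mem_sup_left
      rw [lie_add, lie_smul]
      exact N.add_mem (lie_mem_right k L N z n hn) (N.smul_mem c (ha z)) }

theorem mem_addSpan (N : LieIdeal k L) (a : L) (ha : ∀ z : L, ⁅z, a⁆ ∈ N) (y : L) :
    y ∈ addSpan N a ha ↔ ∃ n ∈ N, ∃ c : k, y = n + c • a := by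
  change y ∈ N.toSubmodule ⊔ Submodule.span k {a} ↔ _
  rw [Submodule.mem_sup]
  constructor
  · rintro ⟨n, hn, s, hs, rfl⟩
    obtain ⟨c, rfl⟩ := Submodule.mem_span_singleton.mp hs
    exact ⟨n, hn, c, rfl⟩
  · rintro ⟨n, hn, c, rfl⟩
    exact ⟨n, hn, c • a, Submodule.mem_span_singleton.mpr ⟨c, rfl⟩, rfl⟩

theorem nilradical_stable [Module.Finite k L] (φ : PLie.PMap k p L) (N : LieIdeal k L)
    (hN : LieRing.IsNilpotent N)
    (hmax : ∀ I : LieIdeal k L, LieRing.IsNilpotent I → I ≤ N) {x : L} (hx : x ∈ N) :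
    φ x ∈ N := by
  obtain ⟨m, hm⟩ := exists_lcs_eq_bot N hN
  have ha : ∀ z : L, ⁅z, φ x⁆ ∈ N := fun z => lie_pmap_mem' φ N hx z
  have hI : LieRing.IsNilpotent (addSpan N (φ x) ha) := by
    apply isNilpotent_of_forall_isNilpotent_ad
    intro y hy
    obtain ⟨n, hn, c, rfl⟩ := (mem_addSpan N (φ x) ha y).mp hy
    have step : ∀ (j : ℕ) (z : L), z ∈ N.lcs L j →
        (LieAlgebra.ad k L (n + c • φ x)) z ∈ N.lcs L (j + 1) := by
      intro j z hz
      rw [LieAlgebra.ad_apply, add_lie, smul_lie, LieIdeal.lcs_succ, lie_pmap]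
      refine (⁅N, N.lcs L j⁆).add_mem (LieSubmodule.lie_mem_lie hn hz)
        ((⁅N, N.lcs L j⁆).smul_mem c (LieSubmodule.lie_mem_lie hx (ad_pow_mem _ x (p - 1) hz)))
    have hpow : ∀ (j : ℕ) (w : L), ((LieAlgebra.ad k L (n + c • φ x)) ^ j) w ∈ N.lcs L j := by
      intro j
      induction j with
      | zero => intro w; simp
      | succ j ih =>
        intro w
        rw [pow_succ', Module.End.mul_apply]
        exact step j _ (ih w)
    refine ⟨m, ?_⟩
    ext w
    have := hpow m w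
    rw [hm] at this
    simpa using this
  have hle := hmax _ hI
  apply hle
  rw [mem_addSpan]
  exact ⟨0, N.zero_mem, 1, by simp⟩

omit [Fact (Nat.Prime p)] in
theorem isNilpotent_of_pIdeal_forall_isPNilpotent [Module.Finite k L] (φ : PLie.PMap k p L)
    (I : LieIdeal k L) (hnil : ∀ x ∈ I, PLie.IsPNilpotent φ x) : LieRing.IsNilpotent I :=
  isNilpotent_of_forall_isNilpotent_ad I fun x hx => isNilpotent_ad_of_isPNilpotent φ (hnil x hx)

theorem nilradical_eq_pRadical_iff_center_le [Module.Finite k L] (φ : PLie.PMap k p L)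
    (N : LieIdeal k L) (hN : LieRing.IsNilpotent N)
    (hNmax : ∀ I : LieIdeal k L, LieRing.IsNilpotent I → I ≤ N)
    (P : LieIdeal k L) (hPsub : ∀ x ∈ P, φ x ∈ P) (hPnil : ∀ x ∈ P, PLie.IsPNilpotent φ x)
    (hPmax : ∀ J : LieIdeal k L, (∀ x ∈ J, φ x ∈ J) → (∀ x ∈ J, PLie.IsPNilpotent φ x) → J ≤ P) :
    N = P ↔ LieAlgebra.center k L ≤ P := by
  constructor
  · rintro rfl
    apply hNmax
    infer_instance
  · intro hc
    apply le_antisymm
    · apply hPmax N (fun x hx => nilradical_stable φ N hN hNmax hx)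
      intro x hx
      obtain ⟨n, hn⟩ := isNilpotent_ad_of_mem_of_isNilpotent N hN hx
      have hp1 : 1 < p := (Fact.out : p.Prime).one_lt
      have hle : n ≤ p ^ n := (Nat.lt_pow_self hp1).le
      have h0 : LieAlgebra.ad k L (φ.toFun^[n] x) = 0 := by
        rw [ad_iterate, ← Nat.sub_add_cancel hle, pow_add, hn, mul_zero]
      have hmem : φ.toFun^[n] x ∈ LieAlgebra.center k L := by
        rw [LieModule.mem_maxTrivSubmodule]
        intro z
        rw [← lie_skew]
        have : ⁅φ.toFun^[n] x, z⁆ = (LieAlgebra.ad k L (φ.toFun^[n] x)) z := rfl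
        rw [this, h0]
        simp
      obtain ⟨j, hj⟩ := hPnil _ (hc hmem)
      exact ⟨j + n, by rw [Function.iterate_add_apply, hj]⟩
    · exact hNmax P (isNilpotent_of_pIdeal_forall_isPNilpotent φ P hPnil)

end Groth.Agent.Lib.Helper74.PLieLib
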