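import Groth.Agent.Lib.Helper74.PullbackBC

set_option autoImplicit false
universe u
open CategoryTheory CategoryTheory.Limits AlgebraicGeometry TopologicalSpace Opposite

namespace Groth.Agent.Lib.Helper74.PbSpan

open Scheme.Modules Groth.Agent.Lib.Helper74.PullbackBC

/-- in a pushout of commutative rings every element is a sum of products -/
theorem mem_addClosure_of_isPushout {R A B X : CommRingCat.{u}} {f : R ⟶ A} {g : R ⟶ B}
    {a : A ⟶ X} {b : B ⟶ X} (H : IsPushout f g a b) (y : X) :
    y ∈ AddSubgroup.closure {x : X | ∃ (s : A) (t : B), x = a.hom s * b.hom t} := by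
  have hmul : ∀ x ∈ AddSubgroup.closure {x : X | ∃ (s : A) (t : B), x = a.hom s * b.hom t},
      ∀ y ∈ AddSubgroup.closure {x : X | ∃ (s : A) (t : B), x = a.hom s * b.hom t},
      x * y ∈ AddSubgroup.closure {x : X | ∃ (s : A) (t : B), x = a.hom s * b.hom t} := by
    intro x hx
    induction hx using AddSubgroup.closure_induction with
    | mem x hx =>
      obtain ⟨s, t, rfl⟩ := hx
      intro y hy
      induction hy using AddSubgroup.closure_induction with
      | mem y hy =>
        obtain ⟨s', t', rfl⟩ := hy
        refine AddSubgroup.subset_closure ⟨s * s', t * t', ?_⟩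
        rw [map_mul, map_mul]; ring
      | zero => rw [mul_zero]; exact zero_mem _
      | add y z _ _ hy hz => rw [mul_add]; exact add_mem hy hz
      | neg y _ hy => rw [mul_neg]; exact neg_mem hy
    | zero => intro y _; rw [zero_mul]; exact zero_mem _
    | add x z _ _ hx hz => intro y hy; rw [add_mul]; exact add_mem (hx y hy) (hz y hy)
    | neg x _ hx => intro y hy; rw [neg_mul]; exact neg_mem (hx y hy)
  have h := CommRingCat.closure_range_union_range_eq_top_of_isPushout H
  have hy : y ∈ Subring.closure (Set.range a ∪ Set.range b) := by rw [h]; trivial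
  induction hy using Subring.closure_induction with
  | mem x hx =>
    rcases hx with ⟨s, rfl⟩ | ⟨t, rfl⟩
    · exact AddSubgroup.subset_closure ⟨s, 1, by rw [map_one, mul_one]⟩
    · exact AddSubgroup.subset_closure ⟨1, t, by rw [map_one, one_mul]⟩
  | zero => exact zero_mem _
  | one => exact AddSubgroup.subset_closure ⟨1, 1, by rw [map_one, map_one, mul_one]⟩
  | add x y _ _ hx hy => exact add_mem hx hy
  | neg x _ hx => exact neg_mem hx
  | mul x y _ _ hx hy => exact hmul x hx y hy

variable {X Y : Scheme.{u}} (f : X ⟶ Y) (G : Y.Modules) [G.IsQuasicoherent]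
  {U : X.Opens} {V : Y.Opens} (hU : IsAffineOpen U) (hV : IsAffineOpen V) (e : U ≤ f ⁻¹ᵁ V)

include hU hV in
/-- the sections of a pullback over an affine open are spanned by the pulled back sections -/
theorem span_unitSec :
    Submodule.span Γ(X, U) (Set.range (unitSec f G e)) = ⊤ := by
  set N := Submodule.span Γ(X, U) (Set.range (unitSec f G e)) with hN
  obtain ⟨g0, -, huniq⟩ := existsUnique_lift f G hU hV e (Γ((Scheme.Modules.pullback f).obj G, U) ⧸ N) 0
    (fun a m => by simp)
  have h1 : N.mkQ = g0 := huniq N.mkQ fun m => by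
    rw [AddMonoidHom.zero_apply, Submodule.mkQ_apply, Submodule.Quotient.mk_eq_zero]
    exact Submodule.subset_span ⟨m, rfl⟩
  have h2 : (0 : Γ((Scheme.Modules.pullback f).obj G, U) →ₗ[Γ(X, U)] Γ((Scheme.Modules.pullback f).obj G, U) ⧸ N) = g0 :=
    huniq 0 fun m => rfl
  have h3 : N.mkQ = 0 := h1.trans h2.symm
  rw [← Submodule.ker_mkQ N, h3, LinearMap.ker_zero]

end Groth.Agent.Lib.Helper74.PbSpan
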