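import Groth.Agent.Lib.Helper74.RelConeProj
import Mathlib.AlgebraicGeometry.IdealSheaf.Basic

set_option autoImplicit false
universe u
open CategoryTheory CategoryTheory.Limits AlgebraicGeometry TopologicalSpace Opposite
open scoped HomogeneousIdeal
open HomogeneousLocalization

namespace Groth.Agent.Lib.Helper74.RelConeProj

section alg

variable {A B σ τ : Type u} [CommRing A] [SetLike σ A] [AddSubgroupClass σ A]
  [CommRing B] [SetLike τ B] [AddSubgroupClass τ B]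
  {𝒜 : ℕ → σ} {ℬ : ℕ → τ} [GradedRing 𝒜] [GradedRing ℬ]

theorem powers_le_comap_of_eq (f : 𝒜 →+*ᵍ ℬ) {s : A} {s' : B} (h : f s = s') :
    Submonoid.powers s ≤ (Submonoid.powers s').comap f := by
  rintro _ ⟨n, rfl⟩
  exact ⟨n, by rw [← h]; simp⟩

theorem awayι_comp_map_of_eq (f : 𝒜 →+*ᵍ ℬ) (hf : ℬ₊ ≤ 𝒜₊.map f) {d : ℕ} (hd : 0 < d) {s : A}
    (hs : s ∈ 𝒜 d) {s' : B} (hs' : s' ∈ ℬ d) (h : f s = s') :
    Proj.awayι ℬ s' hs' hd ≫ Proj.map f hf =
      Spec.map (CommRingCat.ofHom (HomogeneousLocalization.map f (powers_le_comap_of_eq f h))) ≫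
        Proj.awayι 𝒜 s hs hd := by
  subst h
  exact Proj.awayι_comp_map f hf hd s hs

end alg

variable {Y : Scheme.{u}} {𝒮 𝒮h : RelProj.QCGrAlg Y} {ι : 𝒮.toQCAlg ⟶ 𝒮h.toQCAlg}
  {z : 𝒮h.presheaf.obj (op ⊤)} (hz : RelCone.IsPolyOver 𝒮 𝒮h ι z)

theorem res_zAt {U V : Y.Opens} (hU : IsAffineOpen U) (hV : IsAffineOpen V) (i : V ≤ U) :
    𝒮h.res hU hV i (zAt hz U) = zAt hz V := by
  change (𝒮h.presheaf.map (homOfLE i).op).hom ((𝒮h.presheaf.map (homOfLE le_top).op).hom z) = _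
  rw [← CommRingCat.comp_apply, ← 𝒮h.presheaf.map_comp]
  rfl

theorem res_ι {U V : Y.Opens} (i : V ≤ U) (x : 𝒮.presheaf.obj (op U)) :
    (𝒮h.presheaf.map (homOfLE i).op).hom ((ι.hom.app (op U)).hom x) =
      (ι.hom.app (op V)).hom ((𝒮.presheaf.map (homOfLE i).op).hom x) := by
  have := congrArg (fun ψ => ψ.hom x) (ι.hom.naturality (homOfLE i).op)
  exact this.symm

/-- restriction of the homogeneous localizations at `z` -/
noncomputable def awayRes {U V : Y.Opens} (hU : IsAffineOpen U) (hV : IsAffineOpen V) (i : V ≤ U) :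
    Away (𝒮h.deg U hU) (zAt hz U) →+* Away (𝒮h.deg V hV) (zAt hz V) :=
  HomogeneousLocalization.map (𝒮h.res hU hV i)
    (powers_le_comap_of_eq (𝒮h.res hU hV i) (res_zAt hz hU hV i))

theorem awayRes_frac {U V : Y.Opens} (hU : IsAffineOpen U) (hV : IsAffineOpen V) (i : V ≤ U)
    (k : ℕ) (x : 𝒮.presheaf.obj (op U)) (hx : x ∈ 𝒮.deg U hU k) :
    awayRes hz hU hV i (ConeAlg.frac (ιAt hz U hU) (hz.deg_z U hU) k x hx) =
      ConeAlg.frac (ιAt hz V hV) (hz.deg_z V hV) k ((𝒮.presheaf.map (homOfLE i).op).hom x)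
        (𝒮.map_mem hU hV i hx) := by
  apply HomogeneousLocalization.val_injective
  rw [ConeAlg.val_frac]
  change (HomogeneousLocalization.map (𝒮h.res hU hV i) _ (HomogeneousLocalization.mk _)).val = _
  rw [HomogeneousLocalization.map_mk, HomogeneousLocalization.val_mk]
  congr 1
  · exact res_ι i x
  · apply Subtype.ext
    change 𝒮h.res hU hV i (zAt hz U ^ k) = zAt hz V ^ k
    rw [map_pow, res_zAt]

theorem awayZToBase_awayRes {U V : Y.Opens} (hU : IsAffineOpen U) (hV : IsAffineOpen V)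
    (i : V ≤ U) :
    (hz.awayZToBase V hV).comp (awayRes hz hU hV i) =
      (𝒮.presheaf.map (homOfLE i).op).hom.comp (hz.awayZToBase U hU) := by
  refine ConeAlg.ringHom_ext_of_frac (ιAt hz U hU) (hz.deg_z U hU) _ _ (surj hz U hU) ?_
  intro k x hx
  rw [RingHom.comp_apply, RingHom.comp_apply, awayRes_frac, awayZToBase_frac, awayZToBase_frac]

section glue

variable {PC : Scheme.{u}} {pC : PC ⟶ Y}
  (chartC : ∀ (U : Y.Opens) (hU : IsAffineOpen U),
    (((pC ⁻¹ᵁ U : PC.Opens) : Scheme.{u}) ≅ Proj (𝒮h.deg U hU)))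

/-- the local piece of the cone immersion -/
noncomputable def coneLocal (U : Y.Opens) (hU : IsAffineOpen U) :
    Spec (𝒮.presheaf.obj (op U)) ⟶ PC :=
  Spec.map (CommRingCat.ofHom (hz.awayZToBase U hU)) ≫
    Proj.awayι (𝒮h.deg U hU) (zAt hz U) (hz.deg_z U hU) one_pos ≫ RelProj.emb pC chartC U hU

variable {chartC}

theorem coneLocal_basicOpen (hPC : RelProj.IsRelProj 𝒮h pC chartC) (U : Y.Opens)
    (hU : IsAffineOpen U) (r : Γ(Y, U)) :
    Spec.map (𝒮.presheaf.map (homOfLE (Y.basicOpen_le r)).op) ≫ coneLocal hz chartC U hU =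
      coneLocal hz chartC (Y.basicOpen r) (hU.basicOpen r) := by
  have h1 := awayι_comp_map_of_eq (𝒮h.res hU (hU.basicOpen r) (Y.basicOpen_le r))
    (𝒮h.irrelevant_le_map U hU r) one_pos (hz.deg_z U hU) (hz.deg_z _ (hU.basicOpen r))
    (res_zAt hz hU (hU.basicOpen r) (Y.basicOpen_le r))
  have h2 := congrArg CommRingCat.ofHom
    (awayZToBase_awayRes hz hU (hU.basicOpen r) (Y.basicOpen_le r))
  rw [CommRingCat.ofHom_comp, CommRingCat.ofHom_comp, CommRingCat.ofHom_hom] at h2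
  simp only [coneLocal]
  rw [← RelProj.map_res_emb hPC U hU r, reassoc_of% h1, ← Spec.map_comp_assoc,
    ← Spec.map_comp_assoc]
  congr 2
  exact h2.symm

theorem coneLocal_of_eq (hPC : RelProj.IsRelProj 𝒮h pC chartC) {U V : Y.Opens}
    (hU : IsAffineOpen U) (hV : IsAffineOpen V) (r : Γ(Y, U)) (e : Y.basicOpen r = V)
    (i : V ≤ U) :
    Spec.map (𝒮.presheaf.map (homOfLE i).op) ≫ coneLocal hz chartC U hU =
      coneLocal hz chartC V hV := by
  subst e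
  exact coneLocal_basicOpen hz hPC U hU r

/-- the cocone on the charts of the affine cone defining the cone immersion -/
noncomputable def coneCocone (hPC : RelProj.IsRelProj 𝒮h pC chartC) :
    Cocone 𝒮.toQCAlg.glueData.functor where
  pt := PC
  ι :=
    { app := fun U => coneLocal hz chartC U.1 U.2
      naturality := fun V U j => by
        obtain ⟨r, e⟩ := j.le
        refine (coneLocal_of_eq hz hPC U.2 V.2 r e _).trans (Category.comp_id _).symm }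

theorem exists_coneImm (hPC : RelProj.IsRelProj 𝒮h pC chartC) :
    ∃ i : 𝒮.toQCAlg.spec ⟶ PC, RelCone.IsConeImm 𝒮 hz pC chartC i :=
  ⟨colimit.desc 𝒮.toQCAlg.glueData.functor (coneCocone hz hPC), fun U hU =>
    colimit.ι_desc (coneCocone hz hPC) ⟨U, hU⟩⟩

theorem coneImm_unique {i i' : 𝒮.toQCAlg.spec ⟶ PC}
    (hi : RelCone.IsConeImm 𝒮 hz pC chartC i) (hi' : RelCone.IsConeImm 𝒮 hz pC chartC i') :
    i = i' := by
  refine Scheme.Cover.hom_ext 𝒮.toQCAlg.glueData.cover _ _ fun U => ?_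
  change 𝒮.toQCAlg.ι U.1 U.2 ≫ i = 𝒮.toQCAlg.ι U.1 U.2 ≫ i'
  rw [hi U.1 U.2, hi' U.1 U.2]

end glue

section props

variable {PC : Scheme.{u}} {pC : PC ⟶ Y}
  {chartC : ∀ (U : Y.Opens) (hU : IsAffineOpen U),
    (((pC ⁻¹ᵁ U : PC.Opens) : Scheme.{u}) ≅ Proj (𝒮h.deg U hU))}
  {i : 𝒮.toQCAlg.spec ⟶ PC}

theorem coneImm_preimage (hPC : RelProj.IsRelProj 𝒮h pC chartC)
    (hi : RelCone.IsConeImm 𝒮 hz pC chartC i) (U : Y.Opens) (hU : IsAffineOpen U) :
    i ⁻¹ᵁ (pC ⁻¹ᵁ U) = (𝒮.toQCAlg.ι U hU).opensRange := by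
  rw [← 𝒮.toQCAlg.π_preimage U hU, ← coneImm_comp hz hPC hi]
  rfl

/-- A property local at the target holds for the cone immersion if it holds chartwise. -/
theorem coneImm_of_forall (Q : MorphismProperty Scheme.{u}) [IsZariskiLocalAtTarget Q]
    (hPC : RelProj.IsRelProj 𝒮h pC chartC)
    (hi : RelCone.IsConeImm 𝒮 hz pC chartC i)
    (H : ∀ (U : Y.Opens) (hU : IsAffineOpen U),
      Q (Spec.map (CommRingCat.ofHom (hz.awayZToBase U hU)) ≫
        Proj.awayι (𝒮h.deg U hU) (zAt hz U) (hz.deg_z U hU) one_pos)) : Q i := by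
  refine IsZariskiLocalAtTarget.of_iSup_eq_top (P := Q)
    (fun U : Y.affineOpens => pC ⁻¹ᵁ U.1) (RelProjLib.iSup_preimage_eq_top pC) ?_
  intro U
  have heq := coneImm_preimage hz hPC hi U.1 U.2
  let e : Arrow.mk (i ∣_ (pC ⁻¹ᵁ U.1)) ≅ Arrow.mk
      ((Spec.map (CommRingCat.ofHom (hz.awayZToBase U.1 U.2)) ≫
        Proj.awayι (𝒮h.deg U.1 U.2) (zAt hz U.1) (hz.deg_z U.1 U.2) one_pos) ≫
          (chartC U.1 U.2).inv) :=
    Arrow.isoMk (𝒮.toQCAlg.spec.isoOfEq heq ≪≫ (𝒮.toQCAlg.ι U.1 U.2).isoOpensRange.symm)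
      (Iso.refl _) (by
      rw [← cancel_mono (pC ⁻¹ᵁ U.1).ι]
      simp only [Arrow.mk_left, Arrow.mk_right, Arrow.mk_hom, Iso.refl_hom, Category.assoc,
        Category.comp_id, morphismRestrict_ι, Iso.trans_hom, Iso.symm_hom]
      have h1 := hi U.1 U.2
      simp only [RelProj.emb] at h1
      rw [← h1, Scheme.Hom.isoOpensRange_inv_comp_assoc, Scheme.isoOfEq_hom_ι_assoc])
  rw [MorphismProperty.arrow_mk_iso_iff Q e, MorphismProperty.cancel_right_of_respectsIso (P := Q)]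
  exact H U.1 U.2

theorem isOpenImmersion_coneImm (hPC : RelProj.IsRelProj 𝒮h pC chartC)
    (hi : RelCone.IsConeImm 𝒮 hz pC chartC i) : IsOpenImmersion i := by
  refine coneImm_of_forall hz @IsOpenImmersion hPC hi fun U hU => ?_
  have := isIso_specMap_awayZToBase hz U hU
  infer_instance

theorem isAffineHom_awayι {A σ : Type u} [CommRing A] [SetLike σ A] [AddSubgroupClass σ A]
    (𝒜 : ℕ → σ) [GradedRing 𝒜] {d : ℕ} {f : A} (hf : f ∈ 𝒜 d) (hd : 0 < d) :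
    IsAffineHom (Proj.awayι 𝒜 f hf hd) := by
  have : IsAffineHom (Proj.awayι 𝒜 f hf hd ≫ Proj.toSpecZero 𝒜) := by
    rw [Proj.awayι_toSpecZero]
    infer_instance
  exact IsAffineHom.of_comp (Proj.awayι 𝒜 f hf hd) (Proj.toSpecZero 𝒜)

theorem isAffineHom_coneImm (hPC : RelProj.IsRelProj 𝒮h pC chartC)
    (hi : RelCone.IsConeImm 𝒮 hz pC chartC i) : IsAffineHom i := by
  refine coneImm_of_forall hz @IsAffineHom hPC hi fun U hU => ?_
  have := isAffineHom_awayι (𝒮h.deg U hU) (hz.deg_z U hU) one_pos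
  infer_instance

theorem range_coneImm_eq (hPC : RelProj.IsRelProj 𝒮h pC chartC)
    (hi : RelCone.IsConeImm 𝒮 hz pC chartC i) (Xz : PC.Opens)
    (hXz : ∀ (U : Y.Opens) (hU : IsAffineOpen U),
      Xz ⊓ pC ⁻¹ᵁ U = (pC ⁻¹ᵁ U).ι ''ᵁ ((chartC U hU).hom ⁻¹ᵁ
        Proj.basicOpen (𝒮h.deg U hU) (zAt hz U))) :
    Set.range i.base = (Xz : Set PC) := by
  ext x
  obtain ⟨U, hxU⟩ := TopologicalSpace.Opens.mem_iSup.mp
    ((iSup_affineOpens_eq_top Y).ge (Set.mem_univ (pC x)))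
  have hx : x ∈ pC ⁻¹ᵁ U.1 := hxU
  obtain ⟨x', rfl⟩ := exists_emb_eq (chartC := chartC) U.1 U.2 x hx
  rw [emb_mem_range_coneImm_iff hz hPC hi U.1 U.2 x']
  have h1 : RelProj.emb pC chartC U.1 U.2 x' ∈ (Xz : Set PC) ↔
      RelProj.emb pC chartC U.1 U.2 x' ∈ Xz ⊓ pC ⁻¹ᵁ U.1 :=
    ⟨fun h => ⟨h, hx⟩, fun h => h.1⟩
  rw [h1, hXz U.1 U.2]
  constructor
  · intro h
    refine ⟨(chartC U.1 U.2).inv x', ?_, rfl⟩
    change (chartC U.1 U.2).hom ((chartC U.1 U.2).inv x') ∈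
      Proj.basicOpen (𝒮h.deg U.1 U.2) (zAt hz U.1)
    have : (chartC U.1 U.2).hom ((chartC U.1 U.2).inv x') = x' := by
      change ((chartC U.1 U.2).inv ≫ (chartC U.1 U.2).hom) x' = x'
      rw [Iso.inv_hom_id]
      rfl
    rw [this]
    exact h
  · rintro ⟨w, hw, hwx⟩
    have hw' : (chartC U.1 U.2).hom w ∈ Proj.basicOpen (𝒮h.deg U.1 U.2) (zAt hz U.1) := hw
    have h2 : w = (chartC U.1 U.2).inv x' := by
      apply (pC ⁻¹ᵁ U.1).ι.isOpenEmbedding.injective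
      exact hwx
    rw [h2] at hw'
    have : (chartC U.1 U.2).hom ((chartC U.1 U.2).inv x') = x' := by
      change ((chartC U.1 U.2).inv ≫ (chartC U.1 U.2).hom) x' = x'
      rw [Iso.inv_hom_id]
      rfl
    rwa [this] at hw'

section ker

/-- `D₊(f) ∩ D₊(g) = D₊(f g)` as a pullback square of affine schemes -/
theorem isPullback_awayMap {A σ : Type u} [CommRing A] [SetLike σ A] [AddSubgroupClass σ A]
    (𝒜 : ℕ → σ) [GradedRing 𝒜] {m m' : ℕ} {f g : A} (f_deg : f ∈ 𝒜 m) (hm : 0 < m)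
    (g_deg : g ∈ 𝒜 m') (hm' : 0 < m') {x : A} (hx : x = f * g) :
    IsPullback (Spec.map (CommRingCat.ofHom (awayMap 𝒜 g_deg hx)))
      (Spec.map (CommRingCat.ofHom (awayMap 𝒜 f_deg (hx.trans (mul_comm _ _)))))
      (Proj.awayι 𝒜 f f_deg hm) (Proj.awayι 𝒜 g g_deg hm') := by
  refine IsPullback.of_iso_pullback ⟨?_⟩ (Proj.pullbackAwayιIso 𝒜 f_deg hm g_deg hm' hx).symm
    (Proj.pullbackAwayιIso_inv_fst 𝒜 f_deg hm g_deg hm' hx)
    (Proj.pullbackAwayιIso_inv_snd 𝒜 f_deg hm g_deg hm' hx)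
  rw [Proj.SpecMap_awayMap_awayι, Proj.SpecMap_awayMap_awayι]
  congr 1
  exact add_comm _ _

theorem ker_specMap_eq_bot {R S : CommRingCat.{u}} (φ : R ⟶ S)
    (hφ : Function.Injective φ.hom) :
    (Spec.map φ).ker.ideal ⟨⊤, isAffineOpen_top (Spec R)⟩ = ⊥ := by
  rw [Scheme.Hom.ker_apply]
  rw [eq_bot_iff]
  intro x hx
  rw [RingHom.mem_ker] at hx
  rw [Ideal.mem_bot]
  have h1 : ((Spec.map φ).app ⊤ ≫ (Scheme.ΓSpecIso S).hom).hom x = 0 := by
    rw [CommRingCat.hom_comp, RingHom.comp_apply]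
    change (Scheme.ΓSpecIso S).hom.hom (((Spec.map φ).app ⊤).hom x) = 0
    have hx' : ((Spec.map φ).app ⊤).hom x = 0 := hx
    rw [hx']
    exact map_zero _
  have h2 : (Spec.map φ).app ⊤ ≫ (Scheme.ΓSpecIso S).hom = (Scheme.ΓSpecIso R).hom ≫ φ :=
    Scheme.ΓSpecIso_naturality φ
  rw [h2, CommRingCat.hom_comp, RingHom.comp_apply] at h1
  have h3 := hφ (h1.trans (map_zero _).symm)
  exact (ConcreteCategory.bijective_of_isIso (Scheme.ΓSpecIso R).hom).1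
    (h3.trans (map_zero _).symm)

theorem isPullback_coneImm_chart (hPC : RelProj.IsRelProj 𝒮h pC chartC)
    (hi : RelCone.IsConeImm 𝒮 hz pC chartC i) (U : Y.Opens) (hU : IsAffineOpen U) :
    haveI := isIso_specMap_awayZToBase hz U hU
    IsPullback (Proj.awayι (𝒮h.deg U hU) (zAt hz U) (hz.deg_z U hU) one_pos)
      (inv (Spec.map (CommRingCat.ofHom (hz.awayZToBase U hU))) ≫ 𝒮.toQCAlg.ι U hU)
      (RelProj.emb pC chartC U hU) i := by
  haveI := isIso_specMap_awayZToBase hz U hU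
  apply IsOpenImmersion.isPullback
  · rw [Category.assoc, hi U hU, IsIso.inv_hom_id_assoc]
  · rw [Scheme.Hom.opensRange_comp_of_isIso]
    have h1 : (RelProj.emb pC chartC U hU).opensRange = pC ⁻¹ᵁ U := by
      unfold RelProj.emb
      rw [Scheme.Hom.opensRange_comp_of_isIso, Scheme.Opens.opensRange_ι]
    rw [h1]
    exact coneImm_preimage hz hPC hi U hU

/-- the affine charts `D₊(f) ⊆ Proj 𝒮h(U) ⊆ PC` -/
noncomputable def awayChart (chartC : ∀ (U : Y.Opens) (hU : IsAffineOpen U),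
      (((pC ⁻¹ᵁ U : PC.Opens) : Scheme.{u}) ≅ Proj (𝒮h.deg U hU)))
    (U : Y.Opens) (hU : IsAffineOpen U) {d : ℕ} (f : 𝒮h.presheaf.obj (op U))
    (hf : f ∈ 𝒮h.deg U hU d) (hd : 0 < d) :
    Spec (CommRingCat.of (Away (𝒮h.deg U hU) f)) ⟶ PC :=
  Proj.awayι (𝒮h.deg U hU) f hf hd ≫ RelProj.emb pC chartC U hU

instance (U : Y.Opens) (hU : IsAffineOpen U) {d : ℕ} (f : 𝒮h.presheaf.obj (op U))
    (hf : f ∈ 𝒮h.deg U hU d) (hd : 0 < d) : IsOpenImmersion (awayChart chartC U hU f hf hd) := by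
  unfold awayChart
  infer_instance

/-- the affine open `D₊(f)` of `PC` -/
noncomputable def awayOpen (chartC : ∀ (U : Y.Opens) (hU : IsAffineOpen U),
      (((pC ⁻¹ᵁ U : PC.Opens) : Scheme.{u}) ≅ Proj (𝒮h.deg U hU)))
    (U : Y.Opens) (hU : IsAffineOpen U) {d : ℕ} (f : 𝒮h.presheaf.obj (op U))
    (hf : f ∈ 𝒮h.deg U hU d) (hd : 0 < d) : PC.affineOpens :=
  ⟨awayChart chartC U hU f hf hd ''ᵁ ⊤,
    (isAffineOpen_top _).image_of_isOpenImmersion (awayChart chartC U hU f hf hd)⟩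

theorem iSup_awayOpen :
    ⨆ j : (Σ U : Y.affineOpens, Σ d : ℕ+, 𝒮h.deg U.1 U.2 d),
      ((awayOpen chartC j.1.1 j.1.2 (j.2.2 : 𝒮h.presheaf.obj _) j.2.2.2 j.2.1.2 : PC.affineOpens) :
        PC.Opens) = ⊤ := by
  refine eq_top_iff.mpr fun x _ => ?_
  obtain ⟨U, hxU⟩ := TopologicalSpace.Opens.mem_iSup.mp
    ((iSup_affineOpens_eq_top Y).ge (Set.mem_univ (pC x)))
  have hx : x ∈ pC ⁻¹ᵁ U.1 := hxU
  obtain ⟨x', rfl⟩ := exists_emb_eq (chartC := chartC) U.1 U.2 x hx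
  obtain ⟨⟨d, f⟩, q, rfl⟩ := (Proj.affineOpenCover (𝒮h.deg U.1 U.2)).openCover.exists_eq x'
  exact TopologicalSpace.Opens.mem_iSup.mpr ⟨⟨U, d, f⟩, ⟨q, trivial, rfl⟩⟩

theorem ker_coneImm_ideal (hPC : RelProj.IsRelProj 𝒮h pC chartC)
    (hi : RelCone.IsConeImm 𝒮 hz pC chartC i) (U : Y.Opens) (hU : IsAffineOpen U) {d : ℕ}
    (f : 𝒮h.presheaf.obj (op U)) (hf : f ∈ 𝒮h.deg U hU d) (hd : 0 < d) :
    i.ker.ideal (awayOpen chartC U hU f hf hd) = ⊥ := by
  haveI : IsAffineHom i := isAffineHom_coneImm hz hPC hi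
  haveI := isIso_specMap_awayZToBase hz U hU
  have hL := isPullback_awayMap (𝒮h.deg U hU) hf hd (hz.deg_z U hU) one_pos
    (rfl : f * zAt hz U = f * zAt hz U)
  have hR := isPullback_coneImm_chart hz hPC hi U hU
  have hLR : IsPullback (Spec.map (CommRingCat.ofHom (awayMap (𝒮h.deg U hU) (hz.deg_z U hU)
      (rfl : f * zAt hz U = f * zAt hz U)))) _ (awayChart chartC U hU f hf hd) i :=
    (hL.flip.paste_horiz hR.flip).flip
  have hker := Scheme.ker_ideal_of_isPullback_of_isOpenImmersion i _ _ _ hLR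
    ⟨⊤, isAffineOpen_top _⟩
  rw [ker_specMap_eq_bot _ (ConeAlg.awayMap_injective (ιAt hz U hU) (hz.deg_z U hU)
    (hz.bij U hU).1 (hz.bij U hU).2 hf rfl)] at hker
  rw [eq_bot_iff]
  intro x hx
  obtain ⟨y, rfl⟩ := (ConcreteCategory.bijective_of_isIso
    ((awayChart chartC U hU f hf hd).appIso ⊤).inv).2 x
  have hy : y ∈ (⊥ : Ideal _) := by
    rw [hker]
    exact hx
  rw [Ideal.mem_bot] at hy
  rw [hy, map_zero]
  exact zero_mem _

theorem ker_coneImm (hPC : RelProj.IsRelProj 𝒮h pC chartC)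
    (hi : RelCone.IsConeImm 𝒮 hz pC chartC i) : i.ker = ⊥ := by
  refine Scheme.IdealSheafData.ext_of_iSup_eq_top _ (iSup_awayOpen (chartC := chartC))
    fun j => ?_
  rw [ker_coneImm_ideal hz hPC hi, Scheme.IdealSheafData.ideal_bot]
  rfl

end ker

end props

end Groth.Agent.Lib.Helper74.RelConeProj
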