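import Groth.Agent.Lib.Helper74.TrivGrading
import Groth.Agent.Lib.Helper74.RelConeProj2
import Mathlib.AlgebraicGeometry.Morphisms.IsIso

set_option autoImplicit false
universe u
open CategoryTheory CategoryTheory.Limits AlgebraicGeometry TopologicalSpace Opposite
open scoped HomogeneousIdeal
open HomogeneousLocalization

namespace Groth.Agent.Lib.Helper74.TrivGr

variable {Y : Scheme.{u}}

/-- a quasi-coherent algebra with the trivial grading -/
noncomputable def trivGr (𝒜 : RelSpec.QCAlg Y) : RelProj.QCGrAlg Y where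
  toQCAlg := 𝒜
  deg U _ := trivDeg (𝒜.presheaf.obj (op U))
  graded U hU := inferInstance
  map_mem := by
    intro U V hU hV i d x hx
    by_cases hd : d = 0
    · subst hd; exact mem_trivDeg_zero _
    · rw [eq_zero_of_mem_trivDeg hd hx, map_zero]; exact zero_mem _
  str_mem U hU r := mem_trivDeg_zero _

variable (𝒜 : RelSpec.QCAlg Y) (Sh : RelProj.QCGrAlg Y) (ι : 𝒜 ⟶ Sh.toQCAlg)
  (hι : ∀ (U : Y.Opens) (hU : IsAffineOpen U) (a : 𝒜.presheaf.obj (op U)),
    (ι.hom.app (op U)).hom a ∈ Sh.deg U hU 0)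
  (z : Sh.presheaf.obj (op ⊤))
  (hz : ∀ (U : Y.Opens) (hU : IsAffineOpen U),
    (Sh.presheaf.map (homOfLE le_top).op).hom z ∈ Sh.deg U hU 1)
  (hpoly : ∀ (U : Y.Opens) (hU : IsAffineOpen U),
    Function.Bijective (Polynomial.eval₂RingHom (ι.hom.app (op U)).hom
      ((Sh.presheaf.map (homOfLE le_top).op).hom z)))

include hι hz hpoly in
theorem isPolyOver : RelCone.IsPolyOver (trivGr 𝒜) Sh ι z where
  graded U hU d x hx := by
    by_cases hd : d = 0
    · subst hd; exact hι U hU x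
    · have hx0 : x = 0 := eq_zero_of_mem_trivDeg hd hx
      rw [hx0, map_zero]; exact zero_mem _
  deg_z := hz
  bij := hpoly

variable {𝒜 Sh ι z}

/-- positive degree elements of `𝒜[z]` are multiples of `z` -/
theorem mem_span_z (hpo : RelCone.IsPolyOver (trivGr 𝒜) Sh ι z) (U : Y.Opens)
    (hU : IsAffineOpen U) {n : ℕ} (hn : 0 < n) {b : Sh.presheaf.obj (op U)}
    (hb : b ∈ Sh.deg U hU n) : b ∈ Ideal.span {RelConeProj.zAt hpo U} := by
  obtain ⟨a, ha, rfl⟩ := ConeAlg.exists_decomp (RelConeProj.ιAt hpo U hU) (hpo.deg_z U hU)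
    (RelConeProj.surj hpo U hU) n b hb
  refine Ideal.sum_mem _ fun j hj => ?_
  have hjn : j ≤ n := Nat.lt_succ_iff.mp (Finset.mem_range.mp hj)
  rcases Nat.eq_or_lt_of_le hjn with rfl | hlt
  · obtain ⟨m, rfl⟩ : ∃ m, j = m + 1 := ⟨j - 1, by omega⟩
    rw [pow_succ, ← mul_assoc]
    exact Ideal.mul_mem_left _ _ (Ideal.mem_span_singleton_self _)
  · have h0 : a j = 0 := eq_zero_of_mem_trivDeg (by omega) (ha j)
    rw [h0, map_zero, zero_mul]
    exact zero_mem _

theorem basicOpen_z_eq_top (hpo : RelCone.IsPolyOver (trivGr 𝒜) Sh ι z) (U : Y.Opens)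
    (hU : IsAffineOpen U) :
    Proj.basicOpen (Sh.deg U hU) (RelConeProj.zAt hpo U) = ⊤ := by
  rw [_root_.eq_top_iff]
  intro y _
  rw [Proj.mem_basicOpen]
  intro hzy
  apply y.not_irrelevant_le
  rw [HomogeneousIdeal.irrelevant_le]
  intro n hn b hb
  have h1 := mem_span_z hpo U hU hn hb
  exact (Ideal.span_singleton_le_iff_mem (I := y.asHomogeneousIdeal.toIdeal)).mpr hzy h1

theorem isIso_awayι_z (hpo : RelCone.IsPolyOver (trivGr 𝒜) Sh ι z) (U : Y.Opens)
    (hU : IsAffineOpen U) :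
    IsIso (Proj.awayι (Sh.deg U hU) (RelConeProj.zAt hpo U) (hpo.deg_z U hU) one_pos) := by
  apply isIso_of_isOpenImmersion_of_opensRange_eq_top
  rw [Proj.opensRange_awayι, basicOpen_z_eq_top hpo U hU]

variable {P : Scheme.{u}} {p : P ⟶ Y}
  {chart : ∀ (U : Y.Opens) (hU : IsAffineOpen U),
    (((p ⁻¹ᵁ U : P.Opens) : Scheme.{u}) ≅ Proj (Sh.deg U hU))}

theorem isIso_coneImm (hpo : RelCone.IsPolyOver (trivGr 𝒜) Sh ι z)
    (hP : RelProj.IsRelProj Sh p chart) (i : (trivGr 𝒜).toQCAlg.spec ⟶ P)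
    (hi : RelCone.IsConeImm (trivGr 𝒜) hpo p chart i) : IsIso i := by
  have key : (MorphismProperty.isomorphisms Scheme.{u}) i := by
    refine RelConeProj.coneImm_of_forall hpo (MorphismProperty.isomorphisms Scheme.{u}) hP hi
      fun U hU => ?_
    change IsIso _
    have h1 := RelConeProj.isIso_specMap_awayZToBase hpo U hU
    have h2 := isIso_awayι_z hpo U hU
    infer_instance
  exact key

/-- the prescribed `θ` is `awayZToBase` -/
theorem theta_eq (hpo : RelCone.IsPolyOver (trivGr 𝒜) Sh ι z) (U : Y.Opens) (hU : IsAffineOpen U)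
    (θ : CommRingCat.of (Away (Sh.deg U hU) ((Sh.presheaf.map (homOfLE le_top).op).hom z)) ⟶
      𝒜.presheaf.obj (op U))
    (hθ : ∀ (q : Away (Sh.deg U hU) ((Sh.presheaf.map (homOfLE le_top).op).hom z))
      (k : ℕ) (a : 𝒜.presheaf.obj (op U)),
        q.val = Localization.mk ((ι.hom.app (op U)).hom a *
            (Sh.presheaf.map (homOfLE le_top).op).hom z ^ k)
          ⟨(Sh.presheaf.map (homOfLE le_top).op).hom z ^ k,
            pow_mem (Submonoid.mem_powers ((Sh.presheaf.map (homOfLE le_top).op).hom z)) k⟩ →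
        θ.hom q = a) :
    θ = CommRingCat.ofHom (hpo.awayZToBase U hU) := by
  apply CommRingCat.hom_ext
  refine ConeAlg.ringHom_ext_of_frac (RelConeProj.ιAt hpo U hU) (hpo.deg_z U hU) _ _
    (RelConeProj.surj hpo U hU) fun k x hx => ?_
  change θ.hom _ = hpo.awayZToBase U hU _
  rw [RelConeProj.awayZToBase_frac hpo U hU k x hx]
  by_cases hk : k = 0
  · subst hk
    refine hθ _ 0 x ?_
    rw [ConeAlg.val_frac]
    congr 1
    rw [pow_zero, mul_one]
    rfl
  · have hx0 : x = 0 := eq_zero_of_mem_trivDeg hk hx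
    subst hx0
    refine hθ _ k 0 ?_
    rw [ConeAlg.val_frac]
    congr 1
    rw [map_zero, map_zero, zero_mul]

end Groth.Agent.Lib.Helper74.TrivGr
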