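import Groth.Agent.Lib.Helper74.PolyAlg
import Groth.Agent.Lib.Helper74.PolyProj

set_option autoImplicit false
universe u
open CategoryTheory CategoryTheory.Limits AlgebraicGeometry TopologicalSpace Opposite Polynomial

noncomputable section

namespace Groth.Agent.Lib.Helper74.PolyAlg

open RelSpec Groth.Agent.Lib.Helper74.OfAffine Groth.Agent.Lib.Helper74.PolyGr
open Groth.Agent.Lib.Helper74.TrivGr

variable {S : Scheme.{u}} (𝒜 : RelSpec.QCAlg S)

/-- morphisms from a presheaf to a quasi-coherent algebra agreeing on affine opens are equal -/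
theorem presheafHom_ext_affine (ℱ : TopCat.Presheaf CommRingCat.{u} S.carrier) (B : QCAlg S)
    {f g : ℱ ⟶ B.presheaf}
    (h : ∀ (U : S.Opens) (_ : IsAffineOpen U), f.app (op U) = g.app (op U)) : f = g := by
  apply (Functor.IsCoverDense.restrictHomEquivHom (G := Scheme.AffineZariskiSite.toOpensFunctor S)
    (K := Opens.grothendieckTopology S) (ℱ := ℱ)
    (ℱ' := (⟨B.presheaf, B.isSheaf⟩ : TopCat.Sheaf CommRingCat.{u} S.carrier))).symm.injective
  ext U : 2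
  exact h U.unop.1 U.unop.2

/-- the constants, as a map of presheaves -/
def Cnat : 𝒜.presheaf ⟶ polyP 𝒜 where
  app U := CommRingCat.ofHom (C : _ →+* (𝒜.presheaf.obj U)[X])
  naturality {U V} i := by
    ext a
    change C ((𝒜.presheaf.map i).hom a) = Polynomial.map (𝒜.presheaf.map i).hom (C a)
    rw [Polynomial.map_C]

/-- the inclusion of the constants `𝒜 ⟶ 𝒜[z]` -/
def polyι : 𝒜 ⟶ polyQC 𝒜 where
  hom := Cnat 𝒜 ≫ Ψ 𝒜
  comm := by
    refine presheafHom_ext_affine _ (polyQC 𝒜) fun U hU => ?_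
    ext r
    apply (secIso 𝒜 U hU).injective
    rw [secIso_str 𝒜 U hU]
    change secIso 𝒜 U hU (((Ψ 𝒜).app (op U)).hom (C ((𝒜.str.app (op U)).hom r))) = _
    rw [← secIso_symm_apply 𝒜 U hU, RingEquiv.apply_symm_apply]

theorem polyι_apply (U : S.Opens) (a : 𝒜.presheaf.obj (op U)) :
    ((polyι 𝒜).hom.app (op U)).hom a = ((Ψ 𝒜).app (op U)).hom (C a) := rfl

/-- the variable -/
def polyz : (polyQC 𝒜).presheaf.obj (op ⊤) := ((Ψ 𝒜).app (op ⊤)).hom X

theorem polyz_res (U : S.Opens) :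
    ((polyQC 𝒜).presheaf.map (homOfLE (le_top : U ≤ ⊤)).op).hom (polyz 𝒜) =
      ((Ψ 𝒜).app (op U)).hom X := by
  rw [polyz, ← Ψ_res, Polynomial.map_X]

theorem secIso_ι (U : S.Opens) (hU : IsAffineOpen U) (a : 𝒜.presheaf.obj (op U)) :
    secIso 𝒜 U hU (((polyι 𝒜).hom.app (op U)).hom a) = C a := by
  rw [polyι_apply, ← secIso_symm_apply 𝒜 U hU, RingEquiv.apply_symm_apply]

theorem secIso_z (U : S.Opens) (hU : IsAffineOpen U) :
    secIso 𝒜 U hU (((polyQC 𝒜).presheaf.map (homOfLE (le_top : U ≤ ⊤)).op).hom (polyz 𝒜)) = X := by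
  rw [polyz_res, ← secIso_symm_apply 𝒜 U hU, RingEquiv.apply_symm_apply]

/-- `polyι` with its target in graded form -/
def polyιG : 𝒜 ⟶ (polyGr 𝒜).toQCAlg := polyι 𝒜

/-- `polyz` in graded form -/
def polyzG : (polyGr 𝒜).presheaf.obj (op ⊤) := polyz 𝒜

/-- `secIso` in graded form -/
def secIsoG (U : S.Opens) (hU : IsAffineOpen U) :
    (polyGr 𝒜).presheaf.obj (op U) ≃+* (𝒜.presheaf.obj (op U))[X] := secIso 𝒜 U hU

theorem mem_deg_iff (U : S.Opens) (hU : IsAffineOpen U) (n : ℕ) (x : (polyGr 𝒜).presheaf.obj (op U)) :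
    x ∈ (polyGr 𝒜).deg U hU n ↔ secIsoG 𝒜 U hU x ∈ polyDeg _ n := Iff.rfl

theorem secIsoG_ι (U : S.Opens) (hU : IsAffineOpen U) (a : 𝒜.presheaf.obj (op U)) :
    secIsoG 𝒜 U hU (((polyιG 𝒜).hom.app (op U)).hom a) = C a := secIso_ι 𝒜 U hU a

theorem secIsoG_z (U : S.Opens) (hU : IsAffineOpen U) :
    secIsoG 𝒜 U hU (((polyGr 𝒜).presheaf.map (homOfLE (le_top : U ≤ ⊤)).op).hom (polyzG 𝒜)) = X :=
  secIso_z 𝒜 U hU

theorem secIsoG_str (U : S.Opens) (hU : IsAffineOpen U) (r : Γ(S, U)) :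
    secIsoG 𝒜 U hU (((polyGr 𝒜).str.app (op U)).hom r) = C ((𝒜.str.app (op U)).hom r) :=
  secIso_str 𝒜 U hU r

theorem isPolyOver_poly :
    RelCone.IsPolyOver (trivGr 𝒜) (polyGr 𝒜) (polyιG 𝒜) (polyzG 𝒜) := by
  refine TrivGr.isPolyOver 𝒜 (polyGr 𝒜) (polyιG 𝒜) ?_ (polyzG 𝒜) ?_ ?_
  · intro U hU a
    rw [mem_deg_iff, secIsoG_ι]
    exact C_mem a
  · intro U hU
    rw [mem_deg_iff, secIsoG_z]
    exact X_mem
  · intro U hU
    have : (Polynomial.eval₂RingHom ((polyιG 𝒜).hom.app (op U)).hom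
        (((polyGr 𝒜).presheaf.map (homOfLE le_top).op).hom (polyzG 𝒜)) : _ → _) =
        (secIsoG 𝒜 U hU).symm := by
      funext q
      apply (secIsoG 𝒜 U hU).injective
      rw [RingEquiv.apply_symm_apply, Polynomial.coe_eval₂RingHom]
      have h0 := Polynomial.hom_eval₂ q ((polyιG 𝒜).hom.app (op U)).hom
        (secIsoG 𝒜 U hU).toRingHom
        (((polyGr 𝒜).presheaf.map (homOfLE le_top).op).hom (polyzG 𝒜))
      refine h0.trans ?_
      have h1 : ((secIsoG 𝒜 U hU).toRingHom.comp ((polyιG 𝒜).hom.app (op U)).hom) = C := by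
        refine RingHom.ext fun a => ?_
        exact secIsoG_ι 𝒜 U hU a
      rw [h1]
      have h2 : (secIsoG 𝒜 U hU).toRingHom
          (((polyGr 𝒜).presheaf.map (homOfLE le_top).op).hom (polyzG 𝒜)) = X := secIsoG_z 𝒜 U hU
      rw [h2, Polynomial.eval₂_C_X]
    rw [this]
    exact (secIsoG 𝒜 U hU).symm.bijective

end Groth.Agent.Lib.Helper74.PolyAlg
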