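import Groth.Agent.Lib.Helper74.GrTransport
import Mathlib.Algebra.Polynomial.Eval.Coeff
import Mathlib.Algebra.Polynomial.AlgebraMap

set_option autoImplicit false
open DirectSum Polynomial

namespace Groth.Agent.Lib.Helper74.PolyGr

variable (R : Type*) [CommRing R]

/-- the grading of `R[X]` by degree, by additive subgroups -/
noncomputable def polyDeg : ℕ → AddSubgroup R[X] :=
  GrTransport.comapGr (Polynomial.toFinsuppIso R) (AddMonoidAlgebra.grade R : ℕ → Submodule R _)

noncomputable instance : GradedRing (polyDeg R) :=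
  inferInstanceAs (GradedRing (GrTransport.comapGr (Polynomial.toFinsuppIso R)
    (AddMonoidAlgebra.grade R : ℕ → Submodule R _)))

variable {R}

theorem mem_polyDeg_iff {n : ℕ} {p : R[X]} : p ∈ polyDeg R n ↔ ∃ a : R, p = monomial n a := by
  change (Polynomial.toFinsuppIso R p) ∈ AddMonoidAlgebra.grade R n ↔ _
  rw [AddMonoidAlgebra.mem_grade_iff']
  constructor
  · rintro ⟨a, ha⟩
    refine ⟨a, ?_⟩
    apply Polynomial.toFinsupp_injective
    rw [Polynomial.toFinsupp_monomial]
    exact ha.symm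
  · rintro ⟨a, rfl⟩
    refine ⟨a, ?_⟩
    change _ = (monomial n a).toFinsupp
    rw [Polynomial.toFinsupp_monomial]
    rfl

theorem monomial_mem (n : ℕ) (a : R) : monomial n a ∈ polyDeg R n := mem_polyDeg_iff.2 ⟨a, rfl⟩

theorem C_mem (a : R) : C a ∈ polyDeg R 0 := by
  rw [← monomial_zero_left]; exact monomial_mem 0 a

theorem X_mem : (X : R[X]) ∈ polyDeg R 1 := by
  rw [← monomial_one_one_eq_X]; exact monomial_mem 1 1

theorem map_mem {R' : Type*} [CommRing R'] (f : R →+* R') {n : ℕ} {p : R[X]}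
    (hp : p ∈ polyDeg R n) : p.map f ∈ polyDeg R' n := by
  obtain ⟨a, rfl⟩ := mem_polyDeg_iff.1 hp
  rw [Polynomial.map_monomial]
  exact monomial_mem n (f a)

end Groth.Agent.Lib.Helper74.PolyGr
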