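import Groth.Agent.Lib.Helper74.SymQHom
import Groth.Agent.Lib.Helper74.GrHomGen
import Groth.Agent.Lib.Helper74.QMapBC

set_option autoImplicit false
universe u
open CategoryTheory CategoryTheory.Limits AlgebraicGeometry TopologicalSpace Opposite

noncomputable section

namespace Groth.Agent.Lib.Helper74.ProjBundleBC

open RelSpec Groth.Agent.Lib.Helper74.SymQ Groth.Agent.Lib.Helper74.SymQHom

variable {Y Y' : Scheme.{u}} (ψ : Y' ⟶ Y) (E : Y.Modules) [E.IsQuasicoherent]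
  (𝒮 : RelProj.QCGrAlg Y) (j : E ⟶ 𝒮.toModule) (hj : RelProj.IsGrSymAlg E 𝒮 j)
  (𝒮' : RelProj.QCGrAlg Y') (j' : (Scheme.Modules.pullback ψ).obj E ⟶ 𝒮'.toModule)
  (hj' : RelProj.IsGrSymAlg ((Scheme.Modules.pullback ψ).obj E) 𝒮' j')

include hj in
theorem closure_eq_top (U : Y.Opens) (hU : IsAffineOpen U) :
    Subring.closure (Set.range (𝒮.str.app (op U)).hom ∪ Set.range (j.app U).hom) = ⊤ := by
  rw [_root_.eq_top_iff]
  intro x _
  have hsym := isSymmetricAlgebra_of_isSymAlg hj.1 U hU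
  induction x using hsym.induction with
  | algebraMap r => exact Subring.subset_closure (Or.inl ⟨r, rfl⟩)
  | ι m => exact Subring.subset_closure (Or.inr ⟨m, rfl⟩)
  | mul a b ha hb => exact Subring.mul_mem _ (ha trivial) (hb trivial)
  | add a b ha hb => exact Subring.add_mem _ (ha trivial) (hb trivial)

/-- the graded `ψ`-morphism `Sym(E) → Sym(ψ^*E)` -/
def symQGrHom : RelProj.QGrHom ψ 𝒮 𝒮' where
  toQHom := symQHom ψ E 𝒮.toQCAlg j hj.1 𝒮'.toQCAlg j'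
  map_mem := by
    intro U hU U' hU' hle d x hx
    refine Groth.Agent.Lib.Helper74.GrHomGen.map_mem_of_generators (𝒮.deg U hU) (𝒮'.deg U' hU')
      ((symQHom ψ E 𝒮.toQCAlg j hj.1 𝒮'.toQCAlg j').appLE U U' hle).hom _
      (closure_eq_top E 𝒮 j hj U hU) ?_ hx
    rintro _ (⟨r, rfl⟩ | ⟨m, rfl⟩)
    · refine ⟨0, 𝒮.str_mem U hU r, ?_⟩
      have h1 := congr($((symQHom ψ E 𝒮.toQCAlg j hj.1 𝒮'.toQCAlg j').str_appLE U U' hle).hom r)
      simp only [CommRingCat.hom_comp, RingHom.comp_apply] at h1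
      rw [h1]
      exact 𝒮'.str_mem U' hU' _
    · refine ⟨1, hj.2 U hU m, ?_⟩
      have h1 := symQHom_j ψ E 𝒮.toQCAlg j hj.1 𝒮'.toQCAlg j' U m
      change (𝒮'.presheaf.map (homOfLE hle).op).hom
        (((symQHom ψ E 𝒮.toQCAlg j hj.1 𝒮'.toQCAlg j').app U).hom ((j.app U).hom m)) ∈ _
      erw [h1]
      have h2 := Groth.Agent.Lib.Helper74.PullbackBC.hom_app_res' j' hle
        ((((Scheme.Modules.pullbackPushforwardAdjunction ψ).unit.app E).app U).hom m)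
      erw [h2]
      exact hj'.2 U' hU' _

variable {P P' : Scheme.{u}} {p : P ⟶ Y}
  {chart : ∀ (U : Y.Opens) (hU : IsAffineOpen U),
    (((p ⁻¹ᵁ U : P.Opens) : Scheme.{u}) ≅ Proj (𝒮.deg U hU))}
  {p' : P' ⟶ Y'}
  {chart' : ∀ (U' : Y'.Opens) (hU' : IsAffineOpen U'),
    (((p' ⁻¹ᵁ U' : P'.Opens) : Scheme.{u}) ≅ Proj (𝒮'.deg U' hU'))}

include hj hj' in
theorem exists_isPullback (hP : RelProj.IsRelProj 𝒮 p chart)
    (hP' : RelProj.IsRelProj 𝒮' p' chart') : ∃ g : P' ⟶ P, IsPullback g p' p ψ := by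
  have hbc : RelSpec.IsQBaseChange (symQGrHom ψ E 𝒮 j hj 𝒮' j' hj').toQHom :=
    Groth.Agent.Lib.Helper74.SymPullback.isQBaseChange ψ E 𝒮.toQCAlg j hj.1 𝒮'.toQCAlg j' hj'.1 _
      (symQHom_j ψ E 𝒮.toQCAlg j hj.1 𝒮'.toQCAlg j')
  have hdom := Groth.Agent.Lib.Helper74.QMap.domQ_eq_top_of_forall
    (symQGrHom ψ E 𝒮 j hj 𝒮' j' hj') (p' := p') (chart' := chart')
    (fun U hU U' hU' hle =>
      Groth.Agent.Lib.Helper74.QMap.hirr_of_isQBaseChange _ hbc U hU U' hU' hle)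
  obtain ⟨h, hh⟩ := Groth.Agent.Lib.Helper74.QMap.exists_isProjQMap
    (symQGrHom ψ E 𝒮 j hj 𝒮' j' hj') hP hP' hdom
  exact ⟨h, Groth.Agent.Lib.Helper74.QMap.isPullback_of_isProjQMap _ hP hP' hbc h hh⟩

end Groth.Agent.Lib.Helper74.ProjBundleBC
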