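import Groth.Agent.Lib.Helper74.RelProjLib

set_option autoImplicit false
universe u
open CategoryTheory CategoryTheory.Limits AlgebraicGeometry TopologicalSpace Opposite
open scoped HomogeneousIdeal
open HomogeneousLocalization

namespace Groth.Agent.Lib.Helper74.RelProjLib

section alg

variable {R A : Type*} [CommRing R] [CommRing A] {σ : Type*} [SetLike σ A] [AddSubgroupClass σ A]
  (𝒜 : ℕ → σ) [GradedRing 𝒜] (φ₀ : R →+* 𝒜 0) (T : Finset A)

theorem adjoin_zero_eq_top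
    (hT : ∀ t ∈ T, t ∈ 𝒜 1)
    (hspan : ∀ x ∈ 𝒜 1, ∃ c : A → R, x = ∑ t ∈ T, (φ₀ (c t) : A) * t)
    (hgen : Subring.closure ((𝒜 0 : Set A) ∪ (𝒜 1 : Set A)) = ⊤) :
    Algebra.adjoin (𝒜 0) (T : Set A) = ⊤ := by
  have h : Subring.closure ((𝒜 0 : Set A) ∪ (𝒜 1 : Set A)) ≤
      (Algebra.adjoin (𝒜 0) (T : Set A)).toSubring := by
    rw [Subring.closure_le]
    rintro x (hx | hx)
    · exact (Algebra.adjoin (𝒜 0) (T : Set A)).algebraMap_mem ⟨x, hx⟩
    · obtain ⟨c, rfl⟩ := hspan x hx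
      refine Subalgebra.sum_mem _ fun t ht => ?_
      exact Subalgebra.mul_mem _ ((Algebra.adjoin (𝒜 0) (T : Set A)).algebraMap_mem (φ₀ (c t)))
        (Algebra.subset_adjoin ht)
  rw [hgen] at h
  rw [eq_top_iff]
  intro x _
  exact h (Subring.mem_top x)

theorem finiteType_zero
    (hT : ∀ t ∈ T, t ∈ 𝒜 1)
    (hspan : ∀ x ∈ 𝒜 1, ∃ c : A → R, x = ∑ t ∈ T, (φ₀ (c t) : A) * t)
    (hgen : Subring.closure ((𝒜 0 : Set A) ∪ (𝒜 1 : Set A)) = ⊤) :
    Algebra.FiniteType (𝒜 0) A :=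
  ⟨Subalgebra.fg_def.mpr ⟨(T : Set A), T.finite_toSet, adjoin_zero_eq_top 𝒜 φ₀ T hT hspan hgen⟩⟩

/-- the fraction `t'/t`. -/
noncomputable def frac {t : A} (ht : t ∈ 𝒜 1) (t' : A) : Away 𝒜 t :=
  open Classical in
  if h : t' ∈ 𝒜 1 then Away.mk 𝒜 ht 1 t' (by simpa using h) else 0

theorem fromZero_eq_sum {t : A} (ht : t ∈ 𝒜 1) (a : 𝒜 0) (c : A → R)
    (hT : ∀ t ∈ T, t ∈ 𝒜 1)
    (hc : (a : A) * t = ∑ t' ∈ T, (φ₀ (c t') : A) * t') :
    fromZeroRingHom 𝒜 (Submonoid.powers t) a =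
      ∑ t' ∈ T, fromZeroRingHom 𝒜 (Submonoid.powers t) (φ₀ (c t')) * frac 𝒜 ht t' := by
  classical
  apply HomogeneousLocalization.val_injective
  rw [← HomogeneousLocalization.algebraMap_apply, ← HomogeneousLocalization.algebraMap_apply,
    map_sum]
  let tt : Submonoid.powers t := ⟨t ^ 1, ⟨1, rfl⟩⟩
  have h1 : ∀ t' ∈ T, algebraMap _ (Localization (Submonoid.powers t))
      (fromZeroRingHom 𝒜 (Submonoid.powers t) (φ₀ (c t')) * frac 𝒜 ht t') =
      Localization.mk ((φ₀ (c t') : A) * t') tt := by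
    intro t' ht'
    rw [HomogeneousLocalization.algebraMap_apply, frac, dif_pos (hT t' ht'), HomogeneousLocalization.val_mul, Away.val_mk]
    simp only [fromZeroRingHom, RingHom.coe_mk, MonoidHom.coe_mk, OneHom.coe_mk,
      HomogeneousLocalization.val_mk]
    rw [Localization.mk_mul]
    congr 1
    ext
    simp [tt]
  rw [Finset.sum_congr rfl h1]
  have h2 : ∀ (s : Finset A) (g : A → A), ∑ t' ∈ s, Localization.mk (g t') tt =
      Localization.mk (∑ t' ∈ s, g t') tt := by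
    intro s g
    induction s using Finset.induction_on with
    | empty => simp [Localization.mk_zero]
    | insert x s hx ih =>
      rw [Finset.sum_insert hx, Finset.sum_insert hx, ih, Localization.add_mk_self]
  rw [h2, ← hc, HomogeneousLocalization.algebraMap_apply]
  simp only [fromZeroRingHom, RingHom.coe_mk, MonoidHom.coe_mk, OneHom.coe_mk,
    HomogeneousLocalization.val_mk]
  rw [Localization.mk_eq_mk_iff, Localization.r_iff_exists]
  refine ⟨1, ?_⟩
  have htt : (tt : A) = t := pow_one t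
  simp only [OneMemClass.coe_one, one_mul, htt]
  have h1' : (((1 : 𝒜 0) : A)) = 1 := rfl
  rw [h1']
  ring

theorem finiteType_away
    (hT : ∀ t ∈ T, t ∈ 𝒜 1)
    (hspan : ∀ x ∈ 𝒜 1, ∃ c : A → R, x = ∑ t ∈ T, (φ₀ (c t) : A) * t)
    (hgen : Subring.closure ((𝒜 0 : Set A) ∪ (𝒜 1 : Set A)) = ⊤)
    {t : A} (ht : t ∈ 𝒜 1) :
    ((fromZeroRingHom 𝒜 (Submonoid.powers t)).comp φ₀).FiniteType := by
  classical
  have hft : Algebra.FiniteType (𝒜 0) A := finiteType_zero 𝒜 φ₀ T hT hspan hgen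
  have hB : Algebra.FiniteType (𝒜 0) (Away 𝒜 t) := Away.finiteType t 1 ht
  obtain ⟨G, hGfin, hG⟩ := Subalgebra.fg_def.mp hB.out
  let _ : Algebra R (Away 𝒜 t) := ((fromZeroRingHom 𝒜 (Submonoid.powers t)).comp φ₀).toAlgebra
  change Algebra.FiniteType R (Away 𝒜 t)
  refine ⟨Subalgebra.fg_def.mpr ⟨G ∪ ((T.image (frac 𝒜 ht) : Finset _) : Set (Away 𝒜 t)),
    hGfin.union (Finset.finite_toSet _), ?_⟩⟩
  rw [eq_top_iff]
  intro b _
  have hb : b ∈ Algebra.adjoin (𝒜 0) G := by rw [hG]; trivial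
  induction hb using Algebra.adjoin_induction with
  | mem x hx => exact Algebra.subset_adjoin (Or.inl hx)
  | algebraMap a =>
    have hat : (a : A) * t ∈ 𝒜 1 := by
      have := SetLike.mul_mem_graded a.2 ht
      simpa using this
    obtain ⟨c, hc⟩ := hspan _ hat
    rw [HomogeneousLocalization.algebraMap_eq, fromZero_eq_sum 𝒜 φ₀ T ht a c hT hc]
    refine Subalgebra.sum_mem _ fun t' ht' => ?_
    refine Subalgebra.mul_mem _ ?_ ?_
    · exact Subalgebra.algebraMap_mem _ (c t')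
    · apply Algebra.subset_adjoin
      right
      rw [Finset.mem_coe, Finset.mem_image]
      exact ⟨t', ht', rfl⟩
  | add x y _ _ hx hy => exact Subalgebra.add_mem _ (hx trivial) (hy trivial)
  | mul x y _ _ hx hy => exact Subalgebra.mul_mem _ (hx trivial) (hy trivial)

end alg

section scheme

variable {Y : Scheme.{u}} (𝒮 : RelProj.QCGrAlg Y)

theorem finiteType_zero_of_genDegOne (hgen : 𝒮.IsGenDegOne) (hft : 𝒮.IsFTDeg 1)
    (U : Y.Opens) (hU : IsAffineOpen U) :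
    Algebra.FiniteType (𝒮.deg U hU 0) (𝒮.presheaf.obj (op U)) := by
  obtain ⟨T, hT, hspan⟩ := hft U hU
  exact finiteType_zero (𝒮.deg U hU) (𝒮.strZero U hU).hom T (fun t ht => hT ht) hspan (hgen U hU)

theorem locallyOfFiniteType_of_genDegOne (hgen : 𝒮.IsGenDegOne) (hft : 𝒮.IsFTDeg 1)
    (U : Y.Opens) (hU : IsAffineOpen U) :
    LocallyOfFiniteType (Proj.toSpecZero (𝒮.deg U hU) ≫ Spec.map (𝒮.strZero U hU)) := by
  obtain ⟨T, hT, hspan⟩ := hft U hU
  have hT' : ∀ t ∈ T, t ∈ 𝒮.deg U hU 1 := fun t ht => hT ht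
  have hadj := adjoin_zero_eq_top (𝒮.deg U hU) (𝒮.strZero U hU).hom T hT' hspan (hgen U hU)
  rw [IsZariskiLocalAtSource.iff_of_iSup_eq_top (P := @LocallyOfFiniteType) _
    (Proj.iSup_basicOpen_eq_top' (𝒮.deg U hU) (ι := T) (↑) (fun i ↦ ⟨1, hT' _ i.2⟩)
      (by simpa using hadj))]
  intro i
  rw [← MorphismProperty.cancel_left_of_respectsIso (P := @LocallyOfFiniteType)
    (Proj.basicOpenIsoSpec (𝒮.deg U hU) (i : 𝒮.presheaf.obj (op U)) (hT' _ i.2) Nat.one_pos).inv,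
    ← Category.assoc, ← Proj.awayι, Proj.awayι_toSpecZero_assoc, ← Spec.map_comp,
    HasRingHomProperty.Spec_iff (P := @LocallyOfFiniteType)]
  exact finiteType_away (𝒮.deg U hU) (𝒮.strZero U hU).hom T hT' hspan (hgen U hU) (hT' _ i.2)

variable {𝒮} {P : Scheme.{u}} {p : P ⟶ Y}
  {chart : ∀ (U : Y.Opens) (hU : IsAffineOpen U),
    (((p ⁻¹ᵁ U : P.Opens) : Scheme.{u}) ≅ Proj (𝒮.deg U hU))}

theorem finiteType_of_genDegOne (hP : RelProj.IsRelProj 𝒮 p chart)
    (hgen : 𝒮.IsGenDegOne) (hft : 𝒮.IsFTDeg 1) :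
    LocallyOfFiniteType p ∧ QuasiCompact p := by
  constructor
  · exact of_forall_chart @LocallyOfFiniteType hP
      (fun U hU => locallyOfFiniteType_of_genDegOne 𝒮 hgen hft U hU)
  · refine of_forall_chart @QuasiCompact hP ?_
    intro U hU
    have := finiteType_zero_of_genDegOne 𝒮 hgen hft U hU
    infer_instance

end scheme

end Groth.Agent.Lib.Helper74.RelProjLib
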