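import Groth.Agent.Lib.Helper74.RelTwistLocus
import Groth.Agent.Lib.Helper74.RelProjFT
import Groth.Agent.Lib.Lead.Tw4

/-!
# Serre's theorem on `Proj` of a ring generated in degree one by finitely many elements (helper74)
-/

set_option autoImplicit false
universe u
open CategoryTheory AlgebraicGeometry TopologicalSpace Opposite
open scoped HomogeneousIdeal

namespace Groth.Agent.Lib.Helper74.ProjSerre

open Groth.Agent.Lib.Lead.Inv Groth.Agent.Lib.Helper35.GlobGen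
open Groth.Agent.Lib.Helper74

variable {A σ : Type u} [CommRing A] [SetLike σ A] [AddSubgroupClass σ A] (𝒜 : ℕ → σ) [GradedRing 𝒜]

/-- the section of `O(1)` over `W` given by a degree-one element -/
noncomputable def oneSec (t : A) (ht : t ∈ 𝒜 1) (W : (Proj 𝒜).Opens) : Γ(GrTwist.twist 𝒜 1, W) :=
  TwistNat.fracSec 𝒜 t ht 1 SetLike.GradedOne.one_mem (by simp) W (fun z _ => GrMod.one_nin z)

theorem oneSec_res (t : A) (ht : t ∈ 𝒜 1) {W W' : (Proj 𝒜).Opens} (h : W' ≤ W) :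
    (GrTwist.twist 𝒜 1).presheaf.map (homOfLE h).op (oneSec 𝒜 t ht W) = oneSec 𝒜 t ht W' := by
  refine TwistNat.sec_ext 𝒜 1 _ _ fun y => ?_
  rw [TwistNat.res_val]
  rfl

theorem isGen_oneSec (t : A) (ht : t ∈ 𝒜 1) (W : (Proj 𝒜).Opens)
    (hW : ∀ y ∈ W, t ∉ y.asHomogeneousIdeal) :
    IsGen (GrTwist.twist 𝒜 1) W (oneSec 𝒜 t ht W) :=
  TwistNat.isGen_fracSec 𝒜 _ _ _ _ _ W _ hW

/-- the global section of `O(1)` as a morphism -/
noncomputable def oneHom (t : A) (ht : t ∈ 𝒜 1) :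
    Coh.structureModule (Proj 𝒜) ⟶ GrTwist.twist 𝒜 1 :=
  secHom _ (oneSec 𝒜 t ht ⊤)

theorem val_oneHom (t : A) (ht : t ∈ 𝒜 1) (W : (Proj 𝒜).Opens) :
    val (oneHom 𝒜 t ht) W = oneSec 𝒜 t ht W := by
  rw [oneHom, val_secHom, oneSec_res]

theorem genLocus_oneHom (hgen : Subring.closure ((𝒜 0 : Set A) ∪ (𝒜 1 : Set A)) = ⊤)
    (t : A) (ht : t ∈ 𝒜 1) :
    CohB1.genLocus (GrTwist.twist 𝒜 1) (oneHom 𝒜 t ht) = Proj.basicOpen 𝒜 t := by
  apply le_antisymm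
  · intro x hx
    have hgl : IsGen (GrTwist.twist 𝒜 1) (CohB1.genLocus _ (oneHom 𝒜 t ht)) (val (oneHom 𝒜 t ht) _) :=
      (le_genLocus_iff_isGen _ _).1 le_rfl
    obtain ⟨t', ht', hty⟩ := TwistGen.exists_deg_one_notMem hgen x
    let W : (Proj 𝒜).Opens := CohB1.genLocus _ (oneHom 𝒜 t ht) ⊓ Proj.basicOpen 𝒜 t'
    have hxW : x ∈ W := ⟨hx, (Proj.mem_basicOpen _ t' x).2 hty⟩
    obtain ⟨c, hc⟩ := (hgl W inf_le_left).2 (oneSec 𝒜 t' ht' W)
    have h2 := congrArg (fun σ => GrTwist.val σ ⟨x, hxW⟩) hc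
    simp only at h2
    rw [TwistNat.smul_val, val_res, val_oneHom] at h2
    change _ * Localization.mk t _ = Localization.mk t' _ at h2
    have hu : IsUnit (Localization.mk t' (⟨1, GrMod.one_nin x⟩ :
        x.asHomogeneousIdeal.toIdeal.primeCompl) : GrTwist.Loc 𝒜 x) :=
      (TwistNat.isUnit_mk_iff x _ _).2 hty
    rw [← h2] at hu
    exact (Proj.mem_basicOpen _ t x).2 ((TwistNat.isUnit_mk_iff x _ _).1 (isUnit_of_mul_isUnit_right hu))
  · rw [le_genLocus_iff_isGen, val_oneHom]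
    exact isGen_oneSec 𝒜 t ht _ (fun y hy => (Proj.mem_basicOpen _ t y).1 hy)

theorem isInvertible_twist_one (hgen : Subring.closure ((𝒜 0 : Set A) ∪ (𝒜 1 : Set A)) = ⊤) :
    PicF.IsInvertible (GrTwist.twist 𝒜 1) := by
  intro y
  obtain ⟨t, ht, hty⟩ := TwistGen.exists_deg_one_notMem hgen y
  refine ⟨Proj.basicOpen 𝒜 t, (Proj.mem_basicOpen _ t y).2 hty, ?_⟩
  exact nonempty_iso_of_isGen (isGen_oneSec 𝒜 t ht _ (fun z hz => (Proj.mem_basicOpen _ t z).1 hz))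


instance : QuasiSeparatedSpace (Proj 𝒜) := by
  have : QuasiSeparatedSpace (Spec (CommRingCat.of (𝒜 0))) := inferInstance
  exact quasiSeparatedSpace_of_quasiSeparated (Proj.toSpecZero 𝒜)

open Groth.Agent.Lib.Helper74.RelProjLib in
/-- **Serre** on `Proj`: twists of a quasi-coherent module of finite type are globally generated -/
theorem exists_GG_twist_proj (hgen : Subring.closure ((𝒜 0 : Set A) ∪ (𝒜 1 : Set A)) = ⊤)
    (T : Finset A) (hT : ∀ t ∈ T, t ∈ 𝒜 1) (hadj : Algebra.adjoin (𝒜 0) (T : Set A) = ⊤)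
    (G : (Proj 𝒜).Modules) (hG : Coh.IsCoh G) :
    ∃ k₀ : ℕ, ∀ k, k₀ ≤ k →
      GG (CohB1.tensorMod G (CohB1.tensorPow (GrTwist.twist 𝒜 1) k)) := by
  have hft : Algebra.FiniteType (𝒜 0) A :=
    ⟨Subalgebra.fg_def.mpr ⟨(T : Set A), T.finite_toSet, hadj⟩⟩
  have hc : CompactSpace (Proj 𝒜) :=
    QuasiCompact.compactSpace_of_compactSpace (Proj.toSpecZero 𝒜)
  have hcov := Proj.iSup_basicOpen_eq_top' 𝒜 (ι := T) (↑) (fun i ↦ ⟨1, hT _ i.2⟩)
      (by simpa using hadj)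
  refine exists_GG_twist (isInvertible_twist_one 𝒜 hgen) (ι := T)
    (fun i => oneHom 𝒜 i.1 (hT _ i.2)) ?_ ?_ G hG
  · intro i
    rw [genLocus_oneHom 𝒜 hgen]
    exact Proj.isAffineOpen_basicOpen 𝒜 i.1 (hT _ i.2) Nat.one_pos
  · intro x
    have hx : x ∈ (⨆ i : T, Proj.basicOpen 𝒜 (i : A)) := by
      rw [hcov]; trivial
    obtain ⟨i, hi⟩ := TopologicalSpace.Opens.mem_iSup.1 hx
    exact ⟨i, by rw [genLocus_oneHom 𝒜 hgen]; exact hi⟩

end Groth.Agent.Lib.Helper74.ProjSerre
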