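import Groth.Agent.Lib.Lead.PullbackAff4

/-!
# Sections of a pullback over an affine open are a base change, compatibly with the unit (helper74)
-/

set_option autoImplicit false
universe u
open CategoryTheory AlgebraicGeometry TopologicalSpace Opposite

namespace Groth.Agent.Lib.Helper74.PullbackBC

open Scheme.Modules

section affine

variable {R : CommRingCat.{u}}

/-- on an affine scheme, global sections are fully faithful on maps out of a quasi-coherent
module -/
theorem Γmap_bijective (F K : (Spec R).Modules) [F.IsQuasicoherent] :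
    Function.Bijective (fun γ : F ⟶ K => (moduleSpecΓFunctor (R := R)).map γ) := by
  have hε : IsIso ((tilde.adjunction (R := R)).counit.app F) := by
    change IsIso (fromTildeΓ F)
    infer_instance
  have key : ∀ γ : F ⟶ K, (moduleSpecΓFunctor (R := R)).map γ =
      (tilde.adjunction (R := R)).homEquiv _ _ ((tilde.adjunction (R := R)).counit.app F ≫ γ) := by
    intro γ
    rw [Adjunction.homEquiv_unit, Functor.map_comp, ← Category.assoc,
      (tilde.adjunction (R := R)).right_triangle_components F]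
    exact (Category.id_comp _).symm
  have : (fun γ : F ⟶ K => (moduleSpecΓFunctor (R := R)).map γ) =
      (tilde.adjunction (R := R)).homEquiv _ _ ∘
        (fun γ : F ⟶ K => (tilde.adjunction (R := R)).counit.app F ≫ γ) := by
    funext γ
    exact key γ
  rw [this]
  refine (Equiv.bijective _).comp ?_
  exact ⟨fun a b h => (cancel_epi _).1 h, fun δ => ⟨inv ((tilde.adjunction (R := R)).counit.app F) ≫ δ,
    by simp⟩⟩

end affine


section ev

variable {X : Scheme.{u}} {U : X.Opens} (hU : IsAffineOpen U) (F : X.Modules)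
  (K : (Spec Γ(X, U)).Modules)

/-- evaluation on the sections over `U` of a morphism into a module pushed forward from
`Spec Γ(X, U)` -/
noncomputable def evX (α : F ⟶ (pushforward hU.fromSpec).obj K) :
    moduleSpecΓFunctor.obj (F.restrict hU.fromSpec) ⟶ moduleSpecΓFunctor.obj K :=
  moduleSpecΓFunctor.map (((restrictAdjunction hU.fromSpec).homEquiv F K).symm α)

theorem evX_bijective [F.IsQuasicoherent] : Function.Bijective (evX hU F K) := by
  have : evX hU F K = (fun γ : F.restrict hU.fromSpec ⟶ K => moduleSpecΓFunctor.map γ) ∘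
      ((restrictAdjunction hU.fromSpec).homEquiv F K).symm := rfl
  rw [this]
  exact (Γmap_bijective (F.restrict hU.fromSpec) K).comp (Equiv.bijective _)

theorem evX_apply (α : F ⟶ (pushforward hU.fromSpec).obj K)
    (s : Γ(F, hU.fromSpec ''ᵁ ⊤)) :
    (evX hU F K α).hom (show moduleSpecΓFunctor.obj (F.restrict hU.fromSpec) from s) =
      K.presheaf.map (eqToHom (by simp)).op (α.app (hU.fromSpec ''ᵁ ⊤) s) := by
  rw [evX, Adjunction.homEquiv_counit]
  rfl

end ev


section main

theorem hom_app_res' {X : Scheme.{u}} {M N : X.Modules} (φ : M ⟶ N) {U V : X.Opens} (h : V ≤ U)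
    (x : Γ(M, U)) :
    N.presheaf.map (homOfLE h).op ((φ.app U).hom x) =
      (φ.app V).hom (M.presheaf.map (homOfLE h).op x) := by
  have := φ.mapPresheaf.naturality (homOfLE h).op
  exact (congrArg (fun f => f.hom x) this).symm

variable {X Y : Scheme.{u}} (f : X ⟶ Y) (G : Y.Modules)
  {U : X.Opens} {V : Y.Opens} (hU : IsAffineOpen U) (hV : IsAffineOpen V) (e : U ≤ f ⁻¹ᵁ V)
  (K : (Spec Γ(X, U)).Modules)

/-- the pushforward of `K` to `Y`, through `X` or through `Spec Γ(Y, V)` -/
noncomputable def kappa :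
    (pushforward f).obj ((pushforward hU.fromSpec).obj K) ≅
      (pushforward hV.fromSpec).obj ((pushforward (Spec.map (f.appLE V U e))).obj K) :=
  (pushforwardComp hU.fromSpec f).app K ≪≫
    (pushforwardCongr (hV.SpecMap_appLE_fromSpec f hU e).symm).app K ≪≫
    ((pushforwardComp (Spec.map (f.appLE V U e)) hV.fromSpec).app K).symm

theorem preimage_eq (W : Y.Opens) :
    (Spec.map (f.appLE V U e)) ⁻¹ᵁ (hV.fromSpec ⁻¹ᵁ W) = hU.fromSpec ⁻¹ᵁ (f ⁻¹ᵁ W) := by
  rw [← Scheme.Hom.comp_preimage, ← Scheme.Hom.comp_preimage, hV.SpecMap_appLE_fromSpec f hU e]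

theorem kappa_hom_app (W : Y.Opens) (x : Γ(K, hU.fromSpec ⁻¹ᵁ (f ⁻¹ᵁ W))) :
    ((kappa f hU hV e K).hom.app W).hom x =
      K.presheaf.map (eqToHom (preimage_eq f hU hV e W)).op x := by
  rfl

/-- evaluation over `V` of a morphism `G ⟶ f_* j_* K` -/
noncomputable def evY (β : G ⟶ (pushforward f).obj ((pushforward hU.fromSpec).obj K)) :
    moduleSpecΓFunctor.obj (G.restrict hV.fromSpec) ⟶
      moduleSpecΓFunctor.obj ((pushforward (Spec.map (f.appLE V U e))).obj K) :=
  evX hV G _ (β ≫ (kappa f hU hV e K).hom)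

theorem evY_bijective [G.IsQuasicoherent] : Function.Bijective (evY f G hU hV e K) := by
  have : evY f G hU hV e K = evX hV G _ ∘ (fun β => β ≫ (kappa f hU hV e K).hom) := rfl
  rw [this]
  refine (evX_bijective hV G _).comp ?_
  exact ⟨fun a b h => (cancel_mono _).1 h, fun δ => ⟨δ ≫ (kappa f hU hV e K).inv, by simp⟩⟩

include e in
theorem image_top_le : hU.fromSpec ''ᵁ ⊤ ≤ f ⁻¹ᵁ (hV.fromSpec ''ᵁ ⊤) := by
  rw [Groth.Agent.Lib.Lead.PullbackAff.fromSpec_image_top hU,
    Groth.Agent.Lib.Lead.PullbackAff.fromSpec_image_top hV]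
  exact e

/-- the unit of the adjunction on sections over `V`, restricted to `U` (on the images of
the spectra) -/
noncomputable def unitRes (m : Γ(G, hV.fromSpec ''ᵁ ⊤)) :
    Γ((pullback f).obj G, hU.fromSpec ''ᵁ ⊤) :=
  ((pullback f).obj G).presheaf.map (homOfLE (image_top_le f hU hV e)).op
    ((((pullbackPushforwardAdjunction f).unit.app G).app (hV.fromSpec ''ᵁ ⊤)).hom m)

theorem evY_homEquiv_apply (α : (pullback f).obj G ⟶ (pushforward hU.fromSpec).obj K)
    (m : Γ(G, hV.fromSpec ''ᵁ ⊤)) :
    (show Γ(K, ⊤) from (evY f G hU hV e K ((pullbackPushforwardAdjunction f).homEquiv G _ α)).hom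
      (show moduleSpecΓFunctor.obj (G.restrict hV.fromSpec) from m)) =
    (evX hU _ K α).hom (show moduleSpecΓFunctor.obj (((pullback f).obj G).restrict hU.fromSpec)
      from unitRes f G hU hV e m) := by
  rw [evY, evX_apply, evX_apply, Adjunction.homEquiv_unit]
  have hnat := hom_app_res' α (image_top_le f hU hV e)
    ((((pullbackPushforwardAdjunction f).unit.app G).app (hV.fromSpec ''ᵁ ⊤)).hom m)
  rw [unitRes, ← hnat]
  set y := (α.app (f ⁻¹ᵁ (hV.fromSpec ''ᵁ ⊤))).hom
    ((((pullbackPushforwardAdjunction f).unit.app G).app (hV.fromSpec ''ᵁ ⊤)).hom m) with hy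
  change (K.presheaf.map _).hom ((K.presheaf.map _).hom y) =
    (K.presheaf.map _).hom ((K.presheaf.map _).hom y)
  rw [← ConcreteCategory.comp_apply, ← ConcreteCategory.comp_apply, ← Functor.map_comp,
    ← Functor.map_comp]
  rfl

/-- **universal property, spectrum form** -/
theorem existsUnique_spec [G.IsQuasicoherent] [((pullback f).obj G).IsQuasicoherent]
    (w' : moduleSpecΓFunctor.obj (G.restrict hV.fromSpec) ⟶
      moduleSpecΓFunctor.obj ((pushforward (Spec.map (f.appLE V U e))).obj K)) :
    ∃! g' : moduleSpecΓFunctor.obj (((pullback f).obj G).restrict hU.fromSpec) ⟶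
        moduleSpecΓFunctor.obj K,
      ∀ m : Γ(G, hV.fromSpec ''ᵁ ⊤),
        g'.hom (show moduleSpecΓFunctor.obj (((pullback f).obj G).restrict hU.fromSpec)
          from unitRes f G hU hV e m) =
        (show Γ(K, ⊤) from w'.hom (show moduleSpecΓFunctor.obj (G.restrict hV.fromSpec) from m)) := by
  obtain ⟨β, rfl⟩ := (evY_bijective f G hU hV e K).2 w'
  obtain ⟨α, rfl⟩ := ((pullbackPushforwardAdjunction f).homEquiv G _).surjective β
  refine ⟨evX hU _ K α, fun m => (evY_homEquiv_apply f G hU hV e K α m).symm, ?_⟩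
  intro g₁ hg₁
  obtain ⟨α₁, rfl⟩ := (evX_bijective hU ((pullback f).obj G) K).2 g₁
  have h2 : evY f G hU hV e K ((pullbackPushforwardAdjunction f).homEquiv G _ α₁) =
      evY f G hU hV e K ((pullbackPushforwardAdjunction f).homEquiv G _ α) := by
    ext m
    exact (evY_homEquiv_apply f G hU hV e K α₁ m).trans (hg₁ m)
  have h3 := ((pullbackPushforwardAdjunction f).homEquiv G _).injective
    ((evY_bijective f G hU hV e K).1 h2)
  rw [h3]

end main


section final

open Groth.Agent.Lib.Lead.PullbackAff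

variable {X Y : Scheme.{u}} (f : X ⟶ Y) (G : Y.Modules) [G.IsQuasicoherent]
  {U : X.Opens} {V : Y.Opens} (hU : IsAffineOpen U) (hV : IsAffineOpen V) (e : U ≤ f ⁻¹ᵁ V)

/-- the unit of the adjunction on sections over `V`, restricted to `U` -/
noncomputable def unitSec (m : Γ(G, V)) : Γ((pullback f).obj G, U) :=
  ((pullback f).obj G).presheaf.map (homOfLE e).op
    ((((pullbackPushforwardAdjunction f).unit.app G).app V).hom m)

/-- `unitSec` as an additive map -/
noncomputable def unitSecHom : Γ(G, V) →+ Γ((pullback f).obj G, U) :=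
  (((pullback f).obj G).presheaf.map (homOfLE e).op).hom.comp
    (((pullbackPushforwardAdjunction f).unit.app G).app V).hom

omit [G.IsQuasicoherent] in
theorem unitSecHom_apply (m : Γ(G, V)) : unitSecHom f G e m = unitSec f G e m := rfl

omit [G.IsQuasicoherent] in
/-- semilinearity of the unit -/
theorem unitSec_smul (a : Γ(Y, V)) (m : Γ(G, V)) :
    unitSec f G e (a • m) = (f.appLE V U e).hom a • unitSec f G e m := by
  have h1 := Scheme.Modules.Hom.app_smul ((pullbackPushforwardAdjunction f).unit.app G) a m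
  rw [unitSec, h1]
  exact Scheme.Modules.map_smul ((pullback f).obj G) (homOfLE e) _ _

omit [G.IsQuasicoherent] in
theorem secEquiv_symm_unitSec (m : Γ(G, V)) :
    (show Γ((pullback f).obj G, hU.fromSpec ''ᵁ ⊤) from
      (secEquiv hU ((pullback f).obj G)).symm (unitSec f G e m)) =
    unitRes f G hU hV e (show Γ(G, hV.fromSpec ''ᵁ ⊤) from (secEquiv hV G).symm m) := by
  have h1 : ((pullback f).obj G).presheaf.map
        (homOfLE (f.preimage_mono (fromSpec_image_top hV).le)).op
        ((((pullbackPushforwardAdjunction f).unit.app G).app V).hom m) =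
      (((pullbackPushforwardAdjunction f).unit.app G).app (hV.fromSpec ''ᵁ ⊤)).hom
        (G.presheaf.map (homOfLE (fromSpec_image_top hV).le).op m) :=
    hom_app_res' ((pullbackPushforwardAdjunction f).unit.app G) (fromSpec_image_top hV).le m
  change ((pullback f).obj G).presheaf.map (homOfLE (fromSpec_image_top hU).le).op
      (((pullback f).obj G).presheaf.map (homOfLE e).op
        ((((pullbackPushforwardAdjunction f).unit.app G).app V).hom m)) =
    ((pullback f).obj G).presheaf.map (homOfLE (image_top_le f hU hV e)).op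
      ((((pullbackPushforwardAdjunction f).unit.app G).app (hV.fromSpec ''ᵁ ⊤)).hom
        (G.presheaf.map (homOfLE (fromSpec_image_top hV).le).op m))
  rw [← h1]
  change (((pullback f).obj G).presheaf.map _).hom ((((pullback f).obj G).presheaf.map _).hom _) =
    (((pullback f).obj G).presheaf.map _).hom ((((pullback f).obj G).presheaf.map _).hom _)
  rw [← ConcreteCategory.comp_apply, ← ConcreteCategory.comp_apply, ← Functor.map_comp,
    ← Functor.map_comp]
  rfl

include hU hV in
/-- **Sections of a pullback over an affine open are a base change** (universal property form):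
for `G` quasi-coherent on `Y`, `V ⊆ Y` and `U ⊆ f⁻¹ V` affine opens, every additive map
`w : Γ(G, V) → Q` into a `Γ(X, U)`-module which is semilinear for `Γ(Y, V) → Γ(X, U)` factors
uniquely through `m ↦ (unit m)|_U : Γ(G, V) → Γ(f^* G, U)`. -/
theorem existsUnique_lift (Q : Type u) [AddCommGroup Q] [Module Γ(X, U) Q] (w : Γ(G, V) →+ Q)
    (hw : ∀ (a : Γ(Y, V)) (m : Γ(G, V)), w (a • m) = (f.appLE V U e).hom a • w m) :
    ∃! g : Γ((pullback f).obj G, U) →ₗ[Γ(X, U)] Q, ∀ m, g (unitSec f G e m) = w m := by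
  haveI : ((pullback f).obj G).IsQuasicoherent := inferInstance
  let QQ : ModuleCat Γ(X, U) := ModuleCat.of Γ(X, U) Q
  let K : (Spec Γ(X, U)).Modules := tilde QQ
  let iQ : QQ ≅ moduleSpecΓFunctor.obj K := tilde.toTildeΓNatIso.app QQ
  let ι := (pushforwardΓIso (f.appLE V U e)).app K
  let wlin : (moduleSpecΓFunctor.obj (G.restrict hV.fromSpec)) →ₗ[Γ(Y, V)]
      ((ModuleCat.restrictScalars (f.appLE V U e).hom).obj (moduleSpecΓFunctor.obj K)) :=
    { toFun := fun m' => iQ.hom.hom (w (secEquiv hV G m'))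
      map_add' := fun a b => by
        rw [map_add, map_add, map_add]
        rfl
      map_smul' := fun a m' => by
        rw [_root_.map_smul, hw, _root_.map_smul]
        rfl }
  let w' := ModuleCat.ofHom wlin ≫ ι.inv
  obtain ⟨g', hg', huniq⟩ := existsUnique_spec f G hU hV e K w'
  have hw' : ∀ m : Γ(G, V), (show Γ(K, ⊤) from w'.hom ((secEquiv hV G).symm m)) =
      iQ.hom.hom (w m) := by
    intro m
    change iQ.hom.hom (w (secEquiv hV G ((secEquiv hV G).symm m))) = _
    rw [LinearEquiv.apply_symm_apply]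
  let g : Γ((pullback f).obj G, U) →ₗ[Γ(X, U)] Q :=
    iQ.inv.hom ∘ₗ g'.hom ∘ₗ (secEquiv hU ((pullback f).obj G)).symm.toLinearMap
  refine ⟨g, fun m => ?_, fun g₁ hg₁ => ?_⟩
  · change iQ.inv.hom (g'.hom ((secEquiv hU _).symm (unitSec f G e m))) = w m
    have h1 : g'.hom ((secEquiv hU _).symm (unitSec f G e m)) = iQ.hom.hom (w m) :=
      (congrArg g'.hom (secEquiv_symm_unitSec f G hU hV e m)).trans
        ((hg' ((secEquiv hV G).symm m)).trans (hw' m))
    rw [h1]
    exact congrArg (fun φ => φ.hom (w m)) iQ.hom_inv_id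
  · let lin : (moduleSpecΓFunctor.obj (((pullback f).obj G).restrict hU.fromSpec)) →ₗ[Γ(X, U)]
        (moduleSpecΓFunctor.obj K) :=
      iQ.hom.hom ∘ₗ g₁ ∘ₗ (secEquiv hU ((pullback f).obj G)).toLinearMap
    let g₁' := ModuleCat.ofHom lin
    have hg₁' : g₁' = g' := by
      refine huniq g₁' fun m' => ?_
      obtain ⟨m, rfl⟩ : ∃ m : Γ(G, V), (show Γ(G, hV.fromSpec ''ᵁ ⊤) from
          (secEquiv hV G).symm m) = m' :=
        ⟨secEquiv hV G m', (secEquiv hV G).symm_apply_apply m'⟩
      rw [← secEquiv_symm_unitSec f G hU hV e m]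
      change iQ.hom.hom (g₁ (secEquiv hU _ ((secEquiv hU _).symm (unitSec f G e m)))) = _
      rw [LinearEquiv.apply_symm_apply, hg₁ m]
      exact (hw' m).symm
    apply LinearMap.ext
    intro s
    change g₁ s = iQ.inv.hom (g'.hom ((secEquiv hU _).symm s))
    rw [← hg₁']
    change g₁ s = iQ.inv.hom (iQ.hom.hom (g₁ (secEquiv hU _ ((secEquiv hU _).symm s))))
    rw [LinearEquiv.apply_symm_apply]
    exact (congrArg (fun φ => φ.hom (g₁ s)) iQ.hom_inv_id).symm

end final

end Groth.Agent.Lib.Helper74.PullbackBC
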