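import Groth.Agent.Lib.Helper74.RelTildeMul2
import Groth.Agent.Lib.Lead.QCohAff
import Groth.Agent.Lib.Lead.Tw4


/-!
# Morphisms of quasi-coherent modules bijective on the sections over an affine open (helper74)
-/

set_option autoImplicit false
universe u
open CategoryTheory AlgebraicGeometry TopologicalSpace Opposite

namespace Groth.Agent.Lib.Helper74.QCohBij

open Groth.Agent.Lib.Lead.QCohAff Groth.Agent.Lib.Helper74.ModSec

variable {X : Scheme.{u}} {F G : X.Modules} [F.IsQuasicoherent] [G.IsQuasicoherent] (φ : F ⟶ G)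
  {U : X.Opens} (hU : IsAffineOpen U)

include hU in
/-- bijectivity on an affine open passes to its basic opens -/
theorem bijective_app_basicOpen (hb : Function.Bijective (φ.app U)) (h : Γ(X, U)) :
    Function.Bijective (φ.app (X.basicOpen h)) := by
  have hF := LocOn.of_isQuasicoherent F hU
  have hG := LocOn.of_isQuasicoherent G hU
  have hunit : IsUnit (X.presheaf.map (homOfLE (X.basicOpen_le h)).op h) :=
    RingedSpace.isUnit_res_basicOpen X.toRingedSpace h
  constructor
  · rw [injective_iff_map_eq_zero]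
    intro s hs
    obtain ⟨k, σ, hσ⟩ := hF.2 h s
    have h1 : rs G (X.basicOpen_le h) (φ.app U σ) = 0 := by
      rw [← hom_rs]
      change φ.app _ (F.presheaf.map (homOfLE (X.basicOpen_le h)).op σ) = 0
      rw [hσ]
      change (φ.app _).hom _ = 0
      rw [Scheme.Modules.Hom.app_smul]
      rw [hs, smul_zero]
    obtain ⟨l, hl⟩ := hG.1 h (φ.app U σ) h1
    have h2 : h ^ l • σ = 0 := by
      apply hb.1
      change (φ.app U).hom (h ^ l • σ) = (φ.app U).hom 0
      rw [Scheme.Modules.Hom.app_smul, map_zero]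
      exact hl
    have h3 := congrArg (rs F (X.basicOpen_le h)) h2
    rw [rs_smul, rs_zero, map_pow] at h3
    change _ • F.presheaf.map (homOfLE (X.basicOpen_le h)).op σ = 0 at h3
    rw [hσ, smul_smul, ← pow_add] at h3
    obtain ⟨u, hu⟩ := hunit.pow (l + k)
    rw [← hu] at h3
    have := congrArg (fun z => (↑u⁻¹ : Γ(X, X.basicOpen h)) • z) h3
    simpa [smul_smul] using this
  · intro t
    obtain ⟨k, τ, hτ⟩ := hG.2 h t
    obtain ⟨σ, hσ⟩ := hb.2 τ
    obtain ⟨u, hu⟩ := hunit.pow k
    refine ⟨(↑u⁻¹ : Γ(X, X.basicOpen h)) • rs F (X.basicOpen_le h) σ, ?_⟩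
    change (φ.app _).hom _ = t
    rw [Scheme.Modules.Hom.app_smul]
    rw [hom_rs, hσ]
    change _ • G.presheaf.map (homOfLE (X.basicOpen_le h)).op τ = t
    rw [hτ, ← hu, smul_smul, Units.inv_mul, one_smul]

include hU in
/-- a morphism of quasi-coherent modules which is bijective on the sections over an affine open
`U` is bijective on the sections over every open contained in `U` -/
theorem bijective_app_of_le (hb : Function.Bijective (φ.app U)) (W : X.Opens) (hW : W ≤ U) :
    Function.Bijective (φ.app W) := by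
  have hinj : ∀ W' : X.Opens, W' ≤ U → Function.Injective (φ.app W') := by
    intro W' hW' s s' hss'
    refine sec_ext_of_locally F s s' fun x hx => ?_
    obtain ⟨h, hle, hxh⟩ := hU.exists_basicOpen_le (V := W') ⟨x, hx⟩ (hW' hx)
    refine ⟨X.basicOpen h, hle, hxh, ?_⟩
    apply (bijective_app_basicOpen φ hU hb h).1
    rw [hom_rs, hom_rs, hss']
  refine ⟨hinj W hW, app_surjective_of_locally φ W (fun W' hW' => hinj W' (hW'.trans hW))
    fun t x hx => ?_⟩
  obtain ⟨h, hle, hxh⟩ := hU.exists_basicOpen_le (V := W) ⟨x, hx⟩ (hW hx)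
  obtain ⟨σ, hσ⟩ := (bijective_app_basicOpen φ hU hb h).2 (rs G hle t)
  exact ⟨X.basicOpen h, hle, hxh, σ, hσ⟩

omit [F.IsQuasicoherent] [G.IsQuasicoherent] in
/-- a morphism of quasi-coherent modules which is bijective on the sections over the members of
an affine open cover is an isomorphism -/
theorem isIso_of_affine_cover [F.IsQuasicoherent] [G.IsQuasicoherent]
    (hcov : ∀ x : X, ∃ W : X.Opens, IsAffineOpen W ∧ x ∈ W ∧ Function.Bijective (φ.app W)) :
    IsIso φ := by
  refine isIso_of_locally_bijective φ fun x => ?_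
  obtain ⟨W, hW, hxW, hb⟩ := hcov x
  exact ⟨W, hxW, fun W' hW' => bijective_app_of_le φ hW hb W' hW'⟩

end Groth.Agent.Lib.Helper74.QCohBij
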