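import Groth.Agent.Lib.Helper74.RelConeLib
import Mathlib.RingTheory.GradedAlgebra.Radical

set_option autoImplicit false
universe u
open CategoryTheory CategoryTheory.Limits AlgebraicGeometry TopologicalSpace Opposite
open scoped HomogeneousIdeal

namespace Groth.Agent.Lib.Helper74.RelConeLib

section alg

variable {A σ : Type u} [CommRing A] [SetLike σ A] [AddSubgroupClass σ A] {𝒜 : ℕ → σ}
  [GradedRing 𝒜]
variable {B τ : Type u} [CommRing B] [SetLike τ B] [AddSubgroupClass τ B] {ℬ : ℕ → τ}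
  [GradedRing ℬ]

theorem exists_component_not_mem (J : Ideal A) {x : A} (hx : x ∉ J) :
    ∃ i, ((DirectSum.decompose 𝒜 x i : 𝒜 i) : A) ∉ J := by
  classical
  by_contra H
  simp only [not_exists, not_not] at H
  apply hx
  rw [← DirectSum.sum_support_decompose 𝒜 x]
  exact Ideal.sum_mem _ fun i _ => H i

theorem exists_irrelevant_map_not_mem (φ : 𝒜 →+*ᵍ ℬ) (hdom : RelCone.domOpen φ = ⊤)
    (I : Ideal B) [hI : I.IsPrime] (hnot : ¬ ((ℬ₊).toIdeal ≤ I)) :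
    ∃ f ∈ (𝒜₊).toIdeal, φ f ∉ I := by
  classical
  obtain ⟨g, hg, hgI⟩ := SetLike.not_le_iff_exists.mp hnot
  obtain ⟨i, hgi⟩ := exists_component_not_mem (𝒜 := ℬ) I hgI
  have hgi' : ((DirectSum.decompose ℬ g i : ℬ i) : B) ∈ (ℬ₊).toIdeal := (ℬ₊).isHomogeneous i hg
  have hprime : (I.homogeneousCore ℬ).toIdeal.IsPrime := Ideal.IsPrime.homogeneousCore hI
  have hnot' : ¬ (ℬ₊ ≤ I.homogeneousCore ℬ) := by
    intro hle
    exact hgi (Ideal.toIdeal_homogeneousCore_le ℬ I (hle hgi'))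
  let x₀ : Proj ℬ := (⟨I.homogeneousCore ℬ, hprime, hnot'⟩ : ProjectiveSpectrum ℬ)
  have hx₀ : x₀ ∈ RelCone.domOpen φ := by rw [hdom]; trivial
  obtain ⟨f, hf, hfx⟩ := (RelCone.mem_domOpen φ x₀).mp hx₀
  have hfx' : φ f ∉ (I.homogeneousCore ℬ).toIdeal := hfx
  obtain ⟨k, hk⟩ := exists_component_not_mem (𝒜 := ℬ) (I.homogeneousCore ℬ).toIdeal hfx'
  rw [← GradedRingHom.map_directSumDecompose 𝒜 ℬ φ] at hk
  refine ⟨((DirectSum.decompose 𝒜 f k : 𝒜 k) : A), (𝒜₊).isHomogeneous k hf, ?_⟩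
  intro hmem
  apply hk
  exact Ideal.mem_homogeneousCore_of_homogeneous_of_mem
    ⟨k, φ.map_mem (SetLike.coe_mem _)⟩ hmem

end alg

end Groth.Agent.Lib.Helper74.RelConeLib
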