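import Groth.Agent.Lib.Helper74.RelConeVertex
import Groth.Agent.Lib.Helper74.RelConeLib2
import Groth.Agent.Lib.Helper74.ConeAlg
import Groth.Agent.Lib.Helper74.RelProjMap
import Groth.Prelude.Def_RelSpec2

set_option autoImplicit false
universe u
open CategoryTheory CategoryTheory.Limits AlgebraicGeometry TopologicalSpace Opposite
open scoped HomogeneousIdeal
open HomogeneousLocalization

namespace Groth.Agent.Lib.Helper74.RelConeProj

variable {Y : Scheme.{u}} {𝒮 𝒮h : RelProj.QCGrAlg Y} {ι : 𝒮.toQCAlg ⟶ 𝒮h.toQCAlg}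
  {z : 𝒮h.presheaf.obj (op ⊤)} (hz : RelCone.IsPolyOver 𝒮 𝒮h ι z)

/-- `ι` over an affine open, as a graded hom -/
abbrev ιAt (U : Y.Opens) (hU : IsAffineOpen U) : 𝒮.deg U hU →+*ᵍ 𝒮h.deg U hU :=
  RelProj.gradedHomAt ι hz.graded U hU

/-- `z` over an affine open -/
abbrev zAt (_hz : RelCone.IsPolyOver 𝒮 𝒮h ι z) (U : Y.Opens) : 𝒮h.presheaf.obj (op U) :=
  RelCone.restrictTop 𝒮h z U

theorem surj (U : Y.Opens) (hU : IsAffineOpen U) :
    Function.Surjective (Polynomial.eval₂RingHom (ιAt hz U hU).toRingHom (zAt hz U)) :=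
  (hz.bij U hU).2

theorem awayZToBase_frac (U : Y.Opens) (hU : IsAffineOpen U) (k : ℕ)
    (x : 𝒮.presheaf.obj (op U)) (hx : x ∈ 𝒮.deg U hU k) :
    hz.awayZToBase U hU (ConeAlg.frac (ιAt hz U hU) (hz.deg_z U hU) k x hx) = x := by
  rw [hz.awayZToBase_of_val U hU _ ((ι.hom.app (op U)).hom x) k
    (ConeAlg.val_frac (ιAt hz U hU) (hz.deg_z U hU) k x hx), hz.evalOne_ι]

theorem awayZToBase_bijective (U : Y.Opens) (hU : IsAffineOpen U) :
    Function.Bijective (hz.awayZToBase U hU) :=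
  ConeAlg.bijective_of_frac (ιAt hz U hU) (hz.deg_z U hU) _ (awayZToBase_frac hz U hU)
    (surj hz U hU)

theorem ι_str (U : Y.Opens) (r : Γ(Y, U)) :
    (ι.hom.app (op U)).hom ((𝒮.str.app (op U)).hom r) = (𝒮h.str.app (op U)).hom r := by
  have := congrArg (fun ψ => (ψ.app (op U)).hom r) ι.comm
  exact this

theorem awayZToBase_str (U : Y.Opens) (hU : IsAffineOpen U) :
    𝒮h.strZero U hU ≫ CommRingCat.ofHom (fromZeroRingHom (𝒮h.deg U hU) (.powers (zAt hz U))) ≫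
      CommRingCat.ofHom (hz.awayZToBase U hU) = 𝒮.str.app (op U) := by
  ext r
  change hz.awayZToBase U hU (fromZeroRingHom (𝒮h.deg U hU) _ ((𝒮h.strZero U hU).hom r)) = _
  rw [hz.awayZToBase_of_val U hU _ ((𝒮h.str.app (op U)).hom r) 0, ← ι_str, hz.evalOne_ι]
  simp only [fromZeroRingHom, RingHom.coe_mk, MonoidHom.coe_mk, OneHom.coe_mk,
    HomogeneousLocalization.val_mk]
  congr 1
  ext
  simp

section imm

variable {PC : Scheme.{u}} {pC : PC ⟶ Y}
  {chartC : ∀ (U : Y.Opens) (hU : IsAffineOpen U),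
    (((pC ⁻¹ᵁ U : PC.Opens) : Scheme.{u}) ≅ Proj (𝒮h.deg U hU))}

theorem emb_comp (hPC : RelProj.IsRelProj 𝒮h pC chartC) (U : Y.Opens) (hU : IsAffineOpen U) :
    RelProj.emb pC chartC U hU ≫ pC =
      Proj.toSpecZero (𝒮h.deg U hU) ≫ Spec.map (𝒮h.strZero U hU) ≫ hU.fromSpec := by
  rw [RelProj.emb, Category.assoc, ← hPC.chart_over U hU, Iso.inv_hom_id_assoc]

theorem emb_mem_preimage (U : Y.Opens) (hU : IsAffineOpen U) (x' : Proj (𝒮h.deg U hU)) :
    RelProj.emb pC chartC U hU x' ∈ pC ⁻¹ᵁ U :=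
  ((chartC U hU).inv x').2

theorem exists_emb_eq (U : Y.Opens) (hU : IsAffineOpen U) (x : PC) (hx : x ∈ pC ⁻¹ᵁ U) :
    ∃ x' : Proj (𝒮h.deg U hU), RelProj.emb pC chartC U hU x' = x := by
  refine ⟨(chartC U hU).hom ⟨x, hx⟩, ?_⟩
  change ((chartC U hU).hom ≫ (chartC U hU).inv ≫ (pC ⁻¹ᵁ U).ι) ⟨x, hx⟩ = x
  rw [Iso.hom_inv_id_assoc]
  rfl

theorem emb_injective (U : Y.Opens) (hU : IsAffineOpen U) :
    Function.Injective (RelProj.emb pC chartC U hU) :=
  (RelProj.emb pC chartC U hU).isOpenEmbedding.injective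

variable {i : 𝒮.toQCAlg.spec ⟶ PC}

theorem coneImm_comp (hPC : RelProj.IsRelProj 𝒮h pC chartC)
    (hi : RelCone.IsConeImm 𝒮 hz pC chartC i) : i ≫ pC = 𝒮.toQCAlg.π := by
  refine Scheme.Cover.hom_ext 𝒮.toQCAlg.glueData.cover _ _ fun U => ?_
  change 𝒮.toQCAlg.ι U.1 U.2 ≫ i ≫ pC = 𝒮.toQCAlg.ι U.1 U.2 ≫ 𝒮.toQCAlg.π
  rw [reassoc_of% (hi U.1 U.2), emb_comp hPC, Proj.awayι_toSpecZero_assoc, 𝒮.toQCAlg.ι_π,
    ← Spec.map_comp_assoc, ← Spec.map_comp_assoc, awayZToBase_str]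

/-- the point of `Proj 𝒮h(U)` attached to a point of the chart `Spec 𝒮(U)` of the cone -/
noncomputable def chartPt (U : Y.Opens) (hU : IsAffineOpen U)
    (c : Spec (𝒮.presheaf.obj (op U))) : Proj (𝒮h.deg U hU) :=
  (Spec.map (CommRingCat.ofHom (hz.awayZToBase U hU)) ≫
    Proj.awayι (𝒮h.deg U hU) (zAt hz U) (hz.deg_z U hU) one_pos) c

theorem coneImm_ι (hi : RelCone.IsConeImm 𝒮 hz pC chartC i) (U : Y.Opens) (hU : IsAffineOpen U)
    (c : Spec (𝒮.presheaf.obj (op U))) :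
    i (𝒮.toQCAlg.ι U hU c) = RelProj.emb pC chartC U hU (chartPt hz U hU c) := by
  have := congrArg (fun g => g.base c) (hi U hU)
  exact this

theorem chartPt_mem_basicOpen (U : Y.Opens) (hU : IsAffineOpen U)
    (c : Spec (𝒮.presheaf.obj (op U))) :
    chartPt hz U hU c ∈ Proj.basicOpen (𝒮h.deg U hU) (zAt hz U) := by
  rw [← Proj.opensRange_awayι (𝒮h.deg U hU) (zAt hz U) (hz.deg_z U hU) one_pos]
  exact ⟨_, rfl⟩

theorem isIso_specMap_awayZToBase (U : Y.Opens) (hU : IsAffineOpen U) :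
    IsIso (Spec.map (CommRingCat.ofHom (hz.awayZToBase U hU))) := by
  have : IsIso (CommRingCat.ofHom (hz.awayZToBase U hU)) :=
    (ConcreteCategory.isIso_iff_bijective _).mpr (awayZToBase_bijective hz U hU)
  infer_instance

theorem exists_chartPt_eq (U : Y.Opens) (hU : IsAffineOpen U) (x' : Proj (𝒮h.deg U hU))
    (hx' : x' ∈ Proj.basicOpen (𝒮h.deg U hU) (zAt hz U)) :
    ∃ c, chartPt hz U hU c = x' := by
  rw [← Proj.opensRange_awayι (𝒮h.deg U hU) (zAt hz U) (hz.deg_z U hU) one_pos] at hx'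
  obtain ⟨q, rfl⟩ := hx'
  have := isIso_specMap_awayZToBase hz U hU
  obtain ⟨c, rfl⟩ :=
    (Spec.map (CommRingCat.ofHom (hz.awayZToBase U hU))).homeomorph.surjective q
  exact ⟨c, rfl⟩

theorem chartPt_injective (U : Y.Opens) (hU : IsAffineOpen U) :
    Function.Injective (chartPt hz U hU) := by
  have := isIso_specMap_awayZToBase hz U hU
  intro c₁ c₂ h
  exact (Spec.map (CommRingCat.ofHom (hz.awayZToBase U hU)) ≫
    Proj.awayι (𝒮h.deg U hU) (zAt hz U) (hz.deg_z U hU) one_pos).isOpenEmbedding.injective h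

theorem exists_ι_eq (U : Y.Opens) (hU : IsAffineOpen U) (c : 𝒮.toQCAlg.spec)
    (hc : 𝒮.toQCAlg.π c ∈ U) : ∃ c', 𝒮.toQCAlg.ι U hU c' = c := by
  have : c ∈ 𝒮.toQCAlg.π ⁻¹ᵁ U := hc
  rw [𝒮.toQCAlg.π_preimage U hU] at this
  exact this

/-- chartwise description of the image of the cone immersion -/
theorem emb_mem_range_coneImm_iff (hPC : RelProj.IsRelProj 𝒮h pC chartC)
    (hi : RelCone.IsConeImm 𝒮 hz pC chartC i) (U : Y.Opens) (hU : IsAffineOpen U)
    (x' : Proj (𝒮h.deg U hU)) :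
    RelProj.emb pC chartC U hU x' ∈ Set.range i.base ↔
      x' ∈ Proj.basicOpen (𝒮h.deg U hU) (zAt hz U) := by
  constructor
  · rintro ⟨c, hc⟩
    have hc' : i c = RelProj.emb pC chartC U hU x' := hc
    have hπ : 𝒮.toQCAlg.π c ∈ U := by
      have h1 : 𝒮.toQCAlg.π c = pC (i c) := by
        rw [← coneImm_comp hz hPC hi]
        rfl
      rw [h1, hc']
      exact emb_mem_preimage U hU x'
    obtain ⟨c', rfl⟩ := exists_ι_eq U hU c hπ
    rw [coneImm_ι hz hi] at hc'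
    rw [← emb_injective U hU hc']
    exact chartPt_mem_basicOpen hz U hU c'
  · intro hx'
    obtain ⟨c, rfl⟩ := exists_chartPt_eq hz U hU x' hx'
    exact ⟨𝒮.toQCAlg.ι U hU c, coneImm_ι hz hi U hU c⟩

theorem coneImm_injective (hPC : RelProj.IsRelProj 𝒮h pC chartC)
    (hi : RelCone.IsConeImm 𝒮 hz pC chartC i) : Function.Injective i.base := by
  intro c₁ c₂ h
  have h' : i c₁ = i c₂ := h
  obtain ⟨U, hU, c₁', rfl⟩ := RelConeLib.exists_chart 𝒮 c₁
  have hπ : 𝒮.toQCAlg.π c₂ ∈ U := by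
    have h1 : ∀ c, 𝒮.toQCAlg.π c = pC (i c) := fun c => by
      rw [← coneImm_comp hz hPC hi]
      rfl
    rw [h1, ← h', coneImm_ι hz hi]
    exact emb_mem_preimage U hU _
  obtain ⟨c₂', rfl⟩ := exists_ι_eq U hU c₂ hπ
  rw [coneImm_ι hz hi, coneImm_ι hz hi] at h'
  rw [chartPt_injective hz U hU (emb_injective U hU h')]

end imm

section relmap

variable {PA PB : Scheme.{u}} {𝒜 ℬ : RelProj.QCGrAlg Y}
    (φ : 𝒜.toQCAlg ⟶ ℬ.toQCAlg) (hφ : RelProj.IsGradedHom φ)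
    (hirr : ∀ (U : Y.Opens) (hU : IsAffineOpen U),
      (ℬ.deg U hU)₊ ≤ ((𝒜.deg U hU)₊).map (RelProj.gradedHomAt φ hφ U hU))
    {pA : PA ⟶ Y} {pB : PB ⟶ Y}
    {chartA : ∀ (U : Y.Opens) (hU : IsAffineOpen U),
      (((pA ⁻¹ᵁ U : PA.Opens) : Scheme.{u}) ≅ Proj (𝒜.deg U hU))}
    {chartB : ∀ (U : Y.Opens) (hU : IsAffineOpen U),
      (((pB ⁻¹ᵁ U : PB.Opens) : Scheme.{u}) ≅ Proj (ℬ.deg U hU))}

theorem emb_comp_relProjMap (h : PB ⟶ PA) (hh : RelProj.IsRelProjMap φ hφ hirr chartA chartB h)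
    (U : Y.Opens) (hU : IsAffineOpen U) :
    RelProj.emb pB chartB U hU ≫ h =
      Proj.map (RelProj.gradedHomAt φ hφ U hU) (hirr U hU) ≫ RelProj.emb pA chartA U hU := by
  rw [RelProj.emb, Category.assoc, hh U hU, Iso.inv_hom_id_assoc]
  rfl

/-- chartwise description of the image of an induced morphism of relative Proj's -/
theorem emb_mem_range_relProjMap_iff (hA : RelProj.IsRelProj 𝒜 pA chartA)
    (hB : RelProj.IsRelProj ℬ pB chartB) (h : PB ⟶ PA)
    (hh : RelProj.IsRelProjMap φ hφ hirr chartA chartB h)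
    (U : Y.Opens) (hU : IsAffineOpen U) (x' : Proj (𝒜.deg U hU)) :
    RelProj.emb pA chartA U hU x' ∈ Set.range h.base ↔
      x' ∈ Set.range (Proj.map (RelProj.gradedHomAt φ hφ U hU) (hirr U hU)).base := by
  constructor
  · rintro ⟨w, hw⟩
    have hw' : h w = RelProj.emb pA chartA U hU x' := hw
    have hpw : w ∈ pB ⁻¹ᵁ U := by
      have h1 : pB w = pA (h w) := by
        rw [← RelProjLib.relProjMap_comp φ hφ hirr hA hB h hh]
        rfl
      change pB w ∈ U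
      rw [h1, hw']
      exact emb_mem_preimage U hU x'
    obtain ⟨w', rfl⟩ := exists_emb_eq (chartC := chartB) U hU w hpw
    have h2 := congrArg (fun g => g.base w') (emb_comp_relProjMap φ hφ hirr h hh U hU)
    have h3 : h (RelProj.emb pB chartB U hU w') = RelProj.emb pA chartA U hU
        (Proj.map (RelProj.gradedHomAt φ hφ U hU) (hirr U hU) w') := h2
    rw [h3] at hw'
    exact ⟨w', emb_injective U hU hw'⟩
  · rintro ⟨w', rfl⟩
    have h2 := congrArg (fun g => g.base w') (emb_comp_relProjMap φ hφ hirr h hh U hU)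
    exact ⟨RelProj.emb pB chartB U hU w', h2⟩

end relmap

section homog

variable {A σ : Type u} [CommRing A] [SetLike σ A] [AddSubgroupClass σ A] {𝒜 : ℕ → σ}
  [GradedRing 𝒜]

/-- an ideal not containing the irrelevant ideal misses a homogeneous element of positive
degree -/
theorem exists_pos_homog_not_mem (J : Ideal A) {f : A} (hf : f ∈ (𝒜₊).toIdeal) (hfJ : f ∉ J) :
    ∃ k, 0 < k ∧ ∃ g ∈ 𝒜 k, g ∉ J := by
  classical
  obtain ⟨k, hk⟩ := RelConeLib.exists_component_not_mem (𝒜 := 𝒜) J hfJ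
  refine ⟨k, ?_, _, SetLike.coe_mem _, hk⟩
  rcases Nat.eq_zero_or_pos k with rfl | hpos
  · exfalso
    apply hk
    have h0 : GradedRing.proj 𝒜 0 f = 0 := (HomogeneousIdeal.mem_irrelevant_iff 𝒜 f).mp hf
    have : ((DirectSum.decompose 𝒜 f 0 : 𝒜 0) : A) = 0 := h0
    rw [this]
    exact zero_mem _
  · exact hpos

theorem mem_irrelevant_of_pos {k : ℕ} (hk : 0 < k) {g : A} (hg : g ∈ 𝒜 k) :
    g ∈ (𝒜₊).toIdeal :=
  HomogeneousIdeal.mem_irrelevant_of_mem 𝒜 hk hg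

end homog

section pointed

variable {PC : Scheme.{u}} {pC : PC ⟶ Y}
  {chartC : ∀ (U : Y.Opens) (hU : IsAffineOpen U),
    (((pC ⁻¹ᵁ U : PC.Opens) : Scheme.{u}) ≅ Proj (𝒮h.deg U hU))}

/-- homogeneous elements of positive degree: membership in the point `chartPt c` -/
theorem map_mem_chartPt_iff (U : Y.Opens) (hU : IsAffineOpen U)
    (c : Spec (𝒮.presheaf.obj (op U))) {k : ℕ} (hk : 0 < k) {f : 𝒮.presheaf.obj (op U)}
    (hf : f ∈ 𝒮.deg U hU k) :
    ιAt hz U hU f ∈ (chartPt hz U hU c).asHomogeneousIdeal ↔ f ∈ c.asIdeal := by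
  have hιf : ιAt hz U hU f ∈ 𝒮h.deg U hU k := (ιAt hz U hU).map_mem hf
  have h1 := Proj.awayι_preimage_basicOpen (𝒮h.deg U hU) (hz.deg_z U hU) one_pos hιf hk
  have h2 : chartPt hz U hU c ∈ Proj.basicOpen (𝒮h.deg U hU) (ιAt hz U hU f) ↔
      Spec.map (CommRingCat.ofHom (hz.awayZToBase U hU)) c ∈
        PrimeSpectrum.basicOpen (Away.isLocalizationElem (hz.deg_z U hU) hιf) := by
    rw [← h1]
    rfl
  have h3 : Away.isLocalizationElem (hz.deg_z U hU) hιf =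
      ConeAlg.frac (ιAt hz U hU) (hz.deg_z U hU) k f hf := by
    apply HomogeneousLocalization.val_injective
    rw [ConeAlg.val_frac, Away.val_mk, pow_one]
  rw [h3] at h2
  have h4 : Spec.map (CommRingCat.ofHom (hz.awayZToBase U hU)) c ∈
      PrimeSpectrum.basicOpen (ConeAlg.frac (ιAt hz U hU) (hz.deg_z U hU) k f hf) ↔
      hz.awayZToBase U hU (ConeAlg.frac (ιAt hz U hU) (hz.deg_z U hU) k f hf) ∉ c.asIdeal :=
    Iff.rfl
  rw [h4, awayZToBase_frac, Proj.mem_basicOpen] at h2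
  exact not_iff_not.mp h2

/-- the key equivalence between the pointed projective cone and the pointed affine cone -/
theorem chartPt_mem_domOpen_iff (U : Y.Opens) (hU : IsAffineOpen U)
    (c : Spec (𝒮.presheaf.obj (op U))) :
    chartPt hz U hU c ∈ RelCone.domOpen (ιAt hz U hU) ↔
      𝒮.toQCAlg.ι U hU c ∈ RelCone.pointedCone 𝒮 := by
  rw [RelConeLib.ι_mem_pointedCone_iff, RelConeLib.mem_vertexCompl_iff, RelCone.mem_domOpen]
  constructor
  · rintro ⟨f, hf, hfx⟩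
    have hfx' : f ∉ Ideal.comap (ιAt hz U hU).toRingHom
        (chartPt hz U hU c).asHomogeneousIdeal.toIdeal := hfx
    obtain ⟨k, hk, g, hg, hgx⟩ := exists_pos_homog_not_mem (𝒜 := 𝒮.deg U hU) _ hf hfx'
    refine ⟨g, mem_irrelevant_of_pos hk hg, ?_⟩
    rw [← map_mem_chartPt_iff hz U hU c hk hg]
    exact hgx
  · rintro ⟨f, hf, hfc⟩
    obtain ⟨k, hk, g, hg, hgc⟩ := exists_pos_homog_not_mem (𝒜 := 𝒮.deg U hU) _ hf hfc
    refine ⟨g, mem_irrelevant_of_pos hk hg, ?_⟩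
    rw [map_mem_chartPt_iff hz U hU c hk hg]
    exact hgc

theorem emb_mem_pointedProjCone_of_mem_domOpen (U : Y.Opens) (hU : IsAffineOpen U)
    (x' : Proj (𝒮h.deg U hU)) (hx' : x' ∈ RelCone.domOpen (ιAt hz U hU)) :
    RelProj.emb pC chartC U hU x' ∈ RelCone.pointedProjCone 𝒮 hz pC chartC := by
  refine TopologicalSpace.Opens.mem_iSup.mpr ⟨⟨U, hU⟩, ?_⟩
  exact ⟨x', hx', rfl⟩

variable {i : 𝒮.toQCAlg.spec ⟶ PC}

/-- on the image of the cone, the pointed projective cone is the pointed affine cone -/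
theorem coneImm_mem_pointedProjCone_iff (hPC : RelProj.IsRelProj 𝒮h pC chartC)
    (hi : RelCone.IsConeImm 𝒮 hz pC chartC i) (c : 𝒮.toQCAlg.spec) :
    i c ∈ RelCone.pointedProjCone 𝒮 hz pC chartC ↔ c ∈ RelCone.pointedCone 𝒮 := by
  constructor
  · intro h
    obtain ⟨V, x'', hx'', hx⟩ := TopologicalSpace.Opens.mem_iSup.mp h
    have hx2 : RelProj.emb pC chartC V.1 V.2 x'' = i c := hx
    have hπ : 𝒮.toQCAlg.π c ∈ V.1 := by
      have h1 : 𝒮.toQCAlg.π c = pC (i c) := by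
        rw [← coneImm_comp hz hPC hi]
        rfl
      rw [h1, ← hx2]
      exact emb_mem_preimage V.1 V.2 x''
    obtain ⟨c', rfl⟩ := exists_ι_eq V.1 V.2 c hπ
    rw [coneImm_ι hz hi] at hx2
    have := emb_injective V.1 V.2 hx2
    subst this
    exact (chartPt_mem_domOpen_iff hz V.1 V.2 c').mp hx''
  · intro h
    obtain ⟨U, hU, c', rfl⟩ := RelConeLib.exists_chart 𝒮 c
    rw [coneImm_ι hz hi]
    exact emb_mem_pointedProjCone_of_mem_domOpen hz U hU _
      ((chartPt_mem_domOpen_iff hz U hU c').mpr h)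

/-- points at infinity lie in the pointed projective cone -/
theorem mem_domOpen_of_not_mem_basicOpen (U : Y.Opens) (hU : IsAffineOpen U)
    (x' : Proj (𝒮h.deg U hU))
    (hx' : x' ∉ Proj.basicOpen (𝒮h.deg U hU) (zAt hz U)) :
    x' ∈ RelCone.domOpen (ιAt hz U hU) := by
  rw [Proj.mem_basicOpen, not_not] at hx'
  by_contra hdom
  rw [RelCone.mem_domOpen] at hdom
  push Not at hdom
  apply x'.not_irrelevant_le
  rw [HomogeneousIdeal.irrelevant_le]
  intro n hn y hy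
  obtain ⟨a, ha, rfl⟩ := ConeAlg.exists_decomp (ιAt hz U hU) (hz.deg_z U hU) (surj hz U hU) n y hy
  change _ ∈ x'.asHomogeneousIdeal.toIdeal
  refine Ideal.sum_mem _ fun j hj => ?_
  have hjn : j ≤ n := Nat.lt_succ_iff.mp (Finset.mem_range.mp hj)
  rcases Nat.eq_or_lt_of_le hjn with rfl | hlt
  · refine Ideal.mul_mem_left _ _ ?_
    obtain ⟨m, rfl⟩ : ∃ m, j = m + 1 := ⟨j - 1, by omega⟩
    rw [pow_succ]
    exact Ideal.mul_mem_left _ _ hx'
  · refine Ideal.mul_mem_right _ _ ?_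
    exact hdom (a j) (mem_irrelevant_of_pos (Nat.sub_pos_of_lt hlt) (ha j))

theorem pointedProjCone_eq_compl_range (h0 : RelCone.StrZeroBij 𝒮)
    (hPC : RelProj.IsRelProj 𝒮h pC chartC)
    {aug : 𝒮.toQCAlg ⟶ RelSpec.QCAlg.unit Y} (haug : RelCone.IsAugmentation 𝒮 aug)
    {ε : Y ⟶ 𝒮.toQCAlg.spec} (hε : RelCone.IsVertex 𝒮 aug ε)
    (hi : RelCone.IsConeImm 𝒮 hz pC chartC i) :
    ((RelCone.pointedProjCone 𝒮 hz pC chartC : PC.Opens) : Set PC) =
      (Set.range (ε ≫ i).base)ᶜ := by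
  ext x
  obtain ⟨U, hxU⟩ := TopologicalSpace.Opens.mem_iSup.mp
    ((iSup_affineOpens_eq_top Y).ge (Set.mem_univ (pC x)))
  have hx : x ∈ pC ⁻¹ᵁ U.1 := hxU
  obtain ⟨x', rfl⟩ := exists_emb_eq (chartC := chartC) U.1 U.2 x hx
  by_cases hzx : x' ∈ Proj.basicOpen (𝒮h.deg U.1 U.2) (zAt hz U.1)
  · obtain ⟨c, rfl⟩ := exists_chartPt_eq hz U.1 U.2 x' hzx
    rw [← coneImm_ι hz hi, SetLike.mem_coe, coneImm_mem_pointedProjCone_iff hz hPC hi,
      Set.mem_compl_iff]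
    have hpc := RelConeLib.pointedCone_eq_compl_range h0 haug hε
    have h1 : 𝒮.toQCAlg.ι U.1 U.2 c ∈ RelCone.pointedCone 𝒮 ↔
        𝒮.toQCAlg.ι U.1 U.2 c ∉ Set.range ε.base := by
      rw [← Set.mem_compl_iff, ← hpc]
      rfl
    rw [h1]
    apply not_congr
    constructor
    · rintro ⟨t, ht⟩
      exact ⟨t, by rw [Scheme.Hom.comp_base]; exact congrArg i.base ht⟩
    · rintro ⟨t, ht⟩
      refine ⟨t, coneImm_injective hz hPC hi ?_⟩
      rw [Scheme.Hom.comp_base] at ht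
      exact ht
  · have h1 : RelProj.emb pC chartC U.1 U.2 x' ∈ RelCone.pointedProjCone 𝒮 hz pC chartC :=
      emb_mem_pointedProjCone_of_mem_domOpen hz U.1 U.2 x'
        (mem_domOpen_of_not_mem_basicOpen hz U.1 U.2 x' hzx)
    have h2 : RelProj.emb pC chartC U.1 U.2 x' ∉ Set.range (ε ≫ i).base := by
      rintro ⟨t, ht⟩
      apply hzx
      rw [← emb_mem_range_coneImm_iff hz hPC hi U.1 U.2 x']
      refine ⟨ε t, ?_⟩
      rw [Scheme.Hom.comp_base] at ht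
      exact ht
    exact ⟨fun _ => h2, fun _ => h1⟩

end pointed

end Groth.Agent.Lib.Helper74.RelConeProj
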