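import Groth.Agent.Lib.Helper74.QMapRes
import Groth.Agent.Lib.Helper74.RelConeProj

set_option autoImplicit false
universe u
open CategoryTheory CategoryTheory.Limits AlgebraicGeometry TopologicalSpace Opposite
open scoped HomogeneousIdeal
open HomogeneousLocalization

namespace Groth.Agent.Lib.Helper74.QMap

open Groth.Agent.Lib.Helper74.RelProjLib

section ring

variable {A B σ τ : Type u} [CommRing A] [SetLike σ A] [AddSubgroupClass σ A]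
  [CommRing B] [SetLike τ B] [AddSubgroupClass τ B]
  {𝒜 : ℕ → σ} {ℬ : ℕ → τ} [GradedRing 𝒜] [GradedRing ℬ]

/-- `a / f ^ n ↦ ψ a * b ^ n / x ^ n` for `x = ψ f * b`, `b` homogeneous. -/
noncomputable def awayMapMul (ψ : 𝒜 →+*ᵍ ℬ) (f : A) {e : ℕ} {b : B} (hb : b ∈ ℬ e) {x : B}
    (hx : x = ψ f * b) : Away 𝒜 f →+* Away ℬ x :=
  (awayMap ℬ hb hx).comp (Away.map ψ f)

theorem awayMapMul_mk (ψ : 𝒜 →+*ᵍ ℬ) {f : A} {e : ℕ} {b : B} (hb : b ∈ ℬ e) {x : B}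
    (hx : x = ψ f * b) {d : ℕ} (hf : f ∈ 𝒜 d) (n : ℕ) (a : A) (ha : a ∈ 𝒜 (n • d)) :
    awayMapMul ψ f hb hx (Away.mk 𝒜 hf n a ha) =
      Away.mk ℬ (hx ▸ SetLike.mul_mem_graded (ψ.map_mem hf) hb) n (ψ a * b ^ n)
        (by rw [smul_add]
            exact SetLike.mul_mem_graded (ψ.map_mem ha) (SetLike.pow_mem_graded n hb)) := by
  rw [awayMapMul, RingHom.comp_apply, Away.map_mk, awayMap_mk]

theorem away_ringHom_ext {R : Type*} [Semiring R] {f : A} {d : ℕ} (hf : f ∈ 𝒜 d)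
    {α β : Away 𝒜 f →+* R}
    (h : ∀ (n : ℕ) (a : A) (ha : a ∈ 𝒜 (n • d)), α (Away.mk 𝒜 hf n a ha) = β (Away.mk 𝒜 hf n a ha)) :
    α = β := by
  ext x
  obtain ⟨n, a, ha, rfl⟩ := Away.mk_surjective 𝒜 hf x
  exact h n a ha

theorem away_mk_congr {f : A} {d : ℕ} (hf : f ∈ 𝒜 d) (n : ℕ) {a a' : A} (ha : a ∈ 𝒜 (n • d))
    (ha' : a' ∈ 𝒜 (n • d)) (h : a = a') : Away.mk 𝒜 hf n a ha = Away.mk 𝒜 hf n a' ha' := by
  subst h; rfl

theorem specMap_awayMapMul_awayι (ψ : 𝒜 →+*ᵍ ℬ) (hirr : ℬ₊ ≤ 𝒜₊.map ψ) {f : A} {d : ℕ}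
    (hd : 0 < d) (hf : f ∈ 𝒜 d) {e : ℕ} {b : B} (hb : b ∈ ℬ e) {x : B} (hx : x = ψ f * b)
    (hx' : x ∈ ℬ (d + e)) (hde : 0 < d + e) :
    Spec.map (CommRingCat.ofHom (awayMapMul ψ f hb hx)) ≫ Proj.awayι 𝒜 f hf hd =
      Proj.awayι ℬ x hx' hde ≫ Proj.map ψ hirr := by
  rw [awayMapMul, CommRingCat.ofHom_comp, Spec.map_comp, Category.assoc,
    ← Proj.awayι_comp_map ψ hirr hd f hf,
    ← Proj.SpecMap_awayMap_awayι ℬ (ψ.map_mem hf) hd hb hx, Category.assoc]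
  rfl

end ring

section chart

variable {Y P : Scheme.{u}} {𝒮 : RelProj.QCGrAlg Y} (p : P ⟶ Y)
  (chart : ∀ (U : Y.Opens) (hU : IsAffineOpen U),
    (((p ⁻¹ᵁ U : P.Opens) : Scheme.{u}) ≅ Proj (𝒮.deg U hU)))

/-- The standard chart `Spec 𝒮(U)_(f) ⟶ P` of a relative Proj. -/
noncomputable def stdChart (U : Y.Opens) (hU : IsAffineOpen U) {d : ℕ} (hd : 0 < d)
    (f : 𝒮.presheaf.obj (op U)) (hf : f ∈ 𝒮.deg U hU d) :
    Spec (CommRingCat.of (Away (𝒮.deg U hU) f)) ⟶ P :=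
  Proj.awayι (𝒮.deg U hU) f hf hd ≫ RelProj.emb p chart U hU

instance (U : Y.Opens) (hU : IsAffineOpen U) {d : ℕ} (hd : 0 < d)
    (f : 𝒮.presheaf.obj (op U)) (hf : f ∈ 𝒮.deg U hU d) :
    IsOpenImmersion (stdChart p chart U hU hd f hf) := by
  unfold stdChart; infer_instance

variable {p chart}

theorem stdChart_res_mul (hP : RelProj.IsRelProj 𝒮 p chart) {U V : Y.Opens} (hU : IsAffineOpen U)
    (hV : IsAffineOpen V) (i : V ≤ U) {d : ℕ} (hd : 0 < d) {f : 𝒮.presheaf.obj (op U)}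
    (hf : f ∈ 𝒮.deg U hU d) {e : ℕ} {b : 𝒮.presheaf.obj (op V)} (hb : b ∈ 𝒮.deg V hV e)
    {x : 𝒮.presheaf.obj (op V)} (hx : x = 𝒮.res hU hV i f * b) {n : ℕ} (hn : n = d + e)
    (hx' : x ∈ 𝒮.deg V hV n) (hn0 : 0 < n) :
    Spec.map (CommRingCat.ofHom (awayMapMul (𝒮.res hU hV i) f hb hx)) ≫
        stdChart p chart U hU hd f hf = stdChart p chart V hV hn0 x hx' := by
  subst hn
  rw [stdChart, stdChart, ← emb_res hP hU hV i,
    reassoc_of% (specMap_awayMapMul_awayι (𝒮.res hU hV i) (irrelevant_le_map_res 𝒮 hU hV i)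
      hd hf hb hx hx' hn0)]

theorem range_stdChart (U : Y.Opens) (hU : IsAffineOpen U) {d : ℕ} (hd : 0 < d)
    (f : 𝒮.presheaf.obj (op U)) (hf : f ∈ 𝒮.deg U hU d) :
    Set.range (stdChart p chart U hU hd f hf) =
      RelProj.emb p chart U hU '' (Proj.basicOpen (𝒮.deg U hU) f : Set (Proj (𝒮.deg U hU))) := by
  rw [stdChart, Scheme.Hom.comp_base, TopCat.coe_comp, Set.range_comp,
    ← Proj.opensRange_awayι (𝒮.deg U hU) f hf hd]
  rfl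

theorem emb_mem_range_stdChart_iff (hP : RelProj.IsRelProj 𝒮 p chart) {U V : Y.Opens}
    (hU : IsAffineOpen U) (hV : IsAffineOpen V) (i : V ≤ U) {d : ℕ} (hd : 0 < d)
    (f : 𝒮.presheaf.obj (op U)) (hf : f ∈ 𝒮.deg U hU d) (y : Proj (𝒮.deg V hV)) :
    RelProj.emb p chart V hV y ∈ Set.range (stdChart p chart U hU hd f hf) ↔
      y ∈ Proj.basicOpen (𝒮.deg V hV) (𝒮.res hU hV i f) := by
  rw [range_stdChart, ← emb_res hP hU hV i, Scheme.Hom.comp_apply,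
    (RelConeProj.emb_injective U hU).mem_set_image]
  rfl

end chart

end Groth.Agent.Lib.Helper74.QMap
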