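import Groth.Agent.Lib.Helper74.QMapComp

set_option autoImplicit false
universe u
open CategoryTheory CategoryTheory.Limits AlgebraicGeometry TopologicalSpace Opposite
open scoped HomogeneousIdeal
open HomogeneousLocalization

namespace Groth.Agent.Lib.Helper74.QMap

open Groth.Agent.Lib.Helper74.RelProjLib

section tn

variable {Y : Scheme.{u}} {𝒮 𝒯 : RelProj.QCGrAlg Y}
  (v : 𝒯.toQCAlg ⟶ 𝒮.toQCAlg) (hv : RelProj.IsGradedHom v)
  {P PT : Scheme.{u}} {p : P ⟶ Y}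
  {chart : ∀ (U : Y.Opens) (hU : IsAffineOpen U),
    (((p ⁻¹ᵁ U : P.Opens) : Scheme.{u}) ≅ Proj (𝒮.deg U hU))}
  {pT : PT ⟶ Y}
  {chartT : ∀ (U : Y.Opens) (hU : IsAffineOpen U),
    (((pT ⁻¹ᵁ U : PT.Opens) : Scheme.{u}) ≅ Proj (𝒯.deg U hU))}

/-- `Proj(v)` is everywhere defined when `v` is (TN)-surjective -/
theorem domQ_eq_top_of_tn_surjective (hP : RelProj.IsRelProj 𝒮 p chart)
    (hTN : ∃ n : ℕ, ∀ k, n ≤ k → ∀ (U : Y.Opens) (hU : IsAffineOpen U), ∀ y ∈ 𝒮.deg U hU k,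
      ∃ x ∈ 𝒯.deg U hU k, (v.hom.app (op U)).hom x = y) :
    RelProj.domQ (RelProj.QGrHom.ofHom v hv) p chart = ⊤ := by
  obtain ⟨N, hN⟩ := hTN
  refine domQ_eq_top_same v hv hP fun U hU => ?_
  exact domOpen_eq_top_of_tn (RelProj.gradedHomAt v hv U hU) (N := N)
    fun k hk y hy => hN k hk U hU y hy

/-- `Proj(v)` is a closed immersion when `v` is (TN)-surjective -/
theorem isClosedImmersion_of_tn_surjective (hP : RelProj.IsRelProj 𝒮 p chart)
    (hPT : RelProj.IsRelProj 𝒯 pT chartT)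
    (hTN : ∃ n : ℕ, ∀ k, n ≤ k → ∀ (U : Y.Opens) (hU : IsAffineOpen U), ∀ y ∈ 𝒮.deg U hU k,
      ∃ x ∈ 𝒯.deg U hU k, (v.hom.app (op U)).hom x = y)
    (πv : ((RelProj.domQ (RelProj.QGrHom.ofHom v hv) p chart : P.Opens) : Scheme.{u}) ⟶ PT)
    (hπv : RelProj.IsProjQMapOn (RelProj.QGrHom.ofHom v hv) pT chartT p chart
      (RelProj.domQ (RelProj.QGrHom.ofHom v hv) p chart) πv) : IsClosedImmersion πv := by
  have hdom := domQ_eq_top_of_tn_surjective v hv hP hTN
  obtain ⟨N, hN⟩ := hTN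
  have hiso : IsIso (RelProj.domQ (RelProj.QGrHom.ofHom v hv) p chart).ι := by
    rw [hdom]; exact inferInstanceAs (IsIso P.topIso.hom)
  have hh : RelProj.IsProjQMap (RelProj.QGrHom.ofHom v hv) pT chartT p chart
      (inv (RelProj.domQ (RelProj.QGrHom.ofHom v hv) p chart).ι ≫ πv) := by
    refine (isProjQMap_iff _ _).mpr ⟨hdom, ?_⟩
    rwa [IsIso.hom_inv_id_assoc]
  have hQ : IsClosedImmersion (inv (RelProj.domQ (RelProj.QGrHom.ofHom v hv) p chart).ι ≫ πv) := by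
    refine isProjQMap_of_forall v hv @IsClosedImmersion hPT hP _ hh fun U hU d hd f hf => ?_
    refine IsClosedImmersion.spec_of_surjective _ ?_
    have hle : U ≤ (𝟙 Y) ⁻¹ᵁ U := le_rfl
    change Function.Surjective
      (Away.map ((RelProj.QGrHom.ofHom v hv).gradedAt U hU U hU hle) f)
    rw [gradedAt_ofHom]
    exact away_map_surjective_of_tn (RelProj.gradedHomAt v hv U hU) (N := N)
      (fun k hk y hy => hN k hk U hU y hy) hd hf
  have : πv = (RelProj.domQ (RelProj.QGrHom.ofHom v hv) p chart).ι ≫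
      (inv (RelProj.domQ (RelProj.QGrHom.ofHom v hv) p chart).ι ≫ πv) := by
    rw [IsIso.hom_inv_id_assoc]
  rw [this]
  infer_instance

/-- `Proj(v) : G(v) → Proj(𝒯)` is dominant when `v` is (TN)-injective -/
theorem isDominant_of_tn_injective (hP : RelProj.IsRelProj 𝒮 p chart)
    (hTN : ∃ n : ℕ, ∀ k, n ≤ k → ∀ (U : Y.Opens) (hU : IsAffineOpen U), ∀ x ∈ 𝒯.deg U hU k,
      (v.hom.app (op U)).hom x = 0 → x = 0)
    (πv : ((RelProj.domQ (RelProj.QGrHom.ofHom v hv) p chart : P.Opens) : Scheme.{u}) ⟶ PT)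
    (hπv : RelProj.IsProjQMapOn (RelProj.QGrHom.ofHom v hv) pT chartT p chart
      (RelProj.domQ (RelProj.QGrHom.ofHom v hv) p chart) πv) : IsDominant πv := by
  obtain ⟨N, hN⟩ := hTN
  refine ⟨?_⟩
  rw [DenseRange, dense_iff_inter_open]
  rintro O hO ⟨y, hy⟩
  obtain ⟨U, hU, d, hd, f, hf, ⟨η, hη⟩⟩ := exists_stdChart_mem (chart := chartT) y
  have hinj : Function.Injective (Away.map (RelProj.gradedHomAt v hv U hU) f) :=
    away_map_injective_of_tn (RelProj.gradedHomAt v hv U hU) (N := N)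
      (fun k hk x hx => hN k hk U hU x hx) hd hf
  have hdense : DenseRange (Spec.map (CommRingCat.ofHom
      (Away.map (RelProj.gradedHomAt v hv U hU) f))).base := by
    change DenseRange (PrimeSpectrum.comap (Away.map (RelProj.gradedHomAt v hv U hU) f))
    rw [PrimeSpectrum.denseRange_comap_iff_ker_le_nilRadical,
      (RingHom.injective_iff_ker_eq_bot _).mp hinj]
    exact bot_le
  have hO' : IsOpen ((stdChart pT chartT U hU hd f hf).base ⁻¹' O) :=
    hO.preimage (Scheme.Hom.continuous _)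
  obtain ⟨_, hξO, ⟨ξ, rfl⟩⟩ := hdense.inter_open_nonempty _ hO'
    ⟨η, by rw [Set.mem_preimage, hη]; exact hy⟩
  have hW := range_awayι_v_subset_domQ v hv hP U hU hd f hf
  have h3 := isProjQMapOn_ofHom_chart v hv hπv U hU hd f hf hW
  have h4 := congrArg (fun ψ => ψ.base ξ) h3
  refine ⟨_, hξO, ⟨_, h4⟩⟩

end tn

end Groth.Agent.Lib.Helper74.QMap
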