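import Groth.Agent.Lib.Helper74.QMapTN

set_option autoImplicit false
universe u
open CategoryTheory CategoryTheory.Limits AlgebraicGeometry TopologicalSpace Opposite
open scoped HomogeneousIdeal
open HomogeneousLocalization

namespace Groth.Agent.Lib.Helper74.QMap

open Groth.Agent.Lib.Helper74.RelProjLib

section ring

variable {A B σ τ : Type u} [CommRing A] [SetLike σ A] [AddSubgroupClass σ A]
  [CommRing B] [SetLike τ B] [AddSubgroupClass τ B]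
  {𝒜 : ℕ → σ} {ℬ : ℕ → τ} [GradedRing 𝒜] [GradedRing ℬ]

/-- the image in `Proj 𝒜` of a point of `G(ψ) ⊆ Proj ℬ` -/
def comapPt (ψ : 𝒜 →+*ᵍ ℬ) (y : Proj ℬ) (hy : y ∈ RelCone.domOpen ψ) : Proj 𝒜 where
  asHomogeneousIdeal := y.asHomogeneousIdeal.comap ψ
  isPrime := y.isPrime.comap ψ
  not_irrelevant_le le := by
    obtain ⟨f, hf, hfy⟩ := (RelCone.mem_domOpen ψ y).mp hy
    exact hfy (le hf)

theorem comapPt_mem_basicOpen_iff (ψ : 𝒜 →+*ᵍ ℬ) (y : Proj ℬ) (hy : y ∈ RelCone.domOpen ψ)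
    (f : A) : comapPt ψ y hy ∈ Proj.basicOpen 𝒜 f ↔ y ∈ Proj.basicOpen ℬ (ψ f) :=
  Iff.rfl

end ring

section cone

variable {Y : Scheme.{u}} {𝒮 𝒮h : RelProj.QCGrAlg Y} {ι : 𝒮.toQCAlg ⟶ 𝒮h.toQCAlg}
  {z : 𝒮h.presheaf.obj (op ⊤)} (hz : RelCone.IsPolyOver 𝒮 𝒮h ι z)
  {PC : Scheme.{u}} {pC : PC ⟶ Y}
  {chartC : ∀ (U : Y.Opens) (hU : IsAffineOpen U),
    (((pC ⁻¹ᵁ U : PC.Opens) : Scheme.{u}) ≅ Proj (𝒮h.deg U hU))}

/-- the pointed projective cone is the open of definition of `Proj(ι)` -/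
theorem pointedProjCone_eq_domQ (hC : RelProj.IsRelProj 𝒮h pC chartC) :
    RelCone.pointedProjCone 𝒮 hz pC chartC =
      RelProj.domQ (RelProj.QGrHom.ofHom ι hz.graded) pC chartC := by
  ext x
  constructor
  · intro hx
    obtain ⟨U, y, hy, rfl⟩ := Opens.mem_iSup.mp hx
    have hle : U.1 ≤ (𝟙 Y) ⁻¹ᵁ U.1 := le_rfl
    refine (emb_mem_domQ_iff (RelProj.QGrHom.ofHom ι hz.graded) hC U.1 U.2 U.1 U.2 hle y).mpr ?_
    rw [gradedAt_ofHom]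
    exact hy
  · intro hx
    obtain ⟨U, hxU⟩ := TopologicalSpace.Opens.mem_iSup.mp
      ((iSup_affineOpens_eq_top Y).ge (Set.mem_univ (pC x)))
    obtain ⟨y, rfl⟩ := RelConeProj.exists_emb_eq (pC := pC) (chartC := chartC) U.1 U.2 x hxU
    have hle : U.1 ≤ (𝟙 Y) ⁻¹ᵁ U.1 := le_rfl
    have := (emb_mem_domQ_iff (RelProj.QGrHom.ofHom ι hz.graded) hC U.1 U.2 U.1 U.2 hle y).mp hx
    rw [gradedAt_ofHom] at this
    exact RelConeProj.emb_mem_pointedProjCone_of_mem_domOpen hz U.1 U.2 y this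

theorem emb_mem_pointedProjCone_iff (hC : RelProj.IsRelProj 𝒮h pC chartC) (U : Y.Opens)
    (hU : IsAffineOpen U) (y : Proj (𝒮h.deg U hU)) :
    RelProj.emb pC chartC U hU y ∈ RelCone.pointedProjCone 𝒮 hz pC chartC ↔
      y ∈ RelCone.domOpen (RelConeProj.ιAt hz U hU) := by
  rw [pointedProjCone_eq_domQ hz hC]
  have hle : U ≤ (𝟙 Y) ⁻¹ᵁ U := le_rfl
  rw [emb_mem_domQ_iff (RelProj.QGrHom.ofHom ι hz.graded) hC U hU U hU hle y, gradedAt_ofHom]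

end cone

section functor

variable {Y Y' : Scheme.{u}} {q : Y' ⟶ Y} {𝒮 : RelProj.QCGrAlg Y} {𝒮' : RelProj.QCGrAlg Y'}
  (u : RelProj.QGrHom q 𝒮 𝒮')
  {𝒮h : RelProj.QCGrAlg Y} {ι : 𝒮.toQCAlg ⟶ 𝒮h.toQCAlg} {z : 𝒮h.presheaf.obj (op ⊤)}
  (hz : RelCone.IsPolyOver 𝒮 𝒮h ι z)
  {𝒮h' : RelProj.QCGrAlg Y'} {ι' : 𝒮'.toQCAlg ⟶ 𝒮h'.toQCAlg} {z' : 𝒮h'.presheaf.obj (op ⊤)}
  (hz' : RelCone.IsPolyOver 𝒮' 𝒮h' ι' z')
  (uh : RelProj.QGrHom q 𝒮h 𝒮h')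
  (huh : ∀ U : Y.Opens, ι.hom.app (op U) ≫ uh.app U = u.app U ≫ ι'.hom.app (op (q ⁻¹ᵁ U)))
  (huhz : (uh.app ⊤).hom z = RelCone.restrictTop 𝒮h' z' (q ⁻¹ᵁ ⊤))

include huh in
theorem uh_ι (U : Y.Opens) (hU : IsAffineOpen U) (U' : Y'.Opens) (hU' : IsAffineOpen U')
    (hle : U' ≤ q ⁻¹ᵁ U) (f : 𝒮.presheaf.obj (op U)) :
    uh.gradedAt U hU U' hU' hle (RelConeProj.ιAt hz U hU f) =
      RelConeProj.ιAt hz' U' hU' (u.gradedAt U hU U' hU' hle f) := by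
  have h1 := congrArg (fun ψ => ψ.hom f) (huh U)
  have h2 := congrArg (fun ψ => ψ.hom ((u.app U).hom f))
    (ι'.hom.naturality (homOfLE hle).op)
  change (𝒮h'.presheaf.map (homOfLE hle).op).hom ((uh.app U).hom ((ι.hom.app (op U)).hom f)) =
    (ι'.hom.app (op U')).hom ((𝒮'.presheaf.map (homOfLE hle).op).hom ((u.app U).hom f))
  change (uh.app U).hom ((ι.hom.app (op U)).hom f) =
    (ι'.hom.app (op (q ⁻¹ᵁ U))).hom ((u.app U).hom f) at h1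
  rw [h1]
  exact h2.symm

include huhz in
theorem uh_z (U : Y.Opens) (hU : IsAffineOpen U) (U' : Y'.Opens) (hU' : IsAffineOpen U')
    (hle : U' ≤ q ⁻¹ᵁ U) :
    uh.gradedAt U hU U' hU' hle (RelConeProj.zAt hz U) = RelConeProj.zAt hz' U' := by
  have h1 := congrArg (fun ψ => ψ.hom z) (uh.naturality (le_top : U ≤ ⊤))
  change (𝒮h'.presheaf.map (homOfLE hle).op).hom
    ((uh.app U).hom ((𝒮h.presheaf.map (homOfLE le_top).op).hom z)) =
      (𝒮h'.presheaf.map (homOfLE le_top).op).hom z'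
  change (𝒮h'.presheaf.map (homOfLE (q.preimage_mono (le_top : U ≤ ⊤))).op).hom
    ((uh.app ⊤).hom z) = (uh.app U).hom ((𝒮h.presheaf.map (homOfLE le_top).op).hom z) at h1
  rw [← h1, huhz]
  change ((𝒮h'.presheaf.map (homOfLE le_top).op ≫
    𝒮h'.presheaf.map (homOfLE (q.preimage_mono (le_top : U ≤ ⊤))).op) ≫
      𝒮h'.presheaf.map (homOfLE hle).op).hom z' = _
  rw [← Functor.map_comp, ← Functor.map_comp]
  rfl

variable {PC PC' : Scheme.{u}} {pC : PC ⟶ Y}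
  {chartC : ∀ (U : Y.Opens) (hU : IsAffineOpen U),
    (((pC ⁻¹ᵁ U : PC.Opens) : Scheme.{u}) ≅ Proj (𝒮h.deg U hU))}
  {pC' : PC' ⟶ Y'}
  {chartC' : ∀ (U : Y'.Opens) (hU : IsAffineOpen U),
    (((pC' ⁻¹ᵁ U : PC'.Opens) : Scheme.{u}) ≅ Proj (𝒮h'.deg U hU))}

/-- every point of the source lies over an affine pair -/
theorem exists_affine_pair (q : Y' ⟶ Y) (y' : Y') :
    ∃ (U : Y.Opens) (_ : IsAffineOpen U) (U' : Y'.Opens) (_ : IsAffineOpen U'),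
      U' ≤ q ⁻¹ᵁ U ∧ y' ∈ U' := by
  obtain ⟨U, hyU⟩ := TopologicalSpace.Opens.mem_iSup.mp
    ((iSup_affineOpens_eq_top Y).ge (Set.mem_univ (q y')))
  have hy' : y' ∈ q ⁻¹ᵁ U.1 := hyU
  obtain ⟨U', hU', hyU', hle⟩ := ChartOpens.exists_affine_le hy'
  exact ⟨U.1, U.2, U', hU', hle, hyU'⟩

include huh in
theorem preimage_pointed_le (hC : RelProj.IsRelProj 𝒮h pC chartC)
    (hC' : RelProj.IsRelProj 𝒮h' pC' chartC')
    (Φh : ((RelProj.domQ uh pC' chartC' : PC'.Opens) : Scheme.{u}) ⟶ PC)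
    (hΦh : RelProj.IsProjQMapOn uh pC chartC pC' chartC' (RelProj.domQ uh pC' chartC') Φh) :
    (RelProj.domQ uh pC' chartC').ι ''ᵁ (Φh ⁻¹ᵁ RelCone.pointedProjCone 𝒮 hz pC chartC) ≤
      RelCone.pointedProjCone 𝒮' hz' pC' chartC' := by
  rintro _ ⟨x, hx, rfl⟩
  obtain ⟨U, hU, U', hU', hle, hxU'⟩ := exists_affine_pair q (pC' x.1)
  obtain ⟨y, hy⟩ := RelConeProj.exists_emb_eq (pC := pC') (chartC := chartC') U' hU' x.1 hxU'
  have hΦU : Φh x ∈ pC ⁻¹ᵁ U := by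
    have h2 := congrArg (fun ψ => ψ.base x) (isProjQMapOn_comp hC hC' Φh hΦh)
    change pC (Φh x) = q (pC' x.1) at h2
    change pC (Φh x) ∈ U
    rw [h2]
    exact hle hxU'
  obtain ⟨w, hw⟩ := RelConeProj.exists_emb_eq (pC := pC) (chartC := chartC) U hU (Φh x) hΦU
  have hx2 : Φh x ∈ RelCone.pointedProjCone 𝒮 hz pC chartC := hx
  rw [← hw, emb_mem_pointedProjCone_iff hz hC U hU w, mem_domOpen_iff_homog] at hx2
  obtain ⟨d, hd, f, hf, hwf⟩ := hx2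
  have h1 : Φh x ∈ Set.range (stdChart pC chartC U hU hd (RelConeProj.ιAt hz U hU f)
      ((RelConeProj.ιAt hz U hU).map_mem hf)) := by
    rw [← hw]
    exact (emb_mem_range_stdChart_self_iff U hU hd _ _ w).mpr hwf
  have hx' : x = ⟨RelProj.emb pC' chartC' U' hU' y, hy ▸ x.2⟩ := Subtype.ext hy.symm
  rw [hx', qmap_mem_range_stdChart_iff uh hC' Φh hΦh U hU U' hU' hle hd _ _ y,
    uh_ι u hz hz' uh huh] at h1
  change x.1 ∈ RelCone.pointedProjCone 𝒮' hz' pC' chartC'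
  rw [← hy, emb_mem_pointedProjCone_iff hz' hC' U' hU' y, mem_domOpen_iff_homog]
  exact ⟨d, hd, u.gradedAt U hU U' hU' hle f, (u.gradedAt U hU U' hU' hle).map_mem hf, h1⟩

theorem domQ_eq_top_of_forall_domOpen
    (h : ∀ (U : Y.Opens) (hU : IsAffineOpen U) (U' : Y'.Opens) (hU' : IsAffineOpen U')
      (hle : U' ≤ q ⁻¹ᵁ U), RelCone.domOpen (uh.gradedAt U hU U' hU' hle) = ⊤) :
    RelProj.domQ uh pC' chartC' = ⊤ := by
  rw [_root_.eq_top_iff]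
  intro x _
  obtain ⟨U, hU, U', hU', hle, hxU'⟩ := exists_affine_pair q (pC' x)
  obtain ⟨y, rfl⟩ := RelConeProj.exists_emb_eq (pC := pC') (chartC := chartC') U' hU' x hxU'
  refine Opens.mem_iSup.mpr ⟨⟨(⟨U, hU⟩, ⟨U', hU'⟩), hle⟩, ⟨y, ?_, rfl⟩⟩
  change y ∈ RelCone.domOpen _
  rw [h U hU U' hU' hle]
  trivial

theorem domOpen_eq_top_of_domQ_eq_top {P' : Scheme.{u}} {p' : P' ⟶ Y'}
    {chart' : ∀ (U : Y'.Opens) (hU : IsAffineOpen U),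
      (((p' ⁻¹ᵁ U : P'.Opens) : Scheme.{u}) ≅ Proj (𝒮'.deg U hU))}
    (hP' : RelProj.IsRelProj 𝒮' p' chart') (hdom : RelProj.domQ u p' chart' = ⊤)
    (U : Y.Opens) (hU : IsAffineOpen U) (U' : Y'.Opens) (hU' : IsAffineOpen U')
    (hle : U' ≤ q ⁻¹ᵁ U) : RelCone.domOpen (u.gradedAt U hU U' hU' hle) = ⊤ := by
  rw [_root_.eq_top_iff]
  intro y _
  refine (emb_mem_domQ_iff u hP' U hU U' hU' hle y).mp ?_
  rw [hdom]
  trivial

include huh in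
/-- points of the pointed projective cone `Ê'` over an affine pair are detected by elements
coming from `𝒮(U)` when `Proj(u)` is everywhere defined -/
theorem exists_of_mem_domOpen_ι' {U : Y.Opens} (hU : IsAffineOpen U) {U' : Y'.Opens}
    (hU' : IsAffineOpen U') (hle : U' ≤ q ⁻¹ᵁ U)
    (htop : RelCone.domOpen (u.gradedAt U hU U' hU' hle) = ⊤)
    (y : Proj (𝒮h'.deg U' hU')) (hy : y ∈ RelCone.domOpen (RelConeProj.ιAt hz' U' hU')) :
    ∃ d, 0 < d ∧ ∃ f ∈ 𝒮.deg U hU d,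
      y ∈ Proj.basicOpen (𝒮h'.deg U' hU')
        (uh.gradedAt U hU U' hU' hle (RelConeProj.ιAt hz U hU f)) := by
  have h0 : comapPt (RelConeProj.ιAt hz' U' hU') y hy ∈
      RelCone.domOpen (u.gradedAt U hU U' hU' hle) := by
    rw [htop]; trivial
  obtain ⟨d, hd, f, hf, hfy⟩ := (mem_domOpen_iff_homog _ _).mp h0
  rw [comapPt_mem_basicOpen_iff] at hfy
  refine ⟨d, hd, f, hf, ?_⟩
  rw [uh_ι u hz hz' uh huh]
  exact hfy

include hz hz' huh huhz in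
theorem domQ_uh_eq_top {P' : Scheme.{u}} {p' : P' ⟶ Y'}
    {chart' : ∀ (U : Y'.Opens) (hU : IsAffineOpen U),
      (((p' ⁻¹ᵁ U : P'.Opens) : Scheme.{u}) ≅ Proj (𝒮'.deg U hU))}
    (hP' : RelProj.IsRelProj 𝒮' p' chart') (hdom : RelProj.domQ u p' chart' = ⊤) :
    RelProj.domQ uh pC' chartC' = ⊤ := by
  refine domQ_eq_top_of_forall_domOpen uh fun U hU U' hU' hle => ?_
  rw [_root_.eq_top_iff]
  intro y _
  by_cases hzy : y ∈ Proj.basicOpen (𝒮h'.deg U' hU') (RelConeProj.zAt hz' U')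
  · refine (mem_domOpen_iff_homog _ y).mpr ⟨1, one_pos, RelConeProj.zAt hz U, hz.deg_z U hU, ?_⟩
    rw [uh_z hz hz' uh huhz]
    exact hzy
  · have hy' := RelConeProj.mem_domOpen_of_not_mem_basicOpen hz' U' hU' y hzy
    obtain ⟨d, hd, f, hf, hfy⟩ := exists_of_mem_domOpen_ι' u hz hz' uh huh hU hU' hle
      (domOpen_eq_top_of_domQ_eq_top u hP' hdom U hU U' hU' hle) y hy'
    exact (mem_domOpen_iff_homog _ y).mpr
      ⟨d, hd, RelConeProj.ιAt hz U hU f, (RelConeProj.ιAt hz U hU).map_mem hf, hfy⟩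

include huh in
theorem pointed_le_preimage {P' : Scheme.{u}} {p' : P' ⟶ Y'}
    {chart' : ∀ (U : Y'.Opens) (hU : IsAffineOpen U),
      (((p' ⁻¹ᵁ U : P'.Opens) : Scheme.{u}) ≅ Proj (𝒮'.deg U hU))}
    (hP' : RelProj.IsRelProj 𝒮' p' chart') (hdom : RelProj.domQ u p' chart' = ⊤)
    (hC : RelProj.IsRelProj 𝒮h pC chartC) (hC' : RelProj.IsRelProj 𝒮h' pC' chartC')
    (hdomh : RelProj.domQ uh pC' chartC' = ⊤)
    (Φh : ((RelProj.domQ uh pC' chartC' : PC'.Opens) : Scheme.{u}) ⟶ PC)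
    (hΦh : RelProj.IsProjQMapOn uh pC chartC pC' chartC' (RelProj.domQ uh pC' chartC') Φh) :
    RelCone.pointedProjCone 𝒮' hz' pC' chartC' ≤
      (RelProj.domQ uh pC' chartC').ι ''ᵁ (Φh ⁻¹ᵁ RelCone.pointedProjCone 𝒮 hz pC chartC) := by
  intro x' hx'
  have hxd : x' ∈ RelProj.domQ uh pC' chartC' := by rw [hdomh]; trivial
  refine ⟨⟨x', hxd⟩, ?_, rfl⟩
  obtain ⟨U, hU, U', hU', hle, hxU'⟩ := exists_affine_pair q (pC' x')
  obtain ⟨y, hy⟩ := RelConeProj.exists_emb_eq (pC := pC') (chartC := chartC') U' hU' x' hxU'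
  subst hy
  rw [emb_mem_pointedProjCone_iff hz' hC' U' hU' y] at hx'
  obtain ⟨d, hd, f, hf, hfy⟩ := exists_of_mem_domOpen_ι' u hz hz' uh huh hU hU' hle
    (domOpen_eq_top_of_domQ_eq_top u hP' hdom U hU U' hU' hle) y hx'
  have h1 := (qmap_mem_range_stdChart_iff uh hC' Φh hΦh U hU U' hU' hle hd _
    ((RelConeProj.ιAt hz U hU).map_mem hf) y hxd).mpr hfy
  rw [range_stdChart] at h1
  obtain ⟨w, hw, hwx⟩ := h1
  change Φh _ ∈ RelCone.pointedProjCone 𝒮 hz pC chartC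
  rw [← hwx, emb_mem_pointedProjCone_iff hz hC U hU w, mem_domOpen_iff_homog]
  exact ⟨d, hd, f, hf, hw⟩

end functor

end Groth.Agent.Lib.Helper74.QMap
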