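import Groth.Agent.Lib.Helper74.QMapCone
import Groth.Agent.Lib.Helper74.RelConeProj2

set_option autoImplicit false
universe u
open CategoryTheory CategoryTheory.Limits AlgebraicGeometry TopologicalSpace Opposite
open scoped HomogeneousIdeal
open HomogeneousLocalization

namespace Groth.Agent.Lib.Helper74.QMap

open Groth.Agent.Lib.Helper74.RelProjLib

section general

variable {Y Y' : Scheme.{u}} {g : Y' ⟶ Y} {𝒮 : RelProj.QCGrAlg Y} {𝒮' : RelProj.QCGrAlg Y'}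
  (u : RelProj.QGrHom g 𝒮 𝒮')
  {P P' : Scheme.{u}} {p : P ⟶ Y}
  {chart : ∀ (U : Y.Opens) (hU : IsAffineOpen U),
    (((p ⁻¹ᵁ U : P.Opens) : Scheme.{u}) ≅ Proj (𝒮.deg U hU))}
  {p' : P' ⟶ Y'}
  {chart' : ∀ (U : Y'.Opens) (hU : IsAffineOpen U),
    (((p' ⁻¹ᵁ U : P'.Opens) : Scheme.{u}) ≅ Proj (𝒮'.deg U hU))}

/-- the chart equation of `IsProjQMapOn` at an element `s'` equal to `u f` -/
theorem isProjQMapOn_chart_of_eq {W : P'.Opens} {r : (W : Scheme.{u}) ⟶ P}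
    (hr : RelProj.IsProjQMapOn u p chart p' chart' W r)
    (U : Y.Opens) (hU : IsAffineOpen U) (U' : Y'.Opens) (hU' : IsAffineOpen U')
    (hle : U' ≤ g ⁻¹ᵁ U) {d : ℕ} (hd : 0 < d) (f : 𝒮.presheaf.obj (op U))
    (hf : f ∈ 𝒮.deg U hU d) {s' : 𝒮'.presheaf.obj (op U')} (hs' : s' ∈ 𝒮'.deg U' hU' d)
    (h : u.gradedAt U hU U' hU' hle f = s')
    (hW : Set.range (Proj.awayι (𝒮'.deg U' hU') s' hs' hd ≫
      RelProj.emb p' chart' U' hU').base ⊆ Set.range W.ι.base) :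
    IsOpenImmersion.lift W.ι (Proj.awayι (𝒮'.deg U' hU') s' hs' hd ≫
      RelProj.emb p' chart' U' hU') hW ≫ r =
      Spec.map (CommRingCat.ofHom (HomogeneousLocalization.map (u.gradedAt U hU U' hU' hle)
        (RelConeProj.powers_le_comap_of_eq _ h))) ≫
        Proj.awayι (𝒮.deg U hU) f hf hd ≫ RelProj.emb p chart U hU := by
  subst h
  exact hr U hU U' hU' hle d hd f hf hW

end general

section functor

variable {Y Y' : Scheme.{u}} {q : Y' ⟶ Y} {𝒮 : RelProj.QCGrAlg Y} {𝒮' : RelProj.QCGrAlg Y'}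
  (u : RelProj.QGrHom q 𝒮 𝒮')
  {𝒮h : RelProj.QCGrAlg Y} {ι : 𝒮.toQCAlg ⟶ 𝒮h.toQCAlg} {z : 𝒮h.presheaf.obj (op ⊤)}
  (hz : RelCone.IsPolyOver 𝒮 𝒮h ι z)
  {𝒮h' : RelProj.QCGrAlg Y'} {ι' : 𝒮'.toQCAlg ⟶ 𝒮h'.toQCAlg} {z' : 𝒮h'.presheaf.obj (op ⊤)}
  (hz' : RelCone.IsPolyOver 𝒮' 𝒮h' ι' z')
  (uh : RelProj.QGrHom q 𝒮h 𝒮h')
  (huh : ∀ U : Y.Opens, ι.hom.app (op U) ≫ uh.app U = u.app U ≫ ι'.hom.app (op (q ⁻¹ᵁ U)))
  (huhz : (uh.app ⊤).hom z = RelCone.restrictTop 𝒮h' z' (q ⁻¹ᵁ ⊤))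

/-- the homomorphism `𝒮h(U)_(z) → 𝒮h'(U')_(z')` induced by `φ̂` -/
noncomputable def awayUh (U : Y.Opens) (hU : IsAffineOpen U) (U' : Y'.Opens)
    (hU' : IsAffineOpen U') (hle : U' ≤ q ⁻¹ᵁ U) :
    Away (𝒮h.deg U hU) (RelConeProj.zAt hz U) →+* Away (𝒮h'.deg U' hU') (RelConeProj.zAt hz' U') :=
  HomogeneousLocalization.map (uh.gradedAt U hU U' hU' hle)
    (RelConeProj.powers_le_comap_of_eq _ (uh_z hz hz' uh huhz U hU U' hU' hle))

include huh in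
theorem awayUh_frac (U : Y.Opens) (hU : IsAffineOpen U) (U' : Y'.Opens)
    (hU' : IsAffineOpen U') (hle : U' ≤ q ⁻¹ᵁ U) (k : ℕ) (x : 𝒮.presheaf.obj (op U))
    (hx : x ∈ 𝒮.deg U hU k) :
    awayUh hz hz' uh huhz U hU U' hU' hle
        (ConeAlg.frac (RelConeProj.ιAt hz U hU) (hz.deg_z U hU) k x hx) =
      ConeAlg.frac (RelConeProj.ιAt hz' U' hU') (hz'.deg_z U' hU') k
        (u.gradedAt U hU U' hU' hle x) ((u.gradedAt U hU U' hU' hle).map_mem hx) := by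
  apply HomogeneousLocalization.val_injective
  rw [ConeAlg.val_frac]
  change (HomogeneousLocalization.map (uh.gradedAt U hU U' hU' hle) _
    (HomogeneousLocalization.mk _)).val = _
  rw [HomogeneousLocalization.map_mk, HomogeneousLocalization.val_mk]
  congr 1
  · exact uh_ι u hz hz' uh huh U hU U' hU' hle x
  · apply Subtype.ext
    change uh.gradedAt U hU U' hU' hle (RelConeProj.zAt hz U ^ k) = RelConeProj.zAt hz' U' ^ k
    rw [map_pow, uh_z hz hz' uh huhz]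

include huh in
theorem awayZToBase_awayUh (U : Y.Opens) (hU : IsAffineOpen U) (U' : Y'.Opens)
    (hU' : IsAffineOpen U') (hle : U' ≤ q ⁻¹ᵁ U) :
    (hz'.awayZToBase U' hU').comp (awayUh hz hz' uh huhz U hU U' hU' hle) =
      (u.appLE U U' hle).hom.comp (hz.awayZToBase U hU) := by
  refine ConeAlg.ringHom_ext_of_frac (RelConeProj.ιAt hz U hU) (hz.deg_z U hU) _ _
    (RelConeProj.surj hz U hU) ?_
  intro k x hx
  rw [RingHom.comp_apply, RingHom.comp_apply, awayUh_frac u hz hz' uh huh huhz,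
    RelConeProj.awayZToBase_frac, RelConeProj.awayZToBase_frac]
  rfl

variable {PC PC' : Scheme.{u}} {pC : PC ⟶ Y}
  {chartC : ∀ (U : Y.Opens) (hU : IsAffineOpen U),
    (((pC ⁻¹ᵁ U : PC.Opens) : Scheme.{u}) ≅ Proj (𝒮h.deg U hU))}
  {pC' : PC' ⟶ Y'}
  {chartC' : ∀ (U : Y'.Opens) (hU : IsAffineOpen U),
    (((pC' ⁻¹ᵁ U : PC'.Opens) : Scheme.{u}) ≅ Proj (𝒮h'.deg U hU))}

include hz huhz in
/-- points of `D₊(z')` over an affine pair lie in `G(φ̂)` -/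
theorem emb_mem_domQ_of_mem_basicOpen_z (hC' : RelProj.IsRelProj 𝒮h' pC' chartC')
    (U : Y.Opens) (hU : IsAffineOpen U) (U' : Y'.Opens)
    (hU' : IsAffineOpen U') (hle : U' ≤ q ⁻¹ᵁ U) (y : Proj (𝒮h'.deg U' hU'))
    (hy : y ∈ Proj.basicOpen (𝒮h'.deg U' hU') (RelConeProj.zAt hz' U')) :
    RelProj.emb pC' chartC' U' hU' y ∈ RelProj.domQ uh pC' chartC' := by
  refine (emb_mem_domQ_iff uh hC' U hU U' hU' hle y).mpr ?_
  refine (mem_domOpen_iff_homog _ y).mpr ⟨1, one_pos, RelConeProj.zAt hz U, hz.deg_z U hU, ?_⟩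
  rw [uh_z hz hz' uh huhz]
  exact hy

include hz huhz in
/-- `i'(C') ⊆ G(φ̂)` -/
theorem range_coneImm_subset_domQ (hC' : RelProj.IsRelProj 𝒮h' pC' chartC')
    (i' : 𝒮'.toQCAlg.spec ⟶ PC') (hi' : RelCone.IsConeImm 𝒮' hz' pC' chartC' i') :
    Set.range i'.base ⊆ ((RelProj.domQ uh pC' chartC' : PC'.Opens) : Set PC') := by
  rintro _ ⟨c, rfl⟩
  obtain ⟨U, hU, U', hU', hle, hcU'⟩ := exists_affine_pair q (𝒮'.toQCAlg.π c)
  obtain ⟨c', rfl⟩ := RelConeProj.exists_ι_eq U' hU' c hcU'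
  change i' _ ∈ RelProj.domQ uh pC' chartC'
  rw [RelConeProj.coneImm_ι hz' hi' U' hU' c']
  exact emb_mem_domQ_of_mem_basicOpen_z hz hz' uh huhz hC' U hU U' hU' hle _
    (RelConeProj.chartPt_mem_basicOpen hz' U' hU' c')

include hz huhz in
theorem range_awayι_z_subset_domQ (hC' : RelProj.IsRelProj 𝒮h' pC' chartC')
    (U : Y.Opens) (hU : IsAffineOpen U) (U' : Y'.Opens)
    (hU' : IsAffineOpen U') (hle : U' ≤ q ⁻¹ᵁ U) :
    Set.range (Proj.awayι (𝒮h'.deg U' hU') (RelConeProj.zAt hz' U') (hz'.deg_z U' hU') one_pos ≫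
      RelProj.emb pC' chartC' U' hU').base ⊆ Set.range (RelProj.domQ uh pC' chartC').ι.base := by
  rw [Scheme.Opens.range_ι]
  rintro _ ⟨y, rfl⟩
  refine emb_mem_domQ_of_mem_basicOpen_z hz hz' uh huhz hC' U hU U' hU' hle _ ?_
  rw [← Proj.opensRange_awayι (𝒮h'.deg U' hU') (RelConeProj.zAt hz' U') (hz'.deg_z U' hU') one_pos]
  exact ⟨y, rfl⟩

include huh huhz in
/-- the square `Φ, i', i, Φ̂` commutes -/
theorem coneImm_comm (hC' : RelProj.IsRelProj 𝒮h' pC' chartC')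
    (Φh : ((RelProj.domQ uh pC' chartC' : PC'.Opens) : Scheme.{u}) ⟶ PC)
    (hΦh : RelProj.IsProjQMapOn uh pC chartC pC' chartC' (RelProj.domQ uh pC' chartC') Φh)
    (Φc : 𝒮'.toQCAlg.spec ⟶ 𝒮.toQCAlg.spec) (hΦc : RelSpec.IsSpecQMap u.toQHom Φc)
    (i : 𝒮.toQCAlg.spec ⟶ PC) (hi : RelCone.IsConeImm 𝒮 hz pC chartC i)
    (i' : 𝒮'.toQCAlg.spec ⟶ PC') (hi' : RelCone.IsConeImm 𝒮' hz' pC' chartC' i')
    (i'' : 𝒮'.toQCAlg.spec ⟶ ((RelProj.domQ uh pC' chartC' : PC'.Opens) : Scheme.{u}))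
    (hi'' : i'' ≫ (RelProj.domQ uh pC' chartC').ι = i') : i'' ≫ Φh = Φc ≫ i := by
  refine hom_ext_of_forall_exists _ _ fun c => ?_
  obtain ⟨U, hU, U', hU', hle, hcU'⟩ := exists_affine_pair q (𝒮'.toQCAlg.π c)
  obtain ⟨c', hc'⟩ := RelConeProj.exists_ι_eq U' hU' c hcU'
  refine ⟨_, 𝒮'.toQCAlg.ι U' hU', inferInstance, ⟨c', hc'⟩, ?_⟩
  have hW := range_awayι_z_subset_domQ hz hz' uh huhz hC' U hU U' hU' hle
  have h1 : 𝒮'.toQCAlg.ι U' hU' ≫ i'' =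
      Spec.map (CommRingCat.ofHom (hz'.awayZToBase U' hU')) ≫
        IsOpenImmersion.lift (RelProj.domQ uh pC' chartC').ι
          (Proj.awayι (𝒮h'.deg U' hU') (RelConeProj.zAt hz' U') (hz'.deg_z U' hU') one_pos ≫
            RelProj.emb pC' chartC' U' hU') hW := by
    rw [← cancel_mono (RelProj.domQ uh pC' chartC').ι, Category.assoc, hi'', Category.assoc,
      IsOpenImmersion.lift_fac]
    exact hi' U' hU'
  have h2 := isProjQMapOn_chart_of_eq uh hΦh U hU U' hU' hle one_pos (RelConeProj.zAt hz U)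
    (hz.deg_z U hU) (hz'.deg_z U' hU') (uh_z hz hz' uh huhz U hU U' hU' hle) hW
  have h3 := congrArg CommRingCat.ofHom (awayZToBase_awayUh u hz hz' uh huh huhz U hU U' hU' hle)
  rw [CommRingCat.ofHom_comp, CommRingCat.ofHom_comp, CommRingCat.ofHom_hom] at h3
  rw [reassoc_of% h1, h2, reassoc_of% (hΦc U hU U' hU' hle), hi U hU, ← Spec.map_comp_assoc,
    ← Spec.map_comp_assoc]
  congr 2

end functor

end Groth.Agent.Lib.Helper74.QMap
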