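import Groth.Agent.Lib.Helper74.QMapChart

set_option autoImplicit false
universe u
open CategoryTheory CategoryTheory.Limits AlgebraicGeometry TopologicalSpace Opposite
open scoped HomogeneousIdeal
open HomogeneousLocalization

namespace Groth.Agent.Lib.Helper74.QMap

open Groth.Agent.Lib.Helper74.RelProjLib

section qmap

variable {Y Y' : Scheme.{u}} (g : Y' ⟶ Y) (𝒮 : RelProj.QCGrAlg Y)

/-- Index of a standard chart of `G(u)`: an affine pair and a homogeneous element of positive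
degree. -/
structure ChartIdx where
  U : Y.Opens
  hU : IsAffineOpen U
  U' : Y'.Opens
  hU' : IsAffineOpen U'
  hle : U' ≤ g ⁻¹ᵁ U
  d : ℕ
  hd : 0 < d
  f : 𝒮.presheaf.obj (op U)
  hf : f ∈ 𝒮.deg U hU d

variable {g 𝒮} {𝒮' : RelProj.QCGrAlg Y'} (u : RelProj.QGrHom g 𝒮 𝒮')

/-- naturality of `u` over affine pairs, elementwise -/
theorem gradedAt_res {U V : Y.Opens} (hU : IsAffineOpen U) (hV : IsAffineOpen V) (i : V ≤ U)
    {U' V' : Y'.Opens} (hU' : IsAffineOpen U') (hV' : IsAffineOpen V') (i' : V' ≤ U')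
    (hle : U' ≤ g ⁻¹ᵁ U) (hle' : V' ≤ g ⁻¹ᵁ V) (a : 𝒮.presheaf.obj (op U)) :
    u.gradedAt V hV V' hV' hle' (𝒮.res hU hV i a) =
      𝒮'.res hU' hV' i' (u.gradedAt U hU U' hU' hle a) := by
  have h1 := congrArg (fun ψ => ψ.hom a) (u.map_appLE i hle')
  have h2 := congrArg (fun ψ => ψ.hom a) (u.appLE_map hle i')
  exact h1.trans h2.symm

variable {P P' : Scheme.{u}} (p : P ⟶ Y)
  (chart : ∀ (U : Y.Opens) (hU : IsAffineOpen U),
    (((p ⁻¹ᵁ U : P.Opens) : Scheme.{u}) ≅ Proj (𝒮.deg U hU)))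
  (p' : P' ⟶ Y')
  (chart' : ∀ (U' : Y'.Opens) (hU' : IsAffineOpen U'),
    (((p' ⁻¹ᵁ U' : P'.Opens) : Scheme.{u}) ≅ Proj (𝒮'.deg U' hU')))

/-- the image `u f` of the element of a chart index -/
abbrev ChartIdx.uf (i : ChartIdx g 𝒮) : 𝒮'.presheaf.obj (op i.U') :=
  u.gradedAt i.U i.hU i.U' i.hU' i.hle i.f

theorem ChartIdx.huf (i : ChartIdx g 𝒮) : i.uf u ∈ 𝒮'.deg i.U' i.hU' i.d :=
  (u.gradedAt i.U i.hU i.U' i.hU' i.hle).map_mem i.hf

/-- the source of a standard chart of `G(u)` -/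
noncomputable abbrev ChartIdx.src (i : ChartIdx g 𝒮) : Scheme.{u} :=
  Spec (CommRingCat.of (Away (𝒮'.deg i.U' i.hU') (i.uf u)))

/-- the standard chart of `G(u)` as a morphism to `P'` -/
noncomputable abbrev chartEmb (i : ChartIdx g 𝒮) : i.src u ⟶ P' :=
  RelProj.awayEmb u p' chart' i.U i.hU i.U' i.hU' i.hle i.hd i.f i.hf

instance isOpenImmersion_awayEmb (U : Y.Opens) (hU : IsAffineOpen U) (U' : Y'.Opens)
    (hU' : IsAffineOpen U') (hle : U' ≤ g ⁻¹ᵁ U) {d : ℕ} (hd : 0 < d)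
    (f : 𝒮.presheaf.obj (op U)) (hf : f ∈ 𝒮.deg U hU d) :
    IsOpenImmersion (RelProj.awayEmb u p' chart' U hU U' hU' hle hd f hf) := by
  unfold RelProj.awayEmb; infer_instance

theorem chartEmb_eq_stdChart (i : ChartIdx g 𝒮) :
    chartEmb u p' chart' i = stdChart p' chart' i.U' i.hU' i.hd (i.uf u) (i.huf u) := rfl

/-- the morphism to `P` prescribed on a standard chart of `G(u)` -/
noncomputable abbrev chartMap (i : ChartIdx g 𝒮) : i.src u ⟶ P :=
  Spec.map (CommRingCat.ofHom (Away.map (u.gradedAt i.U i.hU i.U' i.hU' i.hle) i.f)) ≫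
    Proj.awayι (𝒮.deg i.U i.hU) i.f i.hf i.hd ≫ RelProj.emb p chart i.U i.hU

theorem chartMap_eq (i : ChartIdx g 𝒮) :
    chartMap u p chart i =
      Spec.map (CommRingCat.ofHom (Away.map (u.gradedAt i.U i.hU i.U' i.hU' i.hle) i.f)) ≫
        stdChart p chart i.U i.hU i.hd i.f i.hf := rfl

theorem isProjQMapOn_iff (W : P'.Opens) (r : (W : Scheme.{u}) ⟶ P) :
    RelProj.IsProjQMapOn u p chart p' chart' W r ↔
      ∀ (i : ChartIdx g 𝒮) (hW : Set.range (chartEmb u p' chart' i).base ⊆ Set.range W.ι.base),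
        IsOpenImmersion.lift W.ι (chartEmb u p' chart' i) hW ≫ r = chartMap u p chart i := by
  constructor
  · intro h i hW
    exact h i.U i.hU i.U' i.hU' i.hle i.d i.hd i.f i.hf hW
  · intro h U hU U' hU' hle d hd f hf hW
    exact h ⟨U, hU, U', hU', hle, d, hd, f, hf⟩ hW

/-- every point of `G(u)` lies in a standard chart -/
theorem exists_chart_of_mem_domQ {x : P'} (hx : x ∈ RelProj.domQ u p' chart') :
    ∃ i : ChartIdx g 𝒮, x ∈ Set.range (chartEmb u p' chart' i) := by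
  obtain ⟨⟨⟨⟨U, hU⟩, ⟨U', hU'⟩⟩, hle⟩, y, hy, rfl⟩ := Opens.mem_iSup.mp hx
  obtain ⟨f, hf, hfy⟩ := (RelCone.mem_domOpen _ _).mp hy
  have hfy' : f ∉ Ideal.comap (u.gradedAt U hU U' hU' hle) y.asHomogeneousIdeal.toIdeal := hfy
  obtain ⟨k, hk, f', hf', hf'y⟩ := RelConeProj.exists_pos_homog_not_mem _ hf hfy'
  refine ⟨⟨U, hU, U', hU', hle, k, hk, f', hf'⟩, ?_⟩
  rw [chartEmb_eq_stdChart, range_stdChart]
  exact ⟨y, hf'y, rfl⟩

section trans

variable {u p chart p' chart'}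

theorem uf_eq_of_eq (i k : ChartIdx g 𝒮) (hU' : k.U' ≤ i.U') (hU : k.U ≤ i.U)
    {h : 𝒮.presheaf.obj (op k.U)} (hk : k.f = 𝒮.res i.hU k.hU hU i.f * h) :
    k.uf u = 𝒮'.res i.hU' k.hU' hU' (i.uf u) * u.gradedAt k.U k.hU k.U' k.hU' k.hle h := by
  change u.gradedAt k.U k.hU k.U' k.hU' k.hle k.f = _
  rw [hk, map_mul, gradedAt_res u i.hU k.hU hU i.hU' k.hU' hU' i.hle k.hle]

/-- the ring map of the transition from the chart `i` to a finer chart `k` -/
noncomputable def transRing (i k : ChartIdx g 𝒮) (hU' : k.U' ≤ i.U') (hU : k.U ≤ i.U) {e : ℕ}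
    {h : 𝒮.presheaf.obj (op k.U)} (hh : h ∈ 𝒮.deg k.U k.hU e)
    (hk : k.f = 𝒮.res i.hU k.hU hU i.f * h) :
    Away (𝒮'.deg i.U' i.hU') (i.uf u) →+* Away (𝒮'.deg k.U' k.hU') (k.uf u) :=
  awayMapMul (𝒮'.res i.hU' k.hU' hU') (i.uf u)
    ((u.gradedAt k.U k.hU k.U' k.hU' k.hle).map_mem hh) (uf_eq_of_eq i k hU' hU hk)

theorem transRing_chartEmb (hP' : RelProj.IsRelProj 𝒮' p' chart') (i k : ChartIdx g 𝒮)
    (hU' : k.U' ≤ i.U') (hU : k.U ≤ i.U) {e : ℕ}
    {h : 𝒮.presheaf.obj (op k.U)} (hh : h ∈ 𝒮.deg k.U k.hU e)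
    (hk : k.f = 𝒮.res i.hU k.hU hU i.f * h) (hd : k.d = i.d + e) :
    Spec.map (CommRingCat.ofHom (transRing (u := u) i k hU' hU hh hk)) ≫ chartEmb u p' chart' i =
      chartEmb u p' chart' k := by
  rw [chartEmb_eq_stdChart, chartEmb_eq_stdChart]
  exact stdChart_res_mul hP' i.hU' k.hU' hU' i.hd (i.huf u) _ _ hd (k.huf u) k.hd

theorem transRing_comp (i k : ChartIdx g 𝒮)
    (hU' : k.U' ≤ i.U') (hU : k.U ≤ i.U) {e : ℕ}
    {h : 𝒮.presheaf.obj (op k.U)} (hh : h ∈ 𝒮.deg k.U k.hU e)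
    (hk : k.f = 𝒮.res i.hU k.hU hU i.f * h) :
    (transRing (u := u) i k hU' hU hh hk).comp (Away.map (u.gradedAt i.U i.hU i.U' i.hU' i.hle) i.f) =
      (Away.map (u.gradedAt k.U k.hU k.U' k.hU' k.hle) k.f).comp
        (awayMapMul (𝒮.res i.hU k.hU hU) i.f hh hk) := by
  refine away_ringHom_ext i.hf fun n a ha => ?_
  rw [RingHom.comp_apply, RingHom.comp_apply, Away.map_mk, awayMapMul_mk, Away.map_mk, transRing,
    awayMapMul_mk]
  refine away_mk_congr _ n _ _ ?_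
  rw [map_mul, map_pow, gradedAt_res u i.hU k.hU hU i.hU' k.hU' hU' i.hle k.hle]
  rfl

theorem transRing_chartMap (hP : RelProj.IsRelProj 𝒮 p chart) (i k : ChartIdx g 𝒮)
    (hU' : k.U' ≤ i.U') (hU : k.U ≤ i.U) {e : ℕ}
    {h : 𝒮.presheaf.obj (op k.U)} (hh : h ∈ 𝒮.deg k.U k.hU e)
    (hk : k.f = 𝒮.res i.hU k.hU hU i.f * h) (hd : k.d = i.d + e) :
    Spec.map (CommRingCat.ofHom (transRing (u := u) i k hU' hU hh hk)) ≫ chartMap u p chart i =
      chartMap u p chart k := by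
  rw [chartMap_eq, chartMap_eq, ← stdChart_res_mul hP i.hU k.hU hU i.hd i.hf hh hk hd k.hf k.hd,
    ← Spec.map_comp_assoc, ← Spec.map_comp_assoc, ← CommRingCat.ofHom_comp,
    ← CommRingCat.ofHom_comp, transRing_comp]

end trans

section glue

variable {u p chart p' chart'}

/-- the standard chart lifted into `G(u)` -/
noncomputable abbrev chartLift (i : ChartIdx g 𝒮) :
    i.src u ⟶ ((RelProj.domQ u p' chart' : P'.Opens) : Scheme.{u}) :=
  IsOpenImmersion.lift (RelProj.domQ u p' chart').ι (chartEmb u p' chart' i)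
    (RelProj.range_awayEmb_subset_domQ u p' chart' i.U i.hU i.U' i.hU' i.hle i.hd i.f i.hf)

theorem chartLift_ι (i : ChartIdx g 𝒮) :
    chartLift (p' := p') (chart' := chart') i ≫ (RelProj.domQ u p' chart').ι =
      chartEmb u p' chart' i :=
  IsOpenImmersion.lift_fac _ _ _

theorem chartLift_cover (x : ((RelProj.domQ u p' chart' : P'.Opens) : Scheme.{u})) :
    ∃ i : ChartIdx g 𝒮, x ∈ Set.range (chartLift (u := u) (p' := p') (chart' := chart') i) := by
  obtain ⟨i, ξ, hξ⟩ := exists_chart_of_mem_domQ u p' chart' x.2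
  refine ⟨i, ξ, ?_⟩
  apply (RelProj.domQ u p' chart').ι.isOpenEmbedding.injective
  rw [← Scheme.Hom.comp_apply, chartLift_ι]
  exact hξ

theorem mem_preimage_of_mem_range_chartEmb (i : ChartIdx g 𝒮) {z : P'}
    (hz : z ∈ Set.range (chartEmb u p' chart' i)) : z ∈ p' ⁻¹ᵁ i.U' := by
  obtain ⟨ξ, rfl⟩ := hz
  exact RelConeProj.emb_mem_preimage i.U' i.hU' _

/-- a common refinement of two charts around a point of their intersection -/
theorem exists_refinement (hP' : RelProj.IsRelProj 𝒮' p' chart') (i i' : ChartIdx g 𝒮) {z : P'}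
    (hz : z ∈ Set.range (chartEmb u p' chart' i)) (hz' : z ∈ Set.range (chartEmb u p' chart' i')) :
    ∃ (k : ChartIdx g 𝒮) (hU' : k.U' ≤ i.U') (hU : k.U ≤ i.U) (hV' : k.U' ≤ i'.U')
      (hV : k.U ≤ i'.U),
      k.f = 𝒮.res i.hU k.hU hU i.f * 𝒮.res i'.hU k.hU hV i'.f ∧ k.d = i.d + i'.d ∧
        z ∈ Set.range (chartEmb u p' chart' k) := by
  have h1 : z ∈ p' ⁻¹ᵁ i.U' := mem_preimage_of_mem_range_chartEmb i hz
  have h2 : z ∈ p' ⁻¹ᵁ i'.U' := mem_preimage_of_mem_range_chartEmb i' hz'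
  have h3 : g (p' z) ∈ i.U ⊓ i'.U := ⟨i.hle h1, i'.hle h2⟩
  obtain ⟨V, hV, hzV, hVle⟩ := ChartOpens.exists_affine_le h3
  have h4 : p' z ∈ i.U' ⊓ i'.U' ⊓ g ⁻¹ᵁ V := ⟨⟨h1, h2⟩, hzV⟩
  obtain ⟨V', hV', hzV', hV'le⟩ := ChartOpens.exists_affine_le h4
  have hVU : V ≤ i.U := hVle.trans inf_le_left
  have hVU2 : V ≤ i'.U := hVle.trans inf_le_right
  have hV'U : V' ≤ i.U' := hV'le.trans (inf_le_left.trans inf_le_left)
  have hV'U2 : V' ≤ i'.U' := hV'le.trans (inf_le_left.trans inf_le_right)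
  have hV'V : V' ≤ g ⁻¹ᵁ V := hV'le.trans inf_le_right
  let k : ChartIdx g 𝒮 := ⟨V, hV, V', hV', hV'V, i.d + i'.d, Nat.add_pos_left i.hd _,
    𝒮.res i.hU hV hVU i.f * 𝒮.res i'.hU hV hVU2 i'.f,
    SetLike.mul_mem_graded ((𝒮.res i.hU hV hVU).map_mem i.hf)
      ((𝒮.res i'.hU hV hVU2).map_mem i'.hf)⟩
  refine ⟨k, hV'U, hVU, hV'U2, hVU2, rfl, rfl, ?_⟩
  obtain ⟨y₀, rfl⟩ := RelConeProj.exists_emb_eq (pC := p') (chartC := chart') V' hV' z hzV'
  rw [chartEmb_eq_stdChart, emb_mem_range_stdChart_iff hP' i.hU' hV' hV'U] at hz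
  rw [chartEmb_eq_stdChart, emb_mem_range_stdChart_iff hP' i'.hU' hV' hV'U2] at hz'
  rw [chartEmb_eq_stdChart, range_stdChart]
  refine ⟨y₀, ?_, rfl⟩
  have hkf : k.uf u = 𝒮'.res i.hU' hV' hV'U (i.uf u) * 𝒮'.res i'.hU' hV' hV'U2 (i'.uf u) := by
    rw [uf_eq_of_eq (u := u) i k hV'U hVU rfl,
      gradedAt_res u i'.hU hV hVU2 i'.hU' hV' hV'U2 i'.hle hV'V]
  rw [hkf, Proj.basicOpen_mul]
  exact ⟨hz, hz'⟩

instance (i : ChartIdx g 𝒮) :
    IsOpenImmersion (chartLift (u := u) (p' := p') (chart' := chart') i) :=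
  have : IsOpenImmersion (chartLift (u := u) (p' := p') (chart' := chart') i ≫
      (RelProj.domQ u p' chart').ι) := by
    rw [chartLift_ι]; infer_instance
  IsOpenImmersion.of_comp _ (RelProj.domQ u p' chart').ι

theorem chartLift_compat (hP : RelProj.IsRelProj 𝒮 p chart) (hP' : RelProj.IsRelProj 𝒮' p' chart')
    (i i' : ChartIdx g 𝒮) (x : i.src u) (x' : i'.src u)
    (hxx' : chartLift (p' := p') (chart' := chart') i x =
      chartLift (p' := p') (chart' := chart') i' x') :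
    ∃ (k : ChartIdx g 𝒮) (y : k.src u) (t : k.src u ⟶ i.src u) (t' : k.src u ⟶ i'.src u),
      t y = x ∧ t ≫ chartLift (p' := p') (chart' := chart') i = chartLift k ∧
        t' ≫ chartLift (p' := p') (chart' := chart') i' = chartLift k ∧
        t ≫ chartMap u p chart i = chartMap u p chart k ∧
        t' ≫ chartMap u p chart i' = chartMap u p chart k := by
  have hz : chartEmb u p' chart' i x ∈ Set.range (chartEmb u p' chart' i) := ⟨x, rfl⟩
  have hz' : chartEmb u p' chart' i x ∈ Set.range (chartEmb u p' chart' i') := by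
    refine ⟨x', ?_⟩
    rw [← chartLift_ι, ← chartLift_ι, Scheme.Hom.comp_apply, Scheme.Hom.comp_apply, hxx']
  obtain ⟨k, hU', hU, hV', hV, hkf, hkd, ξ, hξ⟩ := exists_refinement hP' i i' hz hz'
  have e1 := transRing_chartEmb (u := u) hP' i k hU' hU ((𝒮.res i'.hU k.hU hV).map_mem i'.hf)
    hkf hkd
  have e2 := transRing_chartEmb (u := u) hP' i' k hV' hV ((𝒮.res i.hU k.hU hU).map_mem i.hf)
    (hkf.trans (mul_comm _ _)) (hkd.trans (add_comm _ _))
  refine ⟨k, ξ, Spec.map (CommRingCat.ofHom (transRing (u := u) i k hU' hU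
      ((𝒮.res i'.hU k.hU hV).map_mem i'.hf) hkf)),
    Spec.map (CommRingCat.ofHom (transRing (u := u) i' k hV' hV
      ((𝒮.res i.hU k.hU hU).map_mem i.hf) (hkf.trans (mul_comm _ _)))), ?_, ?_, ?_, ?_, ?_⟩
  · apply (chartEmb u p' chart' i).isOpenEmbedding.injective
    rw [← Scheme.Hom.comp_apply, e1]
    exact hξ
  · rw [← cancel_mono (RelProj.domQ u p' chart').ι, Category.assoc, chartLift_ι, chartLift_ι]
    exact e1
  · rw [← cancel_mono (RelProj.domQ u p' chart').ι, Category.assoc, chartLift_ι, chartLift_ι]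
    exact e2
  · exact transRing_chartMap hP i k hU' hU _ hkf hkd
  · exact transRing_chartMap hP i' k hV' hV _ _ (hkd.trans (add_comm _ _))

/-- Existence and uniqueness of `Proj(u) : G(u) ⟶ P` pinned on the standard charts. -/
theorem existsUnique_isProjQMapOn (hP : RelProj.IsRelProj 𝒮 p chart)
    (hP' : RelProj.IsRelProj 𝒮' p' chart') :
    ∃! v : ((RelProj.domQ u p' chart' : P'.Opens) : Scheme.{u}) ⟶ P,
      RelProj.IsProjQMapOn u p chart p' chart' (RelProj.domQ u p' chart') v := by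
  obtain ⟨v, hv, huniq⟩ := existsUnique_glue_family (fun i : ChartIdx g 𝒮 => i.src u)
    (fun i => chartLift (u := u) (p' := p') (chart' := chart') i)
    (fun i => chartMap u p chart i) chartLift_cover (chartLift_compat hP hP')
  refine ⟨v, (isProjQMapOn_iff u p chart p' chart' _ v).mpr fun i hW => hv i, fun v' hv' => ?_⟩
  exact huniq v' fun i => (isProjQMapOn_iff u p chart p' chart' _ v').mp hv' i _

/-- morphisms out of `G(u)` are determined on the standard charts -/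
theorem domQ_hom_ext {Z : Scheme.{u}}
    (a b : ((RelProj.domQ u p' chart' : P'.Opens) : Scheme.{u}) ⟶ Z)
    (h : ∀ i : ChartIdx g 𝒮, chartLift (p' := p') (chart' := chart') i ≫ a = chartLift i ≫ b) :
    a = b := by
  refine hom_ext_of_forall_exists a b fun x => ?_
  obtain ⟨i, hi⟩ := chartLift_cover x
  exact ⟨_, chartLift i, inferInstance, hi, h i⟩

theorem strZero_gradedAt (U : Y.Opens) (hU : IsAffineOpen U) (U' : Y'.Opens)
    (hU' : IsAffineOpen U') (hle : U' ≤ g ⁻¹ᵁ U) :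
    𝒮.strZero U hU ≫ CommRingCat.ofHom (u.gradedAt U hU U' hU' hle).gradedZeroRingHom =
      g.appLE U U' hle ≫ 𝒮'.strZero U' hU' := by
  ext r
  have := congrArg (fun ψ => ψ.hom r) (u.str_appLE U U' hle)
  exact this

theorem chartMap_comp (hP : RelProj.IsRelProj 𝒮 p chart) (hP' : RelProj.IsRelProj 𝒮' p' chart')
    (i : ChartIdx g 𝒮) :
    chartMap u p chart i ≫ p = chartEmb u p' chart' i ≫ p' ≫ g := by
  rw [chartMap, chartEmb, RelProj.awayEmb]
  simp only [Category.assoc]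
  rw [RelConeProj.emb_comp hP, reassoc_of% (RelConeProj.emb_comp hP'),
    Proj.awayι_toSpecZero_assoc, Proj.awayι_toSpecZero_assoc,
    ← IsAffineOpen.SpecMap_appLE_fromSpec g i.hU i.hU' i.hle, ← Spec.map_comp_assoc,
    ← Spec.map_comp_assoc, ← Spec.map_comp_assoc, ← Spec.map_comp_assoc]
  have hring : 𝒮.strZero i.U i.hU ≫
      CommRingCat.ofHom (fromZeroRingHom (𝒮.deg i.U i.hU) (Submonoid.powers i.f)) ≫
        CommRingCat.ofHom (Away.map (u.gradedAt i.U i.hU i.U' i.hU' i.hle) i.f) =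
      g.appLE i.U i.U' i.hle ≫ 𝒮'.strZero i.U' i.hU' ≫
        CommRingCat.ofHom (fromZeroRingHom (𝒮'.deg i.U' i.hU') (Submonoid.powers (i.uf u))) := by
    rw [← reassoc_of% (strZero_gradedAt (u := u) i.U i.hU i.U' i.hU' i.hle),
      ← CommRingCat.ofHom_comp, ← CommRingCat.ofHom_comp, awayMap_comp_fromZero]
  rw [hring]

/-- `Proj(u)` lies over `g`. -/
theorem isProjQMapOn_comp (hP : RelProj.IsRelProj 𝒮 p chart)
    (hP' : RelProj.IsRelProj 𝒮' p' chart')
    (v : ((RelProj.domQ u p' chart' : P'.Opens) : Scheme.{u}) ⟶ P)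
    (hv : RelProj.IsProjQMapOn u p chart p' chart' (RelProj.domQ u p' chart') v) :
    v ≫ p = (RelProj.domQ u p' chart').ι ≫ p' ≫ g := by
  refine domQ_hom_ext _ _ fun i => ?_
  rw [← Category.assoc, (isProjQMapOn_iff u p chart p' chart' _ v).mp hv i _,
    reassoc_of% (chartLift_ι (u := u) (p' := p') (chart' := chart') i)]
  exact chartMap_comp hP hP' i

end glue

end qmap

end Groth.Agent.Lib.Helper74.QMap
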