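import Mathlib.AlgebraicGeometry.Gluing
import Mathlib.AlgebraicGeometry.OpenImmersion
import Mathlib.AlgebraicGeometry.Cover.Open

set_option autoImplicit false
universe u
open CategoryTheory CategoryTheory.Limits AlgebraicGeometry TopologicalSpace Opposite

namespace Groth.Agent.Lib.Helper74.QMap

/-- Two morphisms agree if every point of the source has an open-immersed neighbourhood on which
they agree. -/
theorem hom_ext_of_forall_exists {X Z : Scheme.{u}} (a b : X ⟶ Z)
    (h : ∀ x : X, ∃ (N : Scheme.{u}) (j : N ⟶ X), IsOpenImmersion j ∧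
      x ∈ Set.range j ∧ j ≫ a = j ≫ b) : a = b := by
  refine Scheme.hom_ext_of_forall a b fun x => ?_
  obtain ⟨N, j, hj, hx, he⟩ := h x
  refine ⟨j.opensRange, hx, ?_⟩
  rw [← cancel_epi j.isoOpensRange.hom]
  simp only [Scheme.Hom.isoOpensRange_hom_ι_assoc, he]

/-- Gluing morphisms along a family of open immersions that is "locally directed": any point in
the intersection of two members lies in a third member mapping compatibly to both. -/
theorem existsUnique_glue_family {X Z : Scheme.{u}} {I : Type*} (A : I → Scheme.{u})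
    (j : ∀ i, A i ⟶ X) [∀ i, IsOpenImmersion (j i)] (φ : ∀ i, A i ⟶ Z)
    (hcov : ∀ x : X, ∃ i, x ∈ Set.range (j i))
    (hcompat : ∀ (i i' : I) (x : A i) (x' : A i'), j i x = j i' x' →
      ∃ (k : I) (y : A k) (t : A k ⟶ A i) (t' : A k ⟶ A i'),
        t y = x ∧ t ≫ j i = j k ∧ t' ≫ j i' = j k ∧ t ≫ φ i = φ k ∧ t' ≫ φ i' = φ k) :
    ∃! r : X ⟶ Z, ∀ i, j i ≫ r = φ i := by
  let 𝒰 : X.OpenCover := Scheme.Cover.mkOfCovers I A j
    (fun x => by obtain ⟨i, y, hy⟩ := hcov x; exact ⟨i, y, hy⟩) (fun i => inferInstance)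
  have hpb : ∀ i i' : I, pullback.fst (j i) (j i') ≫ φ i = pullback.snd (j i) (j i') ≫ φ i' := by
    intro i i'
    refine hom_ext_of_forall_exists _ _ fun w => ?_
    have hw : j i (pullback.fst (j i) (j i') w) = j i' (pullback.snd (j i) (j i') w) := by
      rw [← Scheme.Hom.comp_apply, ← Scheme.Hom.comp_apply, pullback.condition]
    obtain ⟨k, y, t, t', hty, htj, htj', htφ, htφ'⟩ := hcompat i i' _ _ hw
    have hmono : Mono (pullback.fst (j i) (j i') ≫ j i) := inferInstance
    let l : A k ⟶ pullback (j i) (j i') := pullback.lift t t' (by rw [htj, htj'])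
    have hl : IsOpenImmersion (l ≫ pullback.fst (j i) (j i') ≫ j i) := by
      rw [pullback.lift_fst_assoc, htj]; infer_instance
    have hl' : IsOpenImmersion l := IsOpenImmersion.of_comp l (pullback.fst (j i) (j i') ≫ j i)
    refine ⟨A k, l, hl', ⟨y, ?_⟩, ?_⟩
    · apply (pullback.fst (j i) (j i') ≫ j i).isOpenEmbedding.injective
      rw [← Scheme.Hom.comp_apply, pullback.lift_fst_assoc, Scheme.Hom.comp_apply,
        Scheme.Hom.comp_apply, hty]
    · rw [pullback.lift_fst_assoc, pullback.lift_snd_assoc, htφ, htφ']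
  refine ⟨𝒰.glueMorphisms φ hpb, fun i => 𝒰.ι_glueMorphisms φ hpb i, ?_⟩
  intro r hr
  refine 𝒰.hom_ext _ _ fun i => ?_
  rw [𝒰.ι_glueMorphisms φ hpb i]
  exact hr i

end Groth.Agent.Lib.Helper74.QMap
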