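import Groth.Agent.S12144
import Groth.Agent.Lib.Helper74.ImmLocal
import Groth.Agent.Lib.Helper74.AwayMapCrit
import Groth.Agent.Lib.Helper74.InvSymDom
import Groth.Agent.Lib.Helper74.QMapDominant

/-!
# Immersion criteria for `r_{L,ψ}` over an affine base: the local core

For `s ∈ S_n`, `n > 0`, with `X_t` (`t = ψ♭ s`) affine, the restriction of `r` over `D_+(s)` is
`Spec` of `S_(s) → 𝒮L(X_t)_(t) ≅ O(X_t)`.
-/

set_option autoImplicit false
set_option linter.style.haveILetI false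
universe u

open CategoryTheory CategoryTheory.Limits AlgebraicGeometry TopologicalSpace Opposite
open scoped HomogeneousIdeal
open HomogeneousLocalization

noncomputable section

namespace Groth.Agent.Lib.Helper74.QMapImm

open Groth.Agent.Lib.Helper74.QMap

theorem isClosedImmersion_SpecMap_iff {R S : CommRingCat.{u}} (f : R ⟶ S) :
    IsClosedImmersion (Spec.map f) ↔ Function.Surjective f.hom := by
  constructor
  · intro h
    have h2 := (IsClosedImmersion.isAffine_surjective_of_isAffine (Spec.map f)).2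
    have e : f = (Scheme.ΓSpecIso R).inv ≫ (Spec.map f).appTop ≫ (Scheme.ΓSpecIso S).hom := by
      rw [Scheme.ΓSpecIso_naturality, Iso.inv_hom_id_assoc]
    rw [e]
    simp only [CommRingCat.hom_comp, RingHom.coe_comp]
    exact ((ConcreteCategory.bijective_of_isIso (Scheme.ΓSpecIso S).hom).2.comp h2).comp
      (ConcreteCategory.bijective_of_isIso (Scheme.ΓSpecIso R).inv).2
  · intro h
    exact IsClosedImmersion.spec_of_surjective f h

section core

variable {Y X P PL : Scheme.{u}} {q : X ⟶ Y}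
  {L : X.Modules} (hL : PicF.IsInvertible L) [hLq : L.IsQuasicoherent]
  {𝒮 : RelProj.QCGrAlg Y} {𝒮L : RelProj.QCGrAlg X} {j : L ⟶ 𝒮L.toModule} (hj : RelProj.IsGrSymAlg L 𝒮L j)
  (u : RelProj.QGrHom q 𝒮 𝒮L)
  {p : P ⟶ Y} {chart : ∀ (U : Y.Opens) (hU : IsAffineOpen U), (((p ⁻¹ᵁ U : P.Opens) : Scheme.{u}) ≅ Proj (𝒮.deg U hU))}
  (hP : RelProj.IsRelProj 𝒮 p chart)
  {pL : PL ⟶ X} {chartL : ∀ (U : X.Opens) (hU : IsAffineOpen U), (((pL ⁻¹ᵁ U : PL.Opens) : Scheme.{u}) ≅ Proj (𝒮L.deg U hU))}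
  (hPL : RelProj.IsRelProj 𝒮L pL chartL)
  (r : ((RelProj.domQ u pL chartL : PL.Opens) : Scheme.{u}) ⟶ P)
  (hr : RelProj.IsProjQMapOn u p chart pL chartL (RelProj.domQ u pL chartL) r)
  (hY : IsAffineOpen (⊤ : Y.Opens))

omit hLq in
theorem hleTop (q : X ⟶ Y) (V : X.Opens) : V ≤ q ⁻¹ᵁ ⊤ := le_top.trans (Scheme.Hom.preimage_top q).ge

/-- the non-vanishing locus `X_t` of `t = ψ♭(s)`, as a union of affine opens -/
def XT (n : ℕ) (s : 𝒮.presheaf.obj (op ⊤)) : X.Opens :=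
  ⨆ V : {V : X.affineOpens //
    ((𝒮L.deg V.1 V.2 n : AddSubgroup (𝒮L.presheaf.obj (op (V.1 : X.Opens)))) : Set (𝒮L.presheaf.obj (op (V.1 : X.Opens)))) ⊆
      (Ideal.span {(u.appLE ⊤ (V.1 : X.Opens) (le_top.trans (Scheme.Hom.preimage_top q).ge)).hom s} : Set (𝒮L.presheaf.obj (op (V.1 : X.Opens))))},
    (V.1.1 : X.Opens)

variable {n : ℕ} (hn : 0 < n) {s : 𝒮.presheaf.obj (op ⊤)} (hs : s ∈ 𝒮.deg ⊤ hY n)

include hL hj hP hPL hr hn hs in
/-- `r⁻¹(D_+(s)) = pL⁻¹(X_t)` -/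
theorem preimage_XT :
    (RelProj.domQ u pL chartL).ι ''ᵁ (r ⁻¹ᵁ ((RelProj.emb p chart ⊤ hY) ''ᵁ Proj.basicOpen (𝒮.deg ⊤ hY) s)) =
      pL ⁻¹ᵁ XT u n s :=
  Groth.Agent.S12144.result q L hL hLq 𝒮 𝒮L j hj u p chart hP pL chartL hPL r hr hY n hn s hs

include hL hj hP hPL hr hn hs in
theorem mem_preimage_XT_iff (w : (RelProj.domQ u pL chartL : PL.Opens)) :
    pL w.1 ∈ XT u n s ↔ r w ∈ Set.range (stdChart p chart ⊤ hY hn s hs) := by
  have h := preimage_XT hL hj u hP hPL r hr hY hn hs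
  have h1 : pL w.1 ∈ XT u n s ↔ w.1 ∈ pL ⁻¹ᵁ XT u n s := Iff.rfl
  rw [h1, ← h, range_stdChart]
  constructor
  · rintro ⟨w', hw', e⟩
    have : w' = w := Subtype.ext e
    rw [← this]
    exact hw'
  · intro hw
    exact ⟨w, hw, rfl⟩

include hL hj hP hPL hr hn hs in
theorem preimage_XT_le_domQ : pL ⁻¹ᵁ XT u n s ≤ RelProj.domQ u pL chartL := by
  rw [← preimage_XT hL hj u hP hPL r hr hY hn hs]
  rintro _ ⟨w, _, rfl⟩
  exact w.2

variable (hXT : IsAffineOpen (XT u n s))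

include hL hj hP hPL hr hn hs in
/-- over `X_t` (affine), `t` vanishes nowhere on the chart -/
theorem mem_basicOpen_XT (y : Proj (𝒮L.deg (XT u n s) hXT)) :
    y ∈ Proj.basicOpen (𝒮L.deg (XT u n s) hXT) (u.gradedAt ⊤ hY (XT u n s) hXT (hleTop q _) s) := by
  have h1 : RelProj.emb pL chartL (XT u n s) hXT y ∈ pL ⁻¹ᵁ XT u n s :=
    RelConeProj.emb_mem_preimage (XT u n s) hXT y
  have hdom : RelProj.emb pL chartL (XT u n s) hXT y ∈ RelProj.domQ u pL chartL :=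
    preimage_XT_le_domQ hL hj u hP hPL r hr hY hn hs h1
  have h2 := (mem_preimage_XT_iff hL hj u hP hPL r hr hY hn hs ⟨_, hdom⟩).mp h1
  exact (qmap_mem_range_stdChart_iff u hPL r hr ⊤ hY (XT u n s) hXT (hleTop q _) hn s hs y hdom).mp h2

include hL hj hP hPL hr hn hs in
theorem range_awayEmb :
    Set.range (RelProj.awayEmb u pL chartL ⊤ hY (XT u n s) hXT (hleTop q _) hn s hs) =
      (pL ⁻¹ᵁ XT u n s : Set PL) := by
  rw [RelProj.awayEmb, Scheme.Hom.comp_base, TopCat.coe_comp, Set.range_comp]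
  have h1 : Set.range (Proj.awayι (𝒮L.deg (XT u n s) hXT) (u.gradedAt ⊤ hY (XT u n s) hXT (hleTop q _) s)
      ((u.gradedAt ⊤ hY (XT u n s) hXT (hleTop q _)).map_mem hs) hn) = Set.univ := by
    have := Proj.opensRange_awayι (𝒮L.deg (XT u n s) hXT) (u.gradedAt ⊤ hY (XT u n s) hXT (hleTop q _) s)
      ((u.gradedAt ⊤ hY (XT u n s) hXT (hleTop q _)).map_mem hs) hn
    have h2 : Proj.basicOpen (𝒮L.deg (XT u n s) hXT) (u.gradedAt ⊤ hY (XT u n s) hXT (hleTop q _) s) = ⊤ :=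
      eq_top_iff.mpr fun y _ => mem_basicOpen_XT hL hj u hP hPL r hr hY hn hs hXT y
    rw [h2] at this
    exact congrArg (fun O : (Proj (𝒮L.deg (XT u n s) hXT)).Opens => (O : Set (Proj (𝒮L.deg (XT u n s) hXT)))) this
  erw [h1, Set.image_univ]
  ext pt
  constructor
  · rintro ⟨y, rfl⟩
    exact RelConeProj.emb_mem_preimage (XT u n s) hXT y
  · intro hpt
    exact RelConeProj.exists_emb_eq (pC := pL) (chartC := chartL) (XT u n s) hXT pt hpt

/-- the source chart -/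
def iX : Spec (CommRingCat.of (Away (𝒮L.deg (XT u n s) hXT) (u.gradedAt ⊤ hY (XT u n s) hXT (hleTop q _) s))) ⟶
    ((RelProj.domQ u pL chartL : PL.Opens) : Scheme.{u}) :=
  IsOpenImmersion.lift (RelProj.domQ u pL chartL).ι
    (RelProj.awayEmb u pL chartL ⊤ hY (XT u n s) hXT (hleTop q _) hn s hs)
    (RelProj.range_awayEmb_subset_domQ u pL chartL ⊤ hY (XT u n s) hXT (hleTop q _) hn s hs)

theorem iX_ι : iX u hY hn hs hXT ≫ (RelProj.domQ u pL chartL).ι =
    RelProj.awayEmb u pL chartL ⊤ hY (XT u n s) hXT (hleTop q _) hn s hs :=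
  IsOpenImmersion.lift_fac _ _ _

instance : IsOpenImmersion (RelProj.awayEmb u pL chartL ⊤ hY (XT u n s) hXT (hleTop q _) hn s hs) := by
  unfold RelProj.awayEmb; infer_instance

instance : IsOpenImmersion (iX (pL := pL) (chartL := chartL) u hY hn hs hXT) := by
  have : IsOpenImmersion (iX (pL := pL) (chartL := chartL) u hY hn hs hXT ≫ (RelProj.domQ u pL chartL).ι) := by
    rw [iX_ι]; infer_instance
  exact IsOpenImmersion.of_comp _ (RelProj.domQ u pL chartL).ι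

/-- the map of charts -/
def fC : Spec (CommRingCat.of (Away (𝒮L.deg (XT u n s) hXT) (u.gradedAt ⊤ hY (XT u n s) hXT (hleTop q _) s))) ⟶
    Spec (CommRingCat.of (Away (𝒮.deg ⊤ hY) s)) :=
  Spec.map (CommRingCat.ofHom (Away.map (u.gradedAt ⊤ hY (XT u n s) hXT (hleTop q _)) s))

include hr in
theorem iX_comp : iX u hY hn hs hXT ≫ r = fC u hY hXT ≫ stdChart p chart ⊤ hY hn s hs := by
  have := hr ⊤ hY (XT u n s) hXT (hleTop q _) n hn s hs
    (RelProj.range_awayEmb_subset_domQ u pL chartL ⊤ hY (XT u n s) hXT (hleTop q _) hn s hs)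
  exact this

include hL hj hP hPL hr in
theorem opensRange_iX :
    (iX u hY hn hs hXT).opensRange = r ⁻¹ᵁ (stdChart p chart ⊤ hY hn s hs).opensRange := by
  ext w
  have h1 : w ∈ (iX (pL := pL) (chartL := chartL) u hY hn hs hXT).opensRange ↔
      w.1 ∈ Set.range (RelProj.awayEmb u pL chartL ⊤ hY (XT u n s) hXT (hleTop q _) hn s hs) := by
    rw [← iX_ι u hY hn hs hXT]
    constructor
    · rintro ⟨z, rfl⟩
      exact ⟨z, rfl⟩
    · rintro ⟨z, hz⟩
      exact ⟨z, Subtype.ext hz⟩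
  have h2 : w ∈ r ⁻¹ᵁ (stdChart p chart ⊤ hY hn s hs).opensRange ↔
      r w ∈ Set.range (stdChart p chart ⊤ hY hn s hs) := Iff.rfl
  refine h1.trans (Iff.trans ?_ h2.symm)
  rw [range_awayEmb hL hj u hP hPL r hr hY hn hs hXT,
    ← mem_preimage_XT_iff hL hj u hP hPL r hr hY hn hs w]
  rfl

include hL hj hP hPL hr in
theorem isPullback_chart :
    IsPullback (iX u hY hn hs hXT) (fC u hY hXT) r (stdChart p chart ⊤ hY hn s hs) :=
  ImmLocal.isPullback_chart r _ _ _ (iX_comp u r hr hY hn hs hXT)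
    (opensRange_iX hL hj u hP hPL r hr hY hn hs hXT)

/-- `O(X_t) → 𝒮L(X_t)_(t)` -/
def φT : Γ(X, XT u n s) ⟶ CommRingCat.of (Away (𝒮L.deg (XT u n s) hXT) (u.gradedAt ⊤ hY (XT u n s) hXT (hleTop q _) s)) :=
  𝒮L.strZero (XT u n s) hXT ≫ CommRingCat.ofHom (fromZeroRingHom (𝒮L.deg (XT u n s) hXT) _)

include hPL in
theorem awayEmb_comp_pL :
    RelProj.awayEmb u pL chartL ⊤ hY (XT u n s) hXT (hleTop q _) hn s hs ≫ pL =
      Spec.map (φT u hY hXT) ≫ hXT.fromSpec := by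
  rw [RelProj.awayEmb, Category.assoc, RelConeProj.emb_comp hPL, Proj.awayι_toSpecZero_assoc,
    ← Spec.map_comp_assoc]
  rfl

include hL hj hP hPL hr hn hs in
theorem isIso_SpecMap_φT : IsIso (Spec.map (φT u hY hXT)) := by
  haveI : IsIso pL := InvSym.isIso_pL hj hL hPL
  have hcomp := awayEmb_comp_pL (pL := pL) (chartL := chartL) u hPL hY hn hs hXT
  haveI : IsOpenImmersion (Spec.map (φT u hY hXT) ≫ hXT.fromSpec) := by
    rw [← hcomp]; infer_instance
  haveI : IsOpenImmersion (Spec.map (φT u hY hXT)) := IsOpenImmersion.of_comp _ hXT.fromSpec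
  refine (isIso_iff_isOpenImmersion_and_surjective _).mpr ⟨inferInstance, ⟨fun z => ?_⟩⟩
  have hz : hXT.fromSpec z ∈ XT u n s := by
    have h0 : hXT.fromSpec z ∈ Set.range hXT.fromSpec := Set.mem_range_self z
    rw [hXT.range_fromSpec] at h0
    exact h0
  obtain ⟨pt, hpt⟩ : ∃ pt, pL pt = hXT.fromSpec z :=
    ⟨(inv pL) (hXT.fromSpec z), by rw [← Scheme.Hom.comp_apply, IsIso.inv_hom_id]; rfl⟩
  have hpt' : pt ∈ (pL ⁻¹ᵁ XT u n s : Set PL) := by
    change pL pt ∈ XT u n s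
    rw [hpt]; exact hz
  rw [← range_awayEmb hL hj u hP hPL r hr hY hn hs hXT] at hpt'
  obtain ⟨ξ, rfl⟩ := hpt'
  refine ⟨ξ, ?_⟩
  apply hXT.fromSpec.isOpenEmbedding.injective
  rw [← hpt, ← Scheme.Hom.comp_apply, ← Scheme.Hom.comp_apply, hcomp]

include hL hj hP hPL hr hn hs in
theorem bijective_φT : Function.Bijective (φT u hY hXT).hom :=
  isIso_SpecMap_iff.mp (isIso_SpecMap_φT hL hj u hP hPL r hr hY hn hs hXT)

/-- condition (iii) for `(n, s)` -/
def Cond3 (n : ℕ) (s : 𝒮.presheaf.obj (op ⊤)) : Prop :=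
  ∀ t : X.presheaf.obj (op (XT u n s)), ∃ (m : ℕ) (_ : 0 < m) (s' : 𝒮.presheaf.obj (op ⊤)) (_ : s' ∈ 𝒮.deg ⊤ hY (m * n)),
    (𝒮L.str.app (op (XT u n s))).hom t * ((u.appLE ⊤ (XT u n s) (le_top.trans (Scheme.Hom.preimage_top q).ge)).hom s) ^ m =
      (u.appLE ⊤ (XT u n s) (le_top.trans (Scheme.Hom.preimage_top q).ge)).hom s'

/-- condition (iv) for `(n, s)` -/
def Cond4 (n : ℕ) (s : 𝒮.presheaf.obj (op ⊤)) : Prop :=
  ∀ (m : ℕ), 0 < m → ∀ s' ∈ 𝒮.deg ⊤ hY (m * n),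
    (u.appLE ⊤ (XT u n s) (le_top.trans (Scheme.Hom.preimage_top q).ge)).hom s' = 0 → ∃ (k : ℕ), 0 < k ∧ s ^ k * s' = 0

include hL hj hP hPL hr hn hs in
theorem isClosedImmersion_fC_iff : IsClosedImmersion (fC u hY hXT) ↔ Cond3 u hY n s := by
  rw [fC, isClosedImmersion_SpecMap_iff]
  exact AwayMapCrit.away_map_surjective_iff (u.gradedAt ⊤ hY (XT u n s) hXT (hleTop q _)) hs
    (𝒮L.strZero (XT u n s) hXT).hom (bijective_φT hL hj u hP hPL r hr hY hn hs hXT).2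

include hL hj hP hPL hr hn hs in
theorem isIso_fC_iff : IsIso (fC u hY hXT) ↔ Cond3 u hY n s ∧ Cond4 u hY n s := by
  rw [fC, isIso_SpecMap_iff, Function.Bijective, and_comm]
  refine and_congr ?_ ?_
  · exact AwayMapCrit.away_map_surjective_iff (u.gradedAt ⊤ hY (XT u n s) hXT (hleTop q _)) hs
      (𝒮L.strZero (XT u n s) hXT).hom (bijective_φT hL hj u hP hPL r hr hY hn hs hXT).2
  · exact AwayMapCrit.away_map_injective_iff (u.gradedAt ⊤ hY (XT u n s) hXT (hleTop q _)) hs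

end core

end Groth.Agent.Lib.Helper74.QMapImm
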