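import Groth.Agent.Lib.Helper74.QMapImmU2
import Groth.Agent.Lib.Helper74.QMapDominantLoc

/-!
# Immersion criteria for `r_{L,ψ}` and filtered colimits of graded algebras (finite type descent)
-/

set_option autoImplicit false
set_option linter.style.haveILetI false
universe u w

open CategoryTheory CategoryTheory.Limits AlgebraicGeometry TopologicalSpace Opposite
open scoped HomogeneousIdeal
open HomogeneousLocalization DirectSum

noncomputable section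

namespace Groth.Agent.Lib.Helper74.QMapImmUW

open Groth.Agent.Lib.Helper74.QMapImmU

open Groth.Agent.Lib.Helper74.QMap Groth.Agent.Lib.Helper74.QMapImm

section cond

variable {Y X : Scheme.{u}} {q : X ⟶ Y} {𝒮 : RelProj.QCGrAlg Y} {𝒮L : RelProj.QCGrAlg X}

/-- condition (iii) on an arbitrary open `V ⊆ q⁻¹ U` -/
def Cond3V (u : RelProj.QGrHom q 𝒮 𝒮L) (U : Y.Opens) (hU : IsAffineOpen U) (V : X.Opens) (hle : V ≤ q ⁻¹ᵁ U)
    (n : ℕ) (s : 𝒮.presheaf.obj (op U)) : Prop :=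
  ∀ t : X.presheaf.obj (op V), ∃ (m : ℕ) (_ : 0 < m) (s' : 𝒮.presheaf.obj (op U)) (_ : s' ∈ 𝒮.deg U hU (m * n)),
    (𝒮L.str.app (op V)).hom t * ((u.appLE U V hle).hom s) ^ m = (u.appLE U V hle).hom s'

theorem cond3_iff_cond3V (u : RelProj.QGrHom q 𝒮 𝒮L) (U : Y.Opens) (hU : IsAffineOpen U)
    (n : ℕ) (s : 𝒮.presheaf.obj (op U)) :
    Cond3 u U hU n s ↔ Cond3V u U hU (XTU u U n s) (XTU_le u U n s) n s := Iff.rfl

theorem cond3V_congr (u : RelProj.QGrHom q 𝒮 𝒮L) (U : Y.Opens) (hU : IsAffineOpen U) {V V' : X.Opens}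
    (h : V = V') (hle : V ≤ q ⁻¹ᵁ U) (hle' : V' ≤ q ⁻¹ᵁ U) (n : ℕ) (s : 𝒮.presheaf.obj (op U)) :
    Cond3V u U hU V hle n s ↔ Cond3V u U hU V' hle' n s := by
  subst h; rfl

end cond

section colim

variable {Y X : Scheme.{u}} {q : X ⟶ Y} {𝒮 : RelProj.QCGrAlg Y} {𝒮L : RelProj.QCGrAlg X}
  (u : RelProj.QGrHom q 𝒮 𝒮L)
  {Λ : Type w} [Preorder Λ]
  (𝒮i : Λ → RelProj.QCGrAlg Y) (φ : ∀ i, (𝒮i i).toQCAlg ⟶ 𝒮.toQCAlg) (hφ : ∀ i, RelProj.IsGradedHom (φ i))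
  (t : ∀ i j, i ≤ j → ((𝒮i i).toQCAlg ⟶ (𝒮i j).toQCAlg)) (ht : ∀ i j (h : i ≤ j), RelProj.IsGradedHom (t i j h))
  (hφt : ∀ i j (h : i ≤ j), t i j h ≫ φ j = φ i)
  (ui : ∀ i, RelProj.QGrHom q (𝒮i i) 𝒮L) (hui : ∀ i (U : Y.Opens), (ui i).app U = (φ i).hom.app (op U) ≫ u.app U)

omit [Preorder Λ] in
include hui in
theorem appLE_uiW (i : Λ) (U : Y.Opens) (V : X.Opens) (hle : V ≤ q ⁻¹ᵁ U) :
    (ui i).appLE U V hle = (φ i).hom.app (op U) ≫ u.appLE U V hle := by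
  rw [RelSpec.QHom.appLE_eq, RelSpec.QHom.appLE_eq, ← Category.assoc]
  congr 1
  exact hui i U

omit [Preorder Λ] in
include hui in
theorem appLE_ui_apply (i : Λ) (U : Y.Opens) (V : X.Opens) (hle : V ≤ q ⁻¹ᵁ U) (a : (𝒮i i).presheaf.obj (op U)) :
    ((ui i).appLE U V hle).hom a = (u.appLE U V hle).hom (((φ i).hom.app (op U)).hom a) := by
  rw [appLE_uiW u 𝒮i φ ui hui i U V hle]
  rfl

include hφt in
theorem φ_t_apply (i j : Λ) (h : i ≤ j) (U : Y.Opens) (a : (𝒮i i).presheaf.obj (op U)) :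
    ((φ j).hom.app (op U)).hom (((t i j h).hom.app (op U)).hom a) = ((φ i).hom.app (op U)).hom a := by
  have := congrArg (fun ψ : (𝒮i i).toQCAlg ⟶ 𝒮.toQCAlg => (ψ.hom.app (op U)).hom a) (hφt i j h)
  exact this

omit [Preorder Λ] in
include hui in
theorem XTU_ui (i : Λ) (U : Y.Opens) (n : ℕ) (a : (𝒮i i).presheaf.obj (op U)) :
    XTU (ui i) U n a = XTU u U n (((φ i).hom.app (op U)).hom a) := by
  unfold XTU
  apply le_antisymm
  · refine iSup_le fun V => ?_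
    obtain ⟨hle, hsub⟩ := V.2
    refine le_iSup_of_le ⟨V.1, hle, ?_⟩ le_rfl
    rw [← appLE_ui_apply u 𝒮i φ ui hui i U V.1.1 hle a]
    exact hsub
  · refine iSup_le fun V => ?_
    obtain ⟨hle, hsub⟩ := V.2
    refine le_iSup_of_le ⟨V.1, hle, ?_⟩ le_rfl
    rw [appLE_ui_apply u 𝒮i φ ui hui i U V.1.1 hle a]
    exact hsub

omit [Preorder Λ] in
include hφ in
theorem exists_homog_lift
    (hsurj : ∀ (U : Y.Opens), IsAffineOpen U → ∀ x : 𝒮.presheaf.obj (op U),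
      ∃ (i : Λ) (y : (𝒮i i).presheaf.obj (op U)), ((φ i).hom.app (op U)).hom y = x)
    (U : Y.Opens) (hU : IsAffineOpen U) {d : ℕ} {s : 𝒮.presheaf.obj (op U)} (hs : s ∈ 𝒮.deg U hU d) :
    ∃ (i : Λ) (a : (𝒮i i).presheaf.obj (op U)), a ∈ (𝒮i i).deg U hU d ∧ ((φ i).hom.app (op U)).hom a = s := by
  classical
  obtain ⟨i, a, ha⟩ := hsurj U hU s
  let ψ := RelProj.gradedHomAt (φ i) (hφ i) U hU
  have h1 : ψ (decompose ((𝒮i i).deg U hU) a d) = s := by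
    have := GradedRingHom.map_directSumDecompose ((𝒮i i).deg U hU) (𝒮.deg U hU) ψ (x := a) (i := d)
    have h2 : ψ a = s := ha
    rw [h2, decompose_of_mem_same _ hs] at this
    exact this
  exact ⟨i, _, SetLike.coe_mem _, h1⟩

include hφ ht hφt hui in
/-- finite type descent of condition (iii) to a finite stage -/
theorem exists_cond3V_ui [IsDirected Λ (· ≤ ·)] [Nonempty Λ]
    (hsurj : ∀ (U : Y.Opens), IsAffineOpen U → ∀ x : 𝒮.presheaf.obj (op U),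
      ∃ (i : Λ) (y : (𝒮i i).presheaf.obj (op U)), ((φ i).hom.app (op U)).hom y = x)
    (U : Y.Opens) (hU : IsAffineOpen U) (V : X.Opens) (hle : V ≤ q ⁻¹ᵁ U)
    (hft : (q.appLE U V hle).hom.FiniteType) (n : ℕ) (i₁ : Λ) (a : (𝒮i i₁).presheaf.obj (op U))
    (ha : a ∈ (𝒮i i₁).deg U hU n)
    (h3 : Cond3V u U hU V hle n (((φ i₁).hom.app (op U)).hom a)) :
    ∃ i, i₁ ≤ i ∧ ∀ j (_ : i ≤ j) (h1j : i₁ ≤ j),
      Cond3V (ui j) U hU V hle n (((t i₁ j h1j).hom.app (op U)).hom a) := by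
  classical
  letI := (q.appLE U V hle).hom.toAlgebra
  obtain ⟨G, hG⟩ := hft.out
  choose m hm s' hs' heq using h3
  have hlift := fun g => exists_homog_lift 𝒮i φ hφ hsurj U hU (hs' g)
  choose ig a' ha' hφa' using hlift
  obtain ⟨i, hi⟩ := (insert i₁ (G.image ig)).exists_le
  have hi₁ : i₁ ≤ i := hi i₁ (Finset.mem_insert_self _ _)
  refine ⟨i, hi₁, fun j hij h1j => ?_⟩
  obtain ⟨aj, haj⟩ : ∃ aj, aj = ((t i₁ j h1j).hom.app (op U)).hom a := ⟨_, rfl⟩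
  rw [← haj]
  have haj_mem : aj ∈ (𝒮i j).deg U hU n := haj ▸ ht i₁ j h1j U hU n a ha
  obtain ⟨F, hF⟩ : ∃ F, F = ((ui j).appLE U V hle).hom aj := ⟨_, rfl⟩
  have hFeq : F = (u.appLE U V hle).hom (((φ i₁).hom.app (op U)).hom a) := by
    rw [hF, appLE_ui_apply u 𝒮i φ ui hui j U V hle aj, haj, φ_t_apply 𝒮i φ t hφt i₁ j h1j U a]
  have key : ∀ tt : X.presheaf.obj (op V), ∃ (m : ℕ) (_ : 0 < m) (s' : (𝒮i j).presheaf.obj (op U))
      (_ : s' ∈ (𝒮i j).deg U hU (m * n)),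
      (𝒮L.str.app (op V)).hom tt * F ^ m = ((ui j).appLE U V hle).hom s' := by
    intro tt
    have htt : tt ∈ Algebra.adjoin (Γ(Y, U)) (G : Set (X.presheaf.obj (op V))) := by rw [hG]; trivial
    induction htt using Algebra.adjoin_induction with
    | mem g hg =>
      have hgj : ig g ≤ j := (hi (ig g) (Finset.mem_insert_of_mem (Finset.mem_image_of_mem ig hg))).trans hij
      refine ⟨m g, hm g, ((t (ig g) j hgj).hom.app (op U)).hom (a' g), ht (ig g) j hgj U hU _ _ (ha' g), ?_⟩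
      rw [appLE_ui_apply u 𝒮i φ ui hui j U V hle (((t (ig g) j hgj).hom.app (op U)).hom (a' g)),
        φ_t_apply 𝒮i φ t hφt (ig g) j hgj U, hφa' g, ← heq g, ← hFeq]
    | algebraMap c =>
      refine ⟨1, Nat.one_pos, ((𝒮i j).str.app (op U)).hom c * aj, ?_, ?_⟩
      · have h0 : ((𝒮i j).str.app (op U)).hom c ∈ (𝒮i j).deg U hU 0 := (𝒮i j).str_mem U hU c
        have := SetLike.mul_mem_graded h0 haj_mem
        rw [zero_add] at this
        rw [one_mul]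
        exact this
      · rw [pow_one, map_mul, ← hF]
        congr 1
        have := congrArg (fun ψ => ψ.hom c) ((ui j).str_appLE U V hle)
        exact this.symm
    | add x y hx hy ihx ihy =>
      obtain ⟨m1, hm1, a1, ha1, e1⟩ := ihx
      obtain ⟨m2, hm2, a2, ha2, e2⟩ := ihy
      refine ⟨m1 + m2, Nat.add_pos_left hm1 _, a1 * aj ^ m2 + a2 * aj ^ m1, ?_, ?_⟩
      · have hp1 : aj ^ m1 ∈ (𝒮i j).deg U hU (m1 • n) := SetLike.pow_mem_graded m1 haj_mem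
        have hp2 : aj ^ m2 ∈ (𝒮i j).deg U hU (m2 • n) := SetLike.pow_mem_graded m2 haj_mem
        have h1 := SetLike.mul_mem_graded ha1 hp2
        have h2 := SetLike.mul_mem_graded ha2 hp1
        have e1' : m1 * n + m2 • n = (m1 + m2) * n := by rw [smul_eq_mul]; ring
        have e2' : m2 * n + m1 • n = (m1 + m2) * n := by rw [smul_eq_mul]; ring
        rw [e1'] at h1
        rw [e2'] at h2
        exact add_mem h1 h2
      · rw [map_add, map_add, map_mul, map_mul, map_pow, map_pow, ← e1, ← e2, ← hF]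
        ring
    | mul x y hx hy ihx ihy =>
      obtain ⟨m1, hm1, a1, ha1, e1⟩ := ihx
      obtain ⟨m2, hm2, a2, ha2, e2⟩ := ihy
      refine ⟨m1 + m2, Nat.add_pos_left hm1 _, a1 * a2, ?_, ?_⟩
      · have h1 := SetLike.mul_mem_graded ha1 ha2
        have e1' : m1 * n + m2 * n = (m1 + m2) * n := by ring
        rw [e1'] at h1
        exact h1
      · rw [map_mul, map_mul, ← e1, ← e2]
        ring
  intro tt
  obtain ⟨m', hm', s'', hs'', e⟩ := key tt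
  exact ⟨m', hm', s'', hs'', hF ▸ e⟩

end colim

section descent

variable {Y X PL : Scheme.{u}} {q : X ⟶ Y}
  {L : X.Modules} (hL : PicF.IsInvertible L) [hLq : L.IsQuasicoherent]
  {𝒮 : RelProj.QCGrAlg Y} {𝒮L : RelProj.QCGrAlg X} {j : L ⟶ 𝒮L.toModule} (hj : RelProj.IsGrSymAlg L 𝒮L j)
  (u : RelProj.QGrHom q 𝒮 𝒮L)
  {pL : PL ⟶ X} {chartL : ∀ (U : X.Opens) (hU : IsAffineOpen U), (((pL ⁻¹ᵁ U : PL.Opens) : Scheme.{u}) ≅ Proj (𝒮L.deg U hU))}
  (hPL : RelProj.IsRelProj 𝒮L pL chartL)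
  {Λ : Type w} [Preorder Λ] [IsDirected Λ (· ≤ ·)] [Nonempty Λ]
  (𝒮i : Λ → RelProj.QCGrAlg Y) (φ : ∀ i, (𝒮i i).toQCAlg ⟶ 𝒮.toQCAlg) (hφ : ∀ i, RelProj.IsGradedHom (φ i))
  (t : ∀ i j, i ≤ j → ((𝒮i i).toQCAlg ⟶ (𝒮i j).toQCAlg)) (ht : ∀ i j (h : i ≤ j), RelProj.IsGradedHom (t i j h))
  (hφt : ∀ i j (h : i ≤ j), t i j h ≫ φ j = φ i)
  (ui : ∀ i, RelProj.QGrHom q (𝒮i i) 𝒮L) (hui : ∀ i (U : Y.Opens), (ui i).app U = (φ i).hom.app (op U) ≫ u.app U)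
  {Pi : Λ → Scheme.{u}} {pi : ∀ i, Pi i ⟶ Y}
  {charti : ∀ i (U : Y.Opens) (hU : IsAffineOpen U), ((((pi i) ⁻¹ᵁ U : (Pi i).Opens) : Scheme.{u}) ≅ Proj ((𝒮i i).deg U hU))}
  (hPi : ∀ i, RelProj.IsRelProj (𝒮i i) (pi i) (charti i))
  (ri : ∀ i, ((RelProj.domQ (ui i) pL chartL : PL.Opens) : Scheme.{u}) ⟶ Pi i)
  (hri : ∀ i, RelProj.IsProjQMapOn (ui i) (pi i) (charti i) pL chartL (RelProj.domQ (ui i) pL chartL) (ri i))

include hL hj hPL hφ ht hφt hui hPi hri in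
/-- local immersion data for `u` descends to a finite stage when `X` is quasi-compact and `q` locally of finite type -/
theorem exists_stage_isImmersion [CompactSpace X] [LocallyOfFiniteType q]
    (hsurj : ∀ (U : Y.Opens), IsAffineOpen U → ∀ x : 𝒮.presheaf.obj (op U),
      ∃ (i : Λ) (y : (𝒮i i).presheaf.obj (op U)), ((φ i).hom.app (op U)).hom y = x)
    (hdata : ∀ x : X, ∃ (U : Y.Opens) (hU : IsAffineOpen U) (n : ℕ) (s : 𝒮.presheaf.obj (op U)),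
      (0 < n ∧ s ∈ 𝒮.deg U hU n) ∧ x ∈ XTU u U n s ∧ IsAffineOpen (XTU u U n s) ∧ Cond3 u U hU n s) :
    ∃ i, RelProj.domQ (ui i) pL chartL = ⊤ ∧ IsImmersion (ri i) := by
  classical
  choose U hU n s hns hx hXT h3 using hdata
  obtain ⟨F, hF⟩ := isCompact_univ.elim_finite_subcover (fun x => (XTU u (U x) (n x) (s x) : Set X))
    (fun x => (XTU u (U x) (n x) (s x)).isOpen) (fun y _ => Set.mem_iUnion.mpr ⟨y, hx y⟩)
  have hl := fun x => exists_homog_lift 𝒮i φ hφ hsurj (U x) (hU x) (hns x).2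
  choose i₁ a ha hφa using hl
  have hd := fun x => exists_cond3V_ui u 𝒮i φ hφ t ht hφt ui hui hsurj (U x) (hU x)
    (XTU u (U x) (n x) (s x)) (XTU_le u (U x) (n x) (s x))
    (q.finiteType_appLE (hU x) (hXT x) (XTU_le u (U x) (n x) (s x))) (n x) (i₁ x) (a x) (ha x)
    (by rw [hφa x]; exact h3 x)
  choose i₂ hi₁₂ hcond using hd
  obtain ⟨i, hi⟩ := (F.image i₂).exists_le
  have h2i : ∀ x ∈ F, i₂ x ≤ i := fun x hx => hi _ (Finset.mem_image_of_mem _ hx)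
  have h1i : ∀ x ∈ F, i₁ x ≤ i := fun x hx => (hi₁₂ x).trans (h2i x hx)
  let ai : ∀ x : F, (𝒮i i).presheaf.obj (op (U x.1)) :=
    fun x => ((t (i₁ x.1) i (h1i x.1 x.2)).hom.app (op (U x.1))).hom (a x.1)
  have hφai : ∀ x : F, ((φ i).hom.app (op (U x.1))).hom (ai x) = s x.1 := fun x => by
    rw [φ_t_apply 𝒮i φ t hφt (i₁ x.1) i (h1i x.1 x.2) (U x.1) (a x.1), hφa]
  have hXTeq : ∀ x : F, XTU (ui i) (U x.1) (n x.1) (ai x) = XTU u (U x.1) (n x.1) (s x.1) := fun x => by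
    rw [XTU_ui u 𝒮i φ ui hui i (U x.1) (n x.1) (ai x), hφai]
  have hns' : ∀ x : F, 0 < n x.1 ∧ ai x ∈ (𝒮i i).deg (U x.1) (hU x.1) (n x.1) := fun x =>
    ⟨(hns x.1).1, ht (i₁ x.1) i (h1i x.1 x.2) (U x.1) (hU x.1) _ _ (ha x.1)⟩
  have hcov' : ∀ y : X, ∃ x : F, y ∈ XTU (ui i) (U x.1) (n x.1) (ai x) := by
    intro y
    have := hF (Set.mem_univ y)
    simp only [Set.mem_iUnion] at this
    obtain ⟨x, hxF, hy⟩ := this
    exact ⟨⟨x, hxF⟩, by rw [hXTeq]; exact hy⟩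
  have hXT' : ∀ x : F, IsAffineOpen (XTU (ui i) (U x.1) (n x.1) (ai x)) := fun x => by
    rw [hXTeq]; exact hXT x.1
  have h3' : ∀ x : F, Cond3 (ui i) (U x.1) (hU x.1) (n x.1) (ai x) := fun x =>
    (cond3_iff_cond3V (ui i) (U x.1) (hU x.1) (n x.1) (ai x)).mpr
      ((cond3V_congr (ui i) (U x.1) (hU x.1) (hXTeq x) _ (XTU_le u (U x.1) (n x.1) (s x.1)) (n x.1) (ai x)).mpr
        (hcond x.1 i (h2i x.1 x.2) (h1i x.1 x.2)))
  exact ⟨i, domQ_eq_top_of_cover hL hj (ui i) (hPi i) hPL (ri i) (hri i) (fun x : F => U x.1) (fun x => hU x.1)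
      (fun x => n x.1) ai hns' hcov',
    isImmersion_of_family hL hj (ui i) (hPi i) hPL (ri i) (hri i) (fun x : F => U x.1) (fun x => hU x.1)
      (fun x => n x.1) ai hns' hcov' hXT' h3'⟩

end descent

end Groth.Agent.Lib.Helper74.QMapImmUW
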