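import Groth.Agent.Lib.Helper74.QMapImm
import Groth.Agent.Lib.Helper74.QMapExists

/-!
# Immersion criteria for `r_{L,ψ}`: the local core over an affine open `U` of an arbitrary base

Generalizes `QMapImm` from `U = ⊤` to any affine open `U ⊆ Y`.
-/

set_option autoImplicit false
set_option linter.style.haveILetI false
universe u

open CategoryTheory CategoryTheory.Limits AlgebraicGeometry TopologicalSpace Opposite
open scoped HomogeneousIdeal
open HomogeneousLocalization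

noncomputable section

namespace Groth.Agent.Lib.Helper74.QMapImmU

open Groth.Agent.Lib.Helper74.QMap Groth.Agent.Lib.Helper74.QMapImm

section core

variable {Y X P PL : Scheme.{u}} {q : X ⟶ Y}
  {L : X.Modules} (hL : PicF.IsInvertible L) [hLq : L.IsQuasicoherent]
  {𝒮 : RelProj.QCGrAlg Y} {𝒮L : RelProj.QCGrAlg X} {j : L ⟶ 𝒮L.toModule} (hj : RelProj.IsGrSymAlg L 𝒮L j)
  (u : RelProj.QGrHom q 𝒮 𝒮L)
  {p : P ⟶ Y} {chart : ∀ (U : Y.Opens) (hU : IsAffineOpen U), (((p ⁻¹ᵁ U : P.Opens) : Scheme.{u}) ≅ Proj (𝒮.deg U hU))}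
  (hP : RelProj.IsRelProj 𝒮 p chart)
  {pL : PL ⟶ X} {chartL : ∀ (U : X.Opens) (hU : IsAffineOpen U), (((pL ⁻¹ᵁ U : PL.Opens) : Scheme.{u}) ≅ Proj (𝒮L.deg U hU))}
  (hPL : RelProj.IsRelProj 𝒮L pL chartL)
  (r : ((RelProj.domQ u pL chartL : PL.Opens) : Scheme.{u}) ⟶ P)
  (hr : RelProj.IsProjQMapOn u p chart pL chartL (RelProj.domQ u pL chartL) r)
  (U : Y.Opens) (hU : IsAffineOpen U)

/-- the non-vanishing locus `X_t ⊆ q⁻¹(U)` of `t = ψ♭(s)`, `s ∈ 𝒮(U)`, as a union of affine opens -/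
def XTU (n : ℕ) (s : 𝒮.presheaf.obj (op U)) : X.Opens :=
  ⨆ V : {V : X.affineOpens // ∃ hle : (V.1 : X.Opens) ≤ q ⁻¹ᵁ U,
    ((𝒮L.deg V.1 V.2 n : AddSubgroup (𝒮L.presheaf.obj (op (V.1 : X.Opens)))) : Set (𝒮L.presheaf.obj (op (V.1 : X.Opens)))) ⊆
      (Ideal.span {(u.appLE U (V.1 : X.Opens) hle).hom s} : Set (𝒮L.presheaf.obj (op (V.1 : X.Opens))))},
    (V.1.1 : X.Opens)

omit hLq in
theorem XTU_le (n : ℕ) (s : 𝒮.presheaf.obj (op U)) : XTU u U n s ≤ q ⁻¹ᵁ U := by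
  refine iSup_le fun V => ?_
  obtain ⟨hle, -⟩ := V.2
  exact hle

variable {n : ℕ} (hn : 0 < n) {s : 𝒮.presheaf.obj (op U)} (hs : s ∈ 𝒮.deg U hU n)

include hL hj hP hPL hr hn hs in
/-- `r⁻¹(D_+(s)) = pL⁻¹(X_t)` -/
theorem preimage_XTU :
    (RelProj.domQ u pL chartL).ι ''ᵁ (r ⁻¹ᵁ ((RelProj.emb p chart U hU) ''ᵁ Proj.basicOpen (𝒮.deg U hU) s)) =
      pL ⁻¹ᵁ XTU u U n s := by
  have hrange := range_stdChart (p := p) (chart := chart) U hU hn s hs
  ext pt
  constructor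
  · rintro ⟨w, hw, rfl⟩
    have hwU : pL w.1 ∈ q ⁻¹ᵁ U := by
      have hc := isProjQMapOn_comp hP hPL r hr
      have h1 : p (r w) ∈ U := by
        obtain ⟨z, _, hz⟩ := hw
        rw [← hz]
        exact RelConeProj.emb_mem_preimage (pC := p) (chartC := chart) U hU z
      have h2 : p (r w) = q (pL w.1) :=
        congrArg (fun ψ : ((RelProj.domQ u pL chartL : PL.Opens) : Scheme.{u}) ⟶ Y => ψ w) hc
      rw [h2] at h1
      exact h1
    obtain ⟨_, ⟨V0, hV0, rfl⟩, hxV, hVle⟩ :=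
      (X.isBasis_affineOpens).exists_subset_of_mem_open hwU (q ⁻¹ᵁ U).isOpen
    obtain ⟨y, hy⟩ := RelConeProj.exists_emb_eq (pC := pL) (chartC := chartL) V0 hV0 w.1 hxV
    have hy' : RelProj.emb pL chartL V0 hV0 y ∈ RelProj.domQ u pL chartL := hy ▸ w.2
    have hw' : w = ⟨RelProj.emb pL chartL V0 hV0 y, hy'⟩ := Subtype.ext hy.symm
    have h1 : r w ∈ Set.range (stdChart p chart U hU hn s hs) := by
      rw [hrange]; exact hw
    rw [hw'] at h1
    have h2 := (qmap_mem_range_stdChart_iff u hPL r hr U hU V0 hV0 hVle hn s hs y hy').mp h1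
    obtain ⟨V', hV', hle, hx', hsub⟩ := InvSym.exists_affine_deg_le_span hj hL hPL
      V0 hV0 ((u.gradedAt U hU V0 hV0 hVle).map_mem hs) y h2
    have e : InvSym.resA 𝒮L hle ((u.gradedAt U hU V0 hV0 hVle) s) =
        (u.appLE U V' (hle.trans hVle)).hom s :=
      congrArg (fun ψ => ψ.hom s) (u.appLE_map hVle hle)
    erw [e] at hsub
    rw [hy] at hx'
    exact TopologicalSpace.Opens.mem_iSup.mpr ⟨⟨⟨V', hV'⟩, hle.trans hVle, hsub⟩, hx'⟩
  · intro hpt
    obtain ⟨⟨⟨V, hV⟩, hle, hsub⟩, hxV⟩ := TopologicalSpace.Opens.mem_iSup.mp hpt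
    obtain ⟨y, rfl⟩ := RelConeProj.exists_emb_eq (pC := pL) (chartC := chartL) V hV pt hxV
    have hy := InvSym.mem_basicOpen_of_deg_le_span' hj V hV hn hsub y
    have hdom : RelProj.emb pL chartL V hV y ∈ RelProj.domQ u pL chartL :=
      (emb_mem_domQ_iff u hPL U hU V hV hle y).mpr
        ((mem_domOpen_iff_homog _ y).mpr ⟨n, hn, s, hs, hy⟩)
    refine ⟨⟨RelProj.emb pL chartL V hV y, hdom⟩, ?_, rfl⟩
    have h2 := (qmap_mem_range_stdChart_iff u hPL r hr U hU V hV hle hn s hs y hdom).mpr hy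
    rw [hrange] at h2
    exact h2

include hL hj hP hPL hr hn hs in
theorem mem_preimage_XTU_iff (w : (RelProj.domQ u pL chartL : PL.Opens)) :
    pL w.1 ∈ XTU u U n s ↔ r w ∈ Set.range (stdChart p chart U hU hn s hs) := by
  have h := preimage_XTU hL hj u hP hPL r hr U hU hn hs
  have h1 : pL w.1 ∈ XTU u U n s ↔ w.1 ∈ pL ⁻¹ᵁ XTU u U n s := Iff.rfl
  rw [h1, ← h, range_stdChart]
  constructor
  · rintro ⟨w', hw', e⟩
    have : w' = w := Subtype.ext e
    rw [← this]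
    exact hw'
  · intro hw
    exact ⟨w, hw, rfl⟩

include hL hj hP hPL hr hn hs in
theorem preimage_XTU_le_domQ : pL ⁻¹ᵁ XTU u U n s ≤ RelProj.domQ u pL chartL := by
  rw [← preimage_XTU hL hj u hP hPL r hr U hU hn hs]
  rintro _ ⟨w, _, rfl⟩
  exact w.2

variable (hXT : IsAffineOpen (XTU u U n s))

include hL hj hP hPL hr hn hs in
/-- over `X_t` (affine), `t` vanishes nowhere on the chart -/
theorem mem_basicOpen_XTU (y : Proj (𝒮L.deg (XTU u U n s) hXT)) :
    y ∈ Proj.basicOpen (𝒮L.deg (XTU u U n s) hXT) (u.gradedAt U hU (XTU u U n s) hXT (XTU_le u U n s) s) := by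
  have h1 : RelProj.emb pL chartL (XTU u U n s) hXT y ∈ pL ⁻¹ᵁ XTU u U n s :=
    RelConeProj.emb_mem_preimage (XTU u U n s) hXT y
  have hdom : RelProj.emb pL chartL (XTU u U n s) hXT y ∈ RelProj.domQ u pL chartL :=
    preimage_XTU_le_domQ hL hj u hP hPL r hr U hU hn hs h1
  have h2 := (mem_preimage_XTU_iff hL hj u hP hPL r hr U hU hn hs ⟨_, hdom⟩).mp h1
  exact (qmap_mem_range_stdChart_iff u hPL r hr U hU (XTU u U n s) hXT (XTU_le u U n s) hn s hs y hdom).mp h2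

include hL hj hP hPL hr hn hs in
theorem range_awayEmb :
    Set.range (RelProj.awayEmb u pL chartL U hU (XTU u U n s) hXT (XTU_le u U n s) hn s hs) =
      (pL ⁻¹ᵁ XTU u U n s : Set PL) := by
  rw [RelProj.awayEmb, Scheme.Hom.comp_base, TopCat.coe_comp, Set.range_comp]
  have h1 : Set.range (Proj.awayι (𝒮L.deg (XTU u U n s) hXT) (u.gradedAt U hU (XTU u U n s) hXT (XTU_le u U n s) s)
      ((u.gradedAt U hU (XTU u U n s) hXT (XTU_le u U n s)).map_mem hs) hn) = Set.univ := by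
    have := Proj.opensRange_awayι (𝒮L.deg (XTU u U n s) hXT) (u.gradedAt U hU (XTU u U n s) hXT (XTU_le u U n s) s)
      ((u.gradedAt U hU (XTU u U n s) hXT (XTU_le u U n s)).map_mem hs) hn
    have h2 : Proj.basicOpen (𝒮L.deg (XTU u U n s) hXT) (u.gradedAt U hU (XTU u U n s) hXT (XTU_le u U n s) s) = ⊤ :=
      eq_top_iff.mpr fun y _ => mem_basicOpen_XTU hL hj u hP hPL r hr U hU hn hs hXT y
    rw [h2] at this
    exact congrArg (fun O : (Proj (𝒮L.deg (XTU u U n s) hXT)).Opens => (O : Set (Proj (𝒮L.deg (XTU u U n s) hXT)))) this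
  erw [h1, Set.image_univ]
  ext pt
  constructor
  · rintro ⟨y, rfl⟩
    exact RelConeProj.emb_mem_preimage (XTU u U n s) hXT y
  · intro hpt
    exact RelConeProj.exists_emb_eq (pC := pL) (chartC := chartL) (XTU u U n s) hXT pt hpt

/-- the source chart -/
def iX : Spec (CommRingCat.of (Away (𝒮L.deg (XTU u U n s) hXT) (u.gradedAt U hU (XTU u U n s) hXT (XTU_le u U n s) s))) ⟶
    ((RelProj.domQ u pL chartL : PL.Opens) : Scheme.{u}) :=
  IsOpenImmersion.lift (RelProj.domQ u pL chartL).ι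
    (RelProj.awayEmb u pL chartL U hU (XTU u U n s) hXT (XTU_le u U n s) hn s hs)
    (RelProj.range_awayEmb_subset_domQ u pL chartL U hU (XTU u U n s) hXT (XTU_le u U n s) hn s hs)

theorem iX_ι : iX u U hU hn hs hXT ≫ (RelProj.domQ u pL chartL).ι =
    RelProj.awayEmb u pL chartL U hU (XTU u U n s) hXT (XTU_le u U n s) hn s hs :=
  IsOpenImmersion.lift_fac _ _ _

instance : IsOpenImmersion (RelProj.awayEmb u pL chartL U hU (XTU u U n s) hXT (XTU_le u U n s) hn s hs) := by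
  unfold RelProj.awayEmb; infer_instance

instance : IsOpenImmersion (iX (pL := pL) (chartL := chartL) u U hU hn hs hXT) := by
  have : IsOpenImmersion (iX (pL := pL) (chartL := chartL) u U hU hn hs hXT ≫ (RelProj.domQ u pL chartL).ι) := by
    rw [iX_ι]; infer_instance
  exact IsOpenImmersion.of_comp _ (RelProj.domQ u pL chartL).ι

/-- the map of charts -/
def fC : Spec (CommRingCat.of (Away (𝒮L.deg (XTU u U n s) hXT) (u.gradedAt U hU (XTU u U n s) hXT (XTU_le u U n s) s))) ⟶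
    Spec (CommRingCat.of (Away (𝒮.deg U hU) s)) :=
  Spec.map (CommRingCat.ofHom (Away.map (u.gradedAt U hU (XTU u U n s) hXT (XTU_le u U n s)) s))

include hr in
theorem iX_comp : iX u U hU hn hs hXT ≫ r = fC u U hU hXT ≫ stdChart p chart U hU hn s hs := by
  have := hr U hU (XTU u U n s) hXT (XTU_le u U n s) n hn s hs
    (RelProj.range_awayEmb_subset_domQ u pL chartL U hU (XTU u U n s) hXT (XTU_le u U n s) hn s hs)
  exact this

include hL hj hP hPL hr in
theorem opensRange_iX :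
    (iX u U hU hn hs hXT).opensRange = r ⁻¹ᵁ (stdChart p chart U hU hn s hs).opensRange := by
  ext w
  have h1 : w ∈ (iX (pL := pL) (chartL := chartL) u U hU hn hs hXT).opensRange ↔
      w.1 ∈ Set.range (RelProj.awayEmb u pL chartL U hU (XTU u U n s) hXT (XTU_le u U n s) hn s hs) := by
    rw [← iX_ι u U hU hn hs hXT]
    constructor
    · rintro ⟨z, rfl⟩
      exact ⟨z, rfl⟩
    · rintro ⟨z, hz⟩
      exact ⟨z, Subtype.ext hz⟩
  have h2 : w ∈ r ⁻¹ᵁ (stdChart p chart U hU hn s hs).opensRange ↔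
      r w ∈ Set.range (stdChart p chart U hU hn s hs) := Iff.rfl
  refine h1.trans (Iff.trans ?_ h2.symm)
  rw [range_awayEmb hL hj u hP hPL r hr U hU hn hs hXT,
    ← mem_preimage_XTU_iff hL hj u hP hPL r hr U hU hn hs w]
  rfl

/-- `O(X_t) → 𝒮L(X_t)_(t)` -/
def φT : Γ(X, XTU u U n s) ⟶ CommRingCat.of (Away (𝒮L.deg (XTU u U n s) hXT) (u.gradedAt U hU (XTU u U n s) hXT (XTU_le u U n s) s)) :=
  𝒮L.strZero (XTU u U n s) hXT ≫ CommRingCat.ofHom (fromZeroRingHom (𝒮L.deg (XTU u U n s) hXT) _)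

include hPL in
theorem awayEmb_comp_pL :
    RelProj.awayEmb u pL chartL U hU (XTU u U n s) hXT (XTU_le u U n s) hn s hs ≫ pL =
      Spec.map (φT u U hU hXT) ≫ hXT.fromSpec := by
  rw [RelProj.awayEmb, Category.assoc, RelConeProj.emb_comp hPL, Proj.awayι_toSpecZero_assoc,
    ← Spec.map_comp_assoc]
  rfl

include hL hj hP hPL hr hn hs in
theorem isIso_SpecMap_φT : IsIso (Spec.map (φT u U hU hXT)) := by
  haveI : IsIso pL := InvSym.isIso_pL hj hL hPL
  have hcomp := awayEmb_comp_pL (pL := pL) (chartL := chartL) u hPL U hU hn hs hXT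
  haveI : IsOpenImmersion (Spec.map (φT u U hU hXT) ≫ hXT.fromSpec) := by
    rw [← hcomp]; infer_instance
  haveI : IsOpenImmersion (Spec.map (φT u U hU hXT)) := IsOpenImmersion.of_comp _ hXT.fromSpec
  refine (isIso_iff_isOpenImmersion_and_surjective _).mpr ⟨inferInstance, ⟨fun z => ?_⟩⟩
  have hz : hXT.fromSpec z ∈ XTU u U n s := by
    have h0 : hXT.fromSpec z ∈ Set.range hXT.fromSpec := Set.mem_range_self z
    rw [hXT.range_fromSpec] at h0
    exact h0
  obtain ⟨pt, hpt⟩ : ∃ pt, pL pt = hXT.fromSpec z :=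
    ⟨(inv pL) (hXT.fromSpec z), by rw [← Scheme.Hom.comp_apply, IsIso.inv_hom_id]; rfl⟩
  have hpt' : pt ∈ (pL ⁻¹ᵁ XTU u U n s : Set PL) := by
    change pL pt ∈ XTU u U n s
    rw [hpt]; exact hz
  rw [← range_awayEmb hL hj u hP hPL r hr U hU hn hs hXT] at hpt'
  obtain ⟨ξ, rfl⟩ := hpt'
  refine ⟨ξ, ?_⟩
  apply hXT.fromSpec.isOpenEmbedding.injective
  rw [← hpt, ← Scheme.Hom.comp_apply, ← Scheme.Hom.comp_apply, hcomp]

include hL hj hP hPL hr hn hs in
theorem bijective_φT : Function.Bijective (φT u U hU hXT).hom :=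
  isIso_SpecMap_iff.mp (isIso_SpecMap_φT hL hj u hP hPL r hr U hU hn hs hXT)

/-- condition (iii) for `(U, n, s)` -/
def Cond3 (n : ℕ) (s : 𝒮.presheaf.obj (op U)) : Prop :=
  ∀ t : X.presheaf.obj (op (XTU u U n s)), ∃ (m : ℕ) (_ : 0 < m) (s' : 𝒮.presheaf.obj (op U)) (_ : s' ∈ 𝒮.deg U hU (m * n)),
    (𝒮L.str.app (op (XTU u U n s))).hom t * ((u.appLE U (XTU u U n s) (XTU_le u U n s)).hom s) ^ m =
      (u.appLE U (XTU u U n s) (XTU_le u U n s)).hom s'

include hL hj hP hPL hr hn hs in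
theorem isClosedImmersion_fC_iff : IsClosedImmersion (fC u U hU hXT) ↔ Cond3 u U hU n s := by
  rw [fC, isClosedImmersion_SpecMap_iff]
  exact AwayMapCrit.away_map_surjective_iff (u.gradedAt U hU (XTU u U n s) hXT (XTU_le u U n s)) hs
    (𝒮L.strZero (XTU u U n s) hXT).hom (bijective_φT hL hj u hP hPL r hr U hU hn hs hXT).2

end core

end Groth.Agent.Lib.Helper74.QMapImmU
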