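import Groth.Agent.Lib.Helper74.QMapConeImm

set_option autoImplicit false
universe u
open CategoryTheory CategoryTheory.Limits AlgebraicGeometry TopologicalSpace Opposite
open scoped HomogeneousIdeal
open HomogeneousLocalization

namespace Groth.Agent.Lib.Helper74.QMap

open Groth.Agent.Lib.Helper74.RelProjLib

section alg

variable {A B B' C σ τ τ' ρ : Type u} [CommRing A] [SetLike σ A] [AddSubgroupClass σ A]
  [CommRing B] [SetLike τ B] [AddSubgroupClass τ B]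
  [CommRing B'] [SetLike τ' B'] [AddSubgroupClass τ' B']
  [CommRing C] [SetLike ρ C] [AddSubgroupClass ρ C]
  {𝒜 : ℕ → σ} {ℬ : ℕ → τ} {ℬ' : ℕ → τ'} {𝒞 : ℕ → ρ}
  [GradedRing 𝒜] [GradedRing ℬ] [GradedRing ℬ'] [GradedRing 𝒞]

/-- two composites of maps of homogeneous localizations agree if the underlying composites of
graded homomorphisms agree -/
theorem map_comp_eq_map_comp (g₁ : 𝒜 →+*ᵍ ℬ) (g₂ : ℬ →+*ᵍ 𝒞) (g₁' : 𝒜 →+*ᵍ ℬ') (g₂' : ℬ' →+*ᵍ 𝒞)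
    {P : Submonoid A} {Q : Submonoid B} {Q' : Submonoid B'} {R : Submonoid C}
    (h₁ : P ≤ Q.comap g₁) (h₂ : Q ≤ R.comap g₂) (h₁' : P ≤ Q'.comap g₁') (h₂' : Q' ≤ R.comap g₂')
    (hcomm : ∀ a, g₂ (g₁ a) = g₂' (g₁' a)) :
    (HomogeneousLocalization.map g₂ h₂).comp (HomogeneousLocalization.map g₁ h₁) =
      (HomogeneousLocalization.map g₂' h₂').comp (HomogeneousLocalization.map g₁' h₁') := by
  ext x
  obtain ⟨c, rfl⟩ := x.mk_surjective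
  simp only [RingHom.comp_apply, HomogeneousLocalization.map_mk]
  simp only [HomogeneousLocalization.val_mk]
  congr 1
  · exact hcomm _
  · exact Subtype.ext (hcomm _)

end alg

section general

variable {Y Y' : Scheme.{u}} {g : Y' ⟶ Y} {𝒮 : RelProj.QCGrAlg Y} {𝒮' : RelProj.QCGrAlg Y'}
  (u : RelProj.QGrHom g 𝒮 𝒮')
  {P P' : Scheme.{u}} {p : P ⟶ Y}
  {chart : ∀ (U : Y.Opens) (hU : IsAffineOpen U),
    (((p ⁻¹ᵁ U : P.Opens) : Scheme.{u}) ≅ Proj (𝒮.deg U hU))}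
  {p' : P' ⟶ Y'}
  {chart' : ∀ (U : Y'.Opens) (hU : IsAffineOpen U),
    (((p' ⁻¹ᵁ U : P'.Opens) : Scheme.{u}) ≅ Proj (𝒮'.deg U hU))}

/-- the chart equation of `IsProjQMap` at an element `s'` equal to `u f` -/
theorem isProjQMap_chart_of_eq {h : P' ⟶ P}
    (hh : RelProj.IsProjQMap u p chart p' chart' h)
    (U : Y.Opens) (hU : IsAffineOpen U) (U' : Y'.Opens) (hU' : IsAffineOpen U')
    (hle : U' ≤ g ⁻¹ᵁ U) {d : ℕ} (hd : 0 < d) (f : 𝒮.presheaf.obj (op U))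
    (hf : f ∈ 𝒮.deg U hU d) {s' : 𝒮'.presheaf.obj (op U')} (hs' : s' ∈ 𝒮'.deg U' hU' d)
    (he : u.gradedAt U hU U' hU' hle f = s') :
    (Proj.awayι (𝒮'.deg U' hU') s' hs' hd ≫ RelProj.emb p' chart' U' hU') ≫ h =
      Spec.map (CommRingCat.ofHom (HomogeneousLocalization.map (u.gradedAt U hU U' hU' hle)
        (RelConeProj.powers_le_comap_of_eq _ he))) ≫
        Proj.awayι (𝒮.deg U hU) f hf hd ≫ RelProj.emb p chart U hU := by
  subst he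
  exact hh.2 U hU U' hU' hle d hd f hf

end general

section retract

variable {Y : Scheme.{u}} {𝒮 𝒮h : RelProj.QCGrAlg Y} {ι : 𝒮.toQCAlg ⟶ 𝒮h.toQCAlg}
  {z : 𝒮h.presheaf.obj (op ⊤)} (hz : RelCone.IsPolyOver 𝒮 𝒮h ι z)
  (θ : 𝒮h.toQCAlg ⟶ 𝒮.toQCAlg) (hθ : RelProj.IsGradedHom θ) (hθι : ι ≫ θ = 𝟙 _)
  (hθz : (θ.hom.app (op ⊤)).hom z = 0)

/-- the graded retraction over an affine open -/
noncomputable abbrev θAt (U : Y.Opens) (hU : IsAffineOpen U) : 𝒮h.deg U hU →+*ᵍ 𝒮.deg U hU :=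
  (RelProj.QGrHom.ofHom θ hθ).gradedAt U hU U hU (le_refl U)

theorem θAt_apply (U : Y.Opens) (hU : IsAffineOpen U) (x : 𝒮h.presheaf.obj (op U)) :
    θAt θ hθ U hU x = (θ.hom.app (op U)).hom x := by
  change (𝒮.presheaf.map (𝟙 _)).hom ((θ.hom.app (op U)).hom x) = (θ.hom.app (op U)).hom x
  rw [CategoryTheory.Functor.map_id]
  rfl

include hθι in
theorem θAt_ι (U : Y.Opens) (hU : IsAffineOpen U) (a : 𝒮.presheaf.obj (op U)) :
    θAt θ hθ U hU (RelConeProj.ιAt hz U hU a) = a := by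
  rw [θAt_apply]
  have := congrArg (fun ψ => (ψ.hom.app (op U)).hom a) hθι
  exact this

include hθz in
theorem θAt_z (U : Y.Opens) (hU : IsAffineOpen U) :
    θAt θ hθ U hU (RelConeProj.zAt hz U) = 0 := by
  rw [θAt_apply]
  have h1 := congrArg (fun ψ => ψ.hom z) (θ.hom.naturality (homOfLE (le_top : U ≤ ⊤)).op)
  change (θ.hom.app (op U)).hom ((𝒮h.presheaf.map (homOfLE le_top).op).hom z) =
    (𝒮.presheaf.map (homOfLE le_top).op).hom ((θ.hom.app (op ⊤)).hom z) at h1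
  change (θ.hom.app (op U)).hom ((𝒮h.presheaf.map (homOfLE le_top).op).hom z) = 0
  rw [h1, hθz, map_zero]

variable {PC P : Scheme.{u}} {pC : PC ⟶ Y}
  {chartC : ∀ (U : Y.Opens) (hU : IsAffineOpen U),
    (((pC ⁻¹ᵁ U : PC.Opens) : Scheme.{u}) ≅ Proj (𝒮h.deg U hU))}
  {p : P ⟶ Y}
  {chart : ∀ (U : Y.Opens) (hU : IsAffineOpen U),
    (((p ⁻¹ᵁ U : P.Opens) : Scheme.{u}) ≅ Proj (𝒮.deg U hU))}

/-- the homomorphism `𝒮h(U)_(ι f) → 𝒮(U)_(f)` induced by the retraction -/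
noncomputable def awayθ (U : Y.Opens) (hU : IsAffineOpen U) (f : 𝒮.presheaf.obj (op U)) :
    Away (𝒮h.deg U hU) (RelConeProj.ιAt hz U hU f) →+* Away (𝒮.deg U hU) f :=
  HomogeneousLocalization.map (θAt θ hθ U hU)
    (RelConeProj.powers_le_comap_of_eq _ (θAt_ι hz θ hθ hθι U hU f))

/-- the chart equation of the immersion at infinity `j : X → Ĉ` -/
theorem infty_chart (jX : P ⟶ PC)
    (hjX : RelProj.IsProjQMap (RelProj.QGrHom.ofHom θ hθ) pC chartC p chart jX)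
    (U : Y.Opens) (hU : IsAffineOpen U) {d : ℕ} (hd : 0 < d) (f : 𝒮.presheaf.obj (op U))
    (hf : f ∈ 𝒮.deg U hU d) :
    (Proj.awayι (𝒮.deg U hU) f hf hd ≫ RelProj.emb p chart U hU) ≫ jX =
      Spec.map (CommRingCat.ofHom (awayθ hz θ hθ hθι U hU f)) ≫
        Proj.awayι (𝒮h.deg U hU) (RelConeProj.ιAt hz U hU f)
          ((RelConeProj.ιAt hz U hU).map_mem hf) hd ≫ RelProj.emb pC chartC U hU :=
  isProjQMap_chart_of_eq (RelProj.QGrHom.ofHom θ hθ) hjX U hU U hU (le_refl U) hd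
    (RelConeProj.ιAt hz U hU f) ((RelConeProj.ιAt hz U hU).map_mem hf) hf
    (θAt_ι hz θ hθ hθι U hU f)

end retract

section functor

variable {Y Y' : Scheme.{u}} {q : Y' ⟶ Y} {𝒮 : RelProj.QCGrAlg Y} {𝒮' : RelProj.QCGrAlg Y'}
  (u : RelProj.QGrHom q 𝒮 𝒮')
  {𝒮h : RelProj.QCGrAlg Y} {ι : 𝒮.toQCAlg ⟶ 𝒮h.toQCAlg} {z : 𝒮h.presheaf.obj (op ⊤)}
  (hz : RelCone.IsPolyOver 𝒮 𝒮h ι z)
  {𝒮h' : RelProj.QCGrAlg Y'} {ι' : 𝒮'.toQCAlg ⟶ 𝒮h'.toQCAlg} {z' : 𝒮h'.presheaf.obj (op ⊤)}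
  (hz' : RelCone.IsPolyOver 𝒮' 𝒮h' ι' z')
  (uh : RelProj.QGrHom q 𝒮h 𝒮h')
  (huh : ∀ U : Y.Opens, ι.hom.app (op U) ≫ uh.app U = u.app U ≫ ι'.hom.app (op (q ⁻¹ᵁ U)))
  (huhz : (uh.app ⊤).hom z = RelCone.restrictTop 𝒮h' z' (q ⁻¹ᵁ ⊤))
  (θ : 𝒮h.toQCAlg ⟶ 𝒮.toQCAlg) (hθ : RelProj.IsGradedHom θ) (hθι : ι ≫ θ = 𝟙 _)
  (hθz : (θ.hom.app (op ⊤)).hom z = 0)
  (θ' : 𝒮h'.toQCAlg ⟶ 𝒮'.toQCAlg) (hθ' : RelProj.IsGradedHom θ') (hθι' : ι' ≫ θ' = 𝟙 _)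
  (hθz' : (θ'.hom.app (op ⊤)).hom z' = 0)

include hz hz' huh huhz hθι hθz hθι' hθz' in
/-- the retractions are compatible with `φ` and `φ̂` -/
theorem θ_comm (U : Y.Opens) (hU : IsAffineOpen U) (U' : Y'.Opens)
    (hU' : IsAffineOpen U') (hle : U' ≤ q ⁻¹ᵁ U) (x : 𝒮h.presheaf.obj (op U)) :
    θAt θ' hθ' U' hU' (uh.gradedAt U hU U' hU' hle x) =
      u.gradedAt U hU U' hU' hle (θAt θ hθ U hU x) := by
  obtain ⟨P, rfl⟩ := RelConeProj.surj hz U hU x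
  have key : ((θAt θ' hθ' U' hU').toRingHom.comp (uh.gradedAt U hU U' hU' hle).toRingHom).comp
      (Polynomial.eval₂RingHom (RelConeProj.ιAt hz U hU).toRingHom (RelConeProj.zAt hz U)) =
      ((u.gradedAt U hU U' hU' hle).toRingHom.comp (θAt θ hθ U hU).toRingHom).comp
        (Polynomial.eval₂RingHom (RelConeProj.ιAt hz U hU).toRingHom (RelConeProj.zAt hz U)) := by
    apply Polynomial.ringHom_ext
    · intro a
      simp only [RingHom.comp_apply, Polynomial.coe_eval₂RingHom, Polynomial.eval₂_C]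
      change θAt θ' hθ' U' hU' (uh.gradedAt U hU U' hU' hle (RelConeProj.ιAt hz U hU a)) =
        u.gradedAt U hU U' hU' hle (θAt θ hθ U hU (RelConeProj.ιAt hz U hU a))
      rw [uh_ι u hz hz' uh huh, θAt_ι hz' θ' hθ' hθι', θAt_ι hz θ hθ hθι]
    · simp only [RingHom.comp_apply, Polynomial.coe_eval₂RingHom, Polynomial.eval₂_X]
      change θAt θ' hθ' U' hU' (uh.gradedAt U hU U' hU' hle (RelConeProj.zAt hz U)) =
        u.gradedAt U hU U' hU' hle (θAt θ hθ U hU (RelConeProj.zAt hz U))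
      rw [uh_z hz hz' uh huhz, θAt_z hz' θ' hθ' hθz', θAt_z hz θ hθ hθz, map_zero]
  exact congrArg (fun ψ => ψ P) key

variable {PC PC' P P' : Scheme.{u}} {pC : PC ⟶ Y}
  {chartC : ∀ (U : Y.Opens) (hU : IsAffineOpen U),
    (((pC ⁻¹ᵁ U : PC.Opens) : Scheme.{u}) ≅ Proj (𝒮h.deg U hU))}
  {pC' : PC' ⟶ Y'}
  {chartC' : ∀ (U : Y'.Opens) (hU : IsAffineOpen U),
    (((pC' ⁻¹ᵁ U : PC'.Opens) : Scheme.{u}) ≅ Proj (𝒮h'.deg U hU))}
  {p : P ⟶ Y}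
  {chart : ∀ (U : Y.Opens) (hU : IsAffineOpen U),
    (((p ⁻¹ᵁ U : P.Opens) : Scheme.{u}) ≅ Proj (𝒮.deg U hU))}
  {p' : P' ⟶ Y'}
  {chart' : ∀ (U : Y'.Opens) (hU : IsAffineOpen U),
    (((p' ⁻¹ᵁ U : P'.Opens) : Scheme.{u}) ≅ Proj (𝒮'.deg U hU))}

include hz huh in
theorem range_awayι_ι_subset_domQ (hC' : RelProj.IsRelProj 𝒮h' pC' chartC')
    (i : ChartIdx q 𝒮) :
    Set.range (Proj.awayι (𝒮h'.deg i.U' i.hU') (RelConeProj.ιAt hz' i.U' i.hU' (i.uf u))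
      ((RelConeProj.ιAt hz' i.U' i.hU').map_mem (i.huf u)) i.hd ≫
        RelProj.emb pC' chartC' i.U' i.hU').base ⊆
      Set.range (RelProj.domQ uh pC' chartC').ι.base := by
  rw [Scheme.Opens.range_ι]
  rintro _ ⟨y, rfl⟩
  refine (emb_mem_domQ_iff uh hC' i.U i.hU i.U' i.hU' i.hle _).mpr ?_
  refine (mem_domOpen_iff_homog _ _).mpr ⟨i.d, i.hd, RelConeProj.ιAt hz i.U i.hU i.f,
    (RelConeProj.ιAt hz i.U i.hU).map_mem i.hf, ?_⟩
  rw [uh_ι u hz hz' uh huh]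
  rw [← Proj.opensRange_awayι (𝒮h'.deg i.U' i.hU') (RelConeProj.ιAt hz' i.U' i.hU' (i.uf u))
    ((RelConeProj.ιAt hz' i.U' i.hU').map_mem (i.huf u)) i.hd]
  exact ⟨y, rfl⟩

include hz hz' huh hθι' in
/-- `j'(G(φ)) ⊆ G(φ̂)` -/
theorem infty_image_domQ_subset (hC' : RelProj.IsRelProj 𝒮h' pC' chartC') (jX' : P' ⟶ PC')
    (hjX' : RelProj.IsProjQMap (RelProj.QGrHom.ofHom θ' hθ') pC' chartC' p' chart' jX') :
    jX'.base '' ((RelProj.domQ u p' chart' : P'.Opens) : Set P') ⊆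
      ((RelProj.domQ uh pC' chartC' : PC'.Opens) : Set PC') := by
  rintro _ ⟨x', hx', rfl⟩
  obtain ⟨i, ξ, rfl⟩ := exists_chart_of_mem_domQ u p' chart' hx'
  have h1 := congrArg (fun ψ => ψ.base ξ)
    (infty_chart hz' θ' hθ' hθι' jX' hjX' i.U' i.hU' i.hd (i.uf u) (i.huf u))
  have h2 := range_awayι_ι_subset_domQ u hz hz' uh huh hC' i
  rw [Scheme.Opens.range_ι] at h2
  change jX' (chartEmb u p' chart' i ξ) ∈ RelProj.domQ uh pC' chartC'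
  change jX' (chartEmb u p' chart' i ξ) = _ at h1
  rw [h1]
  exact h2 ⟨_, rfl⟩

include hz hz' huh huhz hθι hθz hθι' hθz' in
/-- the square `Proj(φ), j', j, Φ̂` commutes -/
theorem infty_comm (hC' : RelProj.IsRelProj 𝒮h' pC' chartC')
    (Φh : ((RelProj.domQ uh pC' chartC' : PC'.Opens) : Scheme.{u}) ⟶ PC)
    (hΦh : RelProj.IsProjQMapOn uh pC chartC pC' chartC' (RelProj.domQ uh pC' chartC') Φh)
    (Φ : ((RelProj.domQ u p' chart' : P'.Opens) : Scheme.{u}) ⟶ P)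
    (hΦ : RelProj.IsProjQMapOn u p chart p' chart' (RelProj.domQ u p' chart') Φ)
    (jX : P ⟶ PC) (hjX : RelProj.IsProjQMap (RelProj.QGrHom.ofHom θ hθ) pC chartC p chart jX)
    (jX' : P' ⟶ PC')
    (hjX' : RelProj.IsProjQMap (RelProj.QGrHom.ofHom θ' hθ') pC' chartC' p' chart' jX')
    (e₀ : ((RelProj.domQ u p' chart' : P'.Opens) : Scheme.{u}) ⟶
      ((RelProj.domQ uh pC' chartC' : PC'.Opens) : Scheme.{u}))
    (he₀ : e₀ ≫ (RelProj.domQ uh pC' chartC').ι = (RelProj.domQ u p' chart').ι ≫ jX') :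
    e₀ ≫ Φh = Φ ≫ jX := by
  refine domQ_hom_ext _ _ fun i => ?_
  have hW := range_awayι_ι_subset_domQ u hz hz' uh huh hC' i
  have h1 : chartLift (u := u) (p' := p') (chart' := chart') i ≫ e₀ =
      Spec.map (CommRingCat.ofHom (awayθ hz' θ' hθ' hθι' i.U' i.hU' (i.uf u))) ≫
        IsOpenImmersion.lift (RelProj.domQ uh pC' chartC').ι
          (Proj.awayι (𝒮h'.deg i.U' i.hU') (RelConeProj.ιAt hz' i.U' i.hU' (i.uf u))
            ((RelConeProj.ιAt hz' i.U' i.hU').map_mem (i.huf u)) i.hd ≫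
              RelProj.emb pC' chartC' i.U' i.hU') hW := by
    rw [← cancel_mono (RelProj.domQ uh pC' chartC').ι, Category.assoc, he₀, ← Category.assoc,
      chartLift_ι, Category.assoc, IsOpenImmersion.lift_fac]
    exact infty_chart hz' θ' hθ' hθι' jX' hjX' i.U' i.hU' i.hd (i.uf u) (i.huf u)
  have h2 := isProjQMapOn_chart_of_eq uh hΦh i.U i.hU i.U' i.hU' i.hle i.hd
    (RelConeProj.ιAt hz i.U i.hU i.f) ((RelConeProj.ιAt hz i.U i.hU).map_mem i.hf)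
    (s' := RelConeProj.ιAt hz' i.U' i.hU' (i.uf u))
    ((RelConeProj.ιAt hz' i.U' i.hU').map_mem (i.huf u))
    (uh_ι u hz hz' uh huh i.U i.hU i.U' i.hU' i.hle i.f) hW
  have h3 : chartLift (u := u) (p' := p') (chart' := chart') i ≫ Φ =
      Spec.map (CommRingCat.ofHom (Away.map (u.gradedAt i.U i.hU i.U' i.hU' i.hle) i.f)) ≫
        Proj.awayι (𝒮.deg i.U i.hU) i.f i.hf i.hd ≫ RelProj.emb p chart i.U i.hU :=
    (isProjQMapOn_iff u p chart p' chart' _ Φ).mp hΦ i _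
  have h4 := infty_chart hz θ hθ hθι jX hjX i.U i.hU i.hd i.f i.hf
  rw [Category.assoc] at h4
  have h5 : (awayθ hz' θ' hθ' hθι' i.U' i.hU' (i.uf u)).comp
      (HomogeneousLocalization.map (uh.gradedAt i.U i.hU i.U' i.hU' i.hle)
        (RelConeProj.powers_le_comap_of_eq _
          (uh_ι u hz hz' uh huh i.U i.hU i.U' i.hU' i.hle i.f))) =
      (Away.map (u.gradedAt i.U i.hU i.U' i.hU' i.hle) i.f).comp
        (awayθ hz θ hθ hθι i.U i.hU i.f) :=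
    map_comp_eq_map_comp _ _ _ _ _ _ _ _
      (θ_comm u hz hz' uh huh huhz θ hθ hθι hθz θ' hθ' hθι' hθz' i.U i.hU i.U' i.hU' i.hle)
  rw [reassoc_of% h1, h2, reassoc_of% h3]
  rw [h4, ← Spec.map_comp_assoc, ← Spec.map_comp_assoc, ← CommRingCat.ofHom_comp,
    ← CommRingCat.ofHom_comp, h5]

end functor

end Groth.Agent.Lib.Helper74.QMap
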