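import Groth.Agent.Lib.Helper74.QMapBC

set_option autoImplicit false
universe u
open CategoryTheory CategoryTheory.Limits AlgebraicGeometry TopologicalSpace Opposite
open scoped HomogeneousIdeal
open HomogeneousLocalization

namespace Groth.Agent.Lib.Helper74.QMap

variable {Y Y' : Scheme.{u}} {g : Y' ⟶ Y} {𝒮 : RelProj.QCGrAlg Y} {𝒮' : RelProj.QCGrAlg Y'}
  (u : RelProj.QGrHom g 𝒮 𝒮')
  {P P' : Scheme.{u}} {p : P ⟶ Y}
  {chart : ∀ (U : Y.Opens) (hU : IsAffineOpen U),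
    (((p ⁻¹ᵁ U : P.Opens) : Scheme.{u}) ≅ Proj (𝒮.deg U hU))}
  {p' : P' ⟶ Y'}
  {chart' : ∀ (U' : Y'.Opens) (hU' : IsAffineOpen U'),
    (((p' ⁻¹ᵁ U' : P'.Opens) : Scheme.{u}) ≅ Proj (𝒮'.deg U' hU'))}

/-- a morphism which is chartwise `Proj.map` of the maps of `u` is `Proj(u)` -/
theorem isProjQMap_of_forall
    (hirr : ∀ (U : Y.Opens) (hU : IsAffineOpen U) (U' : Y'.Opens) (hU' : IsAffineOpen U')
      (hle : U' ≤ g ⁻¹ᵁ U), (𝒮'.deg U' hU')₊ ≤ ((𝒮.deg U hU)₊).map (u.gradedAt U hU U' hU' hle))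
    (h : P' ⟶ P)
    (hg : ∀ (U : Y.Opens) (hU : IsAffineOpen U) (U' : Y'.Opens) (hU' : IsAffineOpen U')
      (hle : U' ≤ g ⁻¹ᵁ U),
      (p' ⁻¹ᵁ U').ι ≫ h = (chart' U' hU').hom ≫
        Proj.map (u.gradedAt U hU U' hU' hle) (hirr U hU U' hU' hle) ≫ RelProj.emb p chart U hU) :
    RelProj.IsProjQMap u p chart p' chart' h := by
  refine ⟨domQ_eq_top_of_forall u hirr, fun U hU U' hU' hle d hd f hf => ?_⟩
  have h1 : RelProj.emb p' chart' U' hU' ≫ h =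
      Proj.map (u.gradedAt U hU U' hU' hle) (hirr U hU U' hU' hle) ≫ RelProj.emb p chart U hU := by
    rw [RelProj.emb, Category.assoc, hg U hU U' hU' hle, Iso.inv_hom_id_assoc]
  have h2 := Proj.awayι_comp_map (u.gradedAt U hU U' hU' hle) (hirr U hU U' hU' hle) hd f hf
  rw [RelProj.awayEmb, Category.assoc, h1, ← Category.assoc, h2, Category.assoc]

end Groth.Agent.Lib.Helper74.QMap
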