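import Groth.Agent.Lib.Helper74.QMapCone

set_option autoImplicit false
universe u
open CategoryTheory CategoryTheory.Limits AlgebraicGeometry TopologicalSpace Opposite
open scoped HomogeneousIdeal
open HomogeneousLocalization

namespace Groth.Agent.Lib.Helper74.QMap

open Groth.Agent.Lib.Helper74.RelProjLib

section ring

variable {A σ : Type u} [CommRing A] [SetLike σ A] [AddSubgroupClass σ A]
  {𝒜 : ℕ → σ} [GradedRing 𝒜]

/-- a point of `Proj` is determined by the homogeneous elements of positive degree it contains -/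
theorem proj_ext_of_pos_homog (w w' : Proj 𝒜)
    (h : ∀ d, 0 < d → ∀ f ∈ 𝒜 d, w ∈ Proj.basicOpen 𝒜 f ↔ w' ∈ Proj.basicOpen 𝒜 f) : w = w' := by
  have key : ∀ (n : ℕ) (a : A), a ∈ 𝒜 n →
      (a ∈ w.asHomogeneousIdeal.toIdeal ↔ a ∈ w'.asHomogeneousIdeal.toIdeal) := by
    intro n a ha
    by_cases hn : 0 < n
    · have := h n hn a ha
      rw [Proj.mem_basicOpen, Proj.mem_basicOpen] at this
      exact not_iff_not.mp this
    · have hn0 : n = 0 := Nat.eq_zero_of_not_pos hn
      subst hn0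
      obtain ⟨d, hd, f, hf, hfw⟩ := exists_pos_homog_mem_basicOpen w
      have hfw' := (h d hd f hf).mp hfw
      rw [Proj.mem_basicOpen] at hfw hfw'
      have haf : a * f ∈ 𝒜 d := by
        have := SetLike.mul_mem_graded ha hf
        rwa [zero_add] at this
      have h2 := h d hd (a * f) haf
      rw [Proj.mem_basicOpen, Proj.mem_basicOpen] at h2
      have h3 := not_iff_not.mp h2
      constructor
      · intro haw
        have := h3.mp (Ideal.mul_mem_right f _ haw)
        exact (w'.isPrime.mem_or_mem this).resolve_right hfw'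
      · intro haw'
        have := h3.mpr (Ideal.mul_mem_right f _ haw')
        exact (w.isPrime.mem_or_mem this).resolve_right hfw
  apply ProjectiveSpectrum.ext
  apply HomogeneousIdeal.toIdeal_injective
  ext a
  rw [w.asHomogeneousIdeal.isHomogeneous.mem_iff, w'.asHomogeneousIdeal.isHomogeneous.mem_iff]
  exact forall_congr' fun i => key i _ (SetLike.coe_mem _)

end ring

section pts

variable {Y Y' : Scheme.{u}} {g : Y' ⟶ Y} {𝒮 : RelProj.QCGrAlg Y} {𝒮' : RelProj.QCGrAlg Y'}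
  (u : RelProj.QGrHom g 𝒮 𝒮')
  {P P' : Scheme.{u}} {p : P ⟶ Y}
  {chart : ∀ (U : Y.Opens) (hU : IsAffineOpen U),
    (((p ⁻¹ᵁ U : P.Opens) : Scheme.{u}) ≅ Proj (𝒮.deg U hU))}
  {p' : P' ⟶ Y'}
  {chart' : ∀ (U : Y'.Opens) (hU : IsAffineOpen U),
    (((p' ⁻¹ᵁ U : P'.Opens) : Scheme.{u}) ≅ Proj (𝒮'.deg U hU))}

/-- the value of `Proj(u)` on points: contraction of homogeneous primes -/
theorem qmap_apply_emb (hP : RelProj.IsRelProj 𝒮 p chart) (hP' : RelProj.IsRelProj 𝒮' p' chart')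
    (Φ : ((RelProj.domQ u p' chart' : P'.Opens) : Scheme.{u}) ⟶ P)
    (hΦ : RelProj.IsProjQMapOn u p chart p' chart' (RelProj.domQ u p' chart') Φ)
    (U : Y.Opens) (hU : IsAffineOpen U) (U' : Y'.Opens) (hU' : IsAffineOpen U')
    (hle : U' ≤ g ⁻¹ᵁ U) (y : Proj (𝒮'.deg U' hU'))
    (hy : RelProj.emb p' chart' U' hU' y ∈ RelProj.domQ u p' chart')
    (hy' : y ∈ RelCone.domOpen (u.gradedAt U hU U' hU' hle)) :
    Φ ⟨RelProj.emb p' chart' U' hU' y, hy⟩ =
      RelProj.emb p chart U hU (comapPt (u.gradedAt U hU U' hU' hle) y hy') := by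
  have hΦU : Φ ⟨RelProj.emb p' chart' U' hU' y, hy⟩ ∈ p ⁻¹ᵁ U := by
    have h2 := congrArg (fun ψ => ψ.base ⟨RelProj.emb p' chart' U' hU' y, hy⟩)
      (isProjQMapOn_comp hP hP' Φ hΦ)
    change p (Φ ⟨RelProj.emb p' chart' U' hU' y, hy⟩) =
      g (p' (RelProj.emb p' chart' U' hU' y)) at h2
    change p (Φ ⟨RelProj.emb p' chart' U' hU' y, hy⟩) ∈ U
    rw [h2]
    exact hle (RelConeProj.emb_mem_preimage U' hU' y)
  obtain ⟨w, hw⟩ := RelConeProj.exists_emb_eq (pC := p) (chartC := chart) U hU _ hΦU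
  rw [← hw]
  congr 1
  refine proj_ext_of_pos_homog _ _ fun d hd f hf => ?_
  rw [comapPt_mem_basicOpen_iff, ← qmap_mem_range_stdChart_iff u hP' Φ hΦ U hU U' hU' hle hd f hf y hy,
    ← hw, emb_mem_range_stdChart_self_iff]

end pts

end Groth.Agent.Lib.Helper74.QMap
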