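import Groth.Agent.Lib.Helper74.RelProjExists
import Groth.Agent.Lib.Helper74.QMapGlue
import Groth.Prelude.Def_RelProj4

set_option autoImplicit false
universe u
open CategoryTheory CategoryTheory.Limits AlgebraicGeometry TopologicalSpace Opposite
open scoped HomogeneousIdeal

namespace Groth.Agent.Lib.Helper74.QMap

open Groth.Agent.Lib.Helper74.RelProjLib

section res

variable {Y : Scheme.{u}} (𝒮 : RelProj.QCGrAlg Y)

/-- For affine opens `V ≤ U` (not necessarily basic), the irrelevant ideal of `𝒮(V)` is generated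
by the image of that of `𝒮(U)`. -/
theorem irrelevant_le_map_res {U V : Y.Opens} (hU : IsAffineOpen U) (hV : IsAffineOpen V)
    (i : V ≤ U) : (𝒮.deg V hV)₊ ≤ ((𝒮.deg U hU)₊).map (𝒮.res hU hV i) := by
  classical
  rw [HomogeneousIdeal.irrelevant_le]
  intro d hd x hx
  set J : Ideal (𝒮.presheaf.obj (op V)) :=
    ((𝒮.deg U hU)₊).toIdeal.map (𝒮.res hU hV i) with hJ
  change x ∈ J
  let T : Set Γ(Y, V) := {s | ∃ r : Γ(Y, U), Y.basicOpen r = Y.basicOpen s}
  have hT : Ideal.span T = ⊤ := by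
    rw [← hV.self_le_iSup_basicOpen_iff]
    intro v hv
    obtain ⟨r, s, e, hvr⟩ := exists_basicOpen_le_affine_inter hU hV v ⟨i hv, hv⟩
    exact Opens.mem_iSup.mpr ⟨⟨s, r, e⟩, e ▸ hvr⟩
  have hT' : Ideal.span ((𝒮.str.app (op V)).hom '' T) = ⊤ := by
    rw [← Ideal.map_span, hT, Ideal.map_top]
  refine Submodule.mem_of_span_eq_top_of_smul_pow_mem J _ hT' x ?_
  rintro ⟨_, s, ⟨r, e⟩, rfl⟩
  let ρ := 𝒮.res hV (hV.basicOpen s) (Y.basicOpen_le s)
  have hle : Y.basicOpen s ≤ U := (Y.basicOpen_le s).trans i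
  have hx' : ρ x ∈ ((𝒮.deg (Y.basicOpen s) (hV.basicOpen s))₊).toIdeal :=
    HomogeneousIdeal.mem_irrelevant_of_mem _ hd (ρ.map_mem hx)
  have h1 := irrelevant_le_map_of_eq 𝒮 (hV.basicOpen s) hU r e hle hx'
  have h2 : ((𝒮.deg U hU)₊).toIdeal.map (𝒮.res hU (hV.basicOpen s) hle) = J.map ρ := by
    rw [hJ]
    change Ideal.map (𝒮.res hU (hV.basicOpen s) hle).toRingHom _ =
      Ideal.map ρ.toRingHom (Ideal.map (𝒮.res hU hV i).toRingHom _)
    rw [Ideal.map_map]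
    congr 1
    have := res_comp 𝒮 hU hV (hV.basicOpen s) i (Y.basicOpen_le s)
    exact congrArg (fun ψ : 𝒮.deg U hU →+*ᵍ 𝒮.deg _ (hV.basicOpen s) => ψ.toRingHom) this
  change ρ x ∈ Ideal.map _ _ at h1
  rw [h2] at h1
  let _inst := (𝒮.presheaf.map (homOfLE (Y.basicOpen_le s)).op).hom.toAlgebra
  let c := (𝒮.str.app (op V)).hom s
  have hloc : IsLocalization.Away c (𝒮.presheaf.obj (op (Y.basicOpen s))) := 𝒮.isQC V hV s
  obtain ⟨⟨⟨y, hy⟩, ⟨_, k, rfl⟩⟩, hyk⟩ :=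
    (IsLocalization.mem_map_algebraMap_iff (Submonoid.powers c) _).mp h1
  change ρ x * ρ (c ^ k) = ρ y at hyk
  rw [← map_mul] at hyk
  obtain ⟨⟨_, m, rfl⟩, hm⟩ := (IsLocalization.eq_iff_exists (Submonoid.powers c) _).mp hyk
  refine ⟨m + k, ?_⟩
  change c ^ (m + k) * x ∈ J
  have : c ^ (m + k) * x = c ^ m * y := by
    rw [← hm]; ring
  rw [this]
  exact J.mul_mem_left _ hy

end res


section emb

theorem range_fst_of_isPullback {P X Y Z : Scheme.{u}} {fst : P ⟶ X} {snd : P ⟶ Y} {f : X ⟶ Z}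
    {g : Y ⟶ Z} (h : IsPullback fst snd f g) : Set.range fst = f ⁻¹' Set.range g := by
  rw [← Scheme.Pullback.range_fst, ← h.isoPullback_hom_fst]
  ext x
  constructor
  · rintro ⟨y, rfl⟩
    exact ⟨h.isoPullback.hom y, rfl⟩
  · rintro ⟨y, rfl⟩
    refine ⟨h.isoPullback.inv y, ?_⟩
    rw [← Scheme.Hom.comp_apply, Iso.inv_hom_id_assoc]

theorem mem_range_homOfLE {Y : Scheme.{u}} {U V : Y.Opens} (i : V ≤ U) (w : U) (hw : w.1 ∈ V) :
    w ∈ Set.range (Y.homOfLE i) := by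
  refine ⟨⟨w.1, hw⟩, ?_⟩
  apply U.ι.isOpenEmbedding.injective
  rw [← Scheme.Hom.comp_apply, Scheme.homOfLE_ι]
  rfl

variable {Y P : Scheme.{u}} {𝒮 : RelProj.QCGrAlg Y} {p : P ⟶ Y}
  {chart : ∀ (U : Y.Opens) (hU : IsAffineOpen U),
    (((p ⁻¹ᵁ U : P.Opens) : Scheme.{u}) ≅ Proj (𝒮.deg U hU))}

theorem emb_of_eq (hP : RelProj.IsRelProj 𝒮 p chart) {U W : Y.Opens} (hU : IsAffineOpen U)
    (hW : IsAffineOpen W) (r : Γ(Y, U)) (e : Y.basicOpen r = W) (i : W ≤ U)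
    (h : (𝒮.deg W hW)₊ ≤ ((𝒮.deg U hU)₊).map (𝒮.res hU hW i)) :
    Proj.map (𝒮.res hU hW i) h ≫ RelProj.emb p chart U hU = RelProj.emb p chart W hW := by
  subst e
  exact RelProj.map_res_emb hP U hU r

/-- Compatibility of the chart immersions of a relative Proj for arbitrary affine opens `V ≤ U`. -/
theorem emb_res (hP : RelProj.IsRelProj 𝒮 p chart) {U V : Y.Opens} (hU : IsAffineOpen U)
    (hV : IsAffineOpen V) (i : V ≤ U) :
    Proj.map (𝒮.res hU hV i) (irrelevant_le_map_res 𝒮 hU hV i) ≫ RelProj.emb p chart U hU =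
      RelProj.emb p chart V hV := by
  refine hom_ext_of_forall_exists _ _ fun y => ?_
  have hvV : (projToOpen 𝒮 V hV y).1 ∈ V := (projToOpen 𝒮 V hV y).2
  obtain ⟨r, s, e, hvr⟩ := exists_basicOpen_le_affine_inter hU hV _ ⟨i hvV, hvV⟩
  have hpb := isPullback_projToOpen_basicOpen 𝒮 V hV s
  have hoi : IsOpenImmersion (Proj.map (𝒮.res hV (hV.basicOpen s) (Y.basicOpen_le s))
      (𝒮.irrelevant_le_map V hV s)) :=
    MorphismProperty.of_isPullback (P := @IsOpenImmersion) hpb.flip inferInstance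
  refine ⟨_, Proj.map (𝒮.res hV (hV.basicOpen s) (Y.basicOpen_le s))
      (𝒮.irrelevant_le_map V hV s), hoi, ?_, ?_⟩
  · rw [range_fst_of_isPullback hpb]
    exact mem_range_homOfLE _ _ (e ▸ hvr)
  · rw [RelProj.map_res_emb hP V hV s, ← Category.assoc, ← Proj.map_comp]
    have hle : Y.basicOpen s ≤ U := (Y.basicOpen_le s).trans i
    rw [← emb_of_eq hP hU (hV.basicOpen s) r e hle (irrelevant_le_map_res 𝒮 hU _ hle)]
    congr 1
    exact projMap_congr (res_comp 𝒮 hU hV (hV.basicOpen s) i (Y.basicOpen_le s)).symm _ _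

end emb

end Groth.Agent.Lib.Helper74.QMap
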