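import Groth.Agent.Lib.Helper74.QMapInfty

set_option autoImplicit false
universe u
open CategoryTheory CategoryTheory.Limits AlgebraicGeometry TopologicalSpace Opposite
open scoped HomogeneousIdeal
open HomogeneousLocalization

namespace Groth.Agent.Lib.Helper74.QMap

open Groth.Agent.Lib.Helper74.RelProjLib

section general

variable {Y Y' : Scheme.{u}} {g : Y' ⟶ Y} {𝒮 : RelProj.QCGrAlg Y} {𝒮' : RelProj.QCGrAlg Y'}
  (u : RelProj.QGrHom g 𝒮 𝒮')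
  {P P' : Scheme.{u}} {p : P ⟶ Y}
  {chart : ∀ (U : Y.Opens) (hU : IsAffineOpen U),
    (((p ⁻¹ᵁ U : P.Opens) : Scheme.{u}) ≅ Proj (𝒮.deg U hU))}
  {p' : P' ⟶ Y'}
  {chart' : ∀ (U : Y'.Opens) (hU : IsAffineOpen U),
    (((p' ⁻¹ᵁ U : P'.Opens) : Scheme.{u}) ≅ Proj (𝒮'.deg U hU))}

/-- the chart equation of `IsProjQMapOn` with `u_{U,U'}` replaced by an equal graded hom -/
theorem isProjQMapOn_chart_of_hom_eq {W : P'.Opens} {r : (W : Scheme.{u}) ⟶ P}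
    (hr : RelProj.IsProjQMapOn u p chart p' chart' W r)
    (U : Y.Opens) (hU : IsAffineOpen U) (U' : Y'.Opens) (hU' : IsAffineOpen U')
    (hle : U' ≤ g ⁻¹ᵁ U) {d : ℕ} (hd : 0 < d) (f : 𝒮.presheaf.obj (op U))
    (hf : f ∈ 𝒮.deg U hU d) (ψ : 𝒮.deg U hU →+*ᵍ 𝒮'.deg U' hU')
    (hψ : u.gradedAt U hU U' hU' hle = ψ)
    (hW : Set.range (Proj.awayι (𝒮'.deg U' hU') (ψ f) (ψ.map_mem hf) hd ≫
      RelProj.emb p' chart' U' hU').base ⊆ Set.range W.ι.base) :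
    IsOpenImmersion.lift W.ι (Proj.awayι (𝒮'.deg U' hU') (ψ f) (ψ.map_mem hf) hd ≫
      RelProj.emb p' chart' U' hU') hW ≫ r =
      Spec.map (CommRingCat.ofHom (Away.map ψ f)) ≫
        Proj.awayι (𝒮.deg U hU) f hf hd ≫ RelProj.emb p chart U hU := by
  subst hψ
  exact hr U hU U' hU' hle d hd f hf hW

end general

section samebase

variable {Y : Scheme.{u}} {𝒜 ℬ : RelProj.QCGrAlg Y} (φ : 𝒜.toQCAlg ⟶ ℬ.toQCAlg)
  (hφ : RelProj.IsGradedHom φ)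
  {PA PB : Scheme.{u}} {pA : PA ⟶ Y}
  {chartA : ∀ (U : Y.Opens) (hU : IsAffineOpen U),
    (((pA ⁻¹ᵁ U : PA.Opens) : Scheme.{u}) ≅ Proj (𝒜.deg U hU))}
  {pB : PB ⟶ Y}
  {chartB : ∀ (U : Y.Opens) (hU : IsAffineOpen U),
    (((pB ⁻¹ᵁ U : PB.Opens) : Scheme.{u}) ≅ Proj (ℬ.deg U hU))}

/-- the chart equation of `IsProjQMapOn (ofHom φ)` in terms of `gradedHomAt φ` -/
theorem isProjQMapOn_ofHom_chart {W : PB.Opens} {r : (W : Scheme.{u}) ⟶ PA}
    (hr : RelProj.IsProjQMapOn (RelProj.QGrHom.ofHom φ hφ) pA chartA pB chartB W r)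
    (U : Y.Opens) (hU : IsAffineOpen U) {d : ℕ} (hd : 0 < d) (f : 𝒜.presheaf.obj (op U))
    (hf : f ∈ 𝒜.deg U hU d)
    (hW : Set.range (Proj.awayι (ℬ.deg U hU) (RelProj.gradedHomAt φ hφ U hU f)
      ((RelProj.gradedHomAt φ hφ U hU).map_mem hf) hd ≫
      RelProj.emb pB chartB U hU).base ⊆ Set.range W.ι.base) :
    IsOpenImmersion.lift W.ι (Proj.awayι (ℬ.deg U hU) (RelProj.gradedHomAt φ hφ U hU f)
      ((RelProj.gradedHomAt φ hφ U hU).map_mem hf) hd ≫ RelProj.emb pB chartB U hU) hW ≫ r =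
      Spec.map (CommRingCat.ofHom (Away.map (RelProj.gradedHomAt φ hφ U hU) f)) ≫
        Proj.awayι (𝒜.deg U hU) f hf hd ≫ RelProj.emb pA chartA U hU :=
  isProjQMapOn_chart_of_hom_eq (RelProj.QGrHom.ofHom φ hφ) hr U hU U hU (le_refl U) hd f hf
    (RelProj.gradedHomAt φ hφ U hU) (gradedAt_ofHom (φ := φ) (hφ := hφ) U hU (le_refl U)) hW

end samebase

section cone

variable {Y : Scheme.{u}} {𝒮 𝒮h : RelProj.QCGrAlg Y} {ι : 𝒮.toQCAlg ⟶ 𝒮h.toQCAlg}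
  {z : 𝒮h.presheaf.obj (op ⊤)} (hz : RelCone.IsPolyOver 𝒮 𝒮h ι z)
  {PC P : Scheme.{u}} {pC : PC ⟶ Y}
  {chartC : ∀ (U : Y.Opens) (hU : IsAffineOpen U),
    (((pC ⁻¹ᵁ U : PC.Opens) : Scheme.{u}) ≅ Proj (𝒮h.deg U hU))}
  {p : P ⟶ Y}
  {chart : ∀ (U : Y.Opens) (hU : IsAffineOpen U),
    (((p ⁻¹ᵁ U : P.Opens) : Scheme.{u}) ≅ Proj (𝒮.deg U hU))}

/-- the standard charts `D₊(ι f)` lie in the pointed projective cone -/
theorem range_awayι_ι_subset_pointed (hC : RelProj.IsRelProj 𝒮h pC chartC)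
    (U : Y.Opens) (hU : IsAffineOpen U) {d : ℕ} (hd : 0 < d) (f : 𝒮.presheaf.obj (op U))
    (hf : f ∈ 𝒮.deg U hU d) :
    Set.range (Proj.awayι (𝒮h.deg U hU) (RelConeProj.ιAt hz U hU f)
      ((RelConeProj.ιAt hz U hU).map_mem hf) hd ≫ RelProj.emb pC chartC U hU).base ⊆
      Set.range (RelCone.pointedProjCone 𝒮 hz pC chartC).ι.base := by
  rw [Scheme.Opens.range_ι]
  rintro _ ⟨y, rfl⟩
  refine (emb_mem_pointedProjCone_iff hz hC U hU _).mpr ?_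
  refine (mem_domOpen_iff_homog _ _).mpr ⟨d, hd, f, hf, ?_⟩
  rw [← Proj.opensRange_awayι (𝒮h.deg U hU) (RelConeProj.ιAt hz U hU f)
    ((RelConeProj.ιAt hz U hU).map_mem hf) hd]
  exact ⟨y, rfl⟩

/-- the chart equation of the retraction `p̂ : Ê → X` -/
theorem retraction_chart (hC : RelProj.IsRelProj 𝒮h pC chartC)
    (r : ((RelCone.pointedProjCone 𝒮 hz pC chartC : PC.Opens) : Scheme.{u}) ⟶ P)
    (hr : RelProj.IsProjQMapOn (RelProj.QGrHom.ofHom ι hz.graded) p chart pC chartC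
      (RelCone.pointedProjCone 𝒮 hz pC chartC) r)
    (U : Y.Opens) (hU : IsAffineOpen U) {d : ℕ} (hd : 0 < d) (f : 𝒮.presheaf.obj (op U))
    (hf : f ∈ 𝒮.deg U hU d) :
    IsOpenImmersion.lift (RelCone.pointedProjCone 𝒮 hz pC chartC).ι
      (Proj.awayι (𝒮h.deg U hU) (RelConeProj.ιAt hz U hU f)
        ((RelConeProj.ιAt hz U hU).map_mem hf) hd ≫ RelProj.emb pC chartC U hU)
      (range_awayι_ι_subset_pointed hz hC U hU hd f hf) ≫ r =
      Spec.map (CommRingCat.ofHom (Away.map (RelConeProj.ιAt hz U hU) f)) ≫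
        Proj.awayι (𝒮.deg U hU) f hf hd ≫ RelProj.emb p chart U hU :=
  isProjQMapOn_ofHom_chart ι hz.graded hr U hU hd f hf _

end cone

section functor

variable {Y Y' : Scheme.{u}} {q : Y' ⟶ Y} {𝒮 : RelProj.QCGrAlg Y} {𝒮' : RelProj.QCGrAlg Y'}
  (u : RelProj.QGrHom q 𝒮 𝒮')
  {𝒮h : RelProj.QCGrAlg Y} {ι : 𝒮.toQCAlg ⟶ 𝒮h.toQCAlg} {z : 𝒮h.presheaf.obj (op ⊤)}
  (hz : RelCone.IsPolyOver 𝒮 𝒮h ι z)
  {𝒮h' : RelProj.QCGrAlg Y'} {ι' : 𝒮'.toQCAlg ⟶ 𝒮h'.toQCAlg} {z' : 𝒮h'.presheaf.obj (op ⊤)}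
  (hz' : RelCone.IsPolyOver 𝒮' 𝒮h' ι' z')
  (uh : RelProj.QGrHom q 𝒮h 𝒮h')
  (huh : ∀ U : Y.Opens, ι.hom.app (op U) ≫ uh.app U = u.app U ≫ ι'.hom.app (op (q ⁻¹ᵁ U)))
  {PC PC' P P' : Scheme.{u}} {pC : PC ⟶ Y}
  {chartC : ∀ (U : Y.Opens) (hU : IsAffineOpen U),
    (((pC ⁻¹ᵁ U : PC.Opens) : Scheme.{u}) ≅ Proj (𝒮h.deg U hU))}
  {pC' : PC' ⟶ Y'}
  {chartC' : ∀ (U : Y'.Opens) (hU : IsAffineOpen U),
    (((pC' ⁻¹ᵁ U : PC'.Opens) : Scheme.{u}) ≅ Proj (𝒮h'.deg U hU))}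
  {p : P ⟶ Y}
  {chart : ∀ (U : Y.Opens) (hU : IsAffineOpen U),
    (((p ⁻¹ᵁ U : P.Opens) : Scheme.{u}) ≅ Proj (𝒮.deg U hU))}
  {p' : P' ⟶ Y'}
  {chart' : ∀ (U : Y'.Opens) (hU : IsAffineOpen U),
    (((p' ⁻¹ᵁ U : P'.Opens) : Scheme.{u}) ≅ Proj (𝒮'.deg U hU))}

include huh in
/-- points of `Φ̂⁻¹(Ê)` lie in a standard chart `D₊(ι'(φ f))` -/
theorem exists_chart_of_preimage_pointed (hC : RelProj.IsRelProj 𝒮h pC chartC)
    (hC' : RelProj.IsRelProj 𝒮h' pC' chartC')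
    (Φh : ((RelProj.domQ uh pC' chartC' : PC'.Opens) : Scheme.{u}) ⟶ PC)
    (hΦh : RelProj.IsProjQMapOn uh pC chartC pC' chartC' (RelProj.domQ uh pC' chartC') Φh)
    (x : ((RelProj.domQ uh pC' chartC' : PC'.Opens) : Scheme.{u}))
    (hx : Φh x ∈ RelCone.pointedProjCone 𝒮 hz pC chartC) :
    ∃ i : ChartIdx q 𝒮, x.1 ∈ Set.range
      (Proj.awayι (𝒮h'.deg i.U' i.hU') (RelConeProj.ιAt hz' i.U' i.hU' (i.uf u))
        ((RelConeProj.ιAt hz' i.U' i.hU').map_mem (i.huf u)) i.hd ≫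
          RelProj.emb pC' chartC' i.U' i.hU').base := by
  obtain ⟨U, hU, U', hU', hle, hxU'⟩ := exists_affine_pair q (pC' x.1)
  obtain ⟨y, hy⟩ := RelConeProj.exists_emb_eq (pC := pC') (chartC := chartC') U' hU' x.1 hxU'
  have hΦU : Φh x ∈ pC ⁻¹ᵁ U := by
    have h2 := congrArg (fun ψ => ψ.base x) (isProjQMapOn_comp hC hC' Φh hΦh)
    change pC (Φh x) = q (pC' x.1) at h2
    change pC (Φh x) ∈ U
    rw [h2]
    exact hle hxU'
  obtain ⟨w, hw⟩ := RelConeProj.exists_emb_eq (pC := pC) (chartC := chartC) U hU (Φh x) hΦU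
  have hx2 : Φh x ∈ RelCone.pointedProjCone 𝒮 hz pC chartC := hx
  rw [← hw, emb_mem_pointedProjCone_iff hz hC U hU w, mem_domOpen_iff_homog] at hx2
  obtain ⟨d, hd, f, hf, hwf⟩ := hx2
  have h1 : Φh x ∈ Set.range (stdChart pC chartC U hU hd (RelConeProj.ιAt hz U hU f)
      ((RelConeProj.ιAt hz U hU).map_mem hf)) := by
    rw [← hw]
    exact (emb_mem_range_stdChart_self_iff U hU hd _ _ w).mpr hwf
  have hx' : x = ⟨RelProj.emb pC' chartC' U' hU' y, hy ▸ x.2⟩ := Subtype.ext hy.symm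
  rw [hx', qmap_mem_range_stdChart_iff uh hC' Φh hΦh U hU U' hU' hle hd _ _ y,
    uh_ι u hz hz' uh huh] at h1
  refine ⟨⟨U, hU, U', hU', hle, d, hd, f, hf⟩, ?_⟩
  rw [← hy]
  have h3 := range_stdChart (p := pC') (chart := chartC') U' hU' hd
    (RelConeProj.ιAt hz' U' hU' (u.gradedAt U hU U' hU' hle f))
    ((RelConeProj.ιAt hz' U' hU').map_mem ((u.gradedAt U hU U' hU' hle).map_mem hf))
  change Set.range (Proj.awayι _ _ _ _ ≫ RelProj.emb pC' chartC' U' hU').base = _ at h3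
  rw [h3]
  exact ⟨y, h1, rfl⟩

include huh in
/-- local structure of a `T`-point of `Φ̂⁻¹(Ê)`, and the chartwise values of `p̂'` and of
`p̂ ∘ Φ̂` on it -/
theorem retraction_local (hC : RelProj.IsRelProj 𝒮h pC chartC)
    (hC' : RelProj.IsRelProj 𝒮h' pC' chartC')
    (Φh : ((RelProj.domQ uh pC' chartC' : PC'.Opens) : Scheme.{u}) ⟶ PC)
    (hΦh : RelProj.IsProjQMapOn uh pC chartC pC' chartC' (RelProj.domQ uh pC' chartC') Φh)
    (r : ((RelCone.pointedProjCone 𝒮 hz pC chartC : PC.Opens) : Scheme.{u}) ⟶ P)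
    (hr : RelProj.IsProjQMapOn (RelProj.QGrHom.ofHom ι hz.graded) p chart pC chartC
      (RelCone.pointedProjCone 𝒮 hz pC chartC) r)
    (r' : ((RelCone.pointedProjCone 𝒮' hz' pC' chartC' : PC'.Opens) : Scheme.{u}) ⟶ P')
    (hr' : RelProj.IsProjQMapOn (RelProj.QGrHom.ofHom ι' hz'.graded) p' chart' pC' chartC'
      (RelCone.pointedProjCone 𝒮' hz' pC' chartC') r')
    {T : Scheme.{u}}
    (a : T ⟶ ((RelCone.pointedProjCone 𝒮' hz' pC' chartC' : PC'.Opens) : Scheme.{u}))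
    (b : T ⟶ ((RelProj.domQ uh pC' chartC' : PC'.Opens) : Scheme.{u}))
    (c : T ⟶ ((RelCone.pointedProjCone 𝒮 hz pC chartC : PC.Opens) : Scheme.{u}))
    (hab : a ≫ (RelCone.pointedProjCone 𝒮' hz' pC' chartC').ι =
      b ≫ (RelProj.domQ uh pC' chartC').ι)
    (hbc : b ≫ Φh = c ≫ (RelCone.pointedProjCone 𝒮 hz pC chartC).ι) (t : T) :
    ∃ (i : ChartIdx q 𝒮) (N : Scheme.{u}) (j : N ⟶ T)
      (ℓ : N ⟶ Spec (CommRingCat.of (Away (𝒮h'.deg i.U' i.hU')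
        (RelConeProj.ιAt hz' i.U' i.hU' (i.uf u))))),
      IsOpenImmersion j ∧ t ∈ Set.range j ∧
      j ≫ a ≫ r' = ℓ ≫ Spec.map (CommRingCat.ofHom
        (Away.map (RelConeProj.ιAt hz' i.U' i.hU') (i.uf u))) ≫ chartEmb u p' chart' i ∧
      j ≫ c ≫ r = ℓ ≫ Spec.map (CommRingCat.ofHom
        (Away.map (RelConeProj.ιAt hz' i.U' i.hU') (i.uf u))) ≫ chartMap u p chart i := by
  have hx : Φh (b t) ∈ RelCone.pointedProjCone 𝒮 hz pC chartC := by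
    have h1 := congrArg (fun ψ => ψ.base t) hbc
    change Φh (b t) = (c t).1 at h1
    rw [h1]
    exact (c t).2
  obtain ⟨i, hi⟩ := exists_chart_of_preimage_pointed u hz hz' uh huh hC hC' Φh hΦh (b t) hx
  have hWE' := range_awayι_ι_subset_pointed hz' hC' i.U' i.hU' i.hd (i.uf u) (i.huf u)
  have hWG := range_awayι_ι_subset_domQ u hz hz' uh huh hC' i
  have hWE := range_awayι_ι_subset_pointed hz hC i.U i.hU i.hd i.f i.hf
  refine ⟨i, pullback (a ≫ (RelCone.pointedProjCone 𝒮' hz' pC' chartC').ι)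
    (Proj.awayι (𝒮h'.deg i.U' i.hU') (RelConeProj.ιAt hz' i.U' i.hU' (i.uf u))
        ((RelConeProj.ιAt hz' i.U' i.hU').map_mem (i.huf u)) i.hd ≫
          RelProj.emb pC' chartC' i.U' i.hU'), pullback.fst _ _, pullback.snd _ _,
    inferInstance, ?_, ?_, ?_⟩
  · rw [Scheme.Pullback.range_fst]
    change (a ≫ (RelCone.pointedProjCone 𝒮' hz' pC' chartC').ι) t ∈ Set.range _
    rw [hab]
    exact hi
  · have ha : pullback.fst (a ≫ (RelCone.pointedProjCone 𝒮' hz' pC' chartC').ι)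
        (Proj.awayι (𝒮h'.deg i.U' i.hU') (RelConeProj.ιAt hz' i.U' i.hU' (i.uf u))
          ((RelConeProj.ιAt hz' i.U' i.hU').map_mem (i.huf u)) i.hd ≫
            RelProj.emb pC' chartC' i.U' i.hU') ≫ a =
        pullback.snd _ _ ≫ IsOpenImmersion.lift
          (RelCone.pointedProjCone 𝒮' hz' pC' chartC').ι _ hWE' := by
      rw [← cancel_mono (RelCone.pointedProjCone 𝒮' hz' pC' chartC').ι, Category.assoc,
        Category.assoc, IsOpenImmersion.lift_fac]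
      exact pullback.condition
    rw [reassoc_of% ha, retraction_chart hz' hC' r' hr' i.U' i.hU' i.hd (i.uf u) (i.huf u)]
    rfl
  · have hb : pullback.fst (a ≫ (RelCone.pointedProjCone 𝒮' hz' pC' chartC').ι)
        (Proj.awayι (𝒮h'.deg i.U' i.hU') (RelConeProj.ιAt hz' i.U' i.hU' (i.uf u))
          ((RelConeProj.ιAt hz' i.U' i.hU').map_mem (i.huf u)) i.hd ≫
            RelProj.emb pC' chartC' i.U' i.hU') ≫ b =
        pullback.snd _ _ ≫ IsOpenImmersion.lift (RelProj.domQ uh pC' chartC').ι _ hWG := by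
      rw [← cancel_mono (RelProj.domQ uh pC' chartC').ι, Category.assoc,
        Category.assoc, IsOpenImmersion.lift_fac, ← hab]
      exact pullback.condition
    have h2 := isProjQMapOn_chart_of_eq uh hΦh i.U i.hU i.U' i.hU' i.hle i.hd
      (RelConeProj.ιAt hz i.U i.hU i.f) ((RelConeProj.ιAt hz i.U i.hU).map_mem i.hf)
      (s' := RelConeProj.ιAt hz' i.U' i.hU' (i.uf u))
      ((RelConeProj.ιAt hz' i.U' i.hU').map_mem (i.huf u))
      (uh_ι u hz hz' uh huh i.U i.hU i.U' i.hU' i.hle i.f) hWG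
    have hc : pullback.fst (a ≫ (RelCone.pointedProjCone 𝒮' hz' pC' chartC').ι)
        (Proj.awayι (𝒮h'.deg i.U' i.hU') (RelConeProj.ιAt hz' i.U' i.hU' (i.uf u))
          ((RelConeProj.ιAt hz' i.U' i.hU').map_mem (i.huf u)) i.hd ≫
            RelProj.emb pC' chartC' i.U' i.hU') ≫ c =
        pullback.snd _ _ ≫ Spec.map (CommRingCat.ofHom (HomogeneousLocalization.map
          (uh.gradedAt i.U i.hU i.U' i.hU' i.hle) (RelConeProj.powers_le_comap_of_eq _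
            (uh_ι u hz hz' uh huh i.U i.hU i.U' i.hU' i.hle i.f)))) ≫
          IsOpenImmersion.lift (RelCone.pointedProjCone 𝒮 hz pC chartC).ι _ hWE := by
      rw [← cancel_mono (RelCone.pointedProjCone 𝒮 hz pC chartC).ι]
      simp only [Category.assoc]
      rw [← hbc, reassoc_of% hb, IsOpenImmersion.lift_fac, h2]
    have h5 : (HomogeneousLocalization.map (uh.gradedAt i.U i.hU i.U' i.hU' i.hle)
        (RelConeProj.powers_le_comap_of_eq _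
          (uh_ι u hz hz' uh huh i.U i.hU i.U' i.hU' i.hle i.f))).comp
        (Away.map (RelConeProj.ιAt hz i.U i.hU) i.f) =
        (Away.map (RelConeProj.ιAt hz' i.U' i.hU') (i.uf u)).comp
          (Away.map (u.gradedAt i.U i.hU i.U' i.hU' i.hle) i.f) :=
      map_comp_eq_map_comp _ _ _ _ _ _ _ _
        (uh_ι u hz hz' uh huh i.U i.hU i.U' i.hU' i.hle)
    rw [reassoc_of% hc, retraction_chart hz hC r hr i.U i.hU i.hd i.f i.hf]
    change _ = pullback.snd _ _ ≫ Spec.map _ ≫ Spec.map _ ≫ _ ≫ _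
    rw [← Spec.map_comp_assoc, ← Spec.map_comp_assoc, ← CommRingCat.ofHom_comp,
      ← CommRingCat.ofHom_comp, h5]

include huh in
/-- `p̂'(Φ̂⁻¹(Ê)) ⊆ G(φ)` and `p̂ ∘ Φ̂ = Proj(φ) ∘ p̂'` on `Φ̂⁻¹(Ê)`, on `T`-valued points -/
theorem retraction_comm (hC : RelProj.IsRelProj 𝒮h pC chartC)
    (hC' : RelProj.IsRelProj 𝒮h' pC' chartC')
    (Φh : ((RelProj.domQ uh pC' chartC' : PC'.Opens) : Scheme.{u}) ⟶ PC)
    (hΦh : RelProj.IsProjQMapOn uh pC chartC pC' chartC' (RelProj.domQ uh pC' chartC') Φh)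
    (Φ : ((RelProj.domQ u p' chart' : P'.Opens) : Scheme.{u}) ⟶ P)
    (hΦ : RelProj.IsProjQMapOn u p chart p' chart' (RelProj.domQ u p' chart') Φ)
    (r : ((RelCone.pointedProjCone 𝒮 hz pC chartC : PC.Opens) : Scheme.{u}) ⟶ P)
    (hr : RelProj.IsProjQMapOn (RelProj.QGrHom.ofHom ι hz.graded) p chart pC chartC
      (RelCone.pointedProjCone 𝒮 hz pC chartC) r)
    (r' : ((RelCone.pointedProjCone 𝒮' hz' pC' chartC' : PC'.Opens) : Scheme.{u}) ⟶ P')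
    (hr' : RelProj.IsProjQMapOn (RelProj.QGrHom.ofHom ι' hz'.graded) p' chart' pC' chartC'
      (RelCone.pointedProjCone 𝒮' hz' pC' chartC') r')
    {T : Scheme.{u}}
    (a : T ⟶ ((RelCone.pointedProjCone 𝒮' hz' pC' chartC' : PC'.Opens) : Scheme.{u}))
    (b : T ⟶ ((RelProj.domQ uh pC' chartC' : PC'.Opens) : Scheme.{u}))
    (c : T ⟶ ((RelCone.pointedProjCone 𝒮 hz pC chartC : PC.Opens) : Scheme.{u}))
    (hab : a ≫ (RelCone.pointedProjCone 𝒮' hz' pC' chartC').ι =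
      b ≫ (RelProj.domQ uh pC' chartC').ι)
    (hbc : b ≫ Φh = c ≫ (RelCone.pointedProjCone 𝒮 hz pC chartC).ι) :
    Set.range (a ≫ r').base ⊆ ((RelProj.domQ u p' chart' : P'.Opens) : Set P') ∧
      ∀ d : T ⟶ ((RelProj.domQ u p' chart' : P'.Opens) : Scheme.{u}),
        a ≫ r' = d ≫ (RelProj.domQ u p' chart').ι → c ≫ r = d ≫ Φ := by
  refine ⟨?_, fun d hd => ?_⟩
  · rintro _ ⟨t, rfl⟩
    obtain ⟨i, N, j, ℓ, hj, ⟨n, rfl⟩, h1, -⟩ := retraction_local u hz hz' uh huh hC hC' Φh hΦh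
      r hr r' hr' a b c hab hbc t
    have h3 := congrArg (fun ψ => ψ.base n) h1
    change (a ≫ r') (j n) = _ at h3
    change (a ≫ r') (j n) ∈ RelProj.domQ u p' chart'
    rw [h3]
    have h4 := RelProj.range_awayEmb_subset_domQ u p' chart' i.U i.hU i.U' i.hU' i.hle i.hd
      i.f i.hf
    rw [Scheme.Opens.range_ι] at h4
    exact h4 ⟨_, rfl⟩
  · refine hom_ext_of_forall_exists _ _ fun t => ?_
    obtain ⟨i, N, j, ℓ, hj, ht, h1, h2⟩ := retraction_local u hz hz' uh huh hC hC' Φh hΦh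
      r hr r' hr' a b c hab hbc t
    refine ⟨N, j, hj, ht, ?_⟩
    have hd' : j ≫ d = ℓ ≫ Spec.map (CommRingCat.ofHom
        (Away.map (RelConeProj.ιAt hz' i.U' i.hU') (i.uf u))) ≫
          chartLift (u := u) (p' := p') (chart' := chart') i := by
      rw [← cancel_mono (RelProj.domQ u p' chart').ι]
      simp only [Category.assoc]
      rw [← hd, chartLift_ι]
      exact h1
    rw [h2, reassoc_of% hd']
    congr 2
    exact ((isProjQMapOn_iff u p chart p' chart' _ Φ).mp hΦ i _).symm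

end functor

end Groth.Agent.Lib.Helper74.QMap
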