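import Groth.Agent.Lib.Helper74.StrSec
import Groth.Agent.Lib.Helper74.RelConeProj
import Groth.Agent.Lib.Lead.PullbackAff2

set_option autoImplicit false
universe u
open CategoryTheory AlgebraicGeometry TopologicalSpace Opposite
open scoped HomogeneousIdeal
open HomogeneousLocalization

namespace Groth.Agent.Lib.Helper74.RelStrSec

open Groth.Agent.Lib.Helper60.TildeSec Groth.Agent.Lib.Helper74.TwistGen
open Groth.Agent.Lib.Helper74.StrSec

theorem appLE_congr' {X Z : Scheme.{u}} {q q' : X ⟶ Z} (hq : q = q') (U : Z.Opens) (V : X.Opens)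
    (e : V ≤ q ⁻¹ᵁ U) : q.appLE U V e = q'.appLE U V (hq ▸ e) := by
  subst hq; rfl

variable {Y P : Scheme.{u}} {𝒮 : RelProj.QCGrAlg Y} {p : P ⟶ Y}
  {chart : ∀ (U : Y.Opens) (hU : IsAffineOpen U),
    (((p ⁻¹ᵁ U : P.Opens) : Scheme.{u}) ≅ Proj (𝒮.deg U hU))}

theorem emb_app_appLE (hP : RelProj.IsRelProj 𝒮 p chart) (U : Y.Opens) (hU : IsAffineOpen U)
    (W : P.Opens) (hWU : W ≤ p ⁻¹ᵁ U) :
    p.appLE U W hWU ≫ (RelProj.emb p chart U hU).app W =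
      𝒮.strZero U hU ≫ (Scheme.ΓSpecIso (.of (𝒮.deg U hU 0))).inv ≫
        (Proj.toSpecZero (𝒮.deg U hU)).appTop ≫
        (Proj (𝒮.deg U hU)).presheaf.map
          (homOfLE (le_top : RelProj.emb p chart U hU ⁻¹ᵁ W ≤ ⊤)).op := by
  rw [Scheme.Hom.app_eq_appLE, Scheme.Hom.appLE_comp_appLE,
    appLE_congr' (RelConeProj.emb_comp hP U hU)]
  have e1 : (⊤ : (Spec Γ(Y, U)).Opens) ≤ hU.fromSpec ⁻¹ᵁ U := by
    rw [hU.fromSpec_preimage_self]
  have e3 : (⊤ : (Spec (CommRingCat.of (𝒮.deg U hU 0))).Opens) ≤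
      (Spec.map (𝒮.strZero U hU) ≫ hU.fromSpec) ⁻¹ᵁ U := by
    intro x _
    exact e1 (Set.mem_univ _)
  have h1 := Scheme.Hom.appLE_comp_appLE (Proj.toSpecZero (𝒮.deg U hU))
    (Spec.map (𝒮.strZero U hU) ≫ hU.fromSpec) U ⊤ (RelProj.emb p chart U hU ⁻¹ᵁ W) e3 le_top
  have h2 := Scheme.Hom.appLE_comp_appLE (Spec.map (𝒮.strZero U hU)) hU.fromSpec U ⊤ ⊤ e1 le_top
  rw [← h1, ← h2, Groth.Agent.Lib.Lead.PullbackAff.fromSpec_appLE_top]
  have e2 : (Spec.map (𝒮.strZero U hU)).appLE ⊤ ⊤ le_top = (Spec.map (𝒮.strZero U hU)).appTop := by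
    simp [Scheme.Hom.appLE]
  rw [e2, Category.assoc, ← Scheme.ΓSpecIso_inv_naturality_assoc]
  rfl

theorem emb_app_val (hP : RelProj.IsRelProj 𝒮 p chart) (U : Y.Opens) (hU : IsAffineOpen U)
    (W : P.Opens) (hWU : W ≤ p ⁻¹ᵁ U) (r' : Γ(Y, U)) (z : ↥(RelProj.emb p chart U hU ⁻¹ᵁ W)) :
    ((show OSec (𝒮.deg U hU) (RelProj.emb p chart U hU ⁻¹ᵁ W) from
      ((RelProj.emb p chart U hU).app W).hom ((p.appLE U W hWU).hom r')).1 z).val =
      Localization.mk ((𝒮.str.app (op U)).hom r') 1 := by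
  have h1 := congr($(emb_app_appLE hP U hU W hWU).hom r')
  have h2 := zsec_res_val (𝒮.deg U hU) ((𝒮.strZero U hU).hom r') (RelProj.emb p chart U hU ⁻¹ᵁ W) z
  refine Eq.trans ?_ h2
  exact congrArg (fun s => ((show OSec (𝒮.deg U hU) (RelProj.emb p chart U hU ⁻¹ᵁ W) from s).1 z).val) h1

end Groth.Agent.Lib.Helper74.RelStrSec
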