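import Groth.Agent.Lib.Helper74.RelTwistInv
import Groth.Agent.Lib.Helper74.RelStrSec

set_option autoImplicit false
universe u
open CategoryTheory AlgebraicGeometry TopologicalSpace Opposite
open scoped HomogeneousIdeal

namespace Groth.Agent.Lib.Helper74.RLTw

open Groth.Agent.Lib.Lead.Inv Groth.Agent.Lib.Helper74.RelTilde
open Groth.Agent.Lib.Helper74.RelGlue Groth.Agent.Lib.Helper74.ModSec Groth.Agent.Lib.Helper74.QMap
open Groth.Agent.Lib.Helper74.TwistGen Groth.Agent.Lib.Helper74.TwistNat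
open Groth.Agent.Lib.Helper60.TildeSec

variable {Y P : Scheme.{u}} {𝒮 : RelProj.QCGrAlg Y} {p : P ⟶ Y}
  {chart : ∀ (U : Y.Opens) (hU : IsAffineOpen U),
    (((p ⁻¹ᵁ U : P.Opens) : Scheme.{u}) ≅ Proj (𝒮.deg U hU))}
  (hP : RelProj.IsRelProj 𝒮 p chart) {n : ℤ} {L : P.Modules}
  {lam : ∀ (U : Y.Opens) (hU : IsAffineOpen U), L ⟶ GTw p chart n U hU}
  (hL : RelProj.IsRelTwist 𝒮 p chart n L lam)

section gen

variable (U : Y.Opens) (hU : IsAffineOpen U) (g h : 𝒮.presheaf.obj (op U))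

variable (p chart) in
/-- `D₊(g) ∩ D₊(h)` -/
def DD : (Proj (𝒮.deg U hU)).Opens :=
  Proj.basicOpen (𝒮.deg U hU) g ⊓ Proj.basicOpen (𝒮.deg U hU) h

variable (p chart) in
/-- its image in `P` -/
def WP : P.Opens := RelProj.emb p chart U hU ''ᵁ DD U hU g h

theorem WP_le : WP p chart U hU g h ≤ p ⁻¹ᵁ U := by
  rintro _ ⟨z, -, rfl⟩
  exact emb_mem U hU z

theorem preimage_WP : RelProj.emb p chart U hU ⁻¹ᵁ WP p chart U hU g h = DD U hU g h :=
  (RelProj.emb p chart U hU).preimage_image_eq _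

theorem h_notMem (y : Proj (𝒮.deg U hU)) (hy : y ∈ RelProj.emb p chart U hU ⁻¹ᵁ WP p chart U hU g h) :
    h ∉ y.asHomogeneousIdeal := by
  rw [preimage_WP] at hy
  exact (Proj.mem_basicOpen _ h y).1 hy.2

theorem g_notMem (y : Proj (𝒮.deg U hU)) (hy : y ∈ RelProj.emb p chart U hU ⁻¹ᵁ WP p chart U hU g h) :
    g ∉ y.asHomogeneousIdeal := by
  rw [preimage_WP] at hy
  exact (Proj.mem_basicOpen _ g y).1 hy.1

variable {i j : ℕ} (hg : g ∈ 𝒮.deg U hU i) (hh : h ∈ 𝒮.deg U hU j) (hij : (i : ℤ) = j + n)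

include hL in
theorem exists_eP : ∃ e : Γ(L, WP p chart U hU g h),
    (lam U hU).app (WP p chart U hU g h) e =
      fracSec (𝒮.deg U hU) g hg h hh hij _ (h_notMem U hU g h) ∧
    IsGen L (WP p chart U hU g h) e := by
  obtain ⟨e, he⟩ := (hL.bijective U hU _ (WP_le U hU g h)).2
    (fracSec (𝒮.deg U hU) g hg h hh hij _ (h_notMem U hU g h))
  refine ⟨e, he, isGen_of_lam hL U hU _ (WP_le U hU g h) e ?_⟩
  rw [he]
  exact TwistNat.isGen_fracSec (𝒮.deg U hU) g hg h hh hij _ (h_notMem U hU g h) (g_notMem U hU g h)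

/-- the generator `g / h` of `O_P(n)` over `emb(D₊(g) ∩ D₊(h))` -/
noncomputable def eP : Γ(L, WP p chart U hU g h) := (exists_eP hL U hU g h hg hh hij).choose

theorem lam_eP : (lam U hU).app (WP p chart U hU g h) (eP hL U hU g h hg hh hij) =
    fracSec (𝒮.deg U hU) g hg h hh hij _ (h_notMem U hU g h) :=
  (exists_eP hL U hU g h hg hh hij).choose_spec.1

theorem isGen_eP : IsGen L (WP p chart U hU g h) (eP hL U hU g h hg hh hij) :=
  (exists_eP hL U hU g h hg hh hij).choose_spec.2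

include hP in
/-- the chart values of `g / h` over a smaller affine open -/
theorem eP_val {U'' : Y.Opens} (hU'' : IsAffineOpen U'') (hle : U'' ≤ U) (W : P.Opens)
    (hW : W ≤ WP p chart U hU g h) (y : ↥(RelProj.emb p chart U'' hU'' ⁻¹ᵁ W))
    (hy : 𝒮.res hU hU'' hle h ∉ y.1.asHomogeneousIdeal) :
    GrTwist.val (V := RelProj.emb p chart U'' hU'' ⁻¹ᵁ W)
        ((lam U'' hU'').app W (rs L hW (eP hL U hU g h hg hh hij))) y =
      Localization.mk (𝒮.res hU hU'' hle g) ⟨𝒮.res hU hU'' hle h, hy⟩ := by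
  have hG := (isGluedTw_iff hP n L lam).2 hL
  have h1 := hG.compat_le_app hU hU'' hle W (rs L hW (eP hL U hU g h hg hh hij))
  have h1' := congrArg (fun s => GrTwist.val (V := RelProj.emb p chart U'' hU'' ⁻¹ᵁ W) s y) h1.symm
  refine h1'.trans ?_
  refine (cTw_app_val hP n hU hU'' hle W _ y).trans ?_
  have h2 : (lam U hU).app W (rs L hW (eP hL U hU g h hg hh hij)) =
      rs (GTw p chart n U hU) hW ((lam U hU).app _ (eP hL U hU g h hg hh hij)) :=
    hom_rs (lam U hU) hW _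
  have hval : ∀ z : ↥(RelProj.emb p chart U hU ⁻¹ᵁ W),
      GrTwist.val (V := RelProj.emb p chart U hU ⁻¹ᵁ W)
        ((lam U hU).app W (rs L hW (eP hL U hU g h hg hh hij))) z =
      Localization.mk g ⟨h, h_notMem U hU g h z.1 (hW z.2)⟩ := by
    intro z
    have h3 := congrArg (fun s => GrTwist.val (V := RelProj.emb p chart U hU ⁻¹ᵁ W) s z)
      (h2.trans (congrArg (rs (GTw p chart n U hU) hW) (lam_eP hL U hU g h hg hh hij)))
    exact h3
  exact (congrArg (GrTwist.locMap (𝒮.res hU hU'' hle) _ y.1) (hval ⟨_, _⟩)).trans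
    (GrTwist.locMap_mk _ _ _ _ _)

end gen

section ratio

variable (U : Y.Opens) (hU : IsAffineOpen U) (g h : 𝒮.presheaf.obj (op U))
  {i j : ℕ} (hg : g ∈ 𝒮.deg U hU i) (hh : h ∈ 𝒮.deg U hU j) (hij : (i : ℤ) = j + n)
  (U' : Y.Opens) (hU' : IsAffineOpen U') (g' h' : 𝒮.presheaf.obj (op U'))
  {i' j' : ℕ} (hg' : g' ∈ 𝒮.deg U' hU' i') (hh' : h' ∈ 𝒮.deg U' hU' j') (hij' : (i' : ℤ) = j' + n)

include hP in
/-- the ratio of two generators, read on a smaller chart -/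
theorem ratio_val {U'' : Y.Opens} (hU'' : IsAffineOpen U'') (hle : U'' ≤ U) (hle' : U'' ≤ U')
    (W : P.Opens) (hW : W ≤ WP p chart U hU g h) (hW' : W ≤ WP p chart U' hU' g' h') (c : Γ(P, W))
    (hc : rs L hW (eP hL U hU g h hg hh hij) = c • rs L hW' (eP hL U' hU' g' h' hg' hh' hij'))
    (y : ↥(RelProj.emb p chart U'' hU'' ⁻¹ᵁ W))
    (hy : 𝒮.res hU hU'' hle h * 𝒮.res hU' hU'' hle' g' ∉ y.1.asHomogeneousIdeal) :
    ((show OSec (𝒮.deg U'' hU'') (RelProj.emb p chart U'' hU'' ⁻¹ᵁ W) from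
      ((RelProj.emb p chart U'' hU'').app W).hom c).1 y).val =
      Localization.mk (𝒮.res hU hU'' hle g * 𝒮.res hU' hU'' hle' h')
        ⟨𝒮.res hU hU'' hle h * 𝒮.res hU' hU'' hle' g', hy⟩ := by
  have hyh : 𝒮.res hU hU'' hle h ∉ y.1.asHomogeneousIdeal :=
    fun hm => hy (Ideal.mul_mem_right _ _ hm)
  have hyg' : 𝒮.res hU' hU'' hle' g' ∉ y.1.asHomogeneousIdeal :=
    fun hm => hy (Ideal.mul_mem_left _ _ hm)
  have hyh' : 𝒮.res hU' hU'' hle' h' ∉ y.1.asHomogeneousIdeal := by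
    intro hm
    have hyW' : RelProj.emb p chart U'' hU'' y.1 ∈ WP p chart U' hU' g' h' := hW' y.2
    rw [← emb_comap hP hU' hU'' hle' y.1] at hyW'
    exact h_notMem U' hU' g' h' _ hyW' hm
  have h1 := congrArg (fun s => GrTwist.val (V := RelProj.emb p chart U'' hU'' ⁻¹ᵁ W)
    ((lam U'' hU'').app W s) y) hc
  simp only at h1
  rw [eP_val hP hL U hU g h hg hh hij hU'' hle W hW y hyh] at h1
  have h2 : (lam U'' hU'').app W (c • rs L hW' (eP hL U' hU' g' h' hg' hh' hij')) =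
      c • (lam U'' hU'').app W (rs L hW' (eP hL U' hU' g' h' hg' hh' hij')) :=
    Scheme.Modules.Hom.app_smul (lam U'' hU'') _ _
  have h3 : GrTwist.val (V := RelProj.emb p chart U'' hU'' ⁻¹ᵁ W)
      ((lam U'' hU'').app W (c • rs L hW' (eP hL U' hU' g' h' hg' hh' hij'))) y =
      ((show OSec (𝒮.deg U'' hU'') (RelProj.emb p chart U'' hU'' ⁻¹ᵁ W) from
        ((RelProj.emb p chart U'' hU'').app W).hom c).1 y).val *
      Localization.mk (𝒮.res hU' hU'' hle' g') ⟨𝒮.res hU' hU'' hle' h', hyh'⟩ := by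
    rw [← eP_val hP hL U' hU' g' h' hg' hh' hij' hU'' hle' W hW' y hyh']
    have h4 := congrArg (fun s => GrTwist.val (V := RelProj.emb p chart U'' hU'' ⁻¹ᵁ W) s y) h2
    refine h4.trans ?_
    exact smul_val (𝒮.deg U'' hU'') n _ _ _ y
  rw [h3] at h1
  set v := ((show OSec (𝒮.deg U'' hU'') (RelProj.emb p chart U'' hU'' ⁻¹ᵁ W) from
      ((RelProj.emb p chart U'' hU'').app W).hom c).1 y).val with hv
  have h5 : Localization.mk (𝒮.res hU' hU'' hle' g')
      (⟨𝒮.res hU' hU'' hle' h', hyh'⟩ : y.1.asHomogeneousIdeal.toIdeal.primeCompl) *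
      Localization.mk (𝒮.res hU' hU'' hle' h') ⟨𝒮.res hU' hU'' hle' g', hyg'⟩ = 1 := by
    rw [Localization.mk_mul, ← Localization.mk_one, Localization.mk_eq_mk_iff,
      Localization.r_iff_exists]
    exact ⟨1, by simp only [OneMemClass.coe_one, one_mul, Submonoid.coe_mul, mul_one]; ring⟩
  calc v = v * (Localization.mk (𝒮.res hU' hU'' hle' g')
          (⟨𝒮.res hU' hU'' hle' h', hyh'⟩ : y.1.asHomogeneousIdeal.toIdeal.primeCompl) *
          Localization.mk (𝒮.res hU' hU'' hle' h') ⟨𝒮.res hU' hU'' hle' g', hyg'⟩) := by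
        rw [h5, mul_one]
    _ = Localization.mk (𝒮.res hU hU'' hle g) ⟨𝒮.res hU hU'' hle h, hyh⟩ *
          Localization.mk (𝒮.res hU' hU'' hle' h') ⟨𝒮.res hU' hU'' hle' g', hyg'⟩ := by
        rw [← mul_assoc, ← h1]
    _ = _ := by
        rw [Localization.mk_mul]
        rfl

end ratio

end Groth.Agent.Lib.Helper74.RLTw
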