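import Groth.Agent.Lib.Helper74.AwaySec
import Groth.Agent.Lib.Helper74.QMapImmU
import Groth.Agent.Lib.Helper74.RelStrSec

set_option autoImplicit false
set_option linter.style.haveILetI false
universe u

open CategoryTheory CategoryTheory.Limits AlgebraicGeometry TopologicalSpace Opposite
open scoped HomogeneousIdeal
open HomogeneousLocalization

noncomputable section

namespace Groth.Agent.Lib.Helper74.RLTw

open Groth.Agent.Lib.Helper74.QMap Groth.Agent.Lib.Helper74.QMapImm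
open Groth.Agent.Lib.Helper74.AwaySec

variable {Y X P PL : Scheme.{u}} {q : X ⟶ Y}
  {𝒮 : RelProj.QCGrAlg Y} {𝒮L : RelProj.QCGrAlg X}
  (u : RelProj.QGrHom q 𝒮 𝒮L)
  {p : P ⟶ Y} {chart : ∀ (U : Y.Opens) (hU : IsAffineOpen U), (((p ⁻¹ᵁ U : P.Opens) : Scheme.{u}) ≅ Proj (𝒮.deg U hU))}
  (hP : RelProj.IsRelProj 𝒮 p chart)
  {pL : PL ⟶ X} {chartL : ∀ (U : X.Opens) (hU : IsAffineOpen U), (((pL ⁻¹ᵁ U : PL.Opens) : Scheme.{u}) ≅ Proj (𝒮L.deg U hU))}
  (hPL : RelProj.IsRelProj 𝒮L pL chartL)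
  (r : ((RelProj.domQ u pL chartL : PL.Opens) : Scheme.{u}) ⟶ P)
  (hr : RelProj.IsProjQMapOn u p chart pL chartL (RelProj.domQ u pL chartL) r)
  (U : Y.Opens) (hU : IsAffineOpen U) (V : X.Opens) (hV : IsAffineOpen V) (hle : V ≤ q ⁻¹ᵁ U)
  {d : ℕ} (hd : 0 < d) {F : 𝒮.presheaf.obj (op U)} (hF : F ∈ 𝒮.deg U hU d)

/-- the source chart, into `G(u)` -/
def T : Spec (CommRingCat.of (Away (𝒮L.deg V hV) (u.gradedAt U hU V hV hle F))) ⟶
    ((RelProj.domQ u pL chartL : PL.Opens) : Scheme.{u}) :=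
  IsOpenImmersion.lift (RelProj.domQ u pL chartL).ι
    (RelProj.awayEmb u pL chartL U hU V hV hle hd F hF)
    (RelProj.range_awayEmb_subset_domQ u pL chartL U hU V hV hle hd F hF)

theorem T_ι : T (pL := pL) (chartL := chartL) u U hU V hV hle hd hF ≫ (RelProj.domQ u pL chartL).ι =
    RelProj.awayEmb u pL chartL U hU V hV hle hd F hF :=
  IsOpenImmersion.lift_fac _ _ _

instance : IsOpenImmersion (RelProj.awayEmb u pL chartL U hU V hV hle hd F hF) := by
  unfold RelProj.awayEmb; infer_instance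

instance : IsOpenImmersion (T (pL := pL) (chartL := chartL) u U hU V hV hle hd hF) := by
  have : IsOpenImmersion (T (pL := pL) (chartL := chartL) u U hU V hV hle hd hF ≫
      (RelProj.domQ u pL chartL).ι) := by
    rw [T_ι]; infer_instance
  exact IsOpenImmersion.of_comp _ (RelProj.domQ u pL chartL).ι

include hr in
theorem T_r : T (pL := pL) (chartL := chartL) u U hU V hV hle hd hF ≫ r =
    Spec.map (CommRingCat.ofHom (Away.map (u.gradedAt U hU V hV hle) F)) ≫
      stdChart p chart U hU hd F hF :=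
  hr U hU V hV hle d hd F hF
    (RelProj.range_awayEmb_subset_domQ u pL chartL U hU V hV hle hd F hF)

/-- `O(V) → 𝒮L(V)_(u F)` -/
def φV : Γ(X, V) ⟶ CommRingCat.of (Away (𝒮L.deg V hV) (u.gradedAt U hU V hV hle F)) :=
  𝒮L.strZero V hV ≫ CommRingCat.ofHom (fromZeroRingHom (𝒮L.deg V hV) _)

include hPL in
theorem T_π : T (pL := pL) (chartL := chartL) u U hU V hV hle hd hF ≫
    (RelProj.domQ u pL chartL).ι ≫ pL = Spec.map (φV u U hU V hV hle (F := F)) ≫ hV.fromSpec := by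
  rw [← Category.assoc, T_ι, RelProj.awayEmb, Category.assoc, RelConeProj.emb_comp hPL,
    Proj.awayι_toSpecZero_assoc, ← Spec.map_comp_assoc]
  rfl

theorem appLE_top_top {A B : Scheme.{u}} (f : A ⟶ B) (h : (⊤ : A.Opens) ≤ f ⁻¹ᵁ (⊤ : B.Opens)) :
    f.appLE (⊤ : B.Opens) (⊤ : A.Opens) h = f.appTop := by
  simp only [Scheme.Hom.appLE, Scheme.Hom.appTop]
  have : A.presheaf.map (homOfLE h).op = 𝟙 _ := A.presheaf.map_id _
  rw [this]
  exact Category.comp_id (f.app ⊤)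

include hr in
/-- pulling a function on `P` back along `r` and reading it on the source chart -/
theorem T_app_r (W : P.Opens) (c : Γ(P, W)) (a : Away (𝒮.deg U hU) F)
    (hD : Proj.basicOpen (𝒮.deg U hU) F ≤ RelProj.emb p chart U hU ⁻¹ᵁ W)
    (ha : ((RelProj.emb p chart U hU).appLE W (Proj.basicOpen _ F) hD).hom c =
      (Proj.awayToSection _ F).hom a)
    (hT : ⊤ ≤ T (pL := pL) (chartL := chartL) u U hU V hV hle hd hF ⁻¹ᵁ (r ⁻¹ᵁ W)) :
    ((T (pL := pL) (chartL := chartL) u U hU V hV hle hd hF).appLE (r ⁻¹ᵁ W) ⊤ hT).hom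
        ((r.app W).hom c) =
      (Scheme.ΓSpecIso _).inv.hom (Away.map (u.gradedAt U hU V hV hle) F a) := by
  have hS : (⊤ : (Spec (CommRingCat.of (Away (𝒮.deg U hU) F))).Opens) ≤
      stdChart p chart U hU hd F hF ⁻¹ᵁ W := by
    intro x _
    have : (Proj.awayι (𝒮.deg U hU) F hF hd) x ∈ Proj.basicOpen (𝒮.deg U hU) F :=
      top_le_preimage (𝒮.deg U hU) hd hF (Set.mem_univ x)
    exact hD this
  have h1 : r.app W ≫ (T (pL := pL) (chartL := chartL) u U hU V hV hle hd hF).appLE (r ⁻¹ᵁ W) ⊤ hT =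
      (stdChart p chart U hU hd F hF).appLE W ⊤ hS ≫
        (Spec.map (CommRingCat.ofHom (Away.map (u.gradedAt U hU V hV hle) F))).appTop := by
    rw [Scheme.Hom.app_eq_appLE, Scheme.Hom.appLE_comp_appLE,
      appLE_congr' (T_r u r hr U hU V hV hle hd hF),
      ← Scheme.Hom.appLE_comp_appLE _ _ W ⊤ ⊤ hS le_top, appLE_top_top]
  have h2 : (stdChart p chart U hU hd F hF).appLE W ⊤ hS =
      (RelProj.emb p chart U hU).appLE W (Proj.basicOpen _ F) hD ≫
        (Proj.awayι (𝒮.deg U hU) F hF hd).appLE (Proj.basicOpen _ F) ⊤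
          (top_le_preimage (𝒮.deg U hU) hd hF) := by
    rw [Scheme.Hom.appLE_comp_appLE]
    rfl
  have h3 := congr($(h1).hom c)
  rw [h2] at h3
  simp only [CommRingCat.comp_apply] at h3
  rw [ha] at h3
  have h4 : ((Proj.awayι (𝒮.deg U hU) F hF hd).appLE (Proj.basicOpen _ F) ⊤
      (top_le_preimage (𝒮.deg U hU) hd hF)).hom ((Proj.awayToSection (𝒮.deg U hU) F).hom a) =
      (Scheme.ΓSpecIso _).inv.hom a :=
    congr($(awayToSection_appLE (𝒮.deg U hU) hd hF).hom a)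
  refine h3.trans ?_
  refine (congrArg _ h4).trans ?_
  have h5 : (Scheme.ΓSpecIso _).inv.hom
      ((CommRingCat.ofHom (Away.map (u.gradedAt U hU V hV hle) F)).hom a) =
      (Spec.map (CommRingCat.ofHom (Away.map (u.gradedAt U hU V hV hle) F))).appTop.hom
        ((Scheme.ΓSpecIso _).inv.hom a) :=
    congr($(Scheme.ΓSpecIso_inv_naturality
      (CommRingCat.ofHom (Away.map (u.gradedAt U hU V hV hle) F))).hom a)
  exact h5.symm

include hPL in
/-- pulling a function on `X` back to `G(u)` and reading it on the source chart -/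
theorem T_app_π (V' : X.Opens) (hVV' : V ≤ V') (c : Γ(X, V'))
    (hT : ⊤ ≤ T (pL := pL) (chartL := chartL) u U hU V hV hle hd hF ⁻¹ᵁ
      (((RelProj.domQ u pL chartL).ι ≫ pL) ⁻¹ᵁ V')) :
    ((T (pL := pL) (chartL := chartL) u U hU V hV hle hd hF).appLE
        (((RelProj.domQ u pL chartL).ι ≫ pL) ⁻¹ᵁ V') ⊤ hT).hom
        ((((RelProj.domQ u pL chartL).ι ≫ pL).app V').hom c) =
      (Scheme.ΓSpecIso _).inv.hom ((φV u U hU V hV hle (F := F)).hom
        ((X.presheaf.map (homOfLE hVV').op).hom c)) := by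
  have e1 : (⊤ : (Spec Γ(X, V)).Opens) ≤ hV.fromSpec ⁻¹ᵁ V := by
    rw [hV.fromSpec_preimage_self]
  have e1' : (⊤ : (Spec Γ(X, V)).Opens) ≤ hV.fromSpec ⁻¹ᵁ V' := fun x hx => hVV' (e1 hx)
  have e3 : (⊤ : (Spec (CommRingCat.of (Away (𝒮L.deg V hV) (u.gradedAt U hU V hV hle F)))).Opens) ≤
      (Spec.map (φV u U hU V hV hle (F := F)) ≫ hV.fromSpec) ⁻¹ᵁ V' := by
    intro x _
    exact e1' (Set.mem_univ _)
  have h1 : ((RelProj.domQ u pL chartL).ι ≫ pL).app V' ≫
      (T (pL := pL) (chartL := chartL) u U hU V hV hle hd hF).appLE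
        (((RelProj.domQ u pL chartL).ι ≫ pL) ⁻¹ᵁ V') ⊤ hT =
      X.presheaf.map (homOfLE hVV').op ≫ (Scheme.ΓSpecIso Γ(X, V)).inv ≫
        (Spec.map (φV u U hU V hV hle (F := F))).appTop := by
    rw [Scheme.Hom.app_eq_appLE, Scheme.Hom.appLE_comp_appLE,
      appLE_congr' (T_π u hPL U hU V hV hle hd hF),
      ← Scheme.Hom.appLE_comp_appLE _ _ V' ⊤ ⊤ e1' le_top, appLE_top_top,
      ← Groth.Agent.Lib.Lead.PullbackAff.fromSpec_appLE_top hV,
      ← Category.assoc, Scheme.Hom.map_appLE]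
  have h2 := congr($(h1).hom c)
  refine h2.trans ?_
  have h5 : (Scheme.ΓSpecIso _).inv.hom
      ((φV u U hU V hV hle (F := F)).hom ((X.presheaf.map (homOfLE hVV').op).hom c)) =
      (Spec.map (φV u U hU V hV hle (F := F))).appTop.hom
        ((Scheme.ΓSpecIso _).inv.hom ((X.presheaf.map (homOfLE hVV').op).hom c)) :=
    congr($(Scheme.ΓSpecIso_inv_naturality (φV u U hU V hV hle (F := F))).hom
      ((X.presheaf.map (homOfLE hVV').op).hom c))
  exact h5.symm

/-- functions agreeing after pull-back along an open immersion agree on its range -/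
theorem eq_on_range {A B : Scheme.{u}} (t : A ⟶ B) [IsOpenImmersion t] (W : B.Opens)
    (c₁ c₂ : Γ(B, W)) (hT : (⊤ : A.Opens) ≤ t ⁻¹ᵁ W)
    (h : (t.appLE W ⊤ hT).hom c₁ = (t.appLE W ⊤ hT).hom c₂) (hTW : t.opensRange ≤ W) :
    (B.presheaf.map (homOfLE hTW).op).hom c₁ = (B.presheaf.map (homOfLE hTW).op).hom c₂ := by
  have h' : (⊤ : A.Opens) ≤ t ⁻¹ᵁ t.opensRange := fun x _ => ⟨x, rfl⟩
  have key : t.appLE W ⊤ hT = B.presheaf.map (homOfLE hTW).op ≫ t.appLE t.opensRange ⊤ h' :=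
    (Scheme.Hom.map_appLE t h' (homOfLE hTW).op).symm
  haveI : IsIso (t.app t.opensRange) := Scheme.Hom.isIso_app t _ le_rfl
  haveI : IsIso (homOfLE h') := ⟨homOfLE le_top, Subsingleton.elim _ _, Subsingleton.elim _ _⟩
  haveI : IsIso (t.appLE t.opensRange ⊤ h') := by
    rw [Scheme.Hom.appLE]; infer_instance
  have hinj : Function.Injective (t.appLE t.opensRange ⊤ h').hom :=
    (ConcreteCategory.bijective_of_isIso (t.appLE t.opensRange ⊤ h')).1
  apply hinj
  have h1 := congr($(key).hom c₁)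
  have h2 := congr($(key).hom c₂)
  exact h1.symm.trans (h.trans h2)

end Groth.Agent.Lib.Helper74.RLTw
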