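import Groth.Agent.Lib.Helper74.RLTw1
import Groth.Agent.Lib.Helper74.RLTw2

set_option autoImplicit false
set_option linter.style.haveILetI false
universe u

open CategoryTheory CategoryTheory.Limits AlgebraicGeometry TopologicalSpace Opposite
open scoped HomogeneousIdeal
open HomogeneousLocalization

noncomputable section

namespace Groth.Agent.Lib.Helper74.RLTw

open Groth.Agent.Lib.Lead.Inv Groth.Agent.Lib.Helper74.RelTilde
open Groth.Agent.Lib.Helper74.RelGlue Groth.Agent.Lib.Helper74.ModSec Groth.Agent.Lib.Helper74.QMap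
open Groth.Agent.Lib.Helper74.TwistGen Groth.Agent.Lib.Helper74.TwistNat
open Groth.Agent.Lib.Helper60.TildeSec Groth.Agent.Lib.Helper74.AwaySec

section alg

variable {A σ : Type u} [CommRing A] [SetLike σ A] [AddSubgroupClass σ A] (𝒜 : ℕ → σ) [GradedRing 𝒜]

/-- the values of the section attached to `x / f ^ K` -/
theorem awayToSection_mk_val {d : ℕ} {f : A} (hf : f ∈ 𝒜 d) (K : ℕ) (x : A) (hx : x ∈ 𝒜 (K • d))
    (y : ↥(Proj.basicOpen 𝒜 f)) :
    ((show OSec 𝒜 (Proj.basicOpen 𝒜 f) from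
      (Proj.awayToSection 𝒜 f).hom (Away.mk 𝒜 hf K x hx)).1 y).val =
      Localization.mk x (⟨f ^ K, fun hm => (Proj.mem_basicOpen 𝒜 f y.1).1 y.2
        (y.1.isPrime.mem_of_pow_mem K hm)⟩ : y.1.asHomogeneousIdeal.toIdeal.primeCompl) := rfl

end alg

variable {Y X P PL : Scheme.{u}} {q : X ⟶ Y}
  {𝒮 : RelProj.QCGrAlg Y} {𝒮L : RelProj.QCGrAlg X}
  (u : RelProj.QGrHom q 𝒮 𝒮L)
  {p : P ⟶ Y} {chart : ∀ (U : Y.Opens) (hU : IsAffineOpen U), (((p ⁻¹ᵁ U : P.Opens) : Scheme.{u}) ≅ Proj (𝒮.deg U hU))}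
  (hP : RelProj.IsRelProj 𝒮 p chart)
  {pL : PL ⟶ X} {chartL : ∀ (U : X.Opens) (hU : IsAffineOpen U), (((pL ⁻¹ᵁ U : PL.Opens) : Scheme.{u}) ≅ Proj (𝒮L.deg U hU))}
  (hPL : RelProj.IsRelProj 𝒮L pL chartL)
  (r : ((RelProj.domQ u pL chartL : PL.Opens) : Scheme.{u}) ⟶ P)
  (hr : RelProj.IsProjQMapOn u p chart pL chartL (RelProj.domQ u pL chartL) r)
  {n : ℤ} {On : P.Modules}
  {lamn : ∀ (U : Y.Opens) (hU : IsAffineOpen U), On ⟶ GTw p chart n U hU}
  (hOn : RelProj.IsRelTwist 𝒮 p chart n On lamn)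

section core

variable (U : Y.Opens) (hU : IsAffineOpen U) (g h : 𝒮.presheaf.obj (op U))
  {i j : ℕ} (hg : g ∈ 𝒮.deg U hU i) (hh : h ∈ 𝒮.deg U hU j) (hij : (i : ℤ) = j + n)
  (U' : Y.Opens) (hU' : IsAffineOpen U') (g' h' : 𝒮.presheaf.obj (op U'))
  {i' j' : ℕ} (hg' : g' ∈ 𝒮.deg U' hU' i') (hh' : h' ∈ 𝒮.deg U' hU' j') (hij' : (i' : ℤ) = j' + n)
  {U'' : Y.Opens} (hU'' : IsAffineOpen U'') (hle : U'' ≤ U) (hle' : U'' ≤ U')
  (V : X.Opens) (hV : IsAffineOpen V) (hleV : V ≤ q ⁻¹ᵁ U'')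

/-- the product of the four restricted elements -/
abbrev FF : 𝒮.presheaf.obj (op U'') :=
  𝒮.res hU hU'' hle g * 𝒮.res hU hU'' hle h * (𝒮.res hU' hU'' hle' g' * 𝒮.res hU' hU'' hle' h')

include hg hh hg' hh' in
theorem FF_mem : FF U hU g h U' hU' g' h' hU'' hle hle' ∈ 𝒮.deg U'' hU'' (i + j + (i' + j')) :=
  SetLike.mul_mem_graded
    (SetLike.mul_mem_graded ((𝒮.res hU hU'' hle).map_mem hg) ((𝒮.res hU hU'' hle).map_mem hh))
    (SetLike.mul_mem_graded ((𝒮.res hU' hU'' hle').map_mem hg') ((𝒮.res hU' hU'' hle').map_mem hh'))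

include hP in
theorem basicOpen_FF_le :
    Proj.basicOpen (𝒮.deg U'' hU'') (FF U hU g h U' hU' g' h' hU'' hle hle') ≤
      RelProj.emb p chart U'' hU'' ⁻¹ᵁ (WP p chart U hU g h ⊓ WP p chart U' hU' g' h') := by
  intro y hy
  have hy' := (Proj.mem_basicOpen _ _ y).1 hy
  have h1 : 𝒮.res hU hU'' hle g ∉ y.asHomogeneousIdeal :=
    fun hm => hy' (Ideal.mul_mem_right _ _ (Ideal.mul_mem_right _ _ hm))
  have h2 : 𝒮.res hU hU'' hle h ∉ y.asHomogeneousIdeal :=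
    fun hm => hy' (Ideal.mul_mem_right _ _ (Ideal.mul_mem_left _ _ hm))
  have h3 : 𝒮.res hU' hU'' hle' g' ∉ y.asHomogeneousIdeal :=
    fun hm => hy' (Ideal.mul_mem_left _ _ (Ideal.mul_mem_right _ _ hm))
  have h4 : 𝒮.res hU' hU'' hle' h' ∉ y.asHomogeneousIdeal :=
    fun hm => hy' (Ideal.mul_mem_left _ _ (Ideal.mul_mem_left _ _ hm))
  refine ⟨?_, ?_⟩
  · change RelProj.emb p chart U'' hU'' y ∈ WP p chart U hU g h
    rw [← emb_comap hP hU hU'' hle y]
    exact ⟨_, ⟨(Proj.mem_basicOpen _ _ _).2 h1, (Proj.mem_basicOpen _ _ _).2 h2⟩, rfl⟩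
  · change RelProj.emb p chart U'' hU'' y ∈ WP p chart U' hU' g' h'
    rw [← emb_comap hP hU' hU'' hle' y]
    exact ⟨_, ⟨(Proj.mem_basicOpen _ _ _).2 h3, (Proj.mem_basicOpen _ _ _).2 h4⟩, rfl⟩

include hij hij' in
theorem deg_eq : 2 • (i + j') = 1 • (i + j + (i' + j')) := by
  simp only [smul_eq_mul]
  omega

include hg hh' hij hij' in
theorem num_mem : (𝒮.res hU hU'' hle g * 𝒮.res hU' hU'' hle' h') ^ 2 ∈
    𝒮.deg U'' hU'' (1 • (i + j + (i' + j'))) := by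
  rw [← deg_eq hij hij']
  exact SetLike.pow_mem_graded 2
    (SetLike.mul_mem_graded ((𝒮.res hU hU'' hle).map_mem hg) ((𝒮.res hU' hU'' hle').map_mem hh'))

include hP in
/-- the ratio of the two generators, read on the standard chart of `F` -/
theorem appLE_cP (c_P : Γ(P, WP p chart U hU g h ⊓ WP p chart U' hU' g' h'))
    (hcP : rs On inf_le_left (eP hOn U hU g h hg hh hij) =
      c_P • rs On inf_le_right (eP hOn U' hU' g' h' hg' hh' hij')) :
    ((RelProj.emb p chart U'' hU'').appLE _ _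
        (basicOpen_FF_le hP U hU g h U' hU' g' h' hU'' hle hle')).hom c_P =
      (Proj.awayToSection _ (FF U hU g h U' hU' g' h' hU'' hle hle')).hom
        (Away.mk (𝒮.deg U'' hU'') (FF_mem U hU g h hg hh U' hU' g' h' hg' hh' hU'' hle hle') 1 _
          (num_mem U hU g hg hij U' hU' h' hh' hij' hU'' hle hle')) := by
  refine osec_ext (𝒮.deg U'' hU'') _ _ fun y => ?_
  rw [awayToSection_mk_val]
  have hyW : y.1 ∈ RelProj.emb p chart U'' hU'' ⁻¹ᵁ
      (WP p chart U hU g h ⊓ WP p chart U' hU' g' h') :=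
    basicOpen_FF_le hP U hU g h U' hU' g' h' hU'' hle hle' y.2
  have hy' := (Proj.mem_basicOpen _ _ y.1).1 y.2
  have hy2 : 𝒮.res hU hU'' hle h * 𝒮.res hU' hU'' hle' g' ∉ y.1.asHomogeneousIdeal := by
    intro hm
    apply hy'
    have : FF U hU g h U' hU' g' h' hU'' hle hle' =
        (𝒮.res hU hU'' hle h * 𝒮.res hU' hU'' hle' g') *
          (𝒮.res hU hU'' hle g * 𝒮.res hU' hU'' hle' h') := by
      simp only [FF]; ring
    have hm2 : (𝒮.res hU hU'' hle h * 𝒮.res hU' hU'' hle' g') *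
          (𝒮.res hU hU'' hle g * 𝒮.res hU' hU'' hle' h') ∈ y.1.asHomogeneousIdeal :=
      Ideal.mul_mem_right _ _ hm
    exact (congrArg (fun z => z ∈ y.1.asHomogeneousIdeal) this).mpr hm2
  have h1 := ratio_val hP hOn U hU g h hg hh hij U' hU' g' h' hg' hh' hij' hU'' hle hle'
    _ inf_le_left inf_le_right c_P hcP ⟨y.1, hyW⟩ hy2
  refine Eq.trans ?_ (h1.trans ?_)
  · rfl
  · rw [Localization.mk_eq_mk_iff, Localization.r_iff_exists]
    refine ⟨1, ?_⟩
    simp only [OneMemClass.coe_one, one_mul, FF]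
    ring

/-- functions agreeing after pull-back along an open immersion agree on its range -/
theorem eq_on_range' {A B : Scheme.{u}} (t : A ⟶ B) [IsOpenImmersion t] (W₁ W₂ : B.Opens)
    (c₁ : Γ(B, W₁)) (c₂ : Γ(B, W₂)) (hT₁ : (⊤ : A.Opens) ≤ t ⁻¹ᵁ W₁) (hT₂ : (⊤ : A.Opens) ≤ t ⁻¹ᵁ W₂)
    (h : (t.appLE W₁ ⊤ hT₁).hom c₁ = (t.appLE W₂ ⊤ hT₂).hom c₂)
    (h₁ : t.opensRange ≤ W₁) (h₂ : t.opensRange ≤ W₂) :
    (B.presheaf.map (homOfLE h₁).op).hom c₁ = (B.presheaf.map (homOfLE h₂).op).hom c₂ := by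
  have h' : (⊤ : A.Opens) ≤ t ⁻¹ᵁ t.opensRange := fun x _ => ⟨x, rfl⟩
  have key₁ : t.appLE W₁ ⊤ hT₁ = B.presheaf.map (homOfLE h₁).op ≫ t.appLE t.opensRange ⊤ h' :=
    (Scheme.Hom.map_appLE t h' (homOfLE h₁).op).symm
  have key₂ : t.appLE W₂ ⊤ hT₂ = B.presheaf.map (homOfLE h₂).op ≫ t.appLE t.opensRange ⊤ h' :=
    (Scheme.Hom.map_appLE t h' (homOfLE h₂).op).symm
  haveI : IsIso (t.app t.opensRange) := Scheme.Hom.isIso_app t _ le_rfl
  haveI : IsIso (homOfLE h') := ⟨homOfLE le_top, Subsingleton.elim _ _, Subsingleton.elim _ _⟩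
  haveI : IsIso (t.appLE t.opensRange ⊤ h') := by
    rw [Scheme.Hom.appLE]; infer_instance
  have hinj : Function.Injective (t.appLE t.opensRange ⊤ h').hom :=
    (ConcreteCategory.bijective_of_isIso (t.appLE t.opensRange ⊤ h')).1
  apply hinj
  have e1 := congr($(key₁).hom c₁)
  have e2 := congr($(key₂).hom c₂)
  exact e1.symm.trans (h.trans e2)

include hP hPL hr in
/-- **comparison of the transition functions on a source chart** -/
theorem chart_compare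
    (c_P : Γ(P, WP p chart U hU g h ⊓ WP p chart U' hU' g' h'))
    (hcP : rs On inf_le_left (eP hOn U hU g h hg hh hij) =
      c_P • rs On inf_le_right (eP hOn U' hU' g' h' hg' hh' hij'))
    (c : Γ(X, V))
    (hc : (𝒮L.str.app (op V)).hom c *
        ((u.gradedAt U'' hU'' V hV hleV) (𝒮.res hU hU'' hle h) *
          (u.gradedAt U'' hU'' V hV hleV) (𝒮.res hU' hU'' hle' g')) =
      (u.gradedAt U'' hU'' V hV hleV) (𝒮.res hU hU'' hle g) *
        (u.gradedAt U'' hU'' V hV hleV) (𝒮.res hU' hU'' hle' h'))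
    (hD : 0 < i + j + (i' + j')) :
    ∃ (h1 : (T (pL := pL) (chartL := chartL) u U'' hU'' V hV hleV hD
          (FF_mem U hU g h hg hh U' hU' g' h' hg' hh' hU'' hle hle')).opensRange ≤
        r ⁻¹ᵁ (WP p chart U hU g h ⊓ WP p chart U' hU' g' h'))
      (h2 : (T (pL := pL) (chartL := chartL) u U'' hU'' V hV hleV hD
          (FF_mem U hU g h hg hh U' hU' g' h' hg' hh' hU'' hle hle')).opensRange ≤
        ((RelProj.domQ u pL chartL).ι ≫ pL) ⁻¹ᵁ V),
      (((RelProj.domQ u pL chartL : PL.Opens) : Scheme.{u}).presheaf.map (homOfLE h1).op).hom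
          ((r.app _).hom c_P) =
        (((RelProj.domQ u pL chartL : PL.Opens) : Scheme.{u}).presheaf.map (homOfLE h2).op).hom
          ((((RelProj.domQ u pL chartL).ι ≫ pL).app V).hom c) := by
  set Tc := T (pL := pL) (chartL := chartL) u U'' hU'' V hV hleV hD
    (FF_mem U hU g h hg hh U' hU' g' h' hg' hh' hU'' hle hle') with hTc
  have hT1 : ⊤ ≤ Tc ⁻¹ᵁ (r ⁻¹ᵁ (WP p chart U hU g h ⊓ WP p chart U' hU' g' h')) := by
    intro x _
    change r (Tc x) ∈ (WP p chart U hU g h ⊓ WP p chart U' hU' g' h')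
    rw [← Scheme.Hom.comp_apply, hTc, T_r u r hr U'' hU'' V hV hleV hD, Scheme.Hom.comp_apply]
    have : (stdChart p chart U'' hU'' hD _
        (FF_mem U hU g h hg hh U' hU' g' h' hg' hh' hU'' hle hle'))
        ((Spec.map (CommRingCat.ofHom (Away.map (u.gradedAt U'' hU'' V hV hleV) _))) x) ∈
        Set.range (stdChart p chart U'' hU'' hD _
          (FF_mem U hU g h hg hh U' hU' g' h' hg' hh' hU'' hle hle')) := ⟨_, rfl⟩
    rw [range_stdChart] at this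
    obtain ⟨y, hy, hy'⟩ := this
    rw [← hy']
    exact basicOpen_FF_le hP U hU g h U' hU' g' h' hU'' hle hle' hy
  have hT2 : ⊤ ≤ Tc ⁻¹ᵁ (((RelProj.domQ u pL chartL).ι ≫ pL) ⁻¹ᵁ V) := by
    intro x _
    change ((RelProj.domQ u pL chartL).ι ≫ pL) (Tc x) ∈ V
    rw [← Scheme.Hom.comp_apply, hTc, T_π u hPL U'' hU'' V hV hleV hD, Scheme.Hom.comp_apply]
    have h0 : hV.fromSpec ((Spec.map (φV u U'' hU'' V hV hleV)) x) ∈ Set.range hV.fromSpec :=
      Set.mem_range_self _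
    rw [hV.range_fromSpec] at h0
    exact h0
  have h1 : Tc.opensRange ≤ r ⁻¹ᵁ (WP p chart U hU g h ⊓ WP p chart U' hU' g' h') := by
    rintro _ ⟨x, rfl⟩
    exact hT1 (Set.mem_univ x)
  have h2 : Tc.opensRange ≤ ((RelProj.domQ u pL chartL).ι ≫ pL) ⁻¹ᵁ V := by
    rintro _ ⟨x, rfl⟩
    exact hT2 (Set.mem_univ x)
  refine ⟨h1, h2, ?_⟩
  refine eq_on_range' Tc _ _ _ _ hT1 hT2 ?_ h1 h2
  have e1 := T_app_r u r hr U'' hU'' V hV hleV hD
    (FF_mem U hU g h hg hh U' hU' g' h' hg' hh' hU'' hle hle') _ c_P _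
    (basicOpen_FF_le hP U hU g h U' hU' g' h' hU'' hle hle')
    (appLE_cP hP hOn U hU g h hg hh hij U' hU' g' h' hg' hh' hij' hU'' hle hle' c_P hcP) hT1
  have e2 := T_app_π u hPL U'' hU'' V hV hleV hD
    (FF_mem U hU g h hg hh U' hU' g' h' hg' hh' hU'' hle hle') V le_rfl c hT2
  rw [e1, e2]
  congr 1
  have e3 : (X.presheaf.map (homOfLE (le_refl V)).op).hom c = c := by
    have : X.presheaf.map (homOfLE (le_refl V)).op = 𝟙 _ := X.presheaf.map_id _
    rw [this]; rfl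
  rw [e3, Away.map_mk]
  apply HomogeneousLocalization.val_injective
  rw [Away.val_mk]
  change _ = Localization.mk ((𝒮L.str.app (op V)).hom c) 1
  rw [Localization.mk_eq_mk_iff, Localization.r_iff_exists]
  refine ⟨1, ?_⟩
  simp only [OneMemClass.coe_one, one_mul, pow_one, map_mul, map_pow, FF]
  have := hc
  linear_combination (-(u.gradedAt U'' hU'' V hV hleV) (𝒮.res hU hU'' hle g) *
        (u.gradedAt U'' hU'' V hV hleV) (𝒮.res hU' hU'' hle' h')) * hc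

end core

end Groth.Agent.Lib.Helper74.RLTw
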