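import Groth.Agent.Lib.Helper74.RLTw3
import Groth.Agent.Lib.Helper35.RL12
import Groth.Agent.Lib.Helper35.PbGen
import Groth.Agent.Lib.Helper35.CocIso

set_option autoImplicit false
set_option linter.style.haveILetI false
universe u

open CategoryTheory CategoryTheory.Limits AlgebraicGeometry TopologicalSpace Opposite
open scoped HomogeneousIdeal
open HomogeneousLocalization

noncomputable section

namespace Groth.Agent.Lib.Helper74.RLTw

open Groth.Agent.Lib.Helper74.QMap Groth.Agent.Lib.Helper74.QMapImm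
open Groth.Agent.Lib.Helper74.QMapImmU Groth.Agent.Lib.Helper74.InvSym
open Groth.Agent.Lib.Helper74.TwistNat
open Groth.Agent.Lib.Helper35.Gen Groth.Agent.Lib.Helper35.RL Groth.Agent.Lib.Helper35.PbInv

variable {Y X P PL : Scheme.{u}} {q : X ⟶ Y}
  {L : X.Modules} (hL : PicF.IsInvertible L) [hLq : L.IsQuasicoherent]
  {𝒮 : RelProj.QCGrAlg Y} {𝒮L : RelProj.QCGrAlg X} {jL : L ⟶ 𝒮L.toModule}
  (hj : RelProj.IsGrSymAlg L 𝒮L jL)
  (u : RelProj.QGrHom q 𝒮 𝒮L)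
  {p : P ⟶ Y} {chart : ∀ (U : Y.Opens) (hU : IsAffineOpen U),
    (((p ⁻¹ᵁ U : P.Opens) : Scheme.{u}) ≅ Proj (𝒮.deg U hU))}
  (hP : RelProj.IsRelProj 𝒮 p chart)
  {pL : PL ⟶ X} {chartL : ∀ (U : X.Opens) (hU : IsAffineOpen U),
    (((pL ⁻¹ᵁ U : PL.Opens) : Scheme.{u}) ≅ Proj (𝒮L.deg U hU))}
  (hPL : RelProj.IsRelProj 𝒮L pL chartL)
  (r : ((RelProj.domQ u pL chartL : PL.Opens) : Scheme.{u}) ⟶ P)
  (hr : RelProj.IsProjQMapOn u p chart pL chartL (RelProj.domQ u pL chartL) r)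
  (nn : ℕ) {On : P.Modules}
  {lamn : ∀ (U : Y.Opens) (hU : IsAffineOpen U), On ⟶ GTw p chart (nn : ℤ) U hU}
  (hOn : RelProj.IsRelTwist 𝒮 p chart (nn : ℤ) On lamn)

/-- local data: a pair `g / h` of homogeneous elements over an affine `U`, a trivialising affine
`V ⊆ q⁻¹(U)` with generator `e`, on which both `u(g)` and `u(h)` have unit coefficients -/
structure Idx where
  U : Y.Opens
  hU : IsAffineOpen U
  V : X.Opens
  hV : IsAffineOpen V
  hle : V ≤ q ⁻¹ᵁ U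
  j : ℕ
  hj0 : 0 < j
  g : 𝒮.presheaf.obj (op U)
  h : 𝒮.presheaf.obj (op U)
  hg : g ∈ 𝒮.deg U hU (j + nn)
  hh : h ∈ 𝒮.deg U hU j
  e : Γ(L, V)
  he : IsGen L V e
  hγ : IsUnit (coeff hj V hV e he.bij ((u.gradedAt U hU V hV hle) g)
    ((u.gradedAt U hU V hV hle).map_mem hg))
  hβ : IsUnit (coeff hj V hV e he.bij ((u.gradedAt U hU V hV hle) h)
    ((u.gradedAt U hU V hV hle).map_mem hh))

variable {hj u nn}

namespace Idx

variable (k : Idx (q := q) hj u nn)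

/-- the coefficient of `u(g)` -/
def γ : Γ(X, k.V) := coeff hj k.V k.hV k.e k.he.bij ((u.gradedAt k.U k.hU k.V k.hV k.hle) k.g)
    ((u.gradedAt k.U k.hU k.V k.hV k.hle).map_mem k.hg)

/-- the coefficient of `u(h)` -/
def β : Γ(X, k.V) := coeff hj k.V k.hV k.e k.he.bij ((u.gradedAt k.U k.hU k.V k.hV k.hle) k.h)
    ((u.gradedAt k.U k.hU k.V k.hV k.hle).map_mem k.hh)

theorem hij : ((k.j + nn : ℕ) : ℤ) = (k.j : ℤ) + (nn : ℤ) := by push_cast; rfl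

/-- the section `u(g) / u(h)` of `L^n` over `V` -/
def σ : Γ(CohB1.tensorPow L nn, k.V) := (k.γ * ↑(k.hβ.unit⁻¹)) • gpow k.e nn

theorem β_smul_σ : k.β • k.σ = k.γ • gpow k.e nn := by
  unfold σ
  rw [← mul_smul]
  congr 1
  have : k.β * ↑(k.hβ.unit⁻¹) = 1 := by
    have := k.hβ.unit.mul_inv
    rw [← this]
    rfl
  calc k.β * (k.γ * ↑(k.hβ.unit⁻¹)) = k.γ * (k.β * ↑(k.hβ.unit⁻¹)) := by ring
    _ = k.γ := by rw [this, mul_one]

theorem isGen_σ : IsGen (CohB1.tensorPow L nn) k.V k.σ := by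
  unfold σ
  rw [isGen_smul_iff (k.he.gpow nn)]
  have hu : IsUnit (k.γ * ↑(k.hβ.unit⁻¹)) := IsUnit.mul (show IsUnit k.γ from k.hγ) (Units.isUnit _)
  rw [Scheme.basicOpen_of_isUnit _ hu]

theorem γ_spec : (u.gradedAt k.U k.hU k.V k.hV k.hle) k.g =
    (𝒮L.str.app (op k.V)).hom k.γ * (SymQ.jLin jL k.V k.e) ^ (k.j + nn) :=
  coeff_spec hj k.V k.hV k.e k.he.bij _ _

theorem β_spec : (u.gradedAt k.U k.hU k.V k.hV k.hle) k.h =
    (𝒮L.str.app (op k.V)).hom k.β * (SymQ.jLin jL k.V k.e) ^ k.j :=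
  coeff_spec hj k.V k.hV k.e k.he.bij _ _

theorem V_le_XTU_g : k.V ≤ XTU u k.U (k.j + nn) k.g := by
  have h1 := basicOpen_le_XTU hj u k.U k.g k.V k.hV k.hle k.e k.he k.γ k.γ_spec
  have hu : IsUnit k.γ := k.hγ
  rwa [Scheme.basicOpen_of_isUnit _ hu] at h1

theorem V_le_XTU_h : k.V ≤ XTU u k.U k.j k.h := by
  have h1 := basicOpen_le_XTU hj u k.U k.h k.V k.hV k.hle k.e k.he k.β k.β_spec
  have hu : IsUnit k.β := k.hβ
  rwa [Scheme.basicOpen_of_isUnit _ hu] at h1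

variable (pL chartL) in
/-- the open of `G(u)` over `V` -/
def WG : ((RelProj.domQ u pL chartL : PL.Opens) : Scheme.{u}).Opens :=
  ((RelProj.domQ u pL chartL).ι ≫ pL) ⁻¹ᵁ k.V

include hL hP hPL hr in
theorem WG_le : k.WG pL chartL ≤ r ⁻¹ᵁ WP p chart k.U k.hU k.g k.h := by
  intro w hw
  have hw' : pL w.1 ∈ k.V := hw
  have h1 := (mem_preimage_XTU_iff hL hj u hP hPL r hr k.U k.hU
    (Nat.add_pos_left k.hj0 nn) k.hg w).mp (k.V_le_XTU_g hw')
  have h2 := (mem_preimage_XTU_iff hL hj u hP hPL r hr k.U k.hU k.hj0 k.hh w).mp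
    (k.V_le_XTU_h hw')
  rw [range_stdChart] at h1 h2
  obtain ⟨y₁, hy₁, e₁⟩ := h1
  obtain ⟨y₂, hy₂, e₂⟩ := h2
  have : y₁ = y₂ := (RelProj.emb p chart k.U k.hU).isOpenEmbedding.injective (e₁.trans e₂.symm)
  subst this
  exact ⟨y₁, ⟨hy₁, hy₂⟩, e₁⟩

/-- the generator of `r^* O_P(n)` over `WG` -/
def mGen : Γ((Scheme.Modules.pullback r).obj On, k.WG pL chartL) :=
  rs _ (k.WG_le hL hP hPL r hr) (pbSec r On _ (eP hOn k.U k.hU k.g k.h k.hg k.hh k.hij))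

theorem isGen_mGen : IsGen ((Scheme.Modules.pullback r).obj On) (k.WG pL chartL)
    (k.mGen hL hP hPL r hr hOn) :=
  (isGen_pbSec r On _ _ ((isGen35_iff _ _ _).2
    (isGen_eP hOn k.U k.hU k.g k.h k.hg k.hh k.hij))).mono (k.WG_le hL hP hPL r hr)

variable (pL chartL) in
/-- the generator of the pulled back `L^n` over `WG` -/
def nGen : Γ((Scheme.Modules.pullback ((RelProj.domQ u pL chartL).ι ≫ pL)).obj
    (CohB1.tensorPow L nn), k.WG pL chartL) :=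
  pbSec ((RelProj.domQ u pL chartL).ι ≫ pL) (CohB1.tensorPow L nn) k.V k.σ

theorem isGen_nGen : IsGen ((Scheme.Modules.pullback ((RelProj.domQ u pL chartL).ι ≫ pL)).obj
    (CohB1.tensorPow L nn)) (k.WG pL chartL) (k.nGen pL chartL) :=
  isGen_pbSec _ _ _ _ k.isGen_σ

/-- coefficients of a restricted element with respect to another generator -/
theorem coeff_change (V'' : X.Opens) (hV'' : IsAffineOpen V'') (hVV : V'' ≤ k.V)
    (ε : Γ(L, V'')) (hε : IsGen L V'' ε) (w : Γ(X, V'')) (hw : rs L hVV k.e = w • ε)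
    {m : ℕ} (t : 𝒮L.presheaf.obj (op k.V)) (ht : t ∈ 𝒮L.deg k.V k.hV m) :
    coeff hj V'' hV'' ε hε.bij (resA 𝒮L hVV t) (𝒮L.map_mem k.hV hV'' hVV ht) =
      w ^ m * rr X hVV (coeff hj k.V k.hV k.e k.he.bij t ht) := by
  have he' : IsGen L V'' (rs L hVV k.e) := k.he.mono hVV
  have he'' : Function.Bijective (fun r : Γ(X, V'') => r • (w • ε)) := hw ▸ he'.bij
  have h1 := coeff_res hj k.hV hV'' hVV k.e k.he.bij he'.bij t ht
  have h2 := coeff_unit hj V'' hV'' ε hε.bij w he'' (resA 𝒮L hVV t)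
    (𝒮L.map_mem k.hV hV'' hVV ht)
  rw [← h2, ← h1]
  congr 1
  apply coeff_eq_of_eq
  have h3 := coeff_spec hj V'' hV'' (rs L hVV k.e) he'.bij (resA 𝒮L hVV t)
    (𝒮L.map_mem k.hV hV'' hVV ht)
  rw [show SymQ.jLin jL V'' (w • ε) = SymQ.jLin jL V'' (rs L hVV k.e) from
    congrArg (SymQ.jLin jL V'') hw.symm]
  exact h3

/-- the section `σ` read with another generator on a smaller affine -/
theorem σ_char (V'' : X.Opens) (hV'' : IsAffineOpen V'') (hVV : V'' ≤ k.V)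
    (ε : Γ(L, V'')) (hε : IsGen L V'' ε) :
    coeff hj V'' hV'' ε hε.bij
        (resA 𝒮L hVV ((u.gradedAt k.U k.hU k.V k.hV k.hle) k.h))
        (𝒮L.map_mem k.hV hV'' hVV ((u.gradedAt k.U k.hU k.V k.hV k.hle).map_mem k.hh)) •
      rs (CohB1.tensorPow L nn) hVV k.σ =
    coeff hj V'' hV'' ε hε.bij
        (resA 𝒮L hVV ((u.gradedAt k.U k.hU k.V k.hV k.hle) k.g))
        (𝒮L.map_mem k.hV hV'' hVV ((u.gradedAt k.U k.hU k.V k.hV k.hle).map_mem k.hg)) •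
      gpow ε nn := by
  obtain ⟨w, hw⟩ := hε.exists_eq_smul (rs L hVV k.e)
  rw [k.coeff_change V'' hV'' hVV ε hε w hw, k.coeff_change V'' hV'' hVV ε hε w hw]
  change (w ^ k.j * rr X hVV k.β) • rs (CohB1.tensorPow L nn) hVV k.σ =
    (w ^ (k.j + nn) * rr X hVV k.γ) • gpow ε nn
  rw [mul_smul, ← rs_smul, k.β_smul_σ, rs_smul, rs_gpow, hw, gpow_smul, ← mul_smul, ← mul_smul]
  congr 1
  rw [pow_add]
  ring

end Idx

end Groth.Agent.Lib.Helper74.RLTw
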