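import Groth.Agent.Lib.Helper74.RLTw4

set_option autoImplicit false
set_option linter.style.haveILetI false
universe u

open CategoryTheory CategoryTheory.Limits AlgebraicGeometry TopologicalSpace Opposite
open scoped HomogeneousIdeal
open HomogeneousLocalization

noncomputable section

namespace Groth.Agent.Lib.Helper74.RLTw

open Groth.Agent.Lib.Helper74.QMap Groth.Agent.Lib.Helper74.QMapImm
open Groth.Agent.Lib.Helper74.QMapImmU Groth.Agent.Lib.Helper74.InvSym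
open Groth.Agent.Lib.Helper74.TwistNat
open Groth.Agent.Lib.Helper35.Gen Groth.Agent.Lib.Helper35.RL Groth.Agent.Lib.Helper35.PbInv

/-- transition functions of pulled back generators -/
theorem pb_transition {A B : Scheme.{u}} (f : A ⟶ B) (N : B.Modules) {V₁ V₂ : B.Opens}
    (s₁ : Γ(N, V₁)) (s₂ : Γ(N, V₂)) (c : Γ(B, V₁ ⊓ V₂))
    (hc : rs N inf_le_left s₁ = c • rs N inf_le_right s₂)
    {W₁ W₂ : A.Opens} (hW₁ : W₁ ≤ f ⁻¹ᵁ V₁) (hW₂ : W₂ ≤ f ⁻¹ᵁ V₂)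
    (hW : W₁ ⊓ W₂ ≤ f ⁻¹ᵁ (V₁ ⊓ V₂)) :
    rs _ (inf_le_left : W₁ ⊓ W₂ ≤ W₁) (rs _ hW₁ (pbSec f N V₁ s₁)) =
      rr A hW ((f.app (V₁ ⊓ V₂)).hom c) •
        rs _ (inf_le_right : W₁ ⊓ W₂ ≤ W₂) (rs _ hW₂ (pbSec f N V₂ s₂)) := by
  have e1 : rs _ (inf_le_left : W₁ ⊓ W₂ ≤ W₁) (rs _ hW₁ (pbSec f N V₁ s₁)) =
      rs _ hW (pbSec f N (V₁ ⊓ V₂) (rs N inf_le_left s₁)) := by
    rw [rs_rs, ← pbSec_rs f N inf_le_left s₁, rs_rs]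
  have e2 : rs _ (inf_le_right : W₁ ⊓ W₂ ≤ W₂) (rs _ hW₂ (pbSec f N V₂ s₂)) =
      rs _ hW (pbSec f N (V₁ ⊓ V₂) (rs N inf_le_right s₂)) := by
    rw [rs_rs, ← pbSec_rs f N inf_le_right s₂, rs_rs]
  rw [e1, e2, hc, pbSec_smul, rs_smul]

/-- functions agreeing locally are equal -/
theorem fun_ext_of_locally (G : Scheme.{u}) {W : G.Opens} (a b : Γ(G, W))
    (h : ∀ x ∈ W, ∃ (W' : G.Opens) (hW' : W' ≤ W), x ∈ W' ∧ rr G hW' a = rr G hW' b) : a = b := by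
  choose W' hW' hx hst using h
  refine G.sheaf.eq_of_locally_eq' (fun x : W => W' x.1 x.2) W (fun x => homOfLE (hW' x.1 x.2)) ?_ a b
    (fun x => hst x.1 x.2)
  intro x hxW
  exact Opens.mem_iSup.mpr ⟨⟨x, hxW⟩, hx x hxW⟩

variable {Y X P PL : Scheme.{u}} {q : X ⟶ Y}
  {L : X.Modules} (hL : PicF.IsInvertible L) [hLq : L.IsQuasicoherent]
  {𝒮 : RelProj.QCGrAlg Y} {𝒮L : RelProj.QCGrAlg X} {jL : L ⟶ 𝒮L.toModule}
  (hj : RelProj.IsGrSymAlg L 𝒮L jL)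
  (u : RelProj.QGrHom q 𝒮 𝒮L)
  {p : P ⟶ Y} {chart : ∀ (U : Y.Opens) (hU : IsAffineOpen U),
    (((p ⁻¹ᵁ U : P.Opens) : Scheme.{u}) ≅ Proj (𝒮.deg U hU))}
  (hP : RelProj.IsRelProj 𝒮 p chart)
  {pL : PL ⟶ X} {chartL : ∀ (U : X.Opens) (hU : IsAffineOpen U),
    (((pL ⁻¹ᵁ U : PL.Opens) : Scheme.{u}) ≅ Proj (𝒮L.deg U hU))}
  (hPL : RelProj.IsRelProj 𝒮L pL chartL)
  (r : ((RelProj.domQ u pL chartL : PL.Opens) : Scheme.{u}) ⟶ P)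
  (hr : RelProj.IsProjQMapOn u p chart pL chartL (RelProj.domQ u pL chartL) r)
  (nn : ℕ) {On : P.Modules}
  {lamn : ∀ (U : Y.Opens) (hU : IsAffineOpen U), On ⟶ GTw p chart (nn : ℤ) U hU}
  (hOn : RelProj.IsRelTwist 𝒮 p chart (nn : ℤ) On lamn)

include hj in
/-- an element with unit coefficient vanishes nowhere -/
theorem mem_basicOpen_of_isUnit_coeff (V : X.Opens) (hV : IsAffineOpen V) (e : Γ(L, V))
    (he : IsGen L V e) {m : ℕ} (hm : 0 < m) (t : 𝒮L.presheaf.obj (op V))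
    (ht : t ∈ 𝒮L.deg V hV m) (hc : IsUnit (coeff hj V hV e he.bij t ht))
    (y : Proj (𝒮L.deg V hV)) : y ∈ Proj.basicOpen (𝒮L.deg V hV) t := by
  apply mem_basicOpen_of_deg_le_span' hj V hV hm
  intro b hb
  obtain ⟨c', rfl⟩ := exists_coeff hj V hV e he.bij hb
  obtain ⟨a, ha⟩ := hc.exists_right_inv
  have h1 := coeff_spec hj V hV e he.bij t ht
  rw [SetLike.mem_coe, Ideal.mem_span_singleton]
  refine ⟨(𝒮L.str.app (op V)).hom (a * c'), ?_⟩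
  rw [h1]
  have h2 : (𝒮L.str.app (op V)).hom (coeff hj V hV e he.bij t ht) *
      (𝒮L.str.app (op V)).hom (a * c') = (𝒮L.str.app (op V)).hom c' := by
    rw [← map_mul, ← mul_assoc, ha, one_mul]
  calc (𝒮L.str.app (op V)).hom c' * SymQ.jLin jL V e ^ m
      = ((𝒮L.str.app (op V)).hom (coeff hj V hV e he.bij t ht) *
          (𝒮L.str.app (op V)).hom (a * c')) * SymQ.jLin jL V e ^ m := by rw [h2]
    _ = _ := by ring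

variable {hj u nn}

namespace Idx

variable (k : Idx (q := q) hj u nn)

theorem mem_basicOpen_g (V'' : X.Opens) (hV'' : IsAffineOpen V'') (hVV : V'' ≤ k.V)
    (y : Proj (𝒮L.deg V'' hV'')) :
    y ∈ Proj.basicOpen (𝒮L.deg V'' hV'')
      (resA 𝒮L hVV ((u.gradedAt k.U k.hU k.V k.hV k.hle) k.g)) := by
  have he' : IsGen L V'' (rs L hVV k.e) := k.he.mono hVV
  refine mem_basicOpen_of_isUnit_coeff hj V'' hV'' _ he' (Nat.add_pos_left k.hj0 nn) _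
    (𝒮L.map_mem k.hV hV'' hVV ((u.gradedAt k.U k.hU k.V k.hV k.hle).map_mem k.hg)) ?_ y
  rw [coeff_res hj k.hV hV'' hVV k.e k.he.bij he'.bij]
  exact (show IsUnit k.γ from k.hγ).map (rr X hVV)

theorem mem_basicOpen_h (V'' : X.Opens) (hV'' : IsAffineOpen V'') (hVV : V'' ≤ k.V)
    (y : Proj (𝒮L.deg V'' hV'')) :
    y ∈ Proj.basicOpen (𝒮L.deg V'' hV'')
      (resA 𝒮L hVV ((u.gradedAt k.U k.hU k.V k.hV k.hle) k.h)) := by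
  have he' : IsGen L V'' (rs L hVV k.e) := k.he.mono hVV
  refine mem_basicOpen_of_isUnit_coeff hj V'' hV'' _ he' k.hj0 _
    (𝒮L.map_mem k.hV hV'' hVV ((u.gradedAt k.U k.hU k.V k.hV k.hle).map_mem k.hh)) ?_ y
  rw [coeff_res hj k.hV hV'' hVV k.e k.he.bij he'.bij]
  exact (show IsUnit k.β from k.hβ).map (rr X hVV)

end Idx

section trans

variable (k₁ k₂ : Idx (q := q) hj u nn)

include hP hPL hr hOn in
/-- the two transition functions agree -/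
theorem key_eq
    (c_X : Γ(X, k₁.V ⊓ k₂.V))
    (hcX : rs (CohB1.tensorPow L nn) inf_le_left k₁.σ =
      c_X • rs (CohB1.tensorPow L nn) inf_le_right k₂.σ)
    (c_P : Γ(P, WP p chart k₁.U k₁.hU k₁.g k₁.h ⊓ WP p chart k₂.U k₂.hU k₂.g k₂.h))
    (hcP : rs On inf_le_left (eP hOn k₁.U k₁.hU k₁.g k₁.h k₁.hg k₁.hh k₁.hij) =
      c_P • rs On inf_le_right (eP hOn k₂.U k₂.hU k₂.g k₂.h k₂.hg k₂.hh k₂.hij))
    (hW : k₁.WG pL chartL ⊓ k₂.WG pL chartL ≤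
      ((RelProj.domQ u pL chartL).ι ≫ pL) ⁻¹ᵁ (k₁.V ⊓ k₂.V))
    (hWP : k₁.WG pL chartL ⊓ k₂.WG pL chartL ≤
      r ⁻¹ᵁ (WP p chart k₁.U k₁.hU k₁.g k₁.h ⊓ WP p chart k₂.U k₂.hU k₂.g k₂.h)) :
    rr _ hWP ((r.app _).hom c_P) =
      rr _ hW ((((RelProj.domQ u pL chartL).ι ≫ pL).app (k₁.V ⊓ k₂.V)).hom c_X) := by
  refine fun_ext_of_locally _ _ _ fun w hw => ?_
  -- the points
  have hx₁ : pL w.1 ∈ k₁.V := hw.1
  have hx₂ : pL w.1 ∈ k₂.V := hw.2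
  have hy₁ : q (pL w.1) ∈ k₁.U := k₁.hle hx₁
  have hy₂ : q (pL w.1) ∈ k₂.U := k₂.hle hx₂
  obtain ⟨_, ⟨U'', hU'', rfl⟩, hyU'', hU''le⟩ :=
    (Y.isBasis_affineOpens).exists_subset_of_mem_open
      (show q (pL w.1) ∈ k₁.U ⊓ k₂.U from ⟨hy₁, hy₂⟩) (k₁.U ⊓ k₂.U).isOpen
  obtain ⟨_, ⟨V'', hV'', rfl⟩, hxV'', hV''le⟩ :=
    (X.isBasis_affineOpens).exists_subset_of_mem_open
      (show pL w.1 ∈ (k₁.V ⊓ k₂.V) ⊓ q ⁻¹ᵁ U'' from ⟨⟨hx₁, hx₂⟩, hyU''⟩)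
      ((k₁.V ⊓ k₂.V) ⊓ q ⁻¹ᵁ U'').isOpen
  have hle₁ : U'' ≤ k₁.U := fun z hz => (hU''le hz).1
  have hle₂ : U'' ≤ k₂.U := fun z hz => (hU''le hz).2
  have hVV : V'' ≤ k₁.V ⊓ k₂.V := fun z hz => (hV''le hz).1
  have hVV₁ : V'' ≤ k₁.V := fun z hz => (hV''le hz).1.1
  have hVV₂ : V'' ≤ k₂.V := fun z hz => (hV''le hz).1.2
  have hleV : V'' ≤ q ⁻¹ᵁ U'' := fun z hz => (hV''le hz).2
  -- the generator and coefficients
  set ε : Γ(L, V'') := rs L hVV₁ k₁.e with hε_def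
  have hε : IsGen L V'' ε := k₁.he.mono hVV₁
  set c : Γ(X, V'') := rr X hVV c_X with hc_def
  have hcX' : rs (CohB1.tensorPow L nn) hVV₁ k₁.σ = c • rs (CohB1.tensorPow L nn) hVV₂ k₂.σ := by
    have := congrArg (rs (CohB1.tensorPow L nn) hVV) hcX
    rwa [rs_rs, rs_smul, rs_rs] at this
  have hs₁ := k₁.σ_char V'' hV'' hVV₁ ε hε
  have hs₂ := k₂.σ_char V'' hV'' hVV₂ ε hε
  set b₁ := coeff hj V'' hV'' ε hε.bij
        (resA 𝒮L hVV₁ ((u.gradedAt k₁.U k₁.hU k₁.V k₁.hV k₁.hle) k₁.h))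
        (𝒮L.map_mem k₁.hV hV'' hVV₁ ((u.gradedAt k₁.U k₁.hU k₁.V k₁.hV k₁.hle).map_mem k₁.hh))
    with hb₁
  set a₁ := coeff hj V'' hV'' ε hε.bij
        (resA 𝒮L hVV₁ ((u.gradedAt k₁.U k₁.hU k₁.V k₁.hV k₁.hle) k₁.g))
        (𝒮L.map_mem k₁.hV hV'' hVV₁ ((u.gradedAt k₁.U k₁.hU k₁.V k₁.hV k₁.hle).map_mem k₁.hg))
    with ha₁
  set b₂ := coeff hj V'' hV'' ε hε.bij
        (resA 𝒮L hVV₂ ((u.gradedAt k₂.U k₂.hU k₂.V k₂.hV k₂.hle) k₂.h))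
        (𝒮L.map_mem k₂.hV hV'' hVV₂ ((u.gradedAt k₂.U k₂.hU k₂.V k₂.hV k₂.hle).map_mem k₂.hh))
    with hb₂
  set a₂ := coeff hj V'' hV'' ε hε.bij
        (resA 𝒮L hVV₂ ((u.gradedAt k₂.U k₂.hU k₂.V k₂.hV k₂.hle) k₂.g))
        (𝒮L.map_mem k₂.hV hV'' hVV₂ ((u.gradedAt k₂.U k₂.hU k₂.V k₂.hV k₂.hle).map_mem k₂.hg))
    with ha₂
  have hrel : b₁ * c * a₂ = a₁ * b₂ := by
    apply (hε.gpow nn).smul_injective
    calc (b₁ * c * a₂) • gpow ε nn = (b₁ * c) • (a₂ • gpow ε nn) := by rw [mul_smul]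
      _ = (b₁ * c) • (b₂ • rs (CohB1.tensorPow L nn) hVV₂ k₂.σ) := by rw [hs₂]
      _ = b₂ • (b₁ • (c • rs (CohB1.tensorPow L nn) hVV₂ k₂.σ)) := by
        rw [← mul_smul, ← mul_smul, ← mul_smul]; congr 1; ring
      _ = b₂ • (a₁ • gpow ε nn) := by rw [← hcX', hs₁]
      _ = (a₁ * b₂) • gpow ε nn := by rw [← mul_smul]; congr 1; ring
  -- the four specs
  have sp_b₁ : resA 𝒮L hVV₁ ((u.gradedAt k₁.U k₁.hU k₁.V k₁.hV k₁.hle) k₁.h) =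
      (𝒮L.str.app (op V'')).hom b₁ * SymQ.jLin jL V'' ε ^ k₁.j :=
    coeff_spec hj V'' hV'' ε hε.bij _
      (𝒮L.map_mem k₁.hV hV'' hVV₁ ((u.gradedAt k₁.U k₁.hU k₁.V k₁.hV k₁.hle).map_mem k₁.hh))
  have sp_a₁ : resA 𝒮L hVV₁ ((u.gradedAt k₁.U k₁.hU k₁.V k₁.hV k₁.hle) k₁.g) =
      (𝒮L.str.app (op V'')).hom a₁ * SymQ.jLin jL V'' ε ^ (k₁.j + nn) :=
    coeff_spec hj V'' hV'' ε hε.bij _
      (𝒮L.map_mem k₁.hV hV'' hVV₁ ((u.gradedAt k₁.U k₁.hU k₁.V k₁.hV k₁.hle).map_mem k₁.hg))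
  have sp_b₂ : resA 𝒮L hVV₂ ((u.gradedAt k₂.U k₂.hU k₂.V k₂.hV k₂.hle) k₂.h) =
      (𝒮L.str.app (op V'')).hom b₂ * SymQ.jLin jL V'' ε ^ k₂.j :=
    coeff_spec hj V'' hV'' ε hε.bij _
      (𝒮L.map_mem k₂.hV hV'' hVV₂ ((u.gradedAt k₂.U k₂.hU k₂.V k₂.hV k₂.hle).map_mem k₂.hh))
  have sp_a₂ : resA 𝒮L hVV₂ ((u.gradedAt k₂.U k₂.hU k₂.V k₂.hV k₂.hle) k₂.g) =
      (𝒮L.str.app (op V'')).hom a₂ * SymQ.jLin jL V'' ε ^ (k₂.j + nn) :=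
    coeff_spec hj V'' hV'' ε hε.bij _
      (𝒮L.map_mem k₂.hV hV'' hVV₂ ((u.gradedAt k₂.U k₂.hU k₂.V k₂.hV k₂.hle).map_mem k₂.hg))
  have gr_h₁ := gradedAt_res u k₁.hU hU'' hle₁ k₁.hV hV'' hVV₁ k₁.hle hleV k₁.h
  have gr_g₁ := gradedAt_res u k₁.hU hU'' hle₁ k₁.hV hV'' hVV₁ k₁.hle hleV k₁.g
  have gr_h₂ := gradedAt_res u k₂.hU hU'' hle₂ k₂.hV hV'' hVV₂ k₂.hle hleV k₂.h
  have gr_g₂ := gradedAt_res u k₂.hU hU'' hle₂ k₂.hV hV'' hVV₂ k₂.hle hleV k₂.g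
  have hc : (𝒮L.str.app (op V'')).hom c *
        ((u.gradedAt U'' hU'' V'' hV'' hleV) (𝒮.res k₁.hU hU'' hle₁ k₁.h) *
          (u.gradedAt U'' hU'' V'' hV'' hleV) (𝒮.res k₂.hU hU'' hle₂ k₂.g)) =
      (u.gradedAt U'' hU'' V'' hV'' hleV) (𝒮.res k₁.hU hU'' hle₁ k₁.g) *
        (u.gradedAt U'' hU'' V'' hV'' hleV) (𝒮.res k₂.hU hU'' hle₂ k₂.h) := by
    rw [gr_h₁, gr_g₁, gr_h₂, gr_g₂]
    change (𝒮L.str.app (op V'')).hom c *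
      (resA 𝒮L hVV₁ ((u.gradedAt k₁.U k₁.hU k₁.V k₁.hV k₁.hle) k₁.h) *
        resA 𝒮L hVV₂ ((u.gradedAt k₂.U k₂.hU k₂.V k₂.hV k₂.hle) k₂.g)) =
      resA 𝒮L hVV₁ ((u.gradedAt k₁.U k₁.hU k₁.V k₁.hV k₁.hle) k₁.g) *
        resA 𝒮L hVV₂ ((u.gradedAt k₂.U k₂.hU k₂.V k₂.hV k₂.hle) k₂.h)
    rw [sp_b₁, sp_a₂, sp_a₁, sp_b₂]
    have h3 := congrArg (𝒮L.str.app (op V'')).hom hrel
    rw [map_mul, map_mul, map_mul] at h3
    rw [pow_add, pow_add]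
    linear_combination (SymQ.jLin jL V'' ε ^ k₁.j * SymQ.jLin jL V'' ε ^ k₂.j *
      SymQ.jLin jL V'' ε ^ nn) * h3
  have hD : 0 < (k₁.j + nn) + k₁.j + ((k₂.j + nn) + k₂.j) := by have := k₁.hj0; omega
  obtain ⟨h1, h2, heq⟩ := chart_compare u hP hPL r hr hOn k₁.U k₁.hU k₁.g k₁.h k₁.hg k₁.hh k₁.hij
    k₂.U k₂.hU k₂.g k₂.h k₂.hg k₂.hh k₂.hij hU'' hle₁ hle₂ V'' hV'' hleV c_P hcP c hc hD
  have hW' : (T (pL := pL) (chartL := chartL) u U'' hU'' V'' hV'' hleV hD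
      (FF_mem k₁.U k₁.hU k₁.g k₁.h k₁.hg k₁.hh k₂.U k₂.hU k₂.g k₂.h k₂.hg k₂.hh
        hU'' hle₁ hle₂)).opensRange ≤ k₁.WG pL chartL ⊓ k₂.WG pL chartL :=
    fun z hz => ⟨hVV₁ (h2 hz), hVV₂ (h2 hz)⟩
  refine ⟨_, hW', ?_, ?_⟩
  · -- the point lies in the chart
    have hwV : w.1 ∈ pL ⁻¹ᵁ V'' := hxV''
    obtain ⟨y, hy⟩ := RelConeProj.exists_emb_eq (pC := pL) (chartC := chartL) V'' hV'' w.1 hwV
    have m1 := k₁.mem_basicOpen_g V'' hV'' hVV₁ y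
    have m2 := k₁.mem_basicOpen_h V'' hV'' hVV₁ y
    have m3 := k₂.mem_basicOpen_g V'' hV'' hVV₂ y
    have m4 := k₂.mem_basicOpen_h V'' hV'' hVV₂ y
    have n1 := (Proj.mem_basicOpen _ _ y).1 m1
    have n2 := (Proj.mem_basicOpen _ _ y).1 m2
    have n3 := (Proj.mem_basicOpen _ _ y).1 m3
    have n4 := (Proj.mem_basicOpen _ _ y).1 m4
    have hyF : y ∈ Proj.basicOpen (𝒮L.deg V'' hV'') ((u.gradedAt U'' hU'' V'' hV'' hleV)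
        (FF k₁.U k₁.hU k₁.g k₁.h k₂.U k₂.hU k₂.g k₂.h hU'' hle₁ hle₂)) := by
      rw [Proj.mem_basicOpen]
      simp only [FF, map_mul]
      rw [gr_h₁, gr_g₁, gr_h₂, gr_g₂]
      intro hm
      rcases y.isPrime.mem_or_mem hm with hm | hm
      · rcases y.isPrime.mem_or_mem hm with hm | hm
        · exact n1 hm
        · exact n2 hm
      · rcases y.isPrime.mem_or_mem hm with hm | hm
        · exact n3 hm
        · exact n4 hm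
    have hyF' : y ∈ (Proj.awayι (𝒮L.deg V'' hV'') _ ((u.gradedAt U'' hU'' V'' hV'' hleV).map_mem
      (FF_mem k₁.U k₁.hU k₁.g k₁.h k₁.hg k₁.hh k₂.U k₂.hU k₂.g k₂.h k₂.hg k₂.hh
        hU'' hle₁ hle₂)) hD).opensRange := by
      rw [Proj.opensRange_awayι]
      exact hyF
    obtain ⟨ξ, hξ⟩ := hyF'
    refine ⟨ξ, ?_⟩
    apply Subtype.ext
    have h5 := congrArg (fun ψ => (ψ : _ ⟶ PL) ξ) (T_ι (pL := pL) (chartL := chartL) u U'' hU'' V'' hV'' hleV hD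
      (FF_mem k₁.U k₁.hU k₁.g k₁.h k₁.hg k₁.hh k₂.U k₂.hU k₂.g k₂.h k₂.hg k₂.hh
        hU'' hle₁ hle₂))
    refine Eq.trans ?_ (h5.trans ?_)
    · rfl
    · rw [← hy, ← hξ]
      rfl
  · rw [rr_rr, rr_rr]
    refine Eq.trans ?_ (heq.trans ?_)
    · rfl
    · have hnat : (((RelProj.domQ u pL chartL).ι ≫ pL).app V'').hom c =
          rr _ (((RelProj.domQ u pL chartL).ι ≫ pL).preimage_mono hVV)
            ((((RelProj.domQ u pL chartL).ι ≫ pL).app (k₁.V ⊓ k₂.V)).hom c_X) :=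
        congr($(((RelProj.domQ u pL chartL).ι ≫ pL).naturality (homOfLE hVV).op).hom c_X)
      rw [hnat]
      exact rr_rr _ _ _

include hL hP hPL hr hOn in
/-- the cocycle relation between the two families of generators -/
theorem transition :
    ∃ uu : Γ(((RelProj.domQ u pL chartL : PL.Opens) : Scheme.{u}),
        k₁.WG pL chartL ⊓ k₂.WG pL chartL),
      rs ((Scheme.Modules.pullback r).obj On) inf_le_left (k₁.mGen hL hP hPL r hr hOn) =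
        uu • rs ((Scheme.Modules.pullback r).obj On) inf_le_right (k₂.mGen hL hP hPL r hr hOn) ∧
      rs ((Scheme.Modules.pullback ((RelProj.domQ u pL chartL).ι ≫ pL)).obj
          (CohB1.tensorPow L nn)) inf_le_left (k₁.nGen pL chartL) =
        uu • rs ((Scheme.Modules.pullback ((RelProj.domQ u pL chartL).ι ≫ pL)).obj
          (CohB1.tensorPow L nn)) inf_le_right (k₂.nGen pL chartL) := by
  obtain ⟨c_X, hcX⟩ := (k₂.isGen_σ.mono inf_le_right).exists_eq_smul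
    (rs (CohB1.tensorPow L nn) (inf_le_left : k₁.V ⊓ k₂.V ≤ k₁.V) k₁.σ)
  obtain ⟨c_P, hcP⟩ := (((isGen35_iff _ _ _).2
    (isGen_eP hOn k₂.U k₂.hU k₂.g k₂.h k₂.hg k₂.hh k₂.hij)).mono inf_le_right).exists_eq_smul
    (rs On (inf_le_left : WP p chart k₁.U k₁.hU k₁.g k₁.h ⊓ WP p chart k₂.U k₂.hU k₂.g k₂.h ≤ _)
      (eP hOn k₁.U k₁.hU k₁.g k₁.h k₁.hg k₁.hh k₁.hij))
  have hW : k₁.WG pL chartL ⊓ k₂.WG pL chartL ≤
      ((RelProj.domQ u pL chartL).ι ≫ pL) ⁻¹ᵁ (k₁.V ⊓ k₂.V) := fun w hw => ⟨hw.1, hw.2⟩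
  have hWP : k₁.WG pL chartL ⊓ k₂.WG pL chartL ≤
      r ⁻¹ᵁ (WP p chart k₁.U k₁.hU k₁.g k₁.h ⊓ WP p chart k₂.U k₂.hU k₂.g k₂.h) :=
    fun w hw => ⟨k₁.WG_le hL hP hPL r hr hw.1, k₂.WG_le hL hP hPL r hr hw.2⟩
  have hkey := key_eq hP hPL r hr hOn k₁ k₂ c_X hcX c_P hcP hW hWP
  refine ⟨rr _ hW ((((RelProj.domQ u pL chartL).ι ≫ pL).app (k₁.V ⊓ k₂.V)).hom c_X), ?_, ?_⟩
  · have h1 := pb_transition r On _ _ c_P hcP (k₁.WG_le hL hP hPL r hr)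
      (k₂.WG_le hL hP hPL r hr) hWP
    rw [hkey] at h1
    exact h1
  · have h1 := pb_transition ((RelProj.domQ u pL chartL).ι ≫ pL) (CohB1.tensorPow L nn) _ _ c_X hcX
      (le_refl (((RelProj.domQ u pL chartL).ι ≫ pL) ⁻¹ᵁ k₁.V))
      (le_refl (((RelProj.domQ u pL chartL).ι ≫ pL) ⁻¹ᵁ k₂.V)) hW
    rw [rs_self, rs_self] at h1
    exact h1

end trans

end Groth.Agent.Lib.Helper74.RLTw
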