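import Groth.Agent.Lib.Helper74.RLTw5
import Groth.Agent.Lib.Helper35.TwistExt
import Groth.Agent.Lib.Helper35.GlobGen2
import Groth.Agent.Lib.Lead.Inv6

set_option autoImplicit false
set_option linter.style.haveILetI false
universe u

open CategoryTheory CategoryTheory.Limits AlgebraicGeometry TopologicalSpace Opposite
open scoped HomogeneousIdeal
open HomogeneousLocalization

noncomputable section

namespace Groth.Agent.Lib.Helper74.RLTw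

open Groth.Agent.Lib.Helper74.QMap Groth.Agent.Lib.Helper74.QMapImm
open Groth.Agent.Lib.Helper74.QMapImmU Groth.Agent.Lib.Helper74.InvSym
open Groth.Agent.Lib.Helper74.TwistNat
open Groth.Agent.Lib.Helper35.Gen Groth.Agent.Lib.Helper35.RL Groth.Agent.Lib.Helper35.PbInv
open Groth.Agent.Lib.Helper35.Ample Groth.Agent.Lib.Helper60.TensorLib

/-- on a scheme with an ample invertible module, at each point there are sections of `L^j` and
`L^(nn + j)` (some `j > 0`) generating at the point -/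
theorem exists_sections {Z : Scheme.{u}} {L : Z.Modules} (hA : CohB1.IsAmple L) (x : Z) (nn : ℕ) :
    ∃ (j : ℕ) (_ : 0 < j) (σh : Coh.structureModule Z ⟶ CohB1.tensorPow L j)
      (σg : Coh.structureModule Z ⟶ CohB1.tensorPow L (nn + j)),
      x ∈ CohB1.genLocus _ σh ∧ x ∈ CohB1.genLocus _ σg := by
  obtain ⟨hL, hcpt, hA'⟩ := hA
  haveI := hcpt
  haveI : QuasiSeparatedSpace Z := quasiSeparatedSpace_of_cover_genLocus hL hA'
  obtain ⟨m, σ₀, hxσ, haff⟩ := hA' x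
  have hB : PicF.IsInvertible (CohB1.tensorPow L (m + 1)) := isInvertible_tensorPow hL (m + 1)
  have hM : PicF.IsInvertible (CohB1.tensorPow L nn) := isInvertible_tensorPow hL nn
  set U₀ : Z.Opens := CohB1.genLocus _ σ₀ with hU₀
  haveI : IsAffine (U₀ : Scheme.{u}) := haff
  have hM' : PicF.IsInvertible ((CohB1.tensorPow L nn).restrict U₀.ι) :=
    Groth.Agent.Lib.Helper35.ModRestrict.isInvertible_restrict _ _ hM
  haveI : ((CohB1.tensorPow L nn).restrict U₀.ι).IsQuasicoherent :=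
    isQuasicoherent_of_isInvertible hM'
  have hg := Groth.Agent.Lib.Helper35.GlobGen.isGloballyGenerated_of_isQuasiAffine
    ((CohB1.tensorPow L nn).restrict U₀.ι)
  obtain ⟨s₁, hs₁⟩ := Groth.Agent.Lib.Helper35.GlobGen2.exists_section_of_isGloballyGenerated hM' hg
    (⟨x, hxσ⟩ : (U₀ : Scheme.{u}))
  obtain ⟨n₀, hn₀⟩ := Groth.Agent.Lib.Helper35.TwistExt.exists_twist_section hM hB σ₀ U₀ rfl s₁
  obtain ⟨τ, hτ⟩ := hn₀ (n₀ + 1) (Nat.le_succ n₀)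
  obtain ⟨e_mul⟩ := Groth.Agent.Lib.Lead.Inv.nonempty_tensorPow_mul hL (m + 1) (n₀ + 1)
  obtain ⟨e_add⟩ := Groth.Agent.Lib.Lead.Inv.nonempty_tensorPow_add hL nn ((m + 1) * (n₀ + 1))
  refine ⟨(m + 1) * (n₀ + 1), Nat.mul_pos (Nat.succ_pos m) (Nat.succ_pos n₀),
    Groth.Agent.Lib.Lead.Inv.secPow σ₀ (n₀ + 1) ≫ e_mul.hom,
    τ ≫ (tensorModCongrRight (CohB1.tensorPow L nn) e_mul ≪≫ e_add.symm).hom, ?_, ?_⟩
  · rw [genLocus_comp_iso, Groth.Agent.Lib.Lead.Inv.genLocus_secPow hB]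
    exact hxσ
  · rw [genLocus_comp_iso, hτ]
    exact ⟨⟨x, hxσ⟩, hs₁, rfl⟩

variable {Y X P PL : Scheme.{u}} {q : X ⟶ Y}
  {L : X.Modules} (hL : PicF.IsInvertible L) [hLq : L.IsQuasicoherent]
  {𝒮 : RelProj.QCGrAlg Y} {𝒮L : RelProj.QCGrAlg X} {jL : L ⟶ 𝒮L.toModule}
  (hj : RelProj.IsGrSymAlg L 𝒮L jL)
  (u : RelProj.QGrHom q 𝒮 𝒮L)
  {p : P ⟶ Y} {chart : ∀ (U : Y.Opens) (hU : IsAffineOpen U),
    (((p ⁻¹ᵁ U : P.Opens) : Scheme.{u}) ≅ Proj (𝒮.deg U hU))}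
  (hP : RelProj.IsRelProj 𝒮 p chart)
  {pL : PL ⟶ X} {chartL : ∀ (U : X.Opens) (hU : IsAffineOpen U),
    (((pL ⁻¹ᵁ U : PL.Opens) : Scheme.{u}) ≅ Proj (𝒮L.deg U hU))}
  (hPL : RelProj.IsRelProj 𝒮L pL chartL)
  (r : ((RelProj.domQ u pL chartL : PL.Opens) : Scheme.{u}) ⟶ P)
  (hr : RelProj.IsProjQMapOn u p chart pL chartL (RelProj.domQ u pL chartL) r)
  (nn : ℕ)

include hL hj hP hPL hr in
/-- a point of `X_t` lying in a trivialising affine open lies in the unit locus of the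
coefficient of `t` -/
theorem mem_basicOpen_of_mem_XTU (U : Y.Opens) (hU : IsAffineOpen U) {n : ℕ} (hn : 0 < n)
    {s : 𝒮.presheaf.obj (op U)} (hs : s ∈ 𝒮.deg U hU n)
    (V : X.Opens) (hV : IsAffineOpen V) (hle : V ≤ q ⁻¹ᵁ U) (c : Γ(X, V))
    (t : 𝒮L.presheaf.obj (op V))
    (hc : (u.gradedAt U hU V hV hle) s = (𝒮L.str.app (op V)).hom c * t)
    (x : X) (hxV : x ∈ V) (hx : x ∈ XTU u U n s) : x ∈ X.basicOpen c := by
  haveI : IsIso pL := isIso_pL hj hL hPL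
  obtain ⟨w, hw⟩ : ∃ w, pL w = x :=
    ⟨(inv pL) x, by rw [← Scheme.Hom.comp_apply, IsIso.inv_hom_id]; rfl⟩
  have hwV : w ∈ pL ⁻¹ᵁ V := by
    change pL w ∈ V
    rw [hw]; exact hxV
  obtain ⟨y, hy⟩ := RelConeProj.exists_emb_eq (pC := pL) (chartC := chartL) V hV w hwV
  have h1 : pL (RelProj.emb pL chartL V hV y) ∈ XTU u U n s := by
    rw [hy, hw]; exact hx
  have hy' : RelProj.emb pL chartL V hV y ∈ RelProj.domQ u pL chartL :=
    preimage_XTU_le_domQ hL hj u hP hPL r hr U hU hn hs h1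
  have e2 := qmap_mem_range_stdChart_iff u hPL r hr U hU V hV hle hn s hs y hy'
  have e3 := mem_preimage_XTU_iff hL hj u hP hPL r hr U hU hn hs
    ⟨RelProj.emb pL chartL V hV y, hy'⟩
  have h2 : y ∈ Proj.basicOpen (𝒮L.deg V hV) ((u.gradedAt U hU V hV hle) s) := e2.mp (e3.mp h1)
  have h3 : y ∈ Proj.basicOpen (𝒮L.deg V hV) ((𝒮L.str.app (op V)).hom c) := by
    rw [Proj.mem_basicOpen] at h2 ⊢
    intro hm
    apply h2
    rw [hc]
    exact Ideal.mul_mem_right _ _ hm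
  have h4 := (emb_mem_basicOpen_iff hPL V hV c y).mpr h3
  rwa [hy, hw] at h4

variable {hj u nn}

include hL hP hPL hr in
/-- **the index opens cover** -/
theorem exists_idx (hu : ∀ (U : Y.Opens), IsAffineOpen U → Function.Bijective (u.app U).hom)
    (h : RelAmple.IsRelAmple q L) (x : X) : ∃ k : Idx (q := q) hj u nn, x ∈ k.V := by
  obtain ⟨U, hU, hxU, -⟩ := exists_isAffineOpen_mem_and_subset (x := q x) (U := ⊤) trivial
  have hxU' : x ∈ q ⁻¹ᵁ U := hxU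
  have hA := h.2 ⟨U, hU⟩
  obtain ⟨j, hj0, σh, σg, hxh, hxg⟩ := exists_sections hA (⟨x, hxU'⟩ : ((q ⁻¹ᵁ U : X.Opens) : Scheme.{u})) nn
  obtain ⟨hh, hhdeg, hXTh⟩ := exists_homog_of_section hL hj u hP hPL r hr U hU (hu U hU) hj0 σh
  have hgpos : 0 < nn + j := Nat.add_pos_right nn hj0
  obtain ⟨g, hgdeg, hXTg⟩ := exists_homog_of_section hL hj u hP hPL r hr U hU (hu U hU) hgpos σg
  have hxXh : x ∈ XTU u U j hh := by
    rw [hXTh]; exact ⟨⟨x, hxU'⟩, hxh, rfl⟩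
  have hxXg : x ∈ XTU u U (nn + j) g := by
    rw [hXTg]; exact ⟨⟨x, hxU'⟩, hxg, rfl⟩
  rw [Nat.add_comm nn j] at hxXg hgdeg hgpos
  -- a trivialising affine open
  obtain ⟨V₁, hV₁, hxV₁, e₁, he₁⟩ := exists_affine_isGen hL x
  obtain ⟨_, ⟨V₀, hV₀, rfl⟩, hxV₀, hV₀le⟩ :=
    (X.isBasis_affineOpens).exists_subset_of_mem_open
      (show x ∈ V₁ ⊓ q ⁻¹ᵁ U from ⟨hxV₁, hxU'⟩) (V₁ ⊓ q ⁻¹ᵁ U).isOpen
  have hV₀V₁ : V₀ ≤ V₁ := fun z hz => (hV₀le hz).1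
  have hle₀ : V₀ ≤ q ⁻¹ᵁ U := fun z hz => (hV₀le hz).2
  have he₀ : IsGen L V₀ (rs L hV₀V₁ e₁) := he₁.mono hV₀V₁
  set e₀ := rs L hV₀V₁ e₁ with he₀def
  set cg := coeff hj V₀ hV₀ e₀ he₀.bij ((u.gradedAt U hU V₀ hV₀ hle₀) g)
    ((u.gradedAt U hU V₀ hV₀ hle₀).map_mem hgdeg) with hcg
  set ch := coeff hj V₀ hV₀ e₀ he₀.bij ((u.gradedAt U hU V₀ hV₀ hle₀) hh)
    ((u.gradedAt U hU V₀ hV₀ hle₀).map_mem hhdeg) with hch
  have spg : (u.gradedAt U hU V₀ hV₀ hle₀) g =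
      (𝒮L.str.app (op V₀)).hom cg * SymQ.jLin jL V₀ e₀ ^ (j + nn) :=
    coeff_spec hj V₀ hV₀ e₀ he₀.bij _ _
  have sph : (u.gradedAt U hU V₀ hV₀ hle₀) hh =
      (𝒮L.str.app (op V₀)).hom ch * SymQ.jLin jL V₀ e₀ ^ j :=
    coeff_spec hj V₀ hV₀ e₀ he₀.bij _ _
  have hxcg : x ∈ X.basicOpen cg :=
    mem_basicOpen_of_mem_XTU hL hj u hP hPL r hr U hU hgpos hgdeg V₀ hV₀ hle₀ cg _ spg x hxV₀ hxXg
  have hxch : x ∈ X.basicOpen ch :=
    mem_basicOpen_of_mem_XTU hL hj u hP hPL r hr U hU hj0 hhdeg V₀ hV₀ hle₀ ch _ sph x hxV₀ hxXh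
  obtain ⟨_, ⟨V, hV, rfl⟩, hxV, hVle⟩ :=
    (X.isBasis_affineOpens).exists_subset_of_mem_open
      (show x ∈ X.basicOpen cg ⊓ X.basicOpen ch from ⟨hxcg, hxch⟩)
      (X.basicOpen cg ⊓ X.basicOpen ch).isOpen
  have hVcg : V ≤ X.basicOpen cg := fun z hz => (hVle hz).1
  have hVch : V ≤ X.basicOpen ch := fun z hz => (hVle hz).2
  have hVV : V ≤ V₀ := hVcg.trans (X.basicOpen_le cg)
  have hle : V ≤ q ⁻¹ᵁ U := hVV.trans hle₀
  have he : IsGen L V (rs L hVV e₀) := he₀.mono hVV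
  have ucg : IsUnit (rr X hVV cg) := by
    have h1 : IsUnit (rr X (X.basicOpen_le cg) cg) := RingedSpace.isUnit_res_basicOpen _ cg
    have h2 := h1.map (rr X hVcg)
    rwa [rr_rr] at h2
  have uch : IsUnit (rr X hVV ch) := by
    have h1 : IsUnit (rr X (X.basicOpen_le ch) ch) := RingedSpace.isUnit_res_basicOpen _ ch
    have h2 := h1.map (rr X hVch)
    rwa [rr_rr] at h2
  have eg : (u.gradedAt U hU V hV hle) g = resA 𝒮L hVV ((u.gradedAt U hU V₀ hV₀ hle₀) g) :=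
    congrArg (fun ψ => ψ.hom g) (u.appLE_map hle₀ hVV).symm
  have eh : (u.gradedAt U hU V hV hle) hh = resA 𝒮L hVV ((u.gradedAt U hU V₀ hV₀ hle₀) hh) :=
    congrArg (fun ψ => ψ.hom hh) (u.appLE_map hle₀ hVV).symm
  have cgV : coeff hj V hV (rs L hVV e₀) he.bij ((u.gradedAt U hU V hV hle) g)
      ((u.gradedAt U hU V hV hle).map_mem hgdeg) = rr X hVV cg := by
    apply coeff_eq_of_eq
    have h5 : coeff hj V hV (rs L hVV e₀) he.bij
        (resA 𝒮L hVV ((u.gradedAt U hU V₀ hV₀ hle₀) g))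
        (𝒮L.map_mem hV₀ hV hVV ((u.gradedAt U hU V₀ hV₀ hle₀).map_mem hgdeg)) = rr X hVV cg :=
      coeff_res hj hV₀ hV hVV e₀ he₀.bij he.bij _ _
    have h6 := coeff_spec hj V hV (rs L hVV e₀) he.bij
        (resA 𝒮L hVV ((u.gradedAt U hU V₀ hV₀ hle₀) g))
        (𝒮L.map_mem hV₀ hV hVV ((u.gradedAt U hU V₀ hV₀ hle₀).map_mem hgdeg))
    rw [h5] at h6
    rw [eg]
    exact h6
  have chV : coeff hj V hV (rs L hVV e₀) he.bij ((u.gradedAt U hU V hV hle) hh)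
      ((u.gradedAt U hU V hV hle).map_mem hhdeg) = rr X hVV ch := by
    apply coeff_eq_of_eq
    have h5 : coeff hj V hV (rs L hVV e₀) he.bij
        (resA 𝒮L hVV ((u.gradedAt U hU V₀ hV₀ hle₀) hh))
        (𝒮L.map_mem hV₀ hV hVV ((u.gradedAt U hU V₀ hV₀ hle₀).map_mem hhdeg)) = rr X hVV ch :=
      coeff_res hj hV₀ hV hVV e₀ he₀.bij he.bij _ _
    have h6 := coeff_spec hj V hV (rs L hVV e₀) he.bij
        (resA 𝒮L hVV ((u.gradedAt U hU V₀ hV₀ hle₀) hh))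
        (𝒮L.map_mem hV₀ hV hVV ((u.gradedAt U hU V₀ hV₀ hle₀).map_mem hhdeg))
    rw [h5] at h6
    rw [eh]
    exact h6
  exact ⟨⟨U, hU, V, hV, hle, j, hj0, g, hh, hgdeg, hhdeg, rs L hVV e₀, he,
    cgV ▸ ucg, chV ▸ uch⟩, hxV⟩

end Groth.Agent.Lib.Helper74.RLTw
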