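import Groth.Prelude.Def_RelSpec2
import Groth.Agent.Lib.Helper74.ChartOpens
import Groth.Agent.Lib.Helper5.ProjBasic

set_option autoImplicit false
universe u
open CategoryTheory CategoryTheory.Limits AlgebraicGeometry TopologicalSpace Opposite
open scoped HomogeneousIdeal

namespace Groth.Agent.Lib.Helper74.RelConeLib

theorem mem_vertexCompl_iff {R : CommRingCat.{u}} (𝒜 : ℕ → AddSubgroup R) [GradedRing 𝒜]
    (y : Spec R) :
    y ∈ RelCone.vertexCompl 𝒜 ↔ ∃ f ∈ (𝒜₊).toIdeal, f ∉ y.asIdeal := by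
  have e : y ∈ RelCone.vertexCompl 𝒜 ↔
      ¬ (((𝒜₊).toIdeal : Set R) ⊆ (y.asIdeal : Set R)) := Iff.rfl
  rw [e, Set.not_subset]
  simp only [SetLike.mem_coe]

variable {Y : Scheme.{u}} (𝒮 : RelProj.QCGrAlg Y)

/-- the image in the cone of the complement of the vertex in the chart over `U` -/
noncomputable def chartPointed (U : Y.Opens) (hU : IsAffineOpen U) : 𝒮.toQCAlg.spec.Opens :=
  (𝒮.toQCAlg.ι U hU) ''ᵁ RelCone.vertexCompl (𝒮.deg U hU)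

theorem pointedCone_eq :
    RelCone.pointedCone 𝒮 = ⨆ U : Y.affineOpens, chartPointed 𝒮 U.1 U.2 := rfl

theorem chartPointed_le (U : Y.Opens) (hU : IsAffineOpen U) :
    chartPointed 𝒮 U hU ≤ 𝒮.toQCAlg.π ⁻¹ᵁ U := by
  rw [𝒮.toQCAlg.π_preimage U hU]
  rintro _ ⟨y, -, rfl⟩
  exact ⟨y, rfl⟩

theorem ι_basicOpen (U : Y.Opens) (hU : IsAffineOpen U) (r : Γ(Y, U)) :
    Spec.map (𝒮.presheaf.map (homOfLE (Y.basicOpen_le r)).op) ≫ 𝒮.toQCAlg.ι U hU =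
      𝒮.toQCAlg.ι (Y.basicOpen r) (hU.basicOpen r) := by
  let U' : Y.AffineZariskiSite := ⟨U, hU⟩
  exact 𝒮.toQCAlg.ι_res (U := U') (V := U'.basicOpen r) (homOfLE (U'.basicOpen_le r))

theorem preimage_vertexCompl (U : Y.Opens) (hU : IsAffineOpen U) (r : Γ(Y, U)) :
    Spec.map (𝒮.presheaf.map (homOfLE (Y.basicOpen_le r)).op) ⁻¹ᵁ
        RelCone.vertexCompl (𝒮.deg U hU) =
      RelCone.vertexCompl (𝒮.deg (Y.basicOpen r) (hU.basicOpen r)) := by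
  refine TopologicalSpace.Opens.ext (Set.ext fun y => ?_)
  change Spec.map (𝒮.presheaf.map (homOfLE (Y.basicOpen_le r)).op) y ∈
    RelCone.vertexCompl (𝒮.deg U hU) ↔ y ∈ RelCone.vertexCompl (𝒮.deg _ (hU.basicOpen r))
  rw [mem_vertexCompl_iff, mem_vertexCompl_iff]
  constructor
  · rintro ⟨f, hf, hfy⟩
    exact ⟨𝒮.res hU (hU.basicOpen r) (Y.basicOpen_le r) f,
      Groth.Agent.Lib.Helper5.map_mem_irrelevant (𝒮.res hU (hU.basicOpen r) (Y.basicOpen_le r)) hf,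
      hfy⟩
  · rintro ⟨g, hg, hgy⟩
    by_contra H
    push_neg at H
    apply hgy
    have hle : ((𝒮.deg U hU)₊).toIdeal.map
        (𝒮.res hU (hU.basicOpen r) (Y.basicOpen_le r)).toRingHom ≤ y.asIdeal := by
      rw [Ideal.map_le_iff_le_comap]
      intro f hf
      exact H f hf
    exact hle (𝒮.irrelevant_le_map U hU r hg)

theorem chartPointed_basicOpen (U : Y.Opens) (hU : IsAffineOpen U) (r : Γ(Y, U)) :
    chartPointed 𝒮 (Y.basicOpen r) (hU.basicOpen r) =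
      chartPointed 𝒮 U hU ⊓ 𝒮.toQCAlg.π ⁻¹ᵁ (Y.basicOpen r) := by
  rw [𝒮.toQCAlg.π_preimage _ (hU.basicOpen r)]
  apply le_antisymm
  · rintro _ ⟨y, hy, rfl⟩
    refine ⟨?_, ⟨y, rfl⟩⟩
    rw [← preimage_vertexCompl 𝒮 U hU r] at hy
    refine ⟨Spec.map (𝒮.presheaf.map (homOfLE (Y.basicOpen_le r)).op) y, hy, ?_⟩
    rw [← ι_basicOpen 𝒮 U hU r]
    rfl
  · rintro _ ⟨⟨y, hy, rfl⟩, ⟨w, hw⟩⟩
    rw [← ι_basicOpen 𝒮 U hU r] at hw
    have hw' : 𝒮.toQCAlg.ι U hU (Spec.map (𝒮.presheaf.map (homOfLE (Y.basicOpen_le r)).op) w) =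
        𝒮.toQCAlg.ι U hU y := hw
    have hyw := (𝒮.toQCAlg.ι U hU).isOpenEmbedding.injective hw'
    refine ⟨w, ?_, ?_⟩
    · rw [← preimage_vertexCompl 𝒮 U hU r]
      change Spec.map (𝒮.presheaf.map (homOfLE (Y.basicOpen_le r)).op) w ∈
        RelCone.vertexCompl (𝒮.deg U hU)
      rw [hyw]
      exact hy
    · rw [← ι_basicOpen 𝒮 U hU r]
      exact hw'

theorem pointedCone_inf (V : Y.Opens) (hV : IsAffineOpen V) :
    RelCone.pointedCone 𝒮 ⊓ 𝒮.toQCAlg.π ⁻¹ᵁ V = chartPointed 𝒮 V hV :=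
  Groth.Agent.Lib.Helper74.ChartOpens.iSup_inf_eq 𝒮.toQCAlg.π (chartPointed_le 𝒮)
    (chartPointed_basicOpen 𝒮) V hV

theorem ι_mem_pointedCone_iff (V : Y.Opens) (hV : IsAffineOpen V)
    (y : Spec (𝒮.presheaf.obj (op V))) :
    𝒮.toQCAlg.ι V hV y ∈ RelCone.pointedCone 𝒮 ↔ y ∈ RelCone.vertexCompl (𝒮.deg V hV) := by
  have hmem : 𝒮.toQCAlg.ι V hV y ∈ 𝒮.toQCAlg.π ⁻¹ᵁ V := by
    rw [𝒮.toQCAlg.π_preimage V hV]
    exact ⟨y, rfl⟩
  rw [pointedCone_eq, Groth.Agent.Lib.Helper74.ChartOpens.mem_iSup_iff 𝒮.toQCAlg.π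
    (chartPointed_le 𝒮) (chartPointed_basicOpen 𝒮) V hV _ hmem]
  constructor
  · rintro ⟨w, hw, hwy⟩
    have := (𝒮.toQCAlg.ι V hV).isOpenEmbedding.injective hwy
    rw [← this]
    exact hw
  · intro hy
    exact ⟨y, hy, rfl⟩

/-- every point of the cone lies in a chart -/
theorem exists_chart (x : 𝒮.toQCAlg.spec) :
    ∃ (U : Y.Opens) (hU : IsAffineOpen U) (y : Spec (𝒮.presheaf.obj (op U))),
      𝒮.toQCAlg.ι U hU y = x := by
  obtain ⟨U, hxU⟩ := TopologicalSpace.Opens.mem_iSup.mp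
    ((iSup_affineOpens_eq_top Y).ge (Set.mem_univ (𝒮.toQCAlg.π x)))
  have : x ∈ 𝒮.toQCAlg.π ⁻¹ᵁ U.1 := hxU
  rw [𝒮.toQCAlg.π_preimage U.1 U.2] at this
  obtain ⟨y, hy⟩ := this
  exact ⟨U.1, U.2, y, hy⟩

end Groth.Agent.Lib.Helper74.RelConeLib
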