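import Groth.Agent.Lib.Helper74.RelConeLib
import Mathlib.AlgebraicGeometry.Morphisms.Separated

set_option autoImplicit false
universe u
open CategoryTheory CategoryTheory.Limits AlgebraicGeometry TopologicalSpace Opposite
open scoped HomogeneousIdeal

namespace Groth.Agent.Lib.Helper74.RelConeLib

variable {Y : Scheme.{u}} {𝒮 : RelProj.QCGrAlg Y}
  (aug : 𝒮.toQCAlg ⟶ RelSpec.QCAlg.unit Y)

/-- component of the augmentation, typed with target `Γ(Y, U)` -/
def augAt (U : Y.Opens) : 𝒮.presheaf.obj (op U) ⟶ Γ(Y, U) := aug.hom.app (op U)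

theorem augAt_apply (U : Y.Opens) (x : 𝒮.presheaf.obj (op U)) :
    (augAt aug U).hom x = (aug.hom.app (op U)).hom x := rfl

theorem aug_str (U : Y.Opens) (r : Γ(Y, U)) :
    (augAt aug U).hom ((𝒮.str.app (op U)).hom r) = r := by
  have := congrArg (fun ψ => (ψ.app (op U)).hom r) aug.comm
  exact this

theorem str_comp_augAt (U : Y.Opens) : 𝒮.str.app (op U) ≫ augAt aug U = 𝟙 Γ(Y, U) := by
  ext r
  exact aug_str aug U r

theorem augAt_naturality {U W : Y.Opens} (i : W ≤ U) :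
    augAt aug U ≫ Y.presheaf.map (homOfLE i).op =
      𝒮.presheaf.map (homOfLE i).op ≫ augAt aug W :=
  (aug.hom.naturality (homOfLE i).op).symm

theorem augAt_surjective (U : Y.Opens) : Function.Surjective (augAt aug U).hom :=
  fun r => ⟨_, aug_str aug U r⟩

variable {aug}

theorem ker_augAt (h0 : RelCone.StrZeroBij 𝒮) (haug : RelCone.IsAugmentation 𝒮 aug)
    (U : Y.Opens) (hU : IsAffineOpen U) :
    RingHom.ker (augAt aug U).hom = ((𝒮.deg U hU)₊).toIdeal := by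
  classical
  have hker : ((𝒮.deg U hU)₊).toIdeal ≤ RingHom.ker (augAt aug U).hom := by
    rw [HomogeneousIdeal.toIdeal_irrelevant_le]
    intro i hi y hy
    obtain ⟨d, rfl⟩ : ∃ d, i = d + 1 := ⟨i - 1, by omega⟩
    exact haug U hU d y hy
  apply le_antisymm
  · intro x hx
    rw [RingHom.mem_ker] at hx
    obtain ⟨r, hr⟩ := (h0 U hU).2 (DirectSum.decompose (𝒮.deg U hU) x 0)
    have hr' : (𝒮.str.app (op U)).hom r =
        ((DirectSum.decompose (𝒮.deg U hU) x 0 : 𝒮.deg U hU 0) : 𝒮.presheaf.obj (op U)) :=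
      congrArg Subtype.val hr
    have hpos : x - (𝒮.str.app (op U)).hom r ∈ ((𝒮.deg U hU)₊).toIdeal := by
      change _ ∈ (𝒮.deg U hU)₊
      rw [HomogeneousIdeal.mem_irrelevant_iff, GradedRing.proj_apply, DirectSum.decompose_sub,
        hr', DirectSum.decompose_coe, DirectSum.sub_apply, DirectSum.of_eq_same]
      simp
    have h1 := hker hpos
    rw [RingHom.mem_ker, map_sub, hx, aug_str, zero_sub, neg_eq_zero] at h1
    have h2 : (𝒮.str.app (op U)).hom r = 0 := by rw [h1]; exact map_zero _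
    rw [h2, sub_zero] at hpos
    exact hpos
  · exact hker

/-- the local model of the vertex section -/
noncomputable def vertexLocal (aug : 𝒮.toQCAlg ⟶ RelSpec.QCAlg.unit Y) (U : Y.Opens)
    (hU : IsAffineOpen U) : (U : Scheme.{u}) ⟶ 𝒮.toQCAlg.spec :=
  U.toSpecΓ ≫ Spec.map (augAt aug U) ≫ 𝒮.toQCAlg.ι U hU

theorem vertexLocal_compat (U : Y.Opens) (hU : IsAffineOpen U) (r : Γ(Y, U)) :
    Y.homOfLE (Y.basicOpen_le r) ≫ vertexLocal aug U hU =
      vertexLocal aug (Y.basicOpen r) (hU.basicOpen r) := by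
  unfold vertexLocal
  rw [← Scheme.Opens.toSpecΓ_SpecMap_presheaf_map_assoc, ← Spec.map_comp_assoc,
    augAt_naturality aug (Y.basicOpen_le r), Spec.map_comp_assoc, ι_basicOpen]

theorem isVertex_chart {ε : Y ⟶ 𝒮.toQCAlg.spec} (hε : RelCone.IsVertex 𝒮 aug ε)
    (U : Y.Opens) (hU : IsAffineOpen U) :
    hU.fromSpec ≫ ε = Spec.map (augAt aug U) ≫ 𝒮.toQCAlg.ι U hU := hε.chart U hU

theorem existsUnique_vertex (aug : 𝒮.toQCAlg ⟶ RelSpec.QCAlg.unit Y) :
    ∃! ε : Y ⟶ 𝒮.toQCAlg.spec, RelCone.IsVertex 𝒮 aug ε := by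
  have h : ∀ {i j : (Scheme.AffineZariskiSite.directedCover Y).I₀} (hij : i ⟶ j),
      (Scheme.AffineZariskiSite.directedCover Y).trans hij ≫
        (fun U : Y.AffineZariskiSite => vertexLocal aug U.1 U.2) j =
        (fun U : Y.AffineZariskiSite => vertexLocal aug U.1 U.2) i := by
    rintro ⟨U, hU⟩ ⟨V, hV⟩ hij
    obtain ⟨f, rfl⟩ := hij.le
    exact vertexLocal_compat V hV f
  let ε := (Scheme.AffineZariskiSite.directedCover Y).glueMorphismsOfLocallyDirected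
    (fun U : Y.AffineZariskiSite => vertexLocal aug U.1 U.2) h
  have hε : ∀ (U : Y.Opens) (hU : IsAffineOpen U), U.ι ≫ ε = vertexLocal aug U hU :=
    fun U hU =>
    (Scheme.AffineZariskiSite.directedCover Y).map_glueMorphismsOfLocallyDirected _ h ⟨U, hU⟩
  refine ⟨ε, ⟨?_, ?_⟩, ?_⟩
  · refine (Scheme.AffineZariskiSite.directedCover Y).hom_ext _ _
      fun (U : Y.AffineZariskiSite) => ?_
    change U.1.ι ≫ ε ≫ 𝒮.toQCAlg.π = U.1.ι ≫ 𝟙 Y
    rw [← Category.assoc, hε U.1 U.2, vertexLocal, Category.assoc, Category.assoc,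
      𝒮.toQCAlg.ι_π, ← Spec.map_comp_assoc, str_comp_augAt, Spec.map_id, Category.id_comp,
      IsAffineOpen.toSpecΓ_fromSpec, Category.comp_id]
  · intro U hU
    change hU.fromSpec ≫ ε = Spec.map (augAt aug U) ≫ 𝒮.toQCAlg.ι U hU
    rw [← IsAffineOpen.isoSpec_inv_ι, Category.assoc, hε U hU, vertexLocal,
      IsAffineOpen.isoSpec_inv_toSpecΓ_assoc]
  · intro ε' hε'
    refine (Scheme.AffineZariskiSite.directedCover Y).hom_ext _ _
      fun (U : Y.AffineZariskiSite) => ?_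
    change U.1.ι ≫ ε' = U.1.ι ≫ ε
    rw [hε U.1 U.2, vertexLocal, ← U.2.isoSpec_hom_fromSpec, Category.assoc,
      isVertex_chart hε' U.1 U.2, IsAffineOpen.isoSpec_hom]

theorem isClosedImmersion_vertex {ε : Y ⟶ 𝒮.toQCAlg.spec} (hε : RelCone.IsVertex 𝒮 aug ε) :
    IsClosedImmersion ε := by
  have : IsClosedImmersion (ε ≫ 𝒮.toQCAlg.π) := by
    rw [hε.comp_π]
    infer_instance
  exact IsClosedImmersion.of_comp ε 𝒮.toQCAlg.π

theorem ι_mem_range_vertex_iff {ε : Y ⟶ 𝒮.toQCAlg.spec} (hε : RelCone.IsVertex 𝒮 aug ε)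
    (U : Y.Opens) (hU : IsAffineOpen U) (y : Spec (𝒮.presheaf.obj (op U))) :
    𝒮.toQCAlg.ι U hU y ∈ Set.range ε.base ↔
      y ∈ Set.range (Spec.map (augAt aug U)).base := by
  constructor
  · rintro ⟨t, ht⟩
    have ht' : ε t = 𝒮.toQCAlg.ι U hU y := ht
    have h1 : 𝒮.toQCAlg.π (𝒮.toQCAlg.ι U hU y) = t := by
      have h1' : 𝒮.toQCAlg.π (ε t) = t := congrArg (fun g => g.base t) hε.comp_π
      rw [ht'] at h1'
      exact h1'
    have h2 : 𝒮.toQCAlg.π (𝒮.toQCAlg.ι U hU y) =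
        hU.fromSpec (Spec.map (𝒮.str.app (op U)) y) :=
      congrArg (fun g => g.base y) (𝒮.toQCAlg.ι_π U hU)
    set w := Spec.map (𝒮.str.app (op U)) y with hw
    have h3 : ε t = 𝒮.toQCAlg.ι U hU (Spec.map (augAt aug U) w) := by
      rw [← h1, h2]
      exact congrArg (fun g => g.base w) (isVertex_chart hε U hU)
    refine ⟨w, ?_⟩
    apply (𝒮.toQCAlg.ι U hU).isOpenEmbedding.injective
    exact h3.symm.trans ht'
  · rintro ⟨w, rfl⟩
    refine ⟨hU.fromSpec w, ?_⟩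
    exact congrArg (fun g => g.base w) (isVertex_chart hε U hU)

theorem pointedCone_eq_compl_range (h0 : RelCone.StrZeroBij 𝒮)
    (haug : RelCone.IsAugmentation 𝒮 aug) {ε : Y ⟶ 𝒮.toQCAlg.spec}
    (hε : RelCone.IsVertex 𝒮 aug ε) :
    ((RelCone.pointedCone 𝒮 : 𝒮.toQCAlg.spec.Opens) : Set 𝒮.toQCAlg.spec) =
      (Set.range ε.base)ᶜ := by
  ext x
  obtain ⟨U, hU, y, rfl⟩ := exists_chart 𝒮 x
  rw [Set.mem_compl_iff, ι_mem_range_vertex_iff hε U hU y, SetLike.mem_coe,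
    ι_mem_pointedCone_iff, mem_vertexCompl_iff]
  have hrange : Set.range (Spec.map (augAt aug U)).base =
      PrimeSpectrum.zeroLocus (RingHom.ker (augAt aug U).hom : Set _) :=
    range_comap_of_surjective _ _ (augAt_surjective aug U)
  rw [hrange, ker_augAt h0 haug U hU]
  change _ ↔ ¬ (((𝒮.deg U hU)₊).toIdeal : Set (𝒮.presheaf.obj (op U))) ⊆ y.asIdeal
  constructor
  · rintro ⟨f, hf, hfy⟩ hle
    exact hfy (hle hf)
  · intro hnot
    obtain ⟨f, hf, hfy⟩ := Set.not_subset.mp hnot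
    exact ⟨f, hf, hfy⟩

end Groth.Agent.Lib.Helper74.RelConeLib
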