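import Groth.Agent.Lib.Helper74.ModSec

/-!
# Abstract gluing of modules on a scheme over a base, along the affine opens of the base (helper74)

`ChartSys p`: for `p : P ⟶ Y`, a family of modules `G U` on `P` indexed by the affine opens `U` of
`Y`, with transition maps `c : G U ⟶ G V` for `V ≤ U`, functorial, "supported on `p⁻¹ U`" and
bijective on sections over `p⁻¹ D(r)` for basic opens.  `IsGlued 𝔊 F lam` says that `F` with the
maps `lam U : F ⟶ G U` is glued from the system.  We prove the universal property, uniqueness and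
existence.
-/

set_option autoImplicit false
universe u
open CategoryTheory CategoryTheory.Limits AlgebraicGeometry TopologicalSpace Opposite

namespace Groth.Agent.Lib.Helper74.RelGlue

open Groth.Agent.Lib.Helper74.ModSec

variable {Y P : Scheme.{u}} (p : P ⟶ Y)

/-- A system of modules on `P` indexed by the affine opens of `Y`. -/
structure ChartSys where
  G : ∀ (U : Y.Opens), IsAffineOpen U → P.Modules
  c : ∀ {U V : Y.Opens} (hU : IsAffineOpen U) (hV : IsAffineOpen V), V ≤ U → (G U hU ⟶ G V hV)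
  c_self : ∀ (U : Y.Opens) (hU : IsAffineOpen U), c hU hU le_rfl = 𝟙 _
  c_comp : ∀ {U V V' : Y.Opens} (hU : IsAffineOpen U) (hV : IsAffineOpen V) (hV' : IsAffineOpen V')
    (i : V ≤ U) (j : V' ≤ V), c hU hV i ≫ c hV hV' j = c hU hV' (j.trans i)
  supp : ∀ (U : Y.Opens) (hU : IsAffineOpen U) (W W' : P.Opens) (h : W' ≤ W),
    W ⊓ p ⁻¹ᵁ U ≤ W' → Function.Bijective (rs (G U hU) h)
  c_bij : ∀ (U : Y.Opens) (hU : IsAffineOpen U) (r : Γ(Y, U)) (W : P.Opens),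
    W ≤ p ⁻¹ᵁ (Y.basicOpen r) →
      Function.Bijective ((c hU (hU.basicOpen r) (Y.basicOpen_le r)).app W)

variable {p}

/-- `(F, lam)` is glued from the system `𝔊`. -/
structure IsGlued (𝔊 : ChartSys p) (F : P.Modules)
    (lam : ∀ (U : Y.Opens) (hU : IsAffineOpen U), F ⟶ 𝔊.G U hU) : Prop where
  bijective : ∀ (U : Y.Opens) (hU : IsAffineOpen U) (W : P.Opens), W ≤ p ⁻¹ᵁ U →
    Function.Bijective ((lam U hU).app W)
  compat : ∀ (U : Y.Opens) (hU : IsAffineOpen U) (r : Γ(Y, U)),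
    lam U hU ≫ 𝔊.c hU (hU.basicOpen r) (Y.basicOpen_le r) = lam _ (hU.basicOpen r)

namespace ChartSys

variable (𝔊 : ChartSys p)

theorem c_bij_of_eq {U D : Y.Opens} (hU : IsAffineOpen U) (hD : IsAffineOpen D) (r : Γ(Y, U))
    (e : Y.basicOpen r = D) (i : D ≤ U) (W : P.Opens) (hW : W ≤ p ⁻¹ᵁ D) :
    Function.Bijective ((𝔊.c hU hD i).app W) := by
  subst e
  exact 𝔊.c_bij U hU r W hW

theorem c_app_comp {U V V' : Y.Opens} (hU : IsAffineOpen U) (hV : IsAffineOpen V)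
    (hV' : IsAffineOpen V') (i : V ≤ U) (j : V' ≤ V) (W : P.Opens) (s : Γ(𝔊.G U hU, W)) :
    (𝔊.c hV hV' j).app W ((𝔊.c hU hV i).app W s) = (𝔊.c hU hV' (j.trans i)).app W s := by
  rw [← 𝔊.c_comp hU hV hV' i j]
  rfl

/-- A section of `G U` over `W` is determined by its restriction to `W ⊓ p⁻¹ U`. -/
theorem supp_inj (U : Y.Opens) (hU : IsAffineOpen U) (W : P.Opens) :
    Function.Injective (rs (𝔊.G U hU) (inf_le_left : W ⊓ p ⁻¹ᵁ U ≤ W)) :=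
  (𝔊.supp U hU W _ inf_le_left le_rfl).1

/-- Two morphisms into `G V` agree if they agree after composing with `c` to a family of basic
opens of `V` covering `V`. -/
theorem hom_ext_of_cover {T : P.Modules} {V : Y.Opens} (hV : IsAffineOpen V) (a b : T ⟶ 𝔊.G V hV)
    (h : ∀ x ∈ V, ∃ (r : Γ(Y, V)), x ∈ Y.basicOpen r ∧
      a ≫ 𝔊.c hV (hV.basicOpen r) (Y.basicOpen_le r) =
        b ≫ 𝔊.c hV (hV.basicOpen r) (Y.basicOpen_le r)) : a = b := by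
  refine hom_ext_sec a b fun W s => ?_
  apply 𝔊.supp_inj V hV W
  refine sec_ext_of_locally _ _ _ fun x hx => ?_
  obtain ⟨r, hxr, hab⟩ := h (p x) hx.2
  refine ⟨W ⊓ p ⁻¹ᵁ V ⊓ p ⁻¹ᵁ (Y.basicOpen r), inf_le_left, ⟨hx, hxr⟩, ?_⟩
  rw [rs_rs, rs_rs, ← hom_rs, ← hom_rs]
  apply (𝔊.c_bij V hV r _ inf_le_right).1
  exact congr($(congr($(hab).app _)) _)

end ChartSys

namespace IsGlued

variable {𝔊 : ChartSys p} {F : P.Modules}
  {lam : ∀ (U : Y.Opens) (hU : IsAffineOpen U), F ⟶ 𝔊.G U hU}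

theorem lam_of_eq (_h : IsGlued 𝔊 F lam) {D₁ D₂ : Y.Opens} (h₁ : IsAffineOpen D₁)
    (h₂ : IsAffineOpen D₂) (e : D₂ = D₁) : lam D₁ h₁ ≫ 𝔊.c h₁ h₂ e.le = lam D₂ h₂ := by
  subst e
  rw [𝔊.c_self, Category.comp_id]

theorem compat_of_eq (h : IsGlued 𝔊 F lam) {U D : Y.Opens} (hU : IsAffineOpen U)
    (hD : IsAffineOpen D) (r : Γ(Y, U)) (e : Y.basicOpen r = D) (i : D ≤ U) :
    lam U hU ≫ 𝔊.c hU hD i = lam D hD := by
  subst e
  exact h.compat U hU r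

/-- compatibility for arbitrary affine opens `V ≤ U` -/
theorem compat_le (h : IsGlued 𝔊 F lam) {U V : Y.Opens} (hU : IsAffineOpen U)
    (hV : IsAffineOpen V) (i : V ≤ U) : lam U hU ≫ 𝔊.c hU hV i = lam V hV := by
  refine 𝔊.hom_ext_of_cover hV _ _ fun x hx => ?_
  obtain ⟨r, s, e, hxr⟩ := exists_basicOpen_le_affine_inter hU hV x ⟨i hx, hx⟩
  refine ⟨s, e ▸ hxr, ?_⟩
  rw [Category.assoc, 𝔊.c_comp, h.compat V hV s]
  exact h.compat_of_eq hU (hV.basicOpen s) r e _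

end IsGlued

namespace IsGlued

variable {𝔊 : ChartSys p} {F : P.Modules}
  {lam : ∀ (U : Y.Opens) (hU : IsAffineOpen U), F ⟶ 𝔊.G U hU}

theorem compat_le_app (h : IsGlued 𝔊 F lam) {U V : Y.Opens} (hU : IsAffineOpen U)
    (hV : IsAffineOpen V) (i : V ≤ U) (W : P.Opens) (s : Γ(F, W)) :
    (𝔊.c hU hV i).app W ((lam U hU).app W s) = (lam V hV).app W s := by
  rw [← h.compat_le hU hV i]
  rfl

/-- Sections of a glued module are the compatible families of sections of the system. -/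
theorem existsUnique_section (h : IsGlued 𝔊 F lam) (W : P.Opens)
    (t : ∀ (U : Y.Opens) (hU : IsAffineOpen U), Γ(𝔊.G U hU, W))
    (ht : ∀ {U V : Y.Opens} (hU : IsAffineOpen U) (hV : IsAffineOpen V) (i : V ≤ U),
      (𝔊.c hU hV i).app W (t U hU) = t V hV) :
    ∃! s : Γ(F, W), ∀ (U : Y.Opens) (hU : IsAffineOpen U), (lam U hU).app W s = t U hU := by
  -- local candidates
  have hloc : ∀ U : Y.affineOpens, ∃ sU : Γ(F, W ⊓ p ⁻¹ᵁ U.1),
      (lam U.1 U.2).app _ sU = rs (𝔊.G U.1 U.2) inf_le_left (t U.1 U.2) :=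
    fun U => (h.bijective U.1 U.2 _ inf_le_right).2 _
  choose sU hsU using hloc
  have key : ∀ (U : Y.affineOpens) (D : Y.Opens) (hD : IsAffineOpen D) (i : D ≤ U.1)
      (W' : P.Opens) (hW' : W' ≤ W ⊓ p ⁻¹ᵁ U.1),
      (lam D hD).app W' (rs F hW' (sU U)) = rs (𝔊.G D hD) (hW'.trans inf_le_left) (t D hD) := by
    intro U D hD i W' hW'
    rw [← h.compat_le_app U.2 hD i, hom_rs, hsU, rs_rs, hom_rs, ht]
  have hcompat : ∀ U U' : Y.affineOpens,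
      rs F (inf_le_left : (W ⊓ p ⁻¹ᵁ U.1) ⊓ (W ⊓ p ⁻¹ᵁ U'.1) ≤ _) (sU U) =
        rs F (inf_le_right : (W ⊓ p ⁻¹ᵁ U.1) ⊓ (W ⊓ p ⁻¹ᵁ U'.1) ≤ _) (sU U') := by
    intro U U'
    refine sec_ext_of_locally _ _ _ fun x hx => ?_
    obtain ⟨_, ⟨D, hD : IsAffineOpen D, rfl⟩, hxD, hDle⟩ :=
      (Y.isBasis_affineOpens).exists_subset_of_mem_open
        (show p x ∈ ((U.1 ⊓ U'.1 : Y.Opens) : Set Y) from ⟨hx.1.2, hx.2.2⟩) (U.1 ⊓ U'.1).2
    have hDU : D ≤ U.1 := fun z hz => (hDle hz).1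
    have hDU' : D ≤ U'.1 := fun z hz => (hDle hz).2
    refine ⟨(W ⊓ p ⁻¹ᵁ U.1) ⊓ (W ⊓ p ⁻¹ᵁ U'.1) ⊓ p ⁻¹ᵁ D, inf_le_left, ⟨hx, hxD⟩, ?_⟩
    rw [rs_rs, rs_rs]
    apply (h.bijective D hD _ inf_le_right).1
    rw [key U D hD hDU, key U' D hD hDU']
  obtain ⟨s, hs, hs'⟩ := existsUnique_glue F (fun U : Y.affineOpens => W ⊓ p ⁻¹ᵁ U.1)
    (fun _ => inf_le_left) (fun x _ => by
      obtain ⟨U, hU, hxU⟩ := Groth.Agent.Lib.Helper74.RelTilde.exists_affine_mem p x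
      exact ⟨⟨U, hU⟩, ‹x ∈ W›, hxU⟩) sU hcompat
  refine ⟨s, fun U hU => ?_, fun s' hs'' => hs' s' fun U => ?_⟩
  · apply 𝔊.supp_inj U hU W
    rw [← hom_rs, hs ⟨U, hU⟩]
    exact hsU ⟨U, hU⟩
  · apply (h.bijective U.1 U.2 _ inf_le_right).1
    rw [hom_rs, hs'' U.1 U.2, hsU]

/-- **Universal property** of a glued module. -/
theorem existsUnique_hom (h : IsGlued 𝔊 F lam) (T : P.Modules)
    (μ : ∀ (U : Y.Opens) (hU : IsAffineOpen U), T ⟶ 𝔊.G U hU)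
    (hμ : ∀ {U V : Y.Opens} (hU : IsAffineOpen U) (hV : IsAffineOpen V) (i : V ≤ U),
      μ U hU ≫ 𝔊.c hU hV i = μ V hV) :
    ∃! φ : T ⟶ F, ∀ (U : Y.Opens) (hU : IsAffineOpen U), φ ≫ lam U hU = μ U hU := by
  have hμ' : ∀ (W : P.Opens) (t : Γ(T, W)) {U V : Y.Opens} (hU : IsAffineOpen U)
      (hV : IsAffineOpen V) (i : V ≤ U),
      (𝔊.c hU hV i).app W ((μ U hU).app W t) = (μ V hV).app W t := by
    intro W t U V hU hV i
    rw [← hμ hU hV i]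
    rfl
  have hex := fun (W : P.Opens) (t : Γ(T, W)) =>
    h.existsUnique_section W (fun U hU => (μ U hU).app W t) (hμ' W t)
  choose f hf hf' using hex
  have hadd : ∀ W (t t' : Γ(T, W)), f W (t + t') = f W t + f W t' := by
    intro W t t'
    refine (hf' W (t + t') _ fun U hU => ?_).symm
    rw [map_add, map_add, hf, hf]
  have hnat : ∀ {W W' : P.Opens} (i : W' ≤ W) (t : Γ(T, W)), f W' (rs T i t) = rs F i (f W t) := by
    intro W W' i t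
    refine (hf' W' (rs T i t) _ fun U hU => ?_).symm
    rw [hom_rs, hom_rs, hf]
  have hsmul : ∀ (W : P.Opens) (r : Γ(P, W)) (t : Γ(T, W)), f W (r • t) = r • f W t := by
    intro W r t
    refine (hf' W (r • t) _ fun U hU => ?_).symm
    rw [Scheme.Modules.Hom.app_smul, Scheme.Modules.Hom.app_smul, hf]
  let fadd : ∀ W : P.Opens, Γ(T, W) →+ Γ(F, W) := fun W => AddMonoidHom.mk' (f W) (hadd W)
  refine ⟨homOfSections T F fadd (fun i t => hnat i t) hsmul, fun U hU => ?_, fun ψ hψ => ?_⟩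
  · refine hom_ext_sec _ _ fun W t => ?_
    exact hf W t U hU
  · refine hom_ext_sec _ _ fun W t => ?_
    refine hf' W t _ fun U hU => ?_
    rw [← hψ U hU]
    rfl

/-- Two glued modules are uniquely isomorphic. -/
theorem existsUnique_iso (h : IsGlued 𝔊 F lam) {F' : P.Modules}
    {lam' : ∀ (U : Y.Opens) (hU : IsAffineOpen U), F' ⟶ 𝔊.G U hU} (h' : IsGlued 𝔊 F' lam') :
    (∃! φ : F ⟶ F', ∀ (U : Y.Opens) (hU : IsAffineOpen U), φ ≫ lam' U hU = lam U hU) ∧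
      ∀ φ : F ⟶ F', (∀ (U : Y.Opens) (hU : IsAffineOpen U), φ ≫ lam' U hU = lam U hU) →
        IsIso φ := by
  have h1 := h'.existsUnique_hom F lam (fun hU hV i => h.compat_le hU hV i)
  have h2 := h.existsUnique_hom F' lam' (fun hU hV i => h'.compat_le hU hV i)
  have h3 := h.existsUnique_hom F lam (fun hU hV i => h.compat_le hU hV i)
  have h4 := h'.existsUnique_hom F' lam' (fun hU hV i => h'.compat_le hU hV i)
  refine ⟨h1, fun φ hφ => ?_⟩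
  obtain ⟨ψ, hψ, -⟩ := h2
  refine ⟨ψ, ?_, ?_⟩
  · refine h3.unique (fun U hU => ?_) (fun U hU => Category.id_comp _)
    rw [Category.assoc, hψ, hφ]
  · refine h4.unique (fun U hU => ?_) (fun U hU => Category.id_comp _)
    rw [Category.assoc, hφ, hψ]

end IsGlued

namespace ChartSys

variable (𝔊 : ChartSys p)

/-- the diagram of the system -/
noncomputable def diagram : (Y.affineOpens)ᵒᵖ ⥤ P.Modules where
  obj U := 𝔊.G U.unop.1 U.unop.2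
  map {U V} f := 𝔊.c U.unop.2 V.unop.2 f.unop.le
  map_id _ := 𝔊.c_self _ _
  map_comp _ _ := (𝔊.c_comp _ _ _ _ _).symm

/-- the glued module -/
noncomputable def glued : P.Modules := limit 𝔊.diagram

/-- the projections of the glued module -/
noncomputable def gluedLam (U : Y.Opens) (hU : IsAffineOpen U) : 𝔊.glued ⟶ 𝔊.G U hU :=
  limit.π 𝔊.diagram (op ⟨U, hU⟩)

theorem gluedLam_c {U V : Y.Opens} (hU : IsAffineOpen U) (hV : IsAffineOpen V) (i : V ≤ U) :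
    𝔊.gluedLam U hU ≫ 𝔊.c hU hV i = 𝔊.gluedLam V hV :=
  limit.w 𝔊.diagram (homOfLE (show (⟨V, hV⟩ : Y.affineOpens) ≤ ⟨U, hU⟩ from i)).op

/-- the sections functor -/
noncomputable def secFunctor (W : P.Opens) : P.Modules ⥤ Type u :=
  Scheme.Modules.toPresheaf P ⋙ ((evaluation (Opens P)ᵒᵖ Ab.{u}).obj (op W) ⋙ forget Ab.{u})

noncomputable instance (W : P.Opens) : PreservesLimits (secFunctor W) :=
  @comp_preservesLimits _ _ (TopCat.Presheaf Ab P) _ _ _ (Scheme.Modules.toPresheaf P)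
    ((evaluation (Opens P)ᵒᵖ Ab.{u}).obj (op W) ⋙ forget Ab.{u}) inferInstance
    (comp_preservesLimits ((evaluation (Opens ↥P)ᵒᵖ Ab).obj (op W)) (forget Ab))

theorem glued_existsUnique_section (W : P.Opens)
    (t : ∀ (U : Y.Opens) (hU : IsAffineOpen U), Γ(𝔊.G U hU, W))
    (ht : ∀ {U V : Y.Opens} (hU : IsAffineOpen U) (hV : IsAffineOpen V) (i : V ≤ U),
      (𝔊.c hU hV i).app W (t U hU) = t V hV) :
    ∃! s : Γ(𝔊.glued, W), ∀ (U : Y.Opens) (hU : IsAffineOpen U),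
      (𝔊.gluedLam U hU).app W s = t U hU := by
  have hlim := isLimitOfPreserves (secFunctor W) (limit.isLimit 𝔊.diagram)
  let e := Types.isLimitEquivSections hlim
  let sec : (𝔊.diagram ⋙ secFunctor W).sections :=
    ⟨fun U => t U.unop.1 U.unop.2, fun {U V} f => ht U.unop.2 V.unop.2 f.unop.le⟩
  refine ⟨e.symm sec, fun U hU => ?_, fun s hs => ?_⟩
  · exact Types.isLimitEquivSections_symm_apply hlim sec (op ⟨U, hU⟩)
  · apply e.injective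
    rw [Equiv.apply_symm_apply]
    apply Subtype.ext
    funext U
    exact hs U.unop.1 U.unop.2

theorem gluedLam_c_app {U V : Y.Opens} (hU : IsAffineOpen U) (hV : IsAffineOpen V) (i : V ≤ U)
    (W : P.Opens) (s : Γ(𝔊.glued, W)) :
    (𝔊.c hU hV i).app W ((𝔊.gluedLam U hU).app W s) = (𝔊.gluedLam V hV).app W s := by
  rw [← 𝔊.gluedLam_c hU hV i]
  rfl

/-- A compatible family over `W ≤ p⁻¹ U₀` is determined by its `U₀`-component. -/
theorem family_ext {U₀ : Y.Opens} (hU₀ : IsAffineOpen U₀) (W : P.Opens) (hW : W ≤ p ⁻¹ᵁ U₀)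
    (t t' : ∀ (U : Y.Opens) (hU : IsAffineOpen U), Γ(𝔊.G U hU, W))
    (ht : ∀ {U V : Y.Opens} (hU : IsAffineOpen U) (hV : IsAffineOpen V) (i : V ≤ U),
      (𝔊.c hU hV i).app W (t U hU) = t V hV)
    (ht' : ∀ {U V : Y.Opens} (hU : IsAffineOpen U) (hV : IsAffineOpen V) (i : V ≤ U),
      (𝔊.c hU hV i).app W (t' U hU) = t' V hV)
    (h0 : t U₀ hU₀ = t' U₀ hU₀) (V : Y.Opens) (hV : IsAffineOpen V) : t V hV = t' V hV := by
  apply 𝔊.supp_inj V hV W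
  refine sec_ext_of_locally _ _ _ fun x hx => ?_
  obtain ⟨r, s, e, hxr⟩ := exists_basicOpen_le_affine_inter hU₀ hV (p x) ⟨hW hx.1, hx.2⟩
  have hD0 : Y.basicOpen s ≤ U₀ := e ▸ Y.basicOpen_le r
  refine ⟨W ⊓ p ⁻¹ᵁ V ⊓ p ⁻¹ᵁ (Y.basicOpen s), inf_le_left, ⟨hx, e ▸ hxr⟩, ?_⟩
  rw [rs_rs, rs_rs]
  apply (𝔊.c_bij V hV s _ inf_le_right).1
  rw [hom_rs, hom_rs, ht, ht', ← ht hU₀ (hV.basicOpen s) hD0, ← ht' hU₀ (hV.basicOpen s) hD0, h0]

/-- Extension of a section over `W ≤ p⁻¹ U₀` of `G U₀` to a compatible family. -/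
theorem exists_family {U₀ : Y.Opens} (hU₀ : IsAffineOpen U₀) (W : P.Opens) (hW : W ≤ p ⁻¹ᵁ U₀)
    (t₀ : Γ(𝔊.G U₀ hU₀, W)) :
    ∃ t : ∀ (U : Y.Opens) (hU : IsAffineOpen U), Γ(𝔊.G U hU, W),
      (∀ {U V : Y.Opens} (hU : IsAffineOpen U) (hV : IsAffineOpen V) (i : V ≤ U),
        (𝔊.c hU hV i).app W (t U hU) = t V hV) ∧ t U₀ hU₀ = t₀ := by
  -- Step A: the component over `V`
  have stepA : ∀ (V : Y.Opens) (hV : IsAffineOpen V), ∃ tV : Γ(𝔊.G V hV, W),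
      ∀ (s : Γ(Y, V)) (hs : Y.basicOpen s ≤ U₀),
        (𝔊.c hV (hV.basicOpen s) (Y.basicOpen_le s)).app (W ⊓ p ⁻¹ᵁ (Y.basicOpen s))
            (rs (𝔊.G V hV) inf_le_left tV) =
          rs (𝔊.G _ (hV.basicOpen s)) inf_le_left ((𝔊.c hU₀ (hV.basicOpen s) hs).app W t₀) := by
    intro V hV
    let ι := {s : Γ(Y, V) // Y.basicOpen s ≤ U₀}
    let 𝒲 : ι → P.Opens := fun s => W ⊓ p ⁻¹ᵁ (Y.basicOpen s.1)
    have hle : ∀ s : ι, 𝒲 s ≤ W ⊓ p ⁻¹ᵁ V := fun s =>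
      le_inf inf_le_left (inf_le_right.trans (p.preimage_mono (Y.basicOpen_le s.1)))
    have hτ : ∀ s : ι, ∃ τ : Γ(𝔊.G V hV, 𝒲 s),
        (𝔊.c hV (hV.basicOpen s.1) (Y.basicOpen_le s.1)).app (𝒲 s) τ =
          rs (𝔊.G _ (hV.basicOpen s.1)) inf_le_left
            ((𝔊.c hU₀ (hV.basicOpen s.1) s.2).app W t₀) :=
      fun s => (𝔊.c_bij V hV s.1 (𝒲 s) inf_le_right).2 _
    choose τ hτ using hτ
    have H1 : ∀ (s : ι) (D'' : Y.Opens) (hD'' : IsAffineOpen D'') (j : D'' ≤ Y.basicOpen s.1)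
        (W' : P.Opens) (hW' : W' ≤ 𝒲 s),
        (𝔊.c hV hD'' (j.trans (Y.basicOpen_le s.1))).app W' (rs (𝔊.G V hV) hW' (τ s)) =
          rs (𝔊.G D'' hD'') (hW'.trans inf_le_left) ((𝔊.c hU₀ hD'' (j.trans s.2)).app W t₀) := by
      intro s D'' hD'' j W' hW'
      rw [hom_rs, ← 𝔊.c_app_comp hV (hV.basicOpen s.1) hD'' (Y.basicOpen_le s.1) j, hτ s, hom_rs,
        𝔊.c_app_comp, rs_rs]
    have hcompat : ∀ s s' : ι,
        rs (𝔊.G V hV) (inf_le_left : 𝒲 s ⊓ 𝒲 s' ≤ 𝒲 s) (τ s) =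
          rs (𝔊.G V hV) (inf_le_right : 𝒲 s ⊓ 𝒲 s' ≤ 𝒲 s') (τ s') := by
      intro s s'
      have hmul : Y.basicOpen (s.1 * s'.1) = Y.basicOpen s.1 ⊓ Y.basicOpen s'.1 :=
        Scheme.basicOpen_mul _ _ _
      have hW'' : 𝒲 s ⊓ 𝒲 s' ≤ p ⁻¹ᵁ (Y.basicOpen (s.1 * s'.1)) := by
        rw [hmul]
        exact fun x hx => ⟨hx.1.2, hx.2.2⟩
      apply (𝔊.c_bij V hV (s.1 * s'.1) _ hW'').1
      have e1 := H1 s _ (hV.basicOpen (s.1 * s'.1)) (hmul.le.trans inf_le_left) (𝒲 s ⊓ 𝒲 s')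
        inf_le_left
      have e2 := H1 s' _ (hV.basicOpen (s.1 * s'.1)) (hmul.le.trans inf_le_right) (𝒲 s ⊓ 𝒲 s')
        inf_le_right
      exact e1.trans e2.symm
    obtain ⟨τ', hτ', -⟩ := existsUnique_glue (𝔊.G V hV) 𝒲 hle (fun x hx => by
      obtain ⟨r, s, e, hxr⟩ := exists_basicOpen_le_affine_inter hU₀ hV (p x) ⟨hW hx.1, hx.2⟩
      exact ⟨⟨s, e ▸ Y.basicOpen_le r⟩, hx.1, e ▸ hxr⟩) τ hcompat
    obtain ⟨tV, htV⟩ := (𝔊.supp V hV W (W ⊓ p ⁻¹ᵁ V) inf_le_left le_rfl).2 τ'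
    refine ⟨tV, fun s hs => ?_⟩
    have : rs (𝔊.G V hV) (inf_le_left : W ⊓ p ⁻¹ᵁ (Y.basicOpen s) ≤ W) tV = τ ⟨s, hs⟩ := by
      rw [← hτ' ⟨s, hs⟩, ← htV, rs_rs]
    rw [this]
    exact hτ ⟨s, hs⟩
  choose t htA using stepA
  -- Step B: the characterising property for opens equal to a basic open
  have H2 : ∀ (V : Y.Opens) (hV : IsAffineOpen V) (D : Y.Opens) (hD : IsAffineOpen D)
      (s : Γ(Y, V)) (_e : Y.basicOpen s = D) (i : D ≤ V) (j : D ≤ U₀) (W' : P.Opens)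
      (hW' : W' ≤ W ⊓ p ⁻¹ᵁ D),
      (𝔊.c hV hD i).app W' (rs (𝔊.G V hV) (hW'.trans inf_le_left) (t V hV)) =
        rs (𝔊.G D hD) (hW'.trans inf_le_left) ((𝔊.c hU₀ hD j).app W t₀) := by
    intro V hV D hD s e i j W' hW'
    subst e
    have := congrArg (rs (𝔊.G _ (hV.basicOpen s)) hW') (htA V hV s j)
    rw [← hom_rs, rs_rs, rs_rs] at this
    exact this
  refine ⟨t, ?_, ?_⟩
  · -- Step C
    intro V V' hV hV' i
    apply 𝔊.supp_inj V' hV' W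
    refine sec_ext_of_locally _ _ _ fun x hx => ?_
    obtain ⟨s, hsle, hxs⟩ := hV.exists_basicOpen_le
      (V := V' ⊓ U₀) ⟨p x, ⟨hx.2, hW hx.1⟩⟩ (i hx.2)
    have hDV' : Y.basicOpen s ≤ V' := hsle.trans inf_le_left
    have hDU₀ : Y.basicOpen s ≤ U₀ := hsle.trans inf_le_right
    have e' : Y.basicOpen (Y.presheaf.map (homOfLE i).op s) = Y.basicOpen s := by
      rw [Scheme.basicOpen_res]
      exact inf_eq_right.mpr hDV'
    refine ⟨W ⊓ p ⁻¹ᵁ V' ⊓ p ⁻¹ᵁ (Y.basicOpen s), inf_le_left, ⟨hx, hxs⟩, ?_⟩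
    rw [rs_rs, rs_rs]
    apply (𝔊.c_bij_of_eq hV' (hV.basicOpen s) _ e' hDV' _ inf_le_right).1
    have hle' : W ⊓ p ⁻¹ᵁ V' ⊓ p ⁻¹ᵁ (Y.basicOpen s) ≤ W ⊓ p ⁻¹ᵁ (Y.basicOpen s) :=
      inf_le_inf_right _ inf_le_left
    rw [H2 V' hV' _ (hV.basicOpen s) _ e' hDV' hDU₀ _ hle', hom_rs, 𝔊.c_app_comp, ← hom_rs]
    exact H2 V hV _ (hV.basicOpen s) s rfl _ hDU₀ _ hle'
  · -- Step D
    apply 𝔊.supp_inj U₀ hU₀ W
    refine sec_ext_of_locally _ _ _ fun x hx => ?_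
    obtain ⟨s, -, hxs⟩ := hU₀.exists_basicOpen_le (V := U₀) ⟨p x, hx.2⟩ hx.2
    refine ⟨W ⊓ p ⁻¹ᵁ U₀ ⊓ p ⁻¹ᵁ (Y.basicOpen s), inf_le_left, ⟨hx, hxs⟩, ?_⟩
    rw [rs_rs, rs_rs]
    apply (𝔊.c_bij U₀ hU₀ s _ inf_le_right).1
    have hle' : W ⊓ p ⁻¹ᵁ U₀ ⊓ p ⁻¹ᵁ (Y.basicOpen s) ≤ W ⊓ p ⁻¹ᵁ (Y.basicOpen s) :=
      inf_le_inf_right _ inf_le_left
    rw [H2 U₀ hU₀ _ (hU₀.basicOpen s) s rfl _ (Y.basicOpen_le s) _ hle', hom_rs]

/-- **Existence**: the limit of the system is glued. -/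
theorem glued_isGlued : IsGlued 𝔊 𝔊.glued 𝔊.gluedLam where
  compat U hU r := 𝔊.gluedLam_c hU _ _
  bijective U₀ hU₀ W hW := by
    constructor
    · intro s s' hss'
      obtain ⟨s₀, -, huniq⟩ := 𝔊.glued_existsUnique_section W
        (fun U hU => (𝔊.gluedLam U hU).app W s') (fun hU hV i => 𝔊.gluedLam_c_app hU hV i W s')
      rw [huniq s' fun _ _ => rfl]
      refine huniq s fun V hV => ?_
      exact 𝔊.family_ext hU₀ W hW (fun U hU => (𝔊.gluedLam U hU).app W s)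
        (fun U hU => (𝔊.gluedLam U hU).app W s') (fun hU hV i => 𝔊.gluedLam_c_app hU hV i W s)
        (fun hU hV i => 𝔊.gluedLam_c_app hU hV i W s') hss' V hV
    · intro t₀
      obtain ⟨t, ht, ht0⟩ := 𝔊.exists_family hU₀ W hW t₀
      obtain ⟨s, hs, -⟩ := 𝔊.glued_existsUnique_section W t ht
      exact ⟨s, (hs U₀ hU₀).trans ht0⟩

theorem exists_isGlued : ∃ (F : P.Modules) (lam : ∀ (U : Y.Opens) (hU : IsAffineOpen U),
    F ⟶ 𝔊.G U hU), IsGlued 𝔊 F lam :=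
  ⟨_, _, 𝔊.glued_isGlued⟩

end ChartSys

end Groth.Agent.Lib.Helper74.RelGlue
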