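import Groth.Agent.Lib.Helper74.RelGlue

set_option autoImplicit false
universe u
open CategoryTheory AlgebraicGeometry TopologicalSpace Opposite

namespace Groth.Agent.Lib.Helper74.RelGlue

open Groth.Agent.Lib.Helper74.ModSec

variable {Y P : Scheme.{u}} {p : P ⟶ Y}

namespace IsGlued

variable {𝔊 : ChartSys p} {F : P.Modules}
  {lam : ∀ (U : Y.Opens) (hU : IsAffineOpen U), F ⟶ 𝔊.G U hU}

/-- Sections of a glued module from compatible sections over a covering family of affine opens. -/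
theorem existsUnique_section_fam (h : IsGlued 𝔊 F lam) {I : Type*} (V : I → Y.Opens)
    (hV : ∀ i, IsAffineOpen (V i)) (hcov : ∀ y : Y, ∃ i, y ∈ V i) (W : P.Opens)
    (t : ∀ i, Γ(𝔊.G (V i) (hV i), W))
    (ht : ∀ (i k : I) (y : Y), y ∈ V i → y ∈ V k →
      ∃ (D : Y.Opens) (hD : IsAffineOpen D) (hDi : D ≤ V i) (hDk : D ≤ V k), y ∈ D ∧
        (𝔊.c (hV i) hD hDi).app W (t i) = (𝔊.c (hV k) hD hDk).app W (t k)) :
    ∃! s : Γ(F, W), ∀ i, (lam (V i) (hV i)).app W s = t i := by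
  have hloc : ∀ i : I, ∃ sU : Γ(F, W ⊓ p ⁻¹ᵁ V i),
      (lam (V i) (hV i)).app _ sU = rs (𝔊.G (V i) (hV i)) inf_le_left (t i) :=
    fun i => (h.bijective (V i) (hV i) _ inf_le_right).2 _
  choose sU hsU using hloc
  have key : ∀ (i : I) (D : Y.Opens) (hD : IsAffineOpen D) (hDi : D ≤ V i)
      (W' : P.Opens) (hW' : W' ≤ W ⊓ p ⁻¹ᵁ V i),
      (lam D hD).app W' (rs F hW' (sU i)) =
        rs (𝔊.G D hD) (hW'.trans inf_le_left) ((𝔊.c (hV i) hD hDi).app W (t i)) := by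
    intro i D hD hDi W' hW'
    rw [← h.compat_le_app (hV i) hD hDi, hom_rs, hsU, rs_rs, hom_rs]
  have hcompat : ∀ i k : I,
      rs F (inf_le_left : (W ⊓ p ⁻¹ᵁ V i) ⊓ (W ⊓ p ⁻¹ᵁ V k) ≤ _) (sU i) =
        rs F (inf_le_right : (W ⊓ p ⁻¹ᵁ V i) ⊓ (W ⊓ p ⁻¹ᵁ V k) ≤ _) (sU k) := by
    intro i k
    refine sec_ext_of_locally _ _ _ fun x hx => ?_
    obtain ⟨D, hD, hDi, hDk, hxD, hc⟩ := ht i k (p x) hx.1.2 hx.2.2
    refine ⟨(W ⊓ p ⁻¹ᵁ V i) ⊓ (W ⊓ p ⁻¹ᵁ V k) ⊓ p ⁻¹ᵁ D, inf_le_left, ⟨hx, hxD⟩, ?_⟩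
    rw [rs_rs, rs_rs]
    apply (h.bijective D hD _ inf_le_right).1
    rw [key i D hD hDi, key k D hD hDk, hc]
  obtain ⟨s, hs, hs'⟩ := existsUnique_glue F (fun i : I => W ⊓ p ⁻¹ᵁ V i)
    (fun _ => inf_le_left) (fun x hxW => by
      obtain ⟨i, hi⟩ := hcov (p x)
      exact ⟨i, hxW, hi⟩) sU hcompat
  refine ⟨s, fun i => ?_, fun s' hs'' => hs' s' fun i => ?_⟩
  · apply 𝔊.supp_inj (V i) (hV i) W
    rw [← hom_rs, hs i]
    exact hsU i
  · apply (h.bijective (V i) (hV i) _ inf_le_right).1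
    rw [hom_rs, hs'' i, hsU]

/-- **Universal property** of a glued module, for a covering family of affine opens. -/
theorem existsUnique_hom_fam (h : IsGlued 𝔊 F lam) (T : P.Modules) {I : Type*} (V : I → Y.Opens)
    (hV : ∀ i, IsAffineOpen (V i)) (hcov : ∀ y : Y, ∃ i, y ∈ V i)
    (μ : ∀ i, T ⟶ 𝔊.G (V i) (hV i))
    (hμ : ∀ (i k : I) (y : Y), y ∈ V i → y ∈ V k →
      ∃ (D : Y.Opens) (hD : IsAffineOpen D) (hDi : D ≤ V i) (hDk : D ≤ V k), y ∈ D ∧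
        μ i ≫ 𝔊.c (hV i) hD hDi = μ k ≫ 𝔊.c (hV k) hD hDk) :
    ∃! φ : T ⟶ F, ∀ i, φ ≫ lam (V i) (hV i) = μ i := by
  have hμ' : ∀ (W : P.Opens) (t : Γ(T, W)) (i k : I) (y : Y), y ∈ V i → y ∈ V k →
      ∃ (D : Y.Opens) (hD : IsAffineOpen D) (hDi : D ≤ V i) (hDk : D ≤ V k), y ∈ D ∧
        (𝔊.c (hV i) hD hDi).app W ((μ i).app W t) = (𝔊.c (hV k) hD hDk).app W ((μ k).app W t) := by
    intro W t i k y hi hk
    obtain ⟨D, hD, hDi, hDk, hyD, hc⟩ := hμ i k y hi hk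
    refine ⟨D, hD, hDi, hDk, hyD, ?_⟩
    exact congr($(congr($(hc).app W)) t)
  have hex := fun (W : P.Opens) (t : Γ(T, W)) =>
    h.existsUnique_section_fam V hV hcov W (fun i => (μ i).app W t) (hμ' W t)
  choose f hf hf' using hex
  have hadd : ∀ W (t t' : Γ(T, W)), f W (t + t') = f W t + f W t' := by
    intro W t t'
    refine (hf' W (t + t') _ fun i => ?_).symm
    rw [map_add, map_add, hf, hf]
  have hnat : ∀ {W W' : P.Opens} (i : W' ≤ W) (t : Γ(T, W)), f W' (rs T i t) = rs F i (f W t) := by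
    intro W W' i t
    refine (hf' W' (rs T i t) _ fun k => ?_).symm
    rw [hom_rs, hom_rs, hf]
  have hsmul : ∀ (W : P.Opens) (r : Γ(P, W)) (t : Γ(T, W)), f W (r • t) = r • f W t := by
    intro W r t
    refine (hf' W (r • t) _ fun i => ?_).symm
    rw [Scheme.Modules.Hom.app_smul, Scheme.Modules.Hom.app_smul, hf]
  let fadd : ∀ W : P.Opens, Γ(T, W) →+ Γ(F, W) := fun W => AddMonoidHom.mk' (f W) (hadd W)
  refine ⟨homOfSections T F fadd (fun i t => hnat i t) hsmul, fun i => ?_, fun ψ hψ => ?_⟩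
  · refine hom_ext_sec _ _ fun W t => ?_
    exact hf W t i
  · refine hom_ext_sec _ _ fun W t => ?_
    refine hf' W t _ fun i => ?_
    rw [← hψ i]
    rfl

end IsGlued

end Groth.Agent.Lib.Helper74.RelGlue
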