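import Groth.Agent.Lib.Helper74.RelProjGlue
import Mathlib.AlgebraicGeometry.Morphisms.Affine

set_option autoImplicit false
universe u
open CategoryTheory CategoryTheory.Limits AlgebraicGeometry TopologicalSpace Opposite
open scoped HomogeneousIdeal

namespace Groth.Agent.Lib.Helper74.RelProjLib

section basicOpen

variable {Y P : Scheme.{u}} {𝒮 : RelProj.QCGrAlg Y} {p : P ⟶ Y}
  (chart : ∀ (U : Y.Opens) (hU : IsAffineOpen U),
    (((p ⁻¹ᵁ U : P.Opens) : Scheme.{u}) ≅ Proj (𝒮.deg U hU)))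
  (f : 𝒮.presheaf.obj (op ⊤))

/-- The restriction of a global section. -/
noncomputable abbrev resTop (U : Y.Opens) : 𝒮.presheaf.obj (op U) :=
  (𝒮.presheaf.map (homOfLE (le_top : U ≤ ⊤)).op).hom f

/-- the chartwise basic open, as an open of `P` -/
noncomputable def chartBasicOpen (U : Y.Opens) (hU : IsAffineOpen U) : P.Opens :=
  (p ⁻¹ᵁ U).ι ''ᵁ ((chart U hU).hom ⁻¹ᵁ Proj.basicOpen (𝒮.deg U hU) (resTop f U))

theorem chartBasicOpen_congr {U U' : Y.Opens} (h : U = U') (hU : IsAffineOpen U)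
    (hU' : IsAffineOpen U') : chartBasicOpen chart f U hU = chartBasicOpen chart f U' hU' := by
  subst h
  rfl

theorem chartBasicOpen_le (U : Y.Opens) (hU : IsAffineOpen U) :
    chartBasicOpen chart f U hU ≤ p ⁻¹ᵁ U := by
  rintro _ ⟨x, -, rfl⟩
  exact x.2

theorem mem_chartBasicOpen_iff (U : Y.Opens) (hU : IsAffineOpen U) (x : P) (hx : x ∈ p ⁻¹ᵁ U) :
    x ∈ chartBasicOpen chart f U hU ↔
      (chart U hU).hom ⟨x, hx⟩ ∈ Proj.basicOpen (𝒮.deg U hU) (resTop f U) := by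
  constructor
  · rintro ⟨y, hy, hyx⟩
    have : y = ⟨x, hx⟩ := Subtype.ext hyx
    rw [← this]
    exact hy
  · intro h
    exact ⟨⟨x, hx⟩, h, rfl⟩

variable {chart}

theorem res_resTop (U : Y.Opens) (hU : IsAffineOpen U) (r : Γ(Y, U)) :
    𝒮.res hU (hU.basicOpen r) (Y.basicOpen_le r) (resTop f U) = resTop f (Y.basicOpen r) := by
  change (𝒮.presheaf.map (homOfLE (Y.basicOpen_le r)).op).hom
    ((𝒮.presheaf.map (homOfLE (le_top : U ≤ ⊤)).op).hom f) = _
  rw [← CommRingCat.comp_apply, ← Functor.map_comp]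
  rfl

theorem chartBasicOpen_basicOpen (hP : RelProj.IsRelProj 𝒮 p chart) (U : Y.Opens)
    (hU : IsAffineOpen U) (r : Γ(Y, U)) :
    chartBasicOpen chart f (Y.basicOpen r) (hU.basicOpen r) =
      chartBasicOpen chart f U hU ⊓ p ⁻¹ᵁ (Y.basicOpen r) := by
  apply le_antisymm
  · intro x hx
    have hxW : x ∈ p ⁻¹ᵁ (Y.basicOpen r) := chartBasicOpen_le chart f _ _ hx
    have hxU : x ∈ p ⁻¹ᵁ U := p.preimage_mono (Y.basicOpen_le r) hxW
    refine ⟨?_, hxW⟩
    rw [mem_chartBasicOpen_iff chart f _ _ x hxW] at hx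
    rw [SetLike.mem_coe, mem_chartBasicOpen_iff chart f _ _ x hxU]
    have h1 := congrArg (fun g => g.base ⟨x, hxW⟩) (hP.chart_res U hU r)
    simp only [Scheme.Hom.comp_base, TopCat.comp_app] at h1
    have h2 : (P.homOfLE (p.preimage_mono (Y.basicOpen_le r))) ⟨x, hxW⟩ = ⟨x, hxU⟩ := by
      apply Subtype.ext
      exact congrArg (fun g => g.base ⟨x, hxW⟩)
        (P.homOfLE_ι (p.preimage_mono (Y.basicOpen_le r)))
    rw [h2] at h1
    rw [h1]
    change _ ∈ Proj.map (𝒮.res hU (hU.basicOpen r) (Y.basicOpen_le r))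
      (𝒮.irrelevant_le_map U hU r) ⁻¹ᵁ Proj.basicOpen (𝒮.deg U hU) (resTop f U)
    rw [Proj.map_preimage_basicOpen, res_resTop]
    exact hx
  · rintro x ⟨hx, hxW⟩
    have hxU : x ∈ p ⁻¹ᵁ U := p.preimage_mono (Y.basicOpen_le r) hxW
    rw [SetLike.mem_coe, mem_chartBasicOpen_iff chart f _ _ x hxU] at hx
    rw [mem_chartBasicOpen_iff chart f _ _ x hxW]
    have h1 := congrArg (fun g => g.base ⟨x, hxW⟩) (hP.chart_res U hU r)
    simp only [Scheme.Hom.comp_base, TopCat.comp_app] at h1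
    have h2 : (P.homOfLE (p.preimage_mono (Y.basicOpen_le r))) ⟨x, hxW⟩ = ⟨x, hxU⟩ := by
      apply Subtype.ext
      exact congrArg (fun g => g.base ⟨x, hxW⟩)
        (P.homOfLE_ι (p.preimage_mono (Y.basicOpen_le r)))
    rw [h2] at h1
    rw [h1] at hx
    have hx' : (chart (Y.basicOpen r) (hU.basicOpen r)).hom ⟨x, hxW⟩ ∈
        Proj.map (𝒮.res hU (hU.basicOpen r) (Y.basicOpen_le r))
          (𝒮.irrelevant_le_map U hU r) ⁻¹ᵁ Proj.basicOpen (𝒮.deg U hU) (resTop f U) := hx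
    rw [Proj.map_preimage_basicOpen, res_resTop] at hx'
    exact hx'

theorem mem_chartBasicOpen_iff_of_mem (hP : RelProj.IsRelProj 𝒮 p chart)
    (U V : Y.Opens) (hU : IsAffineOpen U) (hV : IsAffineOpen V) (x : P)
    (hxU : x ∈ p ⁻¹ᵁ U) (hxV : x ∈ p ⁻¹ᵁ V) :
    x ∈ chartBasicOpen chart f U hU ↔ x ∈ chartBasicOpen chart f V hV := by
  obtain ⟨a, b, e, hxa⟩ := exists_basicOpen_le_affine_inter hU hV (p x) ⟨hxU, hxV⟩
  have hxb : p x ∈ Y.basicOpen b := e ▸ hxa
  have h1 := chartBasicOpen_basicOpen f hP U hU a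
  have h2 := chartBasicOpen_basicOpen f hP V hV b
  have h3 := chartBasicOpen_congr chart f e (hU.basicOpen a) (hV.basicOpen b)
  constructor
  · intro hx
    have : x ∈ chartBasicOpen chart f (Y.basicOpen a) (hU.basicOpen a) := by
      rw [h1]; exact ⟨hx, hxa⟩
    rw [h3, h2] at this
    exact this.1
  · intro hx
    have : x ∈ chartBasicOpen chart f (Y.basicOpen b) (hV.basicOpen b) := by
      rw [h2]; exact ⟨hx, hxb⟩
    rw [← h3, h1] at this
    exact this.1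

variable (chart)

/-- the open `X_f` -/
noncomputable def relBasicOpen : P.Opens :=
  ⨆ U : Y.affineOpens, chartBasicOpen chart f U.1 U.2

variable {chart}

theorem relBasicOpen_inf (hP : RelProj.IsRelProj 𝒮 p chart) (V : Y.Opens)
    (hV : IsAffineOpen V) :
    relBasicOpen chart f ⊓ p ⁻¹ᵁ V = chartBasicOpen chart f V hV := by
  apply le_antisymm
  · rintro x ⟨hx, hxV⟩
    obtain ⟨U, hxU⟩ := TopologicalSpace.Opens.mem_iSup.mp hx
    exact (mem_chartBasicOpen_iff_of_mem f hP U.1 V U.2 hV x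
      (chartBasicOpen_le chart f _ _ hxU) hxV).mp hxU
  · intro x hx
    exact ⟨TopologicalSpace.Opens.mem_iSup.mpr ⟨⟨V, hV⟩, hx⟩, chartBasicOpen_le chart f _ _ hx⟩

theorem isAffineOpen_chartBasicOpen {d : ℕ} (hd : 0 < d) (U : Y.Opens) (hU : IsAffineOpen U)
    (hf : resTop f U ∈ 𝒮.deg U hU d) : IsAffineOpen (chartBasicOpen chart f U hU) := by
  have h1 : IsAffineOpen (Proj.basicOpen (𝒮.deg U hU) (resTop f U)) :=
    Proj.isAffineOpen_basicOpen _ _ hf hd
  exact (h1.preimage_of_isIso (chart U hU).hom).image_of_isOpenImmersion (p ⁻¹ᵁ U).ι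

theorem isAffineHom_relBasicOpen (hP : RelProj.IsRelProj 𝒮 p chart) {d : ℕ} (hd : 0 < d)
    (hf : ∀ (U : Y.Opens) (hU : IsAffineOpen U), resTop f U ∈ 𝒮.deg U hU d) :
    IsAffineHom ((relBasicOpen chart f).ι ≫ p) := by
  refine ⟨fun U hU => ?_⟩
  rw [← (relBasicOpen chart f).ι.isAffineOpen_iff_of_isOpenImmersion]
  have : (relBasicOpen chart f).ι ''ᵁ (((relBasicOpen chart f).ι ≫ p) ⁻¹ᵁ U) =
      chartBasicOpen chart f U hU := by
    rw [← relBasicOpen_inf f hP U hU]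
    change (relBasicOpen chart f).ι ''ᵁ ((relBasicOpen chart f).ι ⁻¹ᵁ (p ⁻¹ᵁ U)) = _
    rw [Scheme.Hom.image_preimage_eq_opensRange_inf, Scheme.Opens.opensRange_ι]
  rw [this]
  exact isAffineOpen_chartBasicOpen f hd U hU (hf U hU)

end basicOpen

end Groth.Agent.Lib.Helper74.RelProjLib
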