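import Groth.Agent.Lib.Helper74.RelProjGlue
import Groth.Agent.Lib.Helper5.ProjReduced

set_option autoImplicit false
universe u
open CategoryTheory CategoryTheory.Limits AlgebraicGeometry TopologicalSpace Opposite
open scoped HomogeneousIdeal

namespace Groth.Agent.Lib.Helper74.RelProjLib

theorem irreducibleSpace_of_cover {X : Type*} [TopologicalSpace X] {ι : Type*} [Nonempty ι]
    (s : ι → Set X) (hopen : ∀ i, IsOpen (s i)) (hcov : ∀ x, ∃ i, x ∈ s i)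
    (hirr : ∀ i, IsIrreducible (s i)) (hinter : ∀ i j, ∃ k, s k ⊆ s i ∩ s j) :
    IrreducibleSpace X := by
  have key : ∀ i k (u : Set X), IsOpen u → s k ⊆ s i → (s i ∩ u).Nonempty →
      (s k ∩ u).Nonempty := by
    intro i k u hu hki hiu
    have := (hirr i).2 u (s k) hu (hopen k) hiu
      ((hirr k).1.mono (Set.subset_inter hki subset_rfl))
    obtain ⟨z, -, hzu, hzk⟩ := this
    exact ⟨z, hzk, hzu⟩
  have hne : Nonempty X := by
    obtain ⟨i⟩ := ‹Nonempty ι›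
    obtain ⟨x, -⟩ := (hirr i).1
    exact ⟨x⟩
  have hpre : IsPreirreducible (Set.univ : Set X) := by
    rintro u v hu hv ⟨x, -, hxu⟩ ⟨y, -, hyv⟩
    obtain ⟨i, hi⟩ := hcov x
    obtain ⟨j, hj⟩ := hcov y
    obtain ⟨k, hk⟩ := hinter i j
    have h1 := key i k u hu (hk.trans Set.inter_subset_left) ⟨x, hi, hxu⟩
    have h2 := key j k v hv (hk.trans Set.inter_subset_right) ⟨y, hj, hyv⟩
    obtain ⟨z, -, hz⟩ := (hirr k).2 u v hu hv h1 h2
    exact ⟨z, Set.mem_univ _, hz⟩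
  exact { toNonempty := hne, isPreirreducible_univ := hpre }

section integral

variable {Y P : Scheme.{u}} {𝒮 : RelProj.QCGrAlg Y} {p : P ⟶ Y}

theorem proj_isIntegral_of_domain {σ : Type*} {A : Type u} [CommRing A] [SetLike σ A]
    [AddSubgroupClass σ A] (𝒜 : ℕ → σ) [GradedRing 𝒜] [IsDomain A]
    (hne : (𝒜₊).toIdeal ≠ ⊥) : IsIntegral (Proj 𝒜) := by
  rw [Groth.Agent.Lib.Helper5.proj_isIntegral_iff 𝒜 (fun f _ hn => hn.eq_zero)]
  constructor
  · by_contra! H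
    apply hne
    rw [eq_bot_iff]
    intro f hf
    exact H f hf
  · intro f _ g _ hfg
    exact mul_eq_zero.mp hfg

theorem exists_affine_le {y : Y} {O : Y.Opens} (hy : y ∈ O) :
    ∃ W : Y.Opens, IsAffineOpen W ∧ y ∈ W ∧ W ≤ O := by
  obtain ⟨W, hW, hyW, hWO⟩ := TopologicalSpace.Opens.isBasis_iff_nbhd.mp Y.isBasis_affineOpens hy
  exact ⟨W, hW, hyW, hWO⟩

theorem isIntegral_and_dense [IsIntegral Y]
    (chart : ∀ (U : Y.Opens) (hU : IsAffineOpen U),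
      (((p ⁻¹ᵁ U : P.Opens) : Scheme.{u}) ≅ Proj (𝒮.deg U hU)))
    (hint : ∀ (U : Y.Opens) (hU : IsAffineOpen U), (U : Set Y).Nonempty →
      IsIntegral (Proj (𝒮.deg U hU))) :
    IsIntegral P ∧ DenseRange p.base := by
  have hintU : ∀ (U : Y.Opens) (hU : IsAffineOpen U), (U : Set Y).Nonempty →
      IsIntegral ((p ⁻¹ᵁ U : P.Opens) : Scheme.{u}) := by
    intro U hU hne
    have := hint U hU hne
    have : Nonempty ((p ⁻¹ᵁ U : P.Opens) : Scheme.{u}) := by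
      obtain ⟨x⟩ := (inferInstance : Nonempty (Proj (𝒮.deg U hU)))
      exact ⟨(chart U hU).inv x⟩
    exact isIntegral_of_isOpenImmersion (chart U hU).hom
  have hirrU : ∀ (U : Y.Opens) (hU : IsAffineOpen U), (U : Set Y).Nonempty →
      IsIrreducible ((p ⁻¹ᵁ U : P.Opens) : Set P) := by
    intro U hU hne
    have := hintU U hU hne
    exact isIrreducible_iff_irreducibleSpace.mpr
      (inferInstanceAs (IrreducibleSpace ((p ⁻¹ᵁ U : P.Opens) : Scheme.{u})))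
  let ι := {U : Y.affineOpens // ((U.1 : Y.Opens) : Set Y).Nonempty}
  have hYne : Nonempty Y := inferInstance
  have hιne : Nonempty ι := by
    obtain ⟨y⟩ := hYne
    obtain ⟨W, hW, hyW, -⟩ := exists_affine_le (y := y) (O := ⊤) trivial
    exact ⟨⟨⟨W, hW⟩, ⟨y, hyW⟩⟩⟩
  have hcov : ∀ x : P, ∃ i : ι, x ∈ ((p ⁻¹ᵁ i.1.1 : P.Opens) : Set P) := by
    intro x
    obtain ⟨W, hW, hyW, -⟩ := exists_affine_le (y := p x) (O := ⊤) trivial
    exact ⟨⟨⟨W, hW⟩, ⟨p x, hyW⟩⟩, hyW⟩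
  have hinter : ∀ i j : ι, ∃ k : ι, ((p ⁻¹ᵁ k.1.1 : P.Opens) : Set P) ⊆
      ((p ⁻¹ᵁ i.1.1 : P.Opens) : Set P) ∩ ((p ⁻¹ᵁ j.1.1 : P.Opens) : Set P) := by
    intro i j
    obtain ⟨y, hyi, hyj⟩ := nonempty_preirreducible_inter i.1.1.isOpen j.1.1.isOpen i.2 j.2
    obtain ⟨W, hW, hyW, hWO⟩ := exists_affine_le (y := y) (O := i.1.1 ⊓ j.1.1) ⟨hyi, hyj⟩
    refine ⟨⟨⟨W, hW⟩, ⟨y, hyW⟩⟩, ?_⟩
    intro x hx
    exact ⟨(hWO hx).1, (hWO hx).2⟩
  have hirrP : IrreducibleSpace P :=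
    irreducibleSpace_of_cover (fun i : ι => ((p ⁻¹ᵁ i.1.1 : P.Opens) : Set P))
      (fun i => (p ⁻¹ᵁ i.1.1).isOpen) hcov (fun i => hirrU i.1.1 i.1.2 i.2) hinter
  have hredP : IsReduced P := by
    have hc : TopologicalSpace.IsOpenCover (fun i : ι => p ⁻¹ᵁ i.1.1) := by
      rw [TopologicalSpace.IsOpenCover, eq_top_iff]
      intro x _
      obtain ⟨i, hi⟩ := hcov x
      exact TopologicalSpace.Opens.mem_iSup.mpr ⟨i, hi⟩
    have : ∀ i, IsReduced ((P.openCoverOfIsOpenCover _ hc).X i) := by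
      intro i
      have := hintU i.1.1 i.1.2 i.2
      exact inferInstanceAs (IsReduced ((p ⁻¹ᵁ i.1.1 : P.Opens) : Scheme.{u}))
    exact IsReduced.of_openCover _ (P.openCoverOfIsOpenCover _ hc)
  refine ⟨isIntegral_of_irreducibleSpace_of_isReduced P, ?_⟩
  rw [DenseRange, dense_iff_inter_open]
  intro O hO ⟨y, hy⟩
  obtain ⟨W, hW, hyW, hWO⟩ := exists_affine_le (y := y) (O := ⟨O, hO⟩) hy
  obtain ⟨x, hx⟩ := (hirrU W hW ⟨y, hyW⟩).1
  exact ⟨p x, hWO hx, x, rfl⟩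

end integral

end Groth.Agent.Lib.Helper74.RelProjLib
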