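import Groth.Agent.Lib.Helper74.RelProjIntegral
import Mathlib.RingTheory.GradedAlgebra.Radical

set_option autoImplicit false
universe u
open CategoryTheory CategoryTheory.Limits AlgebraicGeometry TopologicalSpace Opposite
open scoped HomogeneousIdeal

namespace Groth.Agent.Lib.Helper74.RelProjLib

section converse

variable {Y P : Scheme.{u}} {𝒮 : RelProj.QCGrAlg Y} {p : P ⟶ Y}
  {chart : ∀ (U : Y.Opens) (hU : IsAffineOpen U),
    (((p ⁻¹ᵁ U : P.Opens) : Scheme.{u}) ≅ Proj (𝒮.deg U hU))}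

/-- restriction to `D(r)` kills `y` when `str(r) * y = 0`. -/
theorem res_eq_zero_of_str_mul_eq_zero (U : Y.Opens) (hU : IsAffineOpen U) (r : Γ(Y, U))
    (y : 𝒮.presheaf.obj (op U)) (hxy : (𝒮.str.app (op U)).hom r * y = 0) :
    𝒮.res hU (hU.basicOpen r) (Y.basicOpen_le r) y = 0 := by
  let _inst := (𝒮.presheaf.map (homOfLE (Y.basicOpen_le r)).op).hom.toAlgebra
  have hloc : IsLocalization.Away ((𝒮.str.app (op U)).hom r)
      (𝒮.presheaf.obj (op (Y.basicOpen r))) := 𝒮.isQC U hU r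
  have hu : IsUnit (algebraMap (𝒮.presheaf.obj (op U)) (𝒮.presheaf.obj (op (Y.basicOpen r)))
      ((𝒮.str.app (op U)).hom r)) := IsLocalization.Away.algebraMap_isUnit _
  have h2 : algebraMap (𝒮.presheaf.obj (op U)) (𝒮.presheaf.obj (op (Y.basicOpen r)))
      ((𝒮.str.app (op U)).hom r) * algebraMap (𝒮.presheaf.obj (op U))
      (𝒮.presheaf.obj (op (Y.basicOpen r))) y = 0 := by
    rw [← map_mul, hxy, map_zero]
  exact (hu.mul_right_eq_zero).mp h2

theorem domain_of_isIntegral [IsIntegral Y]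
    (h0 : ∀ (U : Y.Opens) (hU : IsAffineOpen U), Function.Bijective (𝒮.strZero U hU).hom)
    (hred : ∀ (U : Y.Opens) (hU : IsAffineOpen U) (x : 𝒮.presheaf.obj (op U)),
      x ∈ (𝒮.deg U hU)₊ → IsNilpotent x → x = 0)
    (hP : RelProj.IsRelProj 𝒮 p chart) [IsIntegral P] (hdom : DenseRange p.base)
    (U : Y.Opens) (hU : IsAffineOpen U) (hne : (U : Set Y).Nonempty) :
    IsDomain (𝒮.presheaf.obj (op U)) ∧ ((𝒮.deg U hU)₊).toIdeal ≠ ⊥ := by
  have hpre : ∀ (W : Y.Opens), (W : Set Y).Nonempty →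
      Nonempty ((p ⁻¹ᵁ W : P.Opens) : Scheme.{u}) := by
    intro W hW
    obtain ⟨x, hx⟩ := hdom.exists_mem_open W.isOpen hW
    exact ⟨⟨x, hx⟩⟩
  have hPU : IsIntegral (Proj (𝒮.deg U hU)) := by
    have := hpre U hne
    have h1 : IsIntegral ((p ⁻¹ᵁ U : P.Opens) : Scheme.{u}) :=
      isIntegral_of_isOpenImmersion (p ⁻¹ᵁ U).ι
    have : Nonempty (Proj (𝒮.deg U hU)) := ⟨(chart U hU).hom (Classical.arbitrary _)⟩
    exact isIntegral_of_isOpenImmersion (chart U hU).inv
  obtain ⟨⟨f, hf, hf0⟩, hnzd⟩ :=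
    (Groth.Agent.Lib.Helper5.proj_isIntegral_iff _ (hred U hU)).mp hPU
  have hne' : ((𝒮.deg U hU)₊).toIdeal ≠ ⊥ := by
    intro h
    apply hf0
    rw [h] at hf
    exact hf
  refine ⟨?_, hne'⟩
  have : Nonempty U := ⟨⟨hne.some, hne.some_mem⟩⟩
  have hdomU : IsDomain Γ(Y, U) := inferInstance
  have hirrU : IrreducibleSpace (Proj (𝒮.deg U hU)) := inferInstance
  -- the mixed case
  have Z : ∀ (x y : 𝒮.presheaf.obj (op U)) (n : ℕ), x ∈ 𝒮.deg U hU 0 → 0 < n → y ∈ 𝒮.deg U hU n →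
      x * y = 0 → x = 0 ∨ y = 0 := by
    intro x y n hx hn hy hxy
    by_contra! H
    obtain ⟨hx0, hy0⟩ := H
    obtain ⟨r, hr⟩ := (h0 U hU).2 ⟨x, hx⟩
    have hr' : (𝒮.str.app (op U)).hom r = x := congrArg Subtype.val hr
    have hr0 : r ≠ 0 := by
      rintro rfl
      apply hx0
      rw [← hr', map_zero]
    have hW : ((Y.basicOpen r : Y.Opens) : Set Y).Nonempty := by
      rw [← TopologicalSpace.Opens.ne_bot_iff_nonempty, ne_eq, basicOpen_eq_bot_iff]
      exact hr0
    have := hpre _ hW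
    have hyirr : y ∈ ((𝒮.deg U hU)₊).toIdeal :=
      HomogeneousIdeal.mem_irrelevant_of_mem _ hn hy
    have hynil : ¬ IsNilpotent y := fun hnil => hy0 (hred U hU y hyirr hnil)
    have hO1 := (Groth.Agent.Lib.Helper5.basicOpen_nonempty_iff (𝒮.deg U hU) hyirr).mpr hynil
    let j := P.homOfLE (p.preimage_mono (Y.basicOpen_le r)) ≫ (chart U hU).hom
    have hO2 : ((j.opensRange : (Proj (𝒮.deg U hU)).Opens) : Set (Proj (𝒮.deg U hU))).Nonempty :=
      ⟨j (Classical.arbitrary _), Set.mem_range_self _⟩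
    obtain ⟨z, hz1, ⟨w, rfl⟩⟩ := nonempty_preirreducible_inter
      (Proj.basicOpen (𝒮.deg U hU) y).isOpen j.opensRange.isOpen hO1 hO2
    have hj : j = (chart (Y.basicOpen r) (hU.basicOpen r)).hom ≫
        Proj.map (𝒮.res hU (hU.basicOpen r) (Y.basicOpen_le r)) (𝒮.irrelevant_le_map U hU r) :=
      hP.chart_res U hU r
    rw [hj] at hz1
    have hz2 : (chart (Y.basicOpen r) (hU.basicOpen r)).hom w ∈
        Proj.map (𝒮.res hU (hU.basicOpen r) (Y.basicOpen_le r)) (𝒮.irrelevant_le_map U hU r) ⁻¹ᵁ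
          Proj.basicOpen (𝒮.deg U hU) y := hz1
    rw [Proj.map_preimage_basicOpen, res_eq_zero_of_str_mul_eq_zero U hU r y (by rw [hr', hxy]),
      Proj.basicOpen_zero] at hz2
    exact hz2
  have hprime : (⊥ : Ideal (𝒮.presheaf.obj (op U))).IsPrime := by
    refine Ideal.IsHomogeneous.isPrime_of_homogeneous_mem_or_mem (𝒜 := 𝒮.deg U hU)
      (Ideal.IsHomogeneous.bot _) ?_ ?_
    · intro h
      apply hf0
      have : f ∈ (⊥ : Ideal (𝒮.presheaf.obj (op U))) := h ▸ Submodule.mem_top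
      exact this
    · rintro x y ⟨m, hx⟩ ⟨n, hy⟩ hxy
      rw [Ideal.mem_bot] at hxy
      rw [Ideal.mem_bot, Ideal.mem_bot]
      rcases Nat.eq_zero_or_pos m with rfl | hm
      · rcases Nat.eq_zero_or_pos n with rfl | hn
        · obtain ⟨r, hr⟩ := (h0 U hU).2 ⟨x, hx⟩
          obtain ⟨s, hs⟩ := (h0 U hU).2 ⟨y, hy⟩
          have hrs : (𝒮.strZero U hU).hom (r * s) = 0 := by
            rw [map_mul, hr, hs]
            exact Subtype.ext hxy
          have := (h0 U hU).1 (hrs.trans (map_zero _).symm)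
          rcases mul_eq_zero.mp this with h | h
          · left
            have := congrArg Subtype.val hr
            rw [h, map_zero] at this
            exact this.symm
          · right
            have := congrArg Subtype.val hs
            rw [h, map_zero] at this
            exact this.symm
        · exact Z x y n hx hn hy hxy
      · rcases Nat.eq_zero_or_pos n with rfl | hn
        · exact (Z y x m hy hm hx (by rw [mul_comm]; exact hxy)).symm
        · exact hnzd x (HomogeneousIdeal.mem_irrelevant_of_mem _ hm hx) y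
            (HomogeneousIdeal.mem_irrelevant_of_mem _ hn hy) hxy
  have hnt : Nontrivial (𝒮.presheaf.obj (op U)) := ⟨⟨f, 0, hf0⟩⟩
  have hnz : NoZeroDivisors (𝒮.presheaf.obj (op U)) := by
    refine ⟨fun {a b} hab => ?_⟩
    have := hprime.mem_or_mem (show a * b ∈ (⊥ : Ideal _) by rw [hab]; exact Submodule.zero_mem _)
    simpa [Ideal.mem_bot] using this
  exact NoZeroDivisors.to_isDomain _

end converse

end Groth.Agent.Lib.Helper74.RelProjLib
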