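import Groth.Agent.Lib.Helper74.RelProjMap
import Groth.Agent.Lib.Helper43.ProjIso

set_option autoImplicit false
universe u
open CategoryTheory CategoryTheory.Limits AlgebraicGeometry TopologicalSpace Opposite
open scoped HomogeneousIdeal
open HomogeneousLocalization

namespace Groth.Agent.Lib.Helper74.RelProjLib

section rel

variable {Y PA PB : Scheme.{u}} {𝒜 ℬ : RelProj.QCGrAlg Y}
    (φ : 𝒜.toQCAlg ⟶ ℬ.toQCAlg) (hφ : RelProj.IsGradedHom φ)
    (hirr : ∀ (U : Y.Opens) (hU : IsAffineOpen U),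
      (ℬ.deg U hU)₊ ≤ ((𝒜.deg U hU)₊).map (RelProj.gradedHomAt φ hφ U hU))
    {pA : PA ⟶ Y} {pB : PB ⟶ Y}
    {chartA : ∀ (U : Y.Opens) (hU : IsAffineOpen U),
      (((pA ⁻¹ᵁ U : PA.Opens) : Scheme.{u}) ≅ Proj (𝒜.deg U hU))}
    {chartB : ∀ (U : Y.Opens) (hU : IsAffineOpen U),
      (((pB ⁻¹ᵁ U : PB.Opens) : Scheme.{u}) ≅ Proj (ℬ.deg U hU))}

/-- A property local at the target holds for the induced morphism of relative Proj's if it holds
chartwise. -/
theorem relProjMap_of_forall (Q : MorphismProperty Scheme.{u}) [IsZariskiLocalAtTarget Q]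
    (hA : RelProj.IsRelProj 𝒜 pA chartA) (hB : RelProj.IsRelProj ℬ pB chartB)
    (h : PB ⟶ PA) (hh : RelProj.IsRelProjMap φ hφ hirr chartA chartB h)
    (H : ∀ (U : Y.Opens) (hU : IsAffineOpen U),
      Q (Proj.map (RelProj.gradedHomAt φ hφ U hU) (hirr U hU))) : Q h := by
  have hcomp : h ≫ pA = pB := relProjMap_comp φ hφ hirr hA hB h hh
  refine IsZariskiLocalAtTarget.of_iSup_eq_top (P := Q)
    (fun U : Y.affineOpens => pA ⁻¹ᵁ U.1) (iSup_preimage_eq_top pA) ?_
  intro U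
  have heq : h ⁻¹ᵁ (pA ⁻¹ᵁ U.1) = pB ⁻¹ᵁ U.1 := by rw [← hcomp]; rfl
  let e : Arrow.mk (h ∣_ (pA ⁻¹ᵁ U.1)) ≅ Arrow.mk ((chartB U.1 U.2).hom ≫
      Proj.map (RelProj.gradedHomAt φ hφ U.1 U.2) (hirr U.1 U.2) ≫ (chartA U.1 U.2).inv) :=
    Arrow.isoMk (PB.isoOfEq heq) (Iso.refl _) (by
      rw [← cancel_mono (pA ⁻¹ᵁ U.1).ι]
      simp only [Arrow.mk_left, Arrow.mk_right, Arrow.mk_hom, Iso.refl_hom, Category.assoc,
        Category.id_comp, morphismRestrict_ι]
      rw [← hh U.1 U.2, Scheme.isoOfEq_hom_ι_assoc])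
  rw [MorphismProperty.arrow_mk_iso_iff Q e, MorphismProperty.cancel_left_of_respectsIso (P := Q),
    MorphismProperty.cancel_right_of_respectsIso (P := Q)]
  exact H U.1 U.2

end rel

section alg

variable {A B σ τ : Type u} [CommRing A] [SetLike σ A] [AddSubgroupClass σ A]
  [CommRing B] [SetLike τ B] [AddSubgroupClass τ B]
  {𝒜 : ℕ → σ} {ℬ : ℕ → τ} [GradedRing 𝒜] [GradedRing ℬ]

theorem away_map_bijective_of_pos (f : 𝒜 →+*ᵍ ℬ)
    (hpos : ∀ n, 0 < n → Set.BijOn f (𝒜 n) (ℬ n))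
    (d : ℕ) (hd : 0 < d) (s : A) (hs : s ∈ 𝒜 d) : Function.Bijective (Away.map f s) := by
  classical
  constructor
  · rw [injective_iff_map_eq_zero]
    intro x hx
    obtain ⟨n, a, ha, rfl⟩ := Away.mk_surjective 𝒜 hs x
    rw [Away.map_mk] at hx
    have hx' := congrArg HomogeneousLocalization.val hx
    rw [Away.val_mk, HomogeneousLocalization.val_zero, Localization.mk_eq_mk',
      IsLocalization.mk'_eq_zero_iff] at hx'
    obtain ⟨⟨_, j, rfl⟩, hj⟩ := hx'
    have hj' : f (s ^ (j + 1) * a) = 0 := by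
      rw [map_mul, map_pow, pow_add, mul_right_comm, hj, zero_mul]
    have hmem : s ^ (j + 1) * a ∈ 𝒜 ((j + 1) • d + n • d) :=
      SetLike.mul_mem_graded (SetLike.pow_mem_graded _ hs) ha
    have hposm : 0 < (j + 1) • d + n • d := by
      simp only [smul_eq_mul]
      nlinarith
    have hz : s ^ (j + 1) * a = 0 :=
      (hpos _ hposm).injOn hmem (zero_mem _) (by rw [hj', map_zero])
    apply HomogeneousLocalization.val_injective
    rw [Away.val_mk, HomogeneousLocalization.val_zero, Localization.mk_eq_mk',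
      IsLocalization.mk'_eq_zero_iff]
    exact ⟨⟨s ^ (j + 1), j + 1, rfl⟩, hz⟩
  · intro y
    obtain ⟨n, b, hb, rfl⟩ := Away.mk_surjective ℬ (f.map_mem hs) y
    have hb' : b * f s ∈ ℬ ((n + 1) • d) := by
      have := SetLike.mul_mem_graded hb (f.map_mem hs)
      rw [add_smul, one_smul]
      exact this
    have hposm : 0 < (n + 1) • d := by
      simp only [smul_eq_mul]
      nlinarith
    obtain ⟨a, ha, hfa⟩ := (hpos _ hposm).surjOn hb'
    refine ⟨Away.mk 𝒜 hs (n + 1) a ha, ?_⟩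
    rw [Away.map_mk]
    apply HomogeneousLocalization.val_injective
    rw [Away.val_mk, Away.val_mk, Localization.mk_eq_mk_iff, Localization.r_iff_exists]
    refine ⟨1, ?_⟩
    simp only [OneMemClass.coe_one, one_mul]
    rw [hfa, pow_succ]
    change f s ^ n * (b * f s) = f s ^ n * f s * b
    ring

end alg

end Groth.Agent.Lib.Helper74.RelProjLib
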