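import Groth.Agent.Lib.Helper74.RelProjUC1

set_option autoImplicit false
universe u
open CategoryTheory CategoryTheory.Limits AlgebraicGeometry TopologicalSpace Opposite
open scoped HomogeneousIdeal
open HomogeneousLocalization

namespace Groth.Agent.Lib.Helper74.RelProjLib

section alg

variable {R A : Type u} [CommRing R] [CommRing A] {σ : Type*} [SetLike σ A] [AddSubgroupClass σ A]
  (𝒜 : ℕ → σ) [GradedRing 𝒜] (φ₀ : R →+* 𝒜 0) (T : Finset A)

theorem universallyClosed_toSpecZero_comp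
    (hT : ∀ t ∈ T, t ∈ 𝒜 1)
    (hspan : ∀ x ∈ 𝒜 1, ∃ c : A → R, x = ∑ t ∈ T, (φ₀ (c t) : A) * t)
    (hgen : Subring.closure ((𝒜 0 : Set A) ∪ (𝒜 1 : Set A)) = ⊤) :
    UniversallyClosed (Proj.toSpecZero 𝒜 ≫ Spec.map (CommRingCat.ofHom φ₀)) := by
  classical
  have hft : Algebra.FiniteType (𝒜 0) A := finiteType_zero 𝒜 φ₀ T hT hspan hgen
  have : QuasiCompact (Proj.toSpecZero 𝒜 ≫ Spec.map (CommRingCat.ofHom φ₀)) := inferInstance
  apply UniversallyClosed.of_valuativeCriterion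
  rintro ⟨O, K, i₁, i₂, w⟩
  have hadj := adjoin_zero_eq_top 𝒜 φ₀ T hT hspan hgen
  have hmem : i₁ (IsLocalRing.closedPoint K) ∈ (⊤ : (Proj 𝒜).Opens) := trivial
  rw [← Proj.iSup_basicOpen_eq_top' 𝒜 (ι := T) (↑) (fun i ↦ ⟨1, hT _ i.2⟩)
    (by simpa using hadj), TopologicalSpace.Opens.mem_iSup] at hmem
  obtain ⟨i, hi⟩ := hmem
  have hrange : Set.range i₁ ⊆ (Proj.awayι 𝒜 _ (hT i i.2) Nat.one_pos).opensRange := by
    rw [Proj.opensRange_awayι]
    rintro _ ⟨x, rfl⟩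
    obtain rfl := Subsingleton.elim x (IsLocalRing.closedPoint K)
    exact hi
  let φ : Spec (.of <| K) ⟶ _ := IsOpenImmersion.lift _ _ hrange
  have H : Spec.preimage i₂ ≫ CommRingCat.ofHom (algebraMap O K) =
      CommRingCat.ofHom φ₀ ≫ CommRingCat.ofHom (fromZeroRingHom 𝒜 _) ≫ Spec.preimage φ := by
    apply Spec.map_injective
    simp only [Spec.map_comp, Spec.map_preimage]
    rw [← w.w, ← Proj.awayι_toSpecZero _ _ (hT i i.2) Nat.one_pos,
      IsOpenImmersion.lift_fac_assoc, Category.assoc]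
  have hcomm : (algebraMap O K).comp (Spec.preimage i₂).hom =
      ((Spec.preimage φ).hom.comp (fromZeroRingHom 𝒜 _)).comp φ₀ := congr(($H).hom)
  have hmem := fromZero_mem_range 𝒜 φ₀ T hT hspan (Spec.preimage i₂).hom i.2 (Spec.preimage φ).hom hcomm
  let e : O ≃+* (algebraMap O K).range :=
    (AlgEquiv.ofInjective (Algebra.ofId O K) (IsFractionRing.injective _ _)).toRingEquiv
  let χ₀ : 𝒜 0 →+* K := (Spec.preimage φ).hom.comp (fromZeroRingHom 𝒜 _)
  have hχ₀ : χ₀.range ≤ (algebraMap O K).range := by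
    rintro _ ⟨a, rfl⟩
    exact hmem a
  let φ₀' : 𝒜 0 →+* O := e.symm.toRingHom.comp ((Subring.inclusion hχ₀).comp χ₀.rangeRestrict)
  have hφ₀' : (algebraMap O K).comp φ₀' = χ₀ := by
    ext x
    exact congr_arg Subtype.val (e.apply_symm_apply _)
  have hφ₀'' : φ₀'.comp φ₀ = (Spec.preimage i₂).hom := by
    ext r
    apply IsFractionRing.injective O K
    have h1 := congrArg (fun f => f (φ₀ r)) hφ₀'
    have h2 := congrArg (fun f => f r) hcomm
    exact h1.trans h2.symm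
  have w' : CommSq i₁ (Spec.map (CommRingCat.ofHom (algebraMap O K))) (Proj.toSpecZero 𝒜)
      (Spec.map (CommRingCat.ofHom φ₀')) := by
    constructor
    rw [← Spec.map_comp, ← CommRingCat.ofHom_comp, hφ₀']
    have h3 : i₁ = φ ≫ Proj.awayι 𝒜 _ (hT i i.2) Nat.one_pos := (IsOpenImmersion.lift_fac _ _ hrange).symm
    rw [h3, Category.assoc, Proj.awayι_toSpecZero, ← Spec.map_preimage φ, ← Spec.map_comp]
    congr 1
  obtain ⟨⟨l, hl1, hl2⟩⟩ := Proj.valuativeCriterion_existence 𝒜 ⟨O, K, i₁, _, w'⟩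
  refine ⟨⟨l, hl1, ?_⟩⟩
  dsimp only at hl2 ⊢
  rw [← Category.assoc, hl2, ← Spec.map_comp, ← CommRingCat.ofHom_comp, hφ₀'', CommRingCat.ofHom_hom,
    Spec.map_preimage]

end alg

end Groth.Agent.Lib.Helper74.RelProjLib

namespace Groth.Agent.Lib.Helper74.RelProjLib

section scheme

variable {Y : Scheme.{u}} {𝒮 : RelProj.QCGrAlg Y} {P : Scheme.{u}} {p : P ⟶ Y}
  {chart : ∀ (U : Y.Opens) (hU : IsAffineOpen U),
    (((p ⁻¹ᵁ U : P.Opens) : Scheme.{u}) ≅ Proj (𝒮.deg U hU))}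

theorem universallyClosed_of_genDegOne (hP : RelProj.IsRelProj 𝒮 p chart)
    (hgen : 𝒮.IsGenDegOne) (hft : 𝒮.IsFTDeg 1) : UniversallyClosed p := by
  refine of_forall_chart @UniversallyClosed hP ?_
  intro U hU
  obtain ⟨T, hT, hspan⟩ := hft U hU
  exact universallyClosed_toSpecZero_comp (𝒮.deg U hU) (𝒮.strZero U hU).hom T
    (fun t ht => hT ht) hspan (hgen U hU)

end scheme

end Groth.Agent.Lib.Helper74.RelProjLib
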