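import Groth.Agent.Lib.Helper74.RelProjFT
import Mathlib.AlgebraicGeometry.ProjectiveSpectrum.Proper
import Mathlib.RingTheory.Valuation.ValuationRing

set_option autoImplicit false
universe u
open CategoryTheory CategoryTheory.Limits AlgebraicGeometry TopologicalSpace Opposite
open scoped HomogeneousIdeal
open HomogeneousLocalization

namespace Groth.Agent.Lib.Helper74.RelProjLib

section alg

variable {R A : Type*} [CommRing R] [CommRing A] {σ : Type*} [SetLike σ A] [AddSubgroupClass σ A]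
  (𝒜 : ℕ → σ) [GradedRing 𝒜] (φ₀ : R →+* 𝒜 0) (T : Finset A)

theorem frac_self {t : A} (ht : t ∈ 𝒜 1) : frac 𝒜 ht t = 1 := by
  classical
  rw [frac, dif_pos ht]
  apply HomogeneousLocalization.val_injective
  rw [Away.val_mk, HomogeneousLocalization.val_one]
  simp only [pow_one]
  exact Localization.mk_self (⟨t, 1, pow_one t⟩ : Submonoid.powers t)

theorem fromZero_mul_frac_eq_sum {t : A} (ht : t ∈ 𝒜 1) (a : 𝒜 0) {t₁ : A} (ht₁ : t₁ ∈ 𝒜 1)
    (c : A → R) (hT : ∀ t ∈ T, t ∈ 𝒜 1)
    (hc : (a : A) * t₁ = ∑ t' ∈ T, (φ₀ (c t') : A) * t') :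
    fromZeroRingHom 𝒜 (Submonoid.powers t) a * frac 𝒜 ht t₁ =
      ∑ t' ∈ T, fromZeroRingHom 𝒜 (Submonoid.powers t) (φ₀ (c t')) * frac 𝒜 ht t' := by
  classical
  apply HomogeneousLocalization.val_injective
  rw [← HomogeneousLocalization.algebraMap_apply, ← HomogeneousLocalization.algebraMap_apply,
    map_sum]
  let tt : Submonoid.powers t := ⟨t ^ 1, ⟨1, rfl⟩⟩
  have h1 : ∀ (b : 𝒜 0) (t' : A), t' ∈ 𝒜 1 → algebraMap _ (Localization (Submonoid.powers t))
      (fromZeroRingHom 𝒜 (Submonoid.powers t) b * frac 𝒜 ht t') =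
      Localization.mk ((b : A) * t') tt := by
    intro b t' ht'
    rw [HomogeneousLocalization.algebraMap_apply, frac, dif_pos ht',
      HomogeneousLocalization.val_mul, Away.val_mk]
    simp only [fromZeroRingHom, RingHom.coe_mk, MonoidHom.coe_mk, OneHom.coe_mk,
      HomogeneousLocalization.val_mk]
    rw [Localization.mk_mul]
    congr 1
    ext
    simp [tt]
  rw [Finset.sum_congr rfl (fun t' ht' => h1 (φ₀ (c t')) t' (hT t' ht')), h1 a t₁ ht₁]
  have h2 : ∀ (s : Finset A) (g : A → A), ∑ t' ∈ s, Localization.mk (g t') tt =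
      Localization.mk (∑ t' ∈ s, g t') tt := by
    intro s g
    induction s using Finset.induction_on with
    | empty => simp [Localization.mk_zero]
    | insert x s hx ih =>
      rw [Finset.sum_insert hx, Finset.sum_insert hx, ih, Localization.add_mk_self]
  rw [h2, ← hc]

open ValuationRing in
theorem fromZero_mem_range
    (hT : ∀ t ∈ T, t ∈ 𝒜 1)
    (hspan : ∀ x ∈ 𝒜 1, ∃ c : A → R, x = ∑ t ∈ T, (φ₀ (c t) : A) * t)
    {O : Type*} [CommRing O] [IsDomain O] [ValuationRing O]
    {K : Type*} [Field K] [Algebra O K] [IsFractionRing O K]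
    (ψ : R →+* O) {t : A} (htT : t ∈ T) (χ : Away 𝒜 t →+* K)
    (hcomm : (algebraMap O K).comp ψ = (χ.comp (fromZeroRingHom 𝒜 _)).comp φ₀) (a : 𝒜 0) :
    χ (fromZeroRingHom 𝒜 _ a) ∈ (algebraMap O K).range := by
  classical
  have ht : t ∈ 𝒜 1 := hT t htT
  let g : A → ValueGroup O K := fun t' => valuation O K (χ (frac 𝒜 ht t'))
  obtain ⟨i₀, hi₀T, hi₀⟩ := Finset.exists_max_image T g ⟨t, htT⟩
  have hM : g i₀ ≠ 0 := by
    have h1 : g t = 1 := by
      simp only [g]
      rw [frac_self, map_one, map_one]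
    have := hi₀ t htT
    rw [h1] at this
    intro h0
    rw [h0] at this
    exact absurd this (by simp)
  have hat : (a : A) * i₀ ∈ 𝒜 1 := by
    have := SetLike.mul_mem_graded a.2 (hT i₀ hi₀T)
    simpa using this
  obtain ⟨c, hc⟩ := hspan _ hat
  have key := fromZero_mul_frac_eq_sum 𝒜 φ₀ T ht a (hT i₀ hi₀T) c hT hc
  have key2 := congrArg χ key
  rw [map_mul, map_sum] at key2
  have hle : valuation O K (χ (fromZeroRingHom 𝒜 _ a)) * g i₀ ≤ g i₀ := by
    change valuation O K (χ (fromZeroRingHom 𝒜 _ a)) * valuation O K (χ (frac 𝒜 ht i₀)) ≤ _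
    rw [← map_mul, key2]
    apply Valuation.map_sum_le
    intro t' ht'
    rw [map_mul, map_mul]
    have h1 : χ (fromZeroRingHom 𝒜 (Submonoid.powers t) (φ₀ (c t'))) = algebraMap O K (ψ (c t')) := by
      have := congrArg (fun f => f (c t')) hcomm
      exact this.symm
    rw [h1]
    have h2 : valuation O K (algebraMap O K (ψ (c t'))) ≤ 1 := by
      rw [← Valuation.mem_integer_iff, ValuationRing.mem_integer_iff]
      exact ⟨_, rfl⟩
    calc _ ≤ 1 * g t' := by gcongr
      _ = g t' := one_mul _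
      _ ≤ g i₀ := hi₀ t' ht'
  rw [RingHom.mem_range, ← ValuationRing.mem_integer_iff, Valuation.mem_integer_iff]
  have hpos : 0 < g i₀ := zero_lt_iff.mpr hM
  by_contra hcon
  push Not at hcon
  have := mul_lt_mul_of_pos_right hcon hpos
  rw [one_mul] at this
  exact absurd hle (not_le.mpr this)

end alg

end Groth.Agent.Lib.Helper74.RelProjLib
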