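import Groth.Agent.Lib.Helper74.RelTwistMul2
import Groth.Agent.Lib.Helper74.ProjSerre
import Groth.Agent.Lib.Helper60.TensorRestrictPow
import Groth.Agent.Lib.Helper21.CohPullback
import Groth.Agent.Lib.Helper21.CohNoeth
import Groth.Agent.Lib.Helper21.QCohKernel
import Groth.Agent.Lib.Lead.QAffCounit
import Groth.Agent.Lib.Lead.Tw5

/-!
# Serre's theorem for a relative Proj: `p^* p_* F(n) ⟶ F(n)` is an epimorphism for large `n` (helper74)
-/

set_option autoImplicit false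
universe u
open CategoryTheory AlgebraicGeometry TopologicalSpace Opposite
open scoped HomogeneousIdeal

namespace Groth.Agent.Lib.Helper74.RelSerre

open Groth.Agent.Lib.Lead.Inv Groth.Agent.Lib.Helper35.GlobGen
open Groth.Agent.Lib.Helper74 Groth.Agent.Lib.Helper74.TwistNat Groth.Agent.Lib.Helper74.RelGlue
  Groth.Agent.Lib.Helper74.RelTilde

section general

variable {X : Scheme.{u}}

/-- a module with a global generator is the structure module -/
theorem nonempty_iso_structure_of_isGen_top {M : X.Modules} {e : Γ(M, ⊤)} (he : IsGen M ⊤ e) :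
    Nonempty (Coh.structureModule X ≅ M) := by
  have : IsIso (secHom M e) := by
    refine Groth.Agent.Lib.Helper60.TensorLib.isIso_of_app_bijective _ fun U => ?_
    have h := he U le_top
    have hfun : ((secHom M e).app U : Γ(Coh.structureModule X, U) → Γ(M, U)) =
        fun r : Γ(X, U) => r • (M.presheaf.map (homOfLE (le_top : U ≤ ⊤)).op).hom e := by
      funext r
      exact secHom_app M e U r
    rw [hfun]
    exact h
  exact ⟨asIso (secHom M e)⟩

/-- tensor powers respect isomorphisms -/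
theorem nonempty_tensorPow_congr {L L' : X.Modules} (e : L ≅ L') :
    ∀ k : ℕ, Nonempty (CohB1.tensorPow L k ≅ CohB1.tensorPow L' k)
  | 0 => ⟨Iso.refl _⟩
  | k + 1 => by
    obtain ⟨i⟩ := nonempty_tensorPow_congr e k
    exact ⟨Groth.Agent.Lib.Helper60.TensorLib.tensorModCongrLeft i L ≪≫
      Groth.Agent.Lib.Helper60.TensorLib.tensorModCongrRight _ e⟩

end general

variable {Y P : Scheme.{u}} {𝒮 : RelProj.QCGrAlg Y} {p : P ⟶ Y}
  {chart : ∀ (U : Y.Opens) (hU : IsAffineOpen U),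
    (((p ⁻¹ᵁ U : P.Opens) : Scheme.{u}) ≅ Proj (𝒮.deg U hU))}
  (hP : RelProj.IsRelProj 𝒮 p chart)

include hP in
/-- `O_P(k)` is the `k`-th tensor power of `O_P(1)` -/
theorem nonempty_iso_tensorPow (hgen : 𝒮.IsGenDegOne) {L₁ : P.Modules}
    {lam₁ : ∀ (U : Y.Opens) (hU : IsAffineOpen U), L₁ ⟶ GTw p chart 1 U hU}
    (hL₁ : RelProj.IsRelTwist 𝒮 p chart 1 L₁ lam₁) :
    ∀ (k : ℕ) (L : P.Modules) (lam : ∀ (U : Y.Opens) (hU : IsAffineOpen U),
      L ⟶ GTw p chart (k : ℤ) U hU), RelProj.IsRelTwist 𝒮 p chart (k : ℤ) L lam →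
      Nonempty (L ≅ CohB1.tensorPow L₁ k)
  | 0 => by
    intro L lam hL
    obtain ⟨e, he⟩ := exists_isGen_top hP hL
    obtain ⟨i⟩ := nonempty_iso_structure_of_isGen_top he
    exact ⟨i.symm⟩
  | k + 1 => by
    intro L lam hL
    obtain ⟨Lk, lamk, hGk⟩ := (twistSys hP (k : ℤ)).exists_isGlued
    have hLk : RelProj.IsRelTwist 𝒮 p chart (k : ℤ) Lk lamk := (isGluedTw_iff hP _ Lk lamk).1 hGk
    obtain ⟨i⟩ := nonempty_iso_tensorPow hgen hL₁ k Lk lamk hLk
    have hk : ((k + 1 : ℕ) : ℤ) = (k : ℤ) + 1 := by push_cast; ring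
    obtain ⟨τ⟩ := nonempty_tensor_iso hP hk hLk hL₁ hL hgen
    exact ⟨τ.symm ≪≫ Groth.Agent.Lib.Helper60.TensorLib.tensorModCongrLeft i L₁⟩

/-- the restriction of `O_P(n)` to a chart is `O(n)` -/
theorem nonempty_restrict_iso {n : ℤ} {L : P.Modules}
    {lam : ∀ (U : Y.Opens) (hU : IsAffineOpen U), L ⟶ GTw p chart n U hU}
    (hL : RelProj.IsRelTwist 𝒮 p chart n L lam) (V : Y.Opens) (hV : IsAffineOpen V) :
    Nonempty (L.restrict (RelProj.emb p chart V hV) ≅ GrTwist.twist (𝒮.deg V hV) n) := by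
  have : IsIso ((Scheme.Modules.restrictFunctor (RelProj.emb p chart V hV)).map (lam V hV)) := by
    refine Groth.Agent.Lib.Helper60.TensorLib.isIso_of_app_bijective _ fun U => ?_
    rw [Groth.Agent.Lib.Helper60.TensorLib.restrict_map_app]
    refine hL.bijective V hV _ ?_
    rintro _ ⟨z, -, rfl⟩
    exact emb_mem V hV z
  exact ⟨asIso ((Scheme.Modules.restrictFunctor (RelProj.emb p chart V hV)).map (lam V hV)) ≪≫
    (Scheme.Modules.restrictFunctorAdjCounitIso (RelProj.emb p chart V hV)).app _⟩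


/-- restriction along an open immersion preserves quasi-coherence and finite type -/
theorem isCoh_restrict {X Z : Scheme.{u}} (j : Z ⟶ X) [IsOpenImmersion j] (M : X.Modules)
    (hM : Coh.IsCoh M) : Coh.IsCoh (M.restrict j) := by
  haveI := hM.1
  refine ⟨inferInstance, ?_⟩
  have h1 := Groth.Agent.Lib.Helper21.CohPullback.isFiniteType_pullback j M hM.2
  let e : M.restrict j ≅ (Scheme.Modules.pullback j).obj M :=
    (Scheme.Modules.restrictFunctorIsoPullback j).app M
  exact Groth.Agent.Lib.Helper21.CohNoeth.isFiniteType_of_epi e.inv h1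

open Groth.Agent.Lib.Helper74.RelProjLib Groth.Agent.Lib.Helper60.TensorLib
  Groth.Agent.Lib.Helper60.TensorRestrict in
include hP in
/-- **Serre on a chart**: for large `k` the restriction of `F(k)` to the chart over `V` is generated
by its global sections -/
theorem exists_GG_restrict (hgen : 𝒮.IsGenDegOne) (hft : 𝒮.IsFTDeg 1) (F : P.Modules)
    (hF : Coh.IsCoh F) (V : Y.Opens) (hV : IsAffineOpen V) :
    ∃ k₀ : ℕ, ∀ k : ℕ, k₀ ≤ k → ∀ (L : P.Modules)
      (lam : ∀ (U : Y.Opens) (hU : IsAffineOpen U), L ⟶ GTw p chart (k : ℤ) U hU),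
      RelProj.IsRelTwist 𝒮 p chart (k : ℤ) L lam →
        GG ((CohB1.tensorMod F L).restrict (RelProj.emb p chart V hV)) := by
  obtain ⟨T, hT, hspan⟩ := hft V hV
  have hT' : ∀ t ∈ T, t ∈ 𝒮.deg V hV 1 := fun t ht => hT ht
  have hadj := adjoin_zero_eq_top (𝒮.deg V hV) (𝒮.strZero V hV).hom T hT' hspan (hgen V hV)
  obtain ⟨L₁, lam₁, hG₁⟩ := (twistSys hP 1).exists_isGlued
  have hL₁ : RelProj.IsRelTwist 𝒮 p chart 1 L₁ lam₁ := (isGluedTw_iff hP _ L₁ lam₁).1 hG₁
  obtain ⟨k₀, hk₀⟩ := ProjSerre.exists_GG_twist_proj (𝒮.deg V hV) (hgen V hV) T hT' hadj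
    (F.restrict (RelProj.emb p chart V hV)) (isCoh_restrict _ F hF)
  refine ⟨k₀, fun k hk L lam hL => ?_⟩
  obtain ⟨e1⟩ := nonempty_restrict_iso hL₁ V hV
  obtain ⟨e2⟩ := nonempty_tensorPow_congr e1 k
  obtain ⟨e3⟩ := nonempty_restrict_tensorPow_iso (RelProj.emb p chart V hV) L₁ k
  obtain ⟨e4⟩ := nonempty_iso_tensorPow hP hgen hL₁ k L lam hL
  have e5 : L.restrict (RelProj.emb p chart V hV) ≅
      (CohB1.tensorPow L₁ k).restrict (RelProj.emb p chart V hV) :=
    (Scheme.Modules.restrictFunctor (RelProj.emb p chart V hV)).mapIso e4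
  obtain ⟨e6⟩ := nonempty_restrict_tensorMod_iso (RelProj.emb p chart V hV) F L
  exact GG_of_iso (tensorModCongrRight _ (e2.symm ≪≫ e3.symm ≪≫ e5.symm) ≪≫ e6.symm) (hk₀ k hk)


section vanish

variable {X : Scheme.{u}}

/-- a morphism out of a globally generated module which kills the global sections kills all
sections -/
theorem app_eq_zero_of_GG {M T' : X.Modules} (h : GG M) (g : M ⟶ T')
    (hg : ∀ s : Γ(M, ⊤), (g.app ⊤).hom s = 0) (U : X.Opens) (t : Γ(M, U)) :
    (g.app U).hom t = 0 := by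
  apply Groth.Agent.Lib.Lead.SheafGlue.eq_of_locally_eq_pts T' _ 0
  intro x hx
  obtain ⟨W, hW, hxW, hmem⟩ := h U t x hx
  refine ⟨W, hW, hxW, ?_⟩
  rw [map_zero, hom_app_res g hW t]
  refine Submodule.span_induction (p := fun z _ => (g.app W).hom z = 0) ?_ ?_ ?_ ?_ hmem
  · rintro _ ⟨s, rfl⟩
    change (g.app W).hom (M.presheaf.map (homOfLE (le_top : W ≤ ⊤)).op s) = 0
    rw [← hom_app_res g le_top s, hg, map_zero]
  · exact map_zero _
  · intro a b _ _ ha hb
    rw [map_add, ha, hb, add_zero]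
  · intro c a _ ha
    rw [Scheme.Modules.Hom.app_smul, ha, smul_zero]

/-- vanishing on sections transfers between equal opens -/
theorem app_eq_zero_of_le_le {M T' : X.Modules} (g : M ⟶ T') {W₁ W₂ : X.Opens} (h12 : W₁ ≤ W₂)
    (h21 : W₂ ≤ W₁) (h0 : ∀ s : Γ(M, W₂), (g.app W₂).hom s = 0) (t : Γ(M, W₁)) :
    (g.app W₁).hom t = 0 := by
  have ht : t = M.presheaf.map (homOfLE h12).op (M.presheaf.map (homOfLE h21).op t) := by
    rw [Groth.Agent.Lib.Lead.QCohAff.res_res]
    exact (Groth.Agent.Lib.Lead.QCohAff.res_self M _ t).symm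
  rw [ht, ← hom_app_res g h12, h0, map_zero]

end vanish


open Groth.Agent.Lib.Helper60.TensorLib in
/-- on a chart, a morphism out of `F(k)` killed by `p_*` vanishes on the opens over `V` -/
theorem app_eq_zero_of_pushforward {M T' : P.Modules} (V : Y.Opens) (hV : IsAffineOpen V)
    (hGG : GG (M.restrict (RelProj.emb p chart V hV))) (g : M ⟶ T')
    (hg : (Scheme.Modules.pushforward p).map g = 0) (W : P.Opens) (hW : W ≤ p ⁻¹ᵁ V)
    (t : Γ(M, W)) : (g.app W).hom t = 0 := by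
  have hV0 : ∀ σ : Γ(M, p ⁻¹ᵁ V), (g.app (p ⁻¹ᵁ V)).hom σ = 0 := fun σ =>
    congrArg (fun ψ => (Scheme.Modules.Hom.app ψ V).hom σ) hg
  have hrange : RelProj.emb p chart V hV ''ᵁ ⊤ = p ⁻¹ᵁ V := by
    rw [← opensRange_emb (chart := chart) V hV]
    exact (RelProj.emb p chart V hV).image_top_eq_opensRange
  have h1 : ∀ s : Γ(M.restrict (RelProj.emb p chart V hV), ⊤),
      (((Scheme.Modules.restrictFunctor (RelProj.emb p chart V hV)).map g).app ⊤).hom s = 0 := by
    intro s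
    rw [restrict_map_app]
    exact app_eq_zero_of_le_le g hrange.le hrange.ge hV0 s
  have h2 := app_eq_zero_of_GG hGG ((Scheme.Modules.restrictFunctor (RelProj.emb p chart V hV)).map g) h1
  have himg : RelProj.emb p chart V hV ''ᵁ (RelProj.emb p chart V hV ⁻¹ᵁ W) = W := by
    rw [Scheme.Hom.image_preimage_eq_opensRange_inf, opensRange_emb (chart := chart) V hV]
    exact inf_eq_right.2 hW
  refine app_eq_zero_of_le_le g himg.ge himg.le (fun s => ?_) t
  have := h2 (RelProj.emb p chart V hV ⁻¹ᵁ W) s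
  rwa [restrict_map_app] at this


include hP in
/-- **Serre's theorem for a relative Proj** (EGA II 3.4.7 style): the counit
`p^* p_* F(n) ⟶ F(n)` is an epimorphism for all large `n` -/
theorem exists_epi_counit [CompactSpace Y] (hgen : 𝒮.IsGenDegOne) (hft : 𝒮.IsFTDeg 1)
    (F : P.Modules) (hF : Coh.IsCoh F) :
    ∃ n₀ : ℤ, ∀ (n : ℤ), n₀ ≤ n → ∀ (L : P.Modules)
      (lam : ∀ (U : Y.Opens) (hU : IsAffineOpen U), L ⟶ GTw p chart n U hU),
      RelProj.IsRelTwist 𝒮 p chart n L lam →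
        Epi ((Scheme.Modules.pullbackPushforwardAdjunction p).counit.app
          (CohB1.tensorMod F L)) := by
  have haff : ∀ y : Y, ∃ V : Y.Opens, IsAffineOpen V ∧ y ∈ V := fun y => by
    obtain ⟨W, hW, hyW, -⟩ := exists_isAffineOpen_mem_and_subset (x := y) (U := ⊤) trivial
    exact ⟨W, hW, hyW⟩
  choose V hVaff hyV using haff
  obtain ⟨t, ht⟩ := CompactSpace.elim_nhds_subcover (fun y => ((V y : Y.Opens) : Set Y))
    (fun y => (V y).isOpen.mem_nhds (hyV y))
  have hk := fun y => exists_GG_restrict hP hgen hft F hF (V y) (hVaff y)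
  choose k₀ hk₀ using hk
  refine ⟨((t.sup k₀ : ℕ) : ℤ), fun n hn L lam hL => ?_⟩
  obtain ⟨k, rfl⟩ := Int.eq_ofNat_of_zero_le (le_trans (Int.natCast_nonneg _) hn)
  have hkk : t.sup k₀ ≤ k := by exact_mod_cast hn
  apply Groth.Agent.Lib.Lead.Inv.epi_counit_of_faithful
  intro T' g hg
  apply Scheme.Modules.hom_ext
  intro W
  ext s
  change (g.app W).hom s = 0
  apply Groth.Agent.Lib.Lead.SheafGlue.eq_of_locally_eq_pts T' _ 0
  intro x hxW
  have hx : p x ∈ ⋃ y ∈ t, ((V y : Y.Opens) : Set Y) := by rw [ht]; trivial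
  simp only [Set.mem_iUnion] at hx
  obtain ⟨y, hyt, hxy⟩ := hx
  have hGG := hk₀ y k ((Finset.le_sup hyt).trans hkk) L lam hL
  refine ⟨W ⊓ p ⁻¹ᵁ V y, inf_le_left, ⟨hxW, hxy⟩, ?_⟩
  rw [map_zero, hom_app_res g]
  exact app_eq_zero_of_pushforward (V y) (hVaff y) hGG g hg _ inf_le_right _

end Groth.Agent.Lib.Helper74.RelSerre
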