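import Groth.Agent.Lib.Helper74.RelSerre
import Groth.Agent.Lib.Helper74.FinGen
import Groth.Agent.Lib.Helper40.SubSh10
import Groth.Agent.Lib.Helper2.KerSec
import Groth.Agent.Lib.Lead.TensorMap
import Groth.Agent.Lib.Helper33.GrModEpi
import Groth.Agent.S8259


/-!
# Serre's theorem for a relative Proj, second form: `F` is a quotient of `p^*G ⊗ O_P(-n)` (helper74)
-/

set_option autoImplicit false
universe u
open CategoryTheory AlgebraicGeometry TopologicalSpace Opposite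
open scoped HomogeneousIdeal

namespace Groth.Agent.Lib.Helper74.RelSerre2

open Groth.Agent.Lib.Lead.Inv Groth.Agent.Lib.Helper35.GlobGen Groth.Agent.Lib.Lead.QCohAff
open Groth.Agent.Lib.Helper74 Groth.Agent.Lib.Helper74.TwistNat Groth.Agent.Lib.Helper74.RelGlue
  Groth.Agent.Lib.Helper74.RelTilde Groth.Agent.Lib.Helper74.RelSerre

section general

variable {X : Scheme.{u}}

/-- local surjectivity on sections -/
def LocSurj {A B : X.Modules} (ψ : A ⟶ B) : Prop :=
  ∀ (U : X.Opens) (t : Γ(B, U)) (x : X), x ∈ U → ∃ (W : X.Opens) (hW : W ≤ U),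
      x ∈ W ∧ ∃ a : Γ(A, W), (ψ.app W).hom a = (B.presheaf.map (homOfLE hW).op).hom t

theorem LocSurj.epi {A B : X.Modules} {ψ : A ⟶ B} (h : LocSurj ψ) : Epi ψ :=
  Groth.Agent.Lib.Helper33.GrModEpi.epi_of_locally_surjective ψ h

/-- tensoring a locally surjective morphism with an invertible module -/
theorem LocSurj.tensorMapLeft {A B : X.Modules} {φ : A ⟶ B} (hφ : LocSurj φ) {C : X.Modules}
    (hC : PicF.IsInvertible C) : LocSurj (tensorMapLeft φ C) := by
  intro U t x hx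
  obtain ⟨U₁, hx₁, e, he⟩ := (isInvertible_iff_exists_isGen.mp hC) x
  obtain ⟨τ, hτ⟩ := (tmulREquiv B he (inf_le_right : U ⊓ U₁ ≤ U₁)).surjective
    ((CohB1.tensorMod B C).presheaf.map (homOfLE (inf_le_left : U ⊓ U₁ ≤ U)).op t)
  obtain ⟨W, hW, hxW, a, ha⟩ := hφ (U ⊓ U₁) τ x ⟨hx, hx₁⟩
  refine ⟨W, hW.trans inf_le_left, hxW,
    tmul A C a (C.presheaf.map (homOfLE (hW.trans inf_le_right)).op e), ?_⟩
  rw [tensorMapLeft_tmul, ha]
  change tmulREquiv B he (hW.trans inf_le_right) _ = _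
  rw [← tmulREquiv_res B he inf_le_right hW τ, hτ, res_res]

theorem map_eq_res (M : X.Modules) {U V : X.Opens} (i : V ⟶ U) (s : Γ(M, U)) :
    M.presheaf.map i.op s = M.presheaf.map (homOfLE i.le).op s := rfl

/-- spans over the sections of an open subscheme are spans over the sections of the ambient scheme -/
theorem span_restrict_le {Z : Scheme.{u}} (j : Z ⟶ X) [IsOpenImmersion j] (M : X.Modules)
    {W : Z.Opens} (A : Set Γ(M, j ''ᵁ W)) {z : Γ(M.restrict j, W)}
    (hz : z ∈ Submodule.span Γ(Z, W) (show Set Γ(M.restrict j, W) from A)) :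
    (show Γ(M, j ''ᵁ W) from z) ∈ Submodule.span Γ(X, j ''ᵁ W) A := by
  induction hz using Submodule.span_induction with
  | mem a ha => exact Submodule.subset_span ha
  | zero => exact Submodule.zero_mem _
  | add a b _ _ ha hb => exact Submodule.add_mem _ ha hb
  | smul r a _ ha =>
    change ((j.appIso W).inv r : Γ(X, j ''ᵁ W)) • (show Γ(M, j ''ᵁ W) from a) ∈ _
    exact Submodule.smul_mem _ _ ha

end general

variable {Y P : Scheme.{u}} {𝒮 : RelProj.QCGrAlg Y} {p : P ⟶ Y}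
  {chart : ∀ (U : Y.Opens) (hU : IsAffineOpen U),
    (((p ⁻¹ᵁ U : P.Opens) : Scheme.{u}) ≅ Proj (𝒮.deg U hU))}
  (hP : RelProj.IsRelProj 𝒮 p chart)

open Groth.Agent.Lib.Helper60.TensorRestrict in
/-- finitely many sections over `p⁻¹ V` generate `M` over `p⁻¹ V` -/
theorem exists_finset_chart {M : P.Modules} (hM : Coh.IsCoh M) (V : Y.Opens) (hV : IsAffineOpen V)
    [CompactSpace (Proj (𝒮.deg V hV))]
    (hGG : GG (M.restrict (RelProj.emb p chart V hV))) :
    ∃ S : Finset Γ(M, p ⁻¹ᵁ V), ∀ (W : P.Opens) (hW : W ≤ p ⁻¹ᵁ V) (t : Γ(M, W)) (x : P), x ∈ W →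
      ∃ (W' : P.Opens) (hW' : W' ≤ W), x ∈ W' ∧
        M.presheaf.map (homOfLE hW').op t ∈ Submodule.span Γ(P, W')
          ((fun s : Γ(M, p ⁻¹ᵁ V) => M.presheaf.map (homOfLE (hW'.trans hW)).op s) ''
            (S : Set _)) := by
  classical
  obtain ⟨S, hS⟩ := FinGen.exists_finset_spanGen (M.restrict (RelProj.emb p chart V hV))
    (isCoh_restrict _ M hM) hGG
  have hrange : RelProj.emb p chart V hV ''ᵁ ⊤ = p ⁻¹ᵁ V := by
    rw [← opensRange_emb (chart := chart) V hV]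
    exact (RelProj.emb p chart V hV).image_top_eq_opensRange
  let r : Γ(M.restrict (RelProj.emb p chart V hV), ⊤) → Γ(M, p ⁻¹ᵁ V) := fun s =>
    M.presheaf.map (homOfLE hrange.ge).op (toX (RelProj.emb p chart V hV) M s)
  refine ⟨S.image r, fun W hW t x hx => ?_⟩
  have himg : RelProj.emb p chart V hV ''ᵁ (RelProj.emb p chart V hV ⁻¹ᵁ W) = W := by
    rw [Scheme.Hom.image_preimage_eq_opensRange_inf, opensRange_emb (chart := chart) V hV]
    exact inf_eq_right.2 hW
  obtain ⟨y, rfl⟩ : ∃ y, RelProj.emb p chart V hV y = x := by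
    have := hW hx
    rw [← opensRange_emb (chart := chart) V hV] at this
    exact this
  obtain ⟨W'', hW'', hyW'', hmem⟩ := hS (RelProj.emb p chart V hV ⁻¹ᵁ W)
    (ofX (RelProj.emb p chart V hV) M (M.presheaf.map (homOfLE himg.le).op t)) y hx
  have hle : RelProj.emb p chart V hV ''ᵁ W'' ≤ W := by
    rw [← himg]
    exact (RelProj.emb p chart V hV).image_mono hW''
  refine ⟨RelProj.emb p chart V hV ''ᵁ W'', hle, ⟨y, hyW'', rfl⟩, ?_⟩
  have h1 := span_restrict_le (RelProj.emb p chart V hV) M _ hmem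
  have h2 : (show Γ(M, RelProj.emb p chart V hV ''ᵁ W'') from
      ((M.restrict (RelProj.emb p chart V hV)).presheaf.map (homOfLE hW'').op
        (ofX (RelProj.emb p chart V hV) M (M.presheaf.map (homOfLE himg.le).op t)))) =
      M.presheaf.map (homOfLE hle).op t := by
    change M.presheaf.map (homOfLE _).op (M.presheaf.map (homOfLE himg.le).op t) = _
    rw [res_res]
  rw [h2] at h1
  refine Submodule.span_mono ?_ h1
  rintro _ ⟨s, hs, rfl⟩
  refine ⟨r s, Finset.mem_coe.2 (Finset.mem_image_of_mem r hs), ?_⟩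
  change M.presheaf.map (homOfLE _).op (M.presheaf.map (homOfLE hrange.ge).op _) =
    M.presheaf.map (homOfLE _).op _
  rw [res_res]
  rfl

open Groth.Agent.Lib.Helper74.RelProjLib in
/-- the charts of `Proj 𝒮` are quasi-compact when `𝒮` is generated by `𝒮₁` of finite type -/
theorem compactSpace_chart (hgen : 𝒮.IsGenDegOne) (hft : 𝒮.IsFTDeg 1) (V : Y.Opens)
    (hV : IsAffineOpen V) : CompactSpace (Proj (𝒮.deg V hV)) := by
  obtain ⟨T, hT, hspan⟩ := hft V hV
  have hT' : ∀ t ∈ T, t ∈ 𝒮.deg V hV 1 := fun t ht => hT ht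
  have hadj := adjoin_zero_eq_top (𝒮.deg V hV) (𝒮.strZero V hV).hom T hT' hspan (hgen V hV)
  have hft : Algebra.FiniteType (𝒮.deg V hV 0) _ :=
    ⟨Subalgebra.fg_def.mpr ⟨_, T.finite_toSet, hadj⟩⟩
  exact QuasiCompact.compactSpace_of_compactSpace (Proj.toSpecZero (𝒮.deg V hV))

open Groth.Agent.Lib.Helper60.TensorLib in
include hP in
/-- **EGA II 3.4.8-style**: on a quasi-compact quasi-separated base, a quasi-coherent module of
finite type on `Proj 𝒮` is a quotient of `p^*G ⊗ O_P(-n)` for `G` quasi-coherent of finite type,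
for all large `n`. -/
theorem exists_epi_pullback_twist [CompactSpace Y] [QuasiSeparatedSpace Y]
    (hgen : 𝒮.IsGenDegOne) (hft : 𝒮.IsFTDeg 1) (F : P.Modules) (hF : Coh.IsCoh F) :
    ∃ n₀ : ℤ, ∀ (n : ℤ), n₀ ≤ n → ∀ (L : P.Modules)
      (lam : ∀ (U : Y.Opens) (hU : IsAffineOpen U), L ⟶ GTw p chart (-n) U hU),
      RelProj.IsRelTwist 𝒮 p chart (-n) L lam →
        ∃ (G : Y.Modules) (π : CohB1.tensorMod ((Scheme.Modules.pullback p).obj G) L ⟶ F),
          Coh.IsQCoh G ∧ CohB1.IsFT G ∧ Epi π := by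
  classical
  haveI : QuasiCompact p := (RelProjLib.finiteType_of_genDegOne hP hgen hft).2
  haveI : IsSeparated p := Groth.Agent.S8259.result 𝒮 p chart hP
  obtain ⟨m, V, hVaff, hcov, -⟩ := Groth.Agent.Lib.Helper40.SSh.exists_fin_cover_qcqs Y ⊥
    (by simp)
  have hk := fun i => exists_GG_restrict hP hgen hft F hF (V i) (hVaff i)
  choose k₀ hk₀ using hk
  refine ⟨((Finset.univ.sup k₀ : ℕ) : ℤ), fun n hn L lam hL => ?_⟩
  obtain ⟨k, rfl⟩ := Int.eq_ofNat_of_zero_le (le_trans (Int.natCast_nonneg _) hn)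
  have hkk : ∀ i, k₀ i ≤ k := fun i =>
    (Finset.le_sup (Finset.mem_univ i)).trans (by exact_mod_cast hn)
  obtain ⟨Lk, lamk, hGk⟩ := (twistSys hP (k : ℤ)).exists_isGlued
  have hLk : RelProj.IsRelTwist 𝒮 p chart (k : ℤ) Lk lamk := (isGluedTw_iff hP _ Lk lamk).1 hGk
  have hLki : PicF.IsInvertible Lk := TwistGen.isInvertible_relTwist hgen hLk
  have hLi : PicF.IsInvertible L := TwistGen.isInvertible_relTwist hgen hL
  have hM : Coh.IsCoh (CohB1.tensorMod F Lk) := isCoh_tensorMod_right hF hLki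
  haveI := hM.1
  haveI : ((Scheme.Modules.pushforward p).obj (CohB1.tensorMod F Lk)).IsQuasicoherent :=
    Groth.Agent.Lib.Helper2.KerSec.isQuasicoherent_pushforward_of_qcqs p _
  have hS := fun i => by
    haveI : CompactSpace (Proj (𝒮.deg (V i) (hVaff i))) := compactSpace_chart hgen hft (V i) (hVaff i)
    exact exists_finset_chart hM (V i) (hVaff i) (hk₀ i k (hkk i) Lk lamk hLk)
  choose S hS using hS
  have hG := fun i => Groth.Agent.Lib.Helper40.SSh.exists_ft_sub_of_fg_qcqs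
    ((Scheme.Modules.pushforward p).obj (CohB1.tensorMod F Lk)) (hVaff i)
    (Submodule.span Γ(Y, V i) (show Set Γ((Scheme.Modules.pushforward p).obj (CohB1.tensorMod F Lk), V i)
      from (S i : Set Γ(CohB1.tensorMod F Lk, p ⁻¹ᵁ V i))))
    (Submodule.fg_span (Finset.finite_toSet (S i)))
  choose G ι hmono hGq hGft hGmem using hG
  obtain ⟨E, j, hjm, hEq, hEft, hE⟩ := Groth.Agent.Lib.Helper40.SSh.exists_finsup m G ι hmono hGq hGft
  haveI := hjm
  haveI := hEq
  let ρ : (Scheme.Modules.pullback p).obj E ⟶ CohB1.tensorMod F Lk :=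
    ((Scheme.Modules.pullbackPushforwardAdjunction p).homEquiv E (CohB1.tensorMod F Lk)).symm j
  have hρj : (Scheme.Modules.pullbackPushforwardAdjunction p).unit.app E ≫
      (Scheme.Modules.pushforward p).map ρ = j := by
    exact (Adjunction.homEquiv_unit _ _ _ _).symm.trans (Equiv.apply_symm_apply _ _)
  have hρ : ∀ (V' : Y.Opens) (e : Γ(E, V')),
      (ρ.app (p ⁻¹ᵁ V')).hom ((((Scheme.Modules.pullbackPushforwardAdjunction p).unit.app E).app V').hom e) =
        (j.app V').hom e :=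
    fun V' e => congrArg (fun ψ => (Scheme.Modules.Hom.app ψ V').hom e) hρj
  have hρs : LocSurj ρ := by
    intro W t x hx
    have hx' : p x ∈ (⨆ i, V i) := by rw [hcov]; trivial
    obtain ⟨i, hi⟩ := Opens.mem_iSup.1 hx'
    obtain ⟨W', hW', hxW', hmem⟩ := hS i (W ⊓ p ⁻¹ᵁ V i) inf_le_right
      ((CohB1.tensorMod F Lk).presheaf.map (homOfLE inf_le_left).op t) x ⟨hx, hi⟩
    refine ⟨W', hW'.trans inf_le_left, hxW', ?_⟩
    rw [res_res] at hmem
    refine Submodule.span_induction (p := fun z _ => ∃ a, (ρ.app W').hom a = z) ?_ ?_ ?_ ?_ hmem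
    · rintro _ ⟨s, hs, rfl⟩
      obtain ⟨g, hg⟩ := hGmem i s (Submodule.subset_span hs)
      obtain ⟨e, he⟩ := hE i (V i) g
      refine ⟨((Scheme.Modules.pullback p).obj E).presheaf.map
        (homOfLE (hW'.trans inf_le_right)).op
        ((((Scheme.Modules.pullbackPushforwardAdjunction p).unit.app E).app (V i)).hom e), ?_⟩
      rw [← hom_app_res ρ, hρ]
      congr 1
      exact he.trans hg
    · exact ⟨0, map_zero _⟩
    · rintro a b _ _ ⟨a', ha⟩ ⟨b', hb⟩
      exact ⟨a' + b', by rw [map_add, ha, hb]⟩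
    · rintro c a _ ⟨a', ha⟩
      exact ⟨c • a', by rw [Scheme.Modules.Hom.app_smul, ha]⟩
  have hepi : Epi (tensorMapLeft ρ L) := (hρs.tensorMapLeft hLi).epi
  obtain ⟨L0, lam0, hG0⟩ := (twistSys hP 0).exists_isGlued
  have hL0 : RelProj.IsRelTwist 𝒮 p chart 0 L0 lam0 := (isGluedTw_iff hP _ L0 lam0).1 hG0
  obtain ⟨τ⟩ := nonempty_tensor_iso hP (show (0 : ℤ) = (k : ℤ) + -(k : ℤ) by ring) hLk hL hL0 hgen
  obtain ⟨e0, he0⟩ := exists_isGen_top hP hL0
  obtain ⟨i0⟩ := nonempty_iso_structure_of_isGen_top he0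
  obtain ⟨u⟩ := nonempty_unit_right F
  let θ : CohB1.tensorMod (CohB1.tensorMod F Lk) L ≅ F :=
    assocIso (assocOK_of_mid_right (A := F) hLki hLi) ≪≫ tensorModCongrRight F (τ ≪≫ i0.symm) ≪≫ u
  exact ⟨E, tensorMapLeft ρ L ≫ θ.hom, hEq, hEft, epi_comp _ _⟩

end Groth.Agent.Lib.Helper74.RelSerre2
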