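import Groth.Agent.Lib.Helper74.RelTwistSys

set_option autoImplicit false
universe u
open CategoryTheory CategoryTheory.Limits AlgebraicGeometry TopologicalSpace Opposite
open scoped HomogeneousIdeal

namespace Groth.Agent.Lib.Helper74.RelTilde

open Groth.Agent.Lib.Helper74.ModSec Groth.Agent.Lib.Helper74.RelGlue
open Groth.Agent.Lib.Helper74.QMap Groth.Agent.Lib.Helper74.GrModLoc
open Groth.Agent.Lib.Helper60.TildeSec

variable {Y P : Scheme.{u}} {𝒮 : RelProj.QCGrAlg Y} {p : P ⟶ Y}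
  {chart : ∀ (U : Y.Opens) (hU : IsAffineOpen U),
    (((p ⁻¹ᵁ U : P.Opens) : Scheme.{u}) ≅ Proj (𝒮.deg U hU))}
  (hP : RelProj.IsRelProj 𝒮 p chart) {ℳ 𝒩 : RelProj.GrModule 𝒮} (n : ℤ)

/-- the pushed-forward map of tilde modules -/
noncomputable def mapT {U : Y.Opens} (hU : IsAffineOpen U)
    (uU : ℳ.mod.val.obj (op U) →ₗ[𝒮.presheaf.obj (op U)] 𝒩.mod.val.obj (op U))
    (hdU : ∀ (d : ℕ) (m : ℳ.mod.val.obj (op U)), m ∈ ℳ.deg U hU d → uU m ∈ 𝒩.deg U hU d) :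
    GT p chart ℳ n U hU ⟶ GT p chart 𝒩 n U hU :=
  (Scheme.Modules.pushforward (RelProj.emb p chart U hU)).map (GrMod.map (𝒮.deg U hU) uU hdU n)

theorem mapT_app_val {U : Y.Opens} (hU : IsAffineOpen U)
    (uU : ℳ.mod.val.obj (op U) →ₗ[𝒮.presheaf.obj (op U)] 𝒩.mod.val.obj (op U))
    (hdU : ∀ (d : ℕ) (m : ℳ.mod.val.obj (op U)), m ∈ ℳ.deg U hU d → uU m ∈ 𝒩.deg U hU d)
    (W : P.Opens) (s : Γ(GT p chart ℳ n U hU, W))
    (y : ↥(RelProj.emb p chart U hU ⁻¹ᵁ W)) :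
    GrMod.val (V := RelProj.emb p chart U hU ⁻¹ᵁ W) ((mapT n hU uU hdU).app W s) y =
      GrMod.locMap uU y.1 (GrMod.val (V := RelProj.emb p chart U hU ⁻¹ᵁ W) s y) := rfl

/-- naturality of the transition maps with respect to a degree-preserving homomorphism -/
theorem cT_natural (u : ℳ.mod ⟶ 𝒩.mod) {U V : Y.Opens} (hU : IsAffineOpen U)
    (hV : IsAffineOpen V) (i : V ≤ U)
    (uU : ℳ.mod.val.obj (op U) →ₗ[𝒮.presheaf.obj (op U)] 𝒩.mod.val.obj (op U))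
    (huU : ∀ m, uU m = (u.val.app (op U)).hom m)
    (hdU : ∀ (d : ℕ) (m : ℳ.mod.val.obj (op U)), m ∈ ℳ.deg U hU d → uU m ∈ 𝒩.deg U hU d)
    (uV : ℳ.mod.val.obj (op V) →ₗ[𝒮.presheaf.obj (op V)] 𝒩.mod.val.obj (op V))
    (huV : ∀ m, uV m = (u.val.app (op V)).hom m)
    (hdV : ∀ (d : ℕ) (m : ℳ.mod.val.obj (op V)), m ∈ ℳ.deg V hV d → uV m ∈ 𝒩.deg V hV d) :
    mapT n hU uU hdU ≫ cT hP 𝒩 n hU hV i = cT hP ℳ n hU hV i ≫ mapT n hV uV hdV := by
  refine hom_ext_sec _ _ fun W s => ?_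
  refine sec_ext (𝒮.deg V hV) (𝒩.deg V hV) n _ _ fun y => ?_
  rw [comp_app_apply, comp_app_apply, cT_app_val, mapT_app_val, mapT_app_val, cT_app_val]
  generalize GrMod.val (V := RelProj.emb p chart U hU ⁻¹ᵁ W) s _ = q
  induction q using LocalizedModule.induction_on with
  | h m a =>
    rw [GrMod.locMap_mk, GrMod.locModMap_mk, GrMod.locModMap_mk, GrMod.locMap_mk]
    refine mk_congr ?_ rfl
    rw [huU, huV]
    exact (congr($(u.val.naturality (homOfLE i).op) m)).symm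

end Groth.Agent.Lib.Helper74.RelTilde

namespace Groth.Agent.Lib.Helper74.RelTilde

open Groth.Agent.Lib.Helper74.ModSec Groth.Agent.Lib.Helper74.RelGlue
open Groth.Agent.Lib.Helper74.QMap Groth.Agent.Lib.Helper74.GrModLoc
open Groth.Agent.Lib.Helper60.TildeSec

variable {Y P : Scheme.{u}} {𝒮 : RelProj.QCGrAlg Y} {p : P ⟶ Y}
  {chart : ∀ (U : Y.Opens) (hU : IsAffineOpen U),
    (((p ⁻¹ᵁ U : P.Opens) : Scheme.{u}) ≅ Proj (𝒮.deg U hU))}
  (hP : RelProj.IsRelProj 𝒮 p chart) {ℳ 𝒩 : RelProj.GrModule 𝒮} (n : ℤ)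

include hP in
theorem existsUnique_relTilde_map (hlocℳ : IsLocalizing ℳ) (hloc𝒩 : IsLocalizing 𝒩)
    (u : ℳ.mod ⟶ 𝒩.mod) (hu : RelProj.IsGrModHom u) (F : P.Modules)
    (lam : ∀ (U : Y.Opens) (hU : IsAffineOpen U), F ⟶ GT p chart ℳ n U hU)
    (hF : RelProj.IsRelTilde 𝒮 p chart ℳ n F lam) (G : P.Modules)
    (lam' : ∀ (U : Y.Opens) (hU : IsAffineOpen U), G ⟶ GT p chart 𝒩 n U hU)
    (hG : RelProj.IsRelTilde 𝒮 p chart 𝒩 n G lam') :
    ∃! ut : F ⟶ G, ∀ (U : Y.Opens) (hU : IsAffineOpen U),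
      ut ≫ lam' U hU =
        lam U hU ≫ mapT n hU
            (show ℳ.mod.val.obj (op U) →ₗ[𝒮.presheaf.obj (op U)] 𝒩.mod.val.obj (op U) from (u.val.app (op U)).hom)
            (hu U hU) := by
  have hF' := (isGlued_iff hP n hlocℳ F lam).2 hF
  have hG' := (isGlued_iff hP n hloc𝒩 G lam').2 hG
  refine hG'.existsUnique_hom F (fun U hU => lam U hU ≫ mapT n hU
            (show ℳ.mod.val.obj (op U) →ₗ[𝒮.presheaf.obj (op U)] 𝒩.mod.val.obj (op U) from (u.val.app (op U)).hom)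
            (hu U hU)) ?_
  intro U V hU hV i
  rw [Category.assoc]
  have h1 := cT_natural hP n u hU hV i
    (show ℳ.mod.val.obj (op U) →ₗ[𝒮.presheaf.obj (op U)] 𝒩.mod.val.obj (op U) from (u.val.app (op U)).hom)
    (fun _ => rfl) (hu U hU)
    (show ℳ.mod.val.obj (op V) →ₗ[𝒮.presheaf.obj (op V)] 𝒩.mod.val.obj (op V) from (u.val.app (op V)).hom)
    (fun _ => rfl) (hu V hV)
  change _ ≫ (_ ≫ cT hP 𝒩 n hU hV i) = _
  rw [h1, ← Category.assoc]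
  congr 1
  exact hF'.compat_le hU hV i

end Groth.Agent.Lib.Helper74.RelTilde
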