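import Groth.Agent.Lib.Helper74.RelGlue
import Groth.Agent.Lib.Helper74.QMapRes
import Groth.Agent.Lib.Helper74.GrModLoc

/-!
# The chart system of the modules `(ℳ(U)(n))~` on a relative Proj (helper74)

`tildeSys hP n hloc : ChartSys p` and `isGlued_iff : IsGlued (tildeSys ..) F lam ↔ IsRelTilde ..`.
-/

set_option autoImplicit false
universe u
open CategoryTheory CategoryTheory.Limits AlgebraicGeometry TopologicalSpace Opposite
open scoped HomogeneousIdeal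

namespace Groth.Agent.Lib.Helper74.RelTilde

open Groth.Agent.Lib.Helper74.ModSec Groth.Agent.Lib.Helper74.RelGlue
open Groth.Agent.Lib.Helper74.QMap Groth.Agent.Lib.Helper74.GrModLoc
open Groth.Agent.Lib.Helper60.TildeSec

variable {Y P : Scheme.{u}} {𝒮 : RelProj.QCGrAlg Y} {p : P ⟶ Y}
  {chart : ∀ (U : Y.Opens) (hU : IsAffineOpen U),
    (((p ⁻¹ᵁ U : P.Opens) : Scheme.{u}) ≅ Proj (𝒮.deg U hU))}
  (hP : RelProj.IsRelProj 𝒮 p chart) (ℳ : RelProj.GrModule 𝒮) (n : ℤ)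

/-- the module `(emb U)_* (ℳ(U)(n))~` on `P` -/
noncomputable abbrev GT (p : P ⟶ Y) (chart : ∀ (U : Y.Opens) (hU : IsAffineOpen U),
    (((p ⁻¹ᵁ U : P.Opens) : Scheme.{u}) ≅ Proj (𝒮.deg U hU))) (ℳ : RelProj.GrModule 𝒮) (n : ℤ)
    (U : Y.Opens) (hU : IsAffineOpen U) : P.Modules :=
  (Scheme.Modules.pushforward (RelProj.emb p chart U hU)).obj
    (GrMod.tilde (𝒮.deg U hU) (ℳ.deg U hU) n)

/-- the ring-level comparison map along a restriction -/
noncomputable abbrev κT {U V : Y.Opens} (hU : IsAffineOpen U) (hV : IsAffineOpen V) (i : V ≤ U) :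
    GrMod.tilde (𝒮.deg U hU) (ℳ.deg U hU) n ⟶
      (Scheme.Modules.pushforward (Proj.map (𝒮.res hU hV i) (irrelevant_le_map_res 𝒮 hU hV i))).obj
        (GrMod.tilde (𝒮.deg V hV) (ℳ.deg V hV) n) :=
  GrMod.comap (𝒮.res hU hV i) (irrelevant_le_map_res 𝒮 hU hV i) (ℳ.res hU hV i)
    (fun d m hm => ℳ.res_mem hU hV i d m hm) n

include hP in
/-- the transition maps -/
noncomputable def cT {U V : Y.Opens} (hU : IsAffineOpen U) (hV : IsAffineOpen V) (i : V ≤ U) :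
    GT p chart ℳ n U hU ⟶ GT p chart ℳ n V hV :=
  (Scheme.Modules.pushforward (RelProj.emb p chart U hU)).map (κT ℳ n hU hV i) ≫
    ((Scheme.Modules.pushforwardComp
      (Proj.map (𝒮.res hU hV i) (irrelevant_le_map_res 𝒮 hU hV i))
      (RelProj.emb p chart U hU)).hom.app (GrMod.tilde (𝒮.deg V hV) (ℳ.deg V hV) n) ≫
      (Scheme.Modules.pushforwardCongr (emb_res hP hU hV i)).hom.app
        (GrMod.tilde (𝒮.deg V hV) (ℳ.deg V hV) n))

theorem emb_comap (hP : RelProj.IsRelProj 𝒮 p chart) {U V : Y.Opens} (hU : IsAffineOpen U)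
    (hV : IsAffineOpen V) (i : V ≤ U) (y : Proj (𝒮.deg V hV)) :
    RelProj.emb p chart U hU
      (ProjectiveSpectrum.comap (𝒮.res hU hV i) (irrelevant_le_map_res 𝒮 hU hV i) y) =
      RelProj.emb p chart V hV y := by
  rw [← emb_res hP hU hV i]
  rfl

theorem emb_inj (U : Y.Opens) (hU : IsAffineOpen U) :
    Function.Injective (RelProj.emb p chart U hU) :=
  (RelProj.emb p chart U hU).isOpenEmbedding.injective

theorem cT_app_val {U V : Y.Opens} (hU : IsAffineOpen U) (hV : IsAffineOpen V) (i : V ≤ U)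
    (W : P.Opens) (s : Γ(GT p chart ℳ n U hU, W))
    (y : (RelProj.emb p chart V hV ⁻¹ᵁ W : (Proj (𝒮.deg V hV)).Opens)) :
    GrMod.val (V := RelProj.emb p chart V hV ⁻¹ᵁ W) ((cT hP ℳ n hU hV i).app W s) y =
      GrMod.locModMap (𝒮.res hU hV i) (irrelevant_le_map_res 𝒮 hU hV i) (ℳ.res hU hV i) y.1
        (GrMod.val (V := RelProj.emb p chart U hU ⁻¹ᵁ W) s
          ⟨ProjectiveSpectrum.comap (𝒮.res hU hV i) (irrelevant_le_map_res 𝒮 hU hV i) y.1,
            show _ ∈ W from (emb_comap hP hU hV i y.1).symm ▸ y.2⟩) := rfl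

theorem comap_self (hP : RelProj.IsRelProj 𝒮 p chart) {U : Y.Opens} (hU : IsAffineOpen U)
    (y : Proj (𝒮.deg U hU)) :
    ProjectiveSpectrum.comap (𝒮.res hU hU le_rfl) (irrelevant_le_map_res 𝒮 hU hU le_rfl) y = y :=
  emb_inj U hU (emb_comap hP hU hU le_rfl y)

theorem comap_comap (hP : RelProj.IsRelProj 𝒮 p chart) {U V V' : Y.Opens} (hU : IsAffineOpen U)
    (hV : IsAffineOpen V) (hV' : IsAffineOpen V') (i : V ≤ U) (j : V' ≤ V)
    (y : Proj (𝒮.deg V' hV')) :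
    ProjectiveSpectrum.comap (𝒮.res hU hV i) (irrelevant_le_map_res 𝒮 hU hV i)
      (ProjectiveSpectrum.comap (𝒮.res hV hV' j) (irrelevant_le_map_res 𝒮 hV hV' j) y) =
      ProjectiveSpectrum.comap (𝒮.res hU hV' (j.trans i))
        (irrelevant_le_map_res 𝒮 hU hV' (j.trans i)) y := by
  apply emb_inj (p := p) (chart := chart) U hU
  rw [emb_comap hP, emb_comap hP, emb_comap hP]

theorem mres_self {U : Y.Opens} (hU : IsAffineOpen U) (m : ℳ.mod.val.obj (op U)) :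
    ℳ.res hU hU le_rfl m = m := by
  change (ℳ.mod.val.map (𝟙 (op U))).hom m = m
  rw [ℳ.mod.val.map_id]
  rfl

theorem mres_comp {U V V' : Y.Opens} (hU : IsAffineOpen U) (hV : IsAffineOpen V)
    (hV' : IsAffineOpen V') (i : V ≤ U) (j : V' ≤ V) (m : ℳ.mod.val.obj (op U)) :
    ℳ.res hV hV' j (ℳ.res hU hV i m) = ℳ.res hU hV' (j.trans i) m := by
  change _ = (ℳ.mod.val.map ((homOfLE i).op ≫ (homOfLE j).op)).hom m
  rw [ℳ.mod.val.map_comp]
  rfl

theorem sres_self {U : Y.Opens} (hU : IsAffineOpen U) (a : 𝒮.presheaf.obj (op U)) :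
    𝒮.res hU hU le_rfl a = a := by
  rw [RelProjLib.res_id]
  rfl

theorem sres_comp {U V V' : Y.Opens} (hU : IsAffineOpen U) (hV : IsAffineOpen V)
    (hV' : IsAffineOpen V') (i : V ≤ U) (j : V' ≤ V) (a : 𝒮.presheaf.obj (op U)) :
    𝒮.res hV hV' j (𝒮.res hU hV i a) = 𝒮.res hU hV' (j.trans i) a := by
  rw [RelProjLib.res_comp 𝒮 hU hV hV' i j]
  rfl

theorem cT_self {U : Y.Opens} (hU : IsAffineOpen U) : cT hP ℳ n hU hU le_rfl = 𝟙 _ := by
  refine hom_ext_sec _ _ fun W s => ?_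
  refine sec_ext (𝒮.deg U hU) (ℳ.deg U hU) n _ _ fun y => ?_
  rw [cT_app_val]
  have hpt := comap_self hP hU y.1
  obtain ⟨V', hV', hyV', i, j, m, hm, a, ha, hnin, -, hval⟩ :=
    exists_frac (show Γ(GrMod.tilde (𝒮.deg U hU) (ℳ.deg U hU) n, RelProj.emb p chart U hU ⁻¹ᵁ W) from s)
      ⟨ProjectiveSpectrum.comap (𝒮.res hU hU le_rfl) (irrelevant_le_map_res 𝒮 hU hU le_rfl) y.1,
        show _ ∈ W from (emb_comap hP hU hU le_rfl y.1).symm ▸ y.2⟩
  have h1 := hval _ hyV'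
  have h2 := hval y.1 (hpt ▸ hyV')
  refine (congrArg _ h1).trans ?_
  refine Eq.trans ?_ h2.symm
  rw [GrMod.locModMap_mk]
  exact mk_congr (mres_self ℳ hU m) (sres_self hU a)

theorem cT_comp {U V V' : Y.Opens} (hU : IsAffineOpen U) (hV : IsAffineOpen V)
    (hV' : IsAffineOpen V') (i : V ≤ U) (j : V' ≤ V) :
    cT hP ℳ n hU hV i ≫ cT hP ℳ n hV hV' j = cT hP ℳ n hU hV' (j.trans i) := by
  refine hom_ext_sec _ _ fun W s => ?_
  refine sec_ext (𝒮.deg V' hV') (ℳ.deg V' hV') n _ _ fun y => ?_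
  rw [comp_app_apply, cT_app_val, cT_app_val, cT_app_val]
  have hpt := comap_comap hP hU hV hV' i j y.1
  obtain ⟨W', hW', hyW', i', j', m, hm, a, ha, hnin, -, hval⟩ :=
    exists_frac (show Γ(GrMod.tilde (𝒮.deg U hU) (ℳ.deg U hU) n, RelProj.emb p chart U hU ⁻¹ᵁ W) from s)
      ⟨ProjectiveSpectrum.comap (𝒮.res hU hV i) (irrelevant_le_map_res 𝒮 hU hV i)
        (ProjectiveSpectrum.comap (𝒮.res hV hV' j) (irrelevant_le_map_res 𝒮 hV hV' j) y.1),
        show _ ∈ W by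
          rw [emb_comap hP, emb_comap hP]
          exact y.2⟩
  have h1 := hval _ hyW'
  have hyW'2 : ProjectiveSpectrum.comap (𝒮.res hU hV' (j.trans i))
      (irrelevant_le_map_res 𝒮 hU hV' (j.trans i)) y.1 ∈ W' := by
    rw [← hpt]
    exact hyW'
  have h2 := hval _ hyW'2
  refine (congrArg _ (congrArg _ h1)).trans ?_
  refine Eq.trans ?_ (congrArg _ h2).symm
  rw [GrMod.locModMap_mk, GrMod.locModMap_mk, GrMod.locModMap_mk]
  exact mk_congr (mres_comp ℳ hU hV hV' i j m) (sres_comp hU hV hV' i j a)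

theorem GT_supp (U : Y.Opens) (hU : IsAffineOpen U) (W W' : P.Opens) (h : W' ≤ W)
    (hW : W ⊓ p ⁻¹ᵁ U ≤ W') : Function.Bijective (rs (GT p chart ℳ n U hU) h) := by
  have e : RelProj.emb p chart U hU ⁻¹ᵁ W' = RelProj.emb p chart U hU ⁻¹ᵁ W := by
    refine le_antisymm (fun x hx => h hx) (fun x hx => hW ⟨hx, emb_mem U hU x⟩)
  exact rs_bijective_of_eq (GrMod.tilde (𝒮.deg U hU) (ℳ.deg U hU) n) e

/-- elementwise localization property of a graded module along basic opens -/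
def IsLocalizing (ℳ : RelProj.GrModule 𝒮) : Prop :=
  ∀ (U : Y.Opens) (hU : IsAffineOpen U) (r : Γ(Y, U)),
    (∀ m : ℳ.mod.val.obj (op U), ℳ.res hU (hU.basicOpen r) (Y.basicOpen_le r) m = 0 →
      ∃ k : ℕ, ((𝒮.str.app (op U)).hom r) ^ k • m = 0) ∧
    (∀ t : ℳ.mod.val.obj (op (Y.basicOpen r)), ∃ (k : ℕ) (m : ℳ.mod.val.obj (op U)),
      ℳ.res hU (hU.basicOpen r) (Y.basicOpen_le r) m =
        (𝒮.res hU (hU.basicOpen r) (Y.basicOpen_le r) ((𝒮.str.app (op U)).hom r)) ^ k • t)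

theorem isUnit_res_str (U : Y.Opens) (hU : IsAffineOpen U) (r : Γ(Y, U)) :
    IsUnit (𝒮.res hU (hU.basicOpen r) (Y.basicOpen_le r) ((𝒮.str.app (op U)).hom r)) := by
  let _inst := (𝒮.presheaf.map (homOfLE (Y.basicOpen_le r)).op).hom.toAlgebra
  have hloc : IsLocalization.Away ((𝒮.str.app (op U)).hom r)
      (𝒮.presheaf.obj (op (Y.basicOpen r))) := 𝒮.isQC U hU r
  exact IsLocalization.map_units (M := Submonoid.powers ((𝒮.str.app (op U)).hom r))
    (𝒮.presheaf.obj (op (Y.basicOpen r))) ⟨_, 1, pow_one _⟩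

theorem exists_res_eq (U : Y.Opens) (hU : IsAffineOpen U) (r : Γ(Y, U))
    (b : 𝒮.presheaf.obj (op (Y.basicOpen r))) :
    ∃ (k : ℕ) (a : 𝒮.presheaf.obj (op U)), 𝒮.res hU (hU.basicOpen r) (Y.basicOpen_le r) a =
      (𝒮.res hU (hU.basicOpen r) (Y.basicOpen_le r) ((𝒮.str.app (op U)).hom r)) ^ k * b := by
  let _inst := (𝒮.presheaf.map (homOfLE (Y.basicOpen_le r)).op).hom.toAlgebra
  have hloc : IsLocalization.Away ((𝒮.str.app (op U)).hom r)
      (𝒮.presheaf.obj (op (Y.basicOpen r))) := 𝒮.isQC U hU r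
  obtain ⟨⟨x, s, hs⟩, hxs⟩ := IsLocalization.surj (Submonoid.powers ((𝒮.str.app (op U)).hom r)) b
  obtain ⟨k, rfl⟩ := (Submonoid.mem_powers_iff _ _).mp hs
  refine ⟨k, x, ?_⟩
  change b * 𝒮.res hU (hU.basicOpen r) (Y.basicOpen_le r) (((𝒮.str.app (op U)).hom r) ^ k) =
    𝒮.res hU (hU.basicOpen r) (Y.basicOpen_le r) x at hxs
  rw [← hxs, map_pow, mul_comm]

variable {ℳ}

theorem cT_bij (hloc : IsLocalizing ℳ) (U : Y.Opens) (hU : IsAffineOpen U) (r : Γ(Y, U))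
    (W : P.Opens) (hW : W ≤ p ⁻¹ᵁ (Y.basicOpen r)) :
    Function.Bijective ((cT hP ℳ n hU (hU.basicOpen r) (Y.basicOpen_le r)).app W) := by
  have hinj : ∀ W' : P.Opens, W' ≤ p ⁻¹ᵁ (Y.basicOpen r) →
      Function.Injective ((cT hP ℳ n hU (hU.basicOpen r) (Y.basicOpen_le r)).app W') := by
    intro W' hW' s s' hss'
    refine sec_ext (𝒮.deg U hU) (ℳ.deg U hU) n _ _ fun x => ?_
    obtain ⟨x, hx⟩ := x
    obtain ⟨y, hy⟩ := exists_emb_eq (chart := chart) _ (hU.basicOpen r) _ (hW' hx)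
    have hxy : ProjectiveSpectrum.comap (𝒮.res hU (hU.basicOpen r) (Y.basicOpen_le r))
        (irrelevant_le_map_res 𝒮 hU (hU.basicOpen r) (Y.basicOpen_le r)) y = x := by
      apply emb_inj (p := p) (chart := chart) U hU
      rw [emb_comap hP]
      exact hy
    subst hxy
    have hyW' : y ∈ RelProj.emb p chart _ (hU.basicOpen r) ⁻¹ᵁ W' := by
      change RelProj.emb p chart _ (hU.basicOpen r) y ∈ W'
      rw [hy]
      exact hx
    apply locModMap_injective (𝒮.res hU (hU.basicOpen r) (Y.basicOpen_le r))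
      (irrelevant_le_map_res 𝒮 hU (hU.basicOpen r) (Y.basicOpen_le r))
      (ℳ.res hU (hU.basicOpen r) (Y.basicOpen_le r)) ((𝒮.str.app (op U)).hom r)
      (isUnit_res_str U hU r) (exists_res_eq U hU r) (hloc U hU r).1 y
    have := congrArg (fun t => GrMod.val (V := RelProj.emb p chart _ (hU.basicOpen r) ⁻¹ᵁ W') t
      ⟨y, hyW'⟩) hss'
    exact this
  refine ⟨hinj W hW, ?_⟩
  refine app_surjective_of_locally _ W (fun W' hW' => hinj W' (hW'.trans hW)) ?_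
  intro t x hxW
  obtain ⟨y, hy⟩ := exists_emb_eq (chart := chart) _ (hU.basicOpen r) _ (hW hxW)
  have hyW : y ∈ RelProj.emb p chart _ (hU.basicOpen r) ⁻¹ᵁ W := by
    change RelProj.emb p chart _ (hU.basicOpen r) y ∈ W
    rw [hy]
    exact hxW
  obtain ⟨V', hV', hyV', i, j, m, hm, a, ha, hnin, hcond, hval⟩ :=
    exists_local_lift (𝒮.res hU (hU.basicOpen r) (Y.basicOpen_le r))
      (ℳ.res hU (hU.basicOpen r) (Y.basicOpen_le r))
      (fun d m hm => ℳ.res_mem hU (hU.basicOpen r) (Y.basicOpen_le r) d m hm)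
      ((𝒮.str.app (op U)).hom r) (𝒮.str_mem U hU r) (isUnit_res_str U hU r)
      (exists_res_eq U hU r) (hloc U hU r).2
      (show Γ(GrMod.tilde (𝒮.deg _ (hU.basicOpen r)) (ℳ.deg _ (hU.basicOpen r)) n,
        RelProj.emb p chart _ (hU.basicOpen r) ⁻¹ᵁ W) from t) ⟨y, hyW⟩
  let W' : P.Opens := RelProj.emb p chart _ (hU.basicOpen r) ''ᵁ V'
  have hW'W : W' ≤ W := by
    rintro _ ⟨z, hz, rfl⟩
    exact hV' hz
  have hpre : RelProj.emb p chart _ (hU.basicOpen r) ⁻¹ᵁ W' = V' :=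
    (RelProj.emb p chart _ (hU.basicOpen r)).preimage_image_eq V'
  -- points of `emb U ⁻¹ W'` come from `V'`
  have hpts : ∀ z ∈ RelProj.emb p chart U hU ⁻¹ᵁ W', ∃ y' ∈ V',
      ProjectiveSpectrum.comap (𝒮.res hU (hU.basicOpen r) (Y.basicOpen_le r))
        (irrelevant_le_map_res 𝒮 hU (hU.basicOpen r) (Y.basicOpen_le r)) y' = z := by
    rintro z ⟨y', hy', hyz⟩
    refine ⟨y', hy', ?_⟩
    apply emb_inj (p := p) (chart := chart) U hU
    rw [emb_comap hP]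
    exact hyz
  refine ⟨W', hW'W, ⟨y, hyV', hy⟩, ?_⟩
  rcases hcond with hij | hm0
  · have hnin' : ∀ z ∈ RelProj.emb p chart U hU ⁻¹ᵁ W', a ∉ z.asHomogeneousIdeal := by
      intro z hz
      obtain ⟨y', hy', rfl⟩ := hpts z hz
      exact hnin y' hy'
    refine ⟨fracSec (𝒮.deg U hU) (ℳ.deg U hU) m hm a ha hij _ hnin', ?_⟩
    refine sec_ext (𝒮.deg _ (hU.basicOpen r)) (ℳ.deg _ (hU.basicOpen r)) n _ _ fun y'' => ?_
    have hy''V' : y''.1 ∈ V' := hpre ▸ y''.2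
    rw [cT_app_val]
    refine Eq.trans ?_ (hval y''.1 hy''V').symm
    rfl
  · refine ⟨0, ?_⟩
    refine sec_ext (𝒮.deg _ (hU.basicOpen r)) (ℳ.deg _ (hU.basicOpen r)) n _ _ fun y'' => ?_
    have hy''V' : y''.1 ∈ V' := hpre ▸ y''.2
    rw [map_zero]
    refine Eq.trans ?_ (hval y''.1 hy''V').symm
    rw [hm0, map_zero, LocalizedModule.zero_mk]
    rfl

/-- the chart system of the modules `(ℳ(U)(n))~` -/
noncomputable def tildeSys (hloc : IsLocalizing ℳ) : ChartSys p where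
  G := GT p chart ℳ n
  c := fun hU hV i => cT hP ℳ n hU hV i
  c_self := fun _ hU => cT_self hP ℳ n hU
  c_comp := fun hU hV hV' i j => cT_comp hP ℳ n hU hV hV' i j
  supp := fun U hU W W' h hW => GT_supp ℳ n U hU W W' h hW
  c_bij := fun U hU r W hW => cT_bij hP n hloc U hU r W hW

theorem isGlued_iff (hloc : IsLocalizing ℳ) (F : P.Modules)
    (lam : ∀ (U : Y.Opens) (hU : IsAffineOpen U), F ⟶ GT p chart ℳ n U hU) :
    IsGlued (tildeSys hP n hloc) F lam ↔ RelProj.IsRelTilde 𝒮 p chart ℳ n F lam := by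
  constructor
  · intro h
    refine ⟨h.bijective, fun U hU r W s y hy hy' => ?_⟩
    have h1 : (lam _ (hU.basicOpen r)).app W s =
        (cT hP ℳ n hU (hU.basicOpen r) (Y.basicOpen_le r)).app W ((lam U hU).app W s) := by
      rw [← h.compat U hU r]
      rfl
    rw [h1]
    rfl
  · intro h
    refine ⟨h.bijective, fun U hU r => ?_⟩
    refine hom_ext_sec _ _ fun W s => ?_
    refine sec_ext (𝒮.deg _ (hU.basicOpen r)) (ℳ.deg _ (hU.basicOpen r)) n _ _ fun y => ?_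
    exact (h.compat U hU r W s y.1 y.2 _).symm

theorem isLocalizing_of_isQCoh (ℳ : RelProj.GrModule 𝒮)
    (h : Coh.IsQCoh ((AMod.toOS 𝒮.toQCAlg).obj ℳ.mod)) : IsLocalizing ℳ := by
  intro U hU r
  haveI : ((AMod.toOS 𝒮.toQCAlg).obj ℳ.mod).IsQuasicoherent := h
  have hL := Groth.Agent.Lib.Lead.QCohAff.LocOn.of_isQuasicoherent
    ((AMod.toOS 𝒮.toQCAlg).obj ℳ.mod) hU
  constructor
  · intro m hm
    obtain ⟨k, hk⟩ := hL.1 r m hm
    refine ⟨k, ?_⟩
    rw [← map_pow]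
    exact hk
  · intro t
    obtain ⟨k, m, hm⟩ := hL.2 r t
    refine ⟨k, m, ?_⟩
    refine hm.trans ?_
    have hnat : (𝒮.str.app (op (Y.basicOpen r))).hom
        ((Y.presheaf.map (homOfLE (Y.basicOpen_le r)).op).hom r) =
        𝒮.res hU (hU.basicOpen r) (Y.basicOpen_le r) ((𝒮.str.app (op U)).hom r) :=
      congr($(𝒮.str.naturality (homOfLE (Y.basicOpen_le r)).op) r)
    rw [← hnat, ← map_pow (𝒮.str.app (op (Y.basicOpen r))).hom]
    rfl

end Groth.Agent.Lib.Helper74.RelTilde
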