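import Groth.Agent.Lib.Helper74.RelTwistMul
import Groth.Agent.Lib.Helper60.TensorRestrict

/-!
# `O(n)|U ⊗ O(-n)|U ≅ O_U` on quasi-compact opens of a relative Proj (helper74)
-/

set_option autoImplicit false
universe u
open CategoryTheory AlgebraicGeometry TopologicalSpace Opposite
open scoped HomogeneousIdeal

namespace Groth.Agent.Lib.Helper74.ModSec

open Groth.Agent.Lib.Lead.Inv

variable {X : Scheme.{u}}

/-- a morphism which, around the points of `U`, carries a generator to a generator is bijective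
on sections over the opens inside `U` -/
theorem app_bijective_of_isGen_cover {F G : X.Modules} (φ : F ⟶ G) (U : X.Opens)
    (h : ∀ x ∈ U, ∃ (W : X.Opens) (g : Γ(F, W)), x ∈ W ∧ IsGen F W g ∧ IsGen G W (φ.app W g))
    (W₀ : X.Opens) (hW₀ : W₀ ≤ U) : Function.Bijective (φ.app W₀) := by
  have hbij : ∀ x : U, ∃ W : X.Opens, x.1 ∈ W ∧ ∀ W' : X.Opens, W' ≤ W →
      Function.Bijective (φ.app W') := by
    intro x
    obtain ⟨W, g, hx, hg, hg'⟩ := h x.1 x.2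
    exact ⟨W, hx, app_bijective_of_isGen φ hg hg'⟩
  choose 𝒲 hx𝒲 h𝒲 using hbij
  have hinj : ∀ W₁ : X.Opens, W₁ ≤ U → Function.Injective (φ.app W₁) := by
    intro W₁ hW₁ s s' hss'
    refine sec_ext_of_locally F s s' fun x hx =>
      ⟨W₁ ⊓ 𝒲 ⟨x, hW₁ hx⟩, inf_le_left, ⟨hx, hx𝒲 _⟩, ?_⟩
    apply (h𝒲 ⟨x, hW₁ hx⟩ _ inf_le_right).1
    rw [hom_rs, hom_rs, hss']
  refine ⟨hinj W₀ hW₀, app_surjective_of_locally φ W₀ (fun W' hW' => hinj W' (hW'.trans hW₀))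
    fun t x hx => ?_⟩
  obtain ⟨σ, hσ⟩ := (h𝒲 ⟨x, hW₀ hx⟩ (W₀ ⊓ 𝒲 ⟨x, hW₀ hx⟩) inf_le_right).2 (rs G inf_le_left t)
  exact ⟨W₀ ⊓ 𝒲 ⟨x, hW₀ hx⟩, inf_le_left, ⟨hx, hx𝒲 _⟩, σ, hσ⟩

/-- a morphism bijective over the opens inside `U` pulls generators back -/
theorem isGen_of_app_bijective {F G : X.Modules} (φ : F ⟶ G) (U : X.Opens)
    (hφ : ∀ W₀ : X.Opens, W₀ ≤ U → Function.Bijective (φ.app W₀)) (γ : Γ(F, U))
    (hγ : IsGen G U (φ.app U γ)) : IsGen F U γ := by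
  intro W' hW'
  have h2 := hγ W' hW'
  have key : (φ.app W') ∘ (fun r : Γ(X, W') => r • F.presheaf.map (homOfLE hW').op γ) =
      (fun r : Γ(X, W') => r • G.presheaf.map (homOfLE hW').op (φ.app U γ)) := by
    funext r
    change φ.app W' (r • F.presheaf.map (homOfLE hW').op γ) = _
    rw [Scheme.Modules.Hom.app_smul]
    congr 1
    exact hom_rs φ hW' γ
  rw [← key] at h2
  exact (Function.Bijective.of_comp_iff' (hφ W' hW') _).mp h2

end Groth.Agent.Lib.Helper74.ModSec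

namespace Groth.Agent.Lib.Helper74.TwistNat

open Groth.Agent.Lib.Lead.Inv Groth.Agent.Lib.Helper74.RelTilde
open Groth.Agent.Lib.Helper74.RelGlue Groth.Agent.Lib.Helper74.ModSec Groth.Agent.Lib.Helper74.QMap
open Groth.Agent.Lib.Helper74.TwistGen

variable {Y P : Scheme.{u}} {𝒮 : RelProj.QCGrAlg Y} {p : P ⟶ Y}
  {chart : ∀ (U : Y.Opens) (hU : IsAffineOpen U),
    (((p ⁻¹ᵁ U : P.Opens) : Scheme.{u}) ≅ Proj (𝒮.deg U hU))}
  (hP : RelProj.IsRelProj 𝒮 p chart) {m n k : ℤ} (hk : k = m + n)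
  {L L' L'' : P.Modules}
  {lam : ∀ (U : Y.Opens) (hU : IsAffineOpen U), L ⟶ GTw p chart m U hU}
  {lam' : ∀ (U : Y.Opens) (hU : IsAffineOpen U), L' ⟶ GTw p chart n U hU}
  {lam'' : ∀ (U : Y.Opens) (hU : IsAffineOpen U), L'' ⟶ GTw p chart k U hU}
  (hL : RelProj.IsRelTwist 𝒮 p chart m L lam) (hL' : RelProj.IsRelTwist 𝒮 p chart n L' lam')
  (hL'' : RelProj.IsRelTwist 𝒮 p chart k L'' lam'')

/-- around a point of a chart where `f` (of degree `d`) does not vanish, the multiplication map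
carries a generator to a generator, when `m` and `n` are multiples of `d` -/
theorem mulHom_isGen_chart (V : Y.Opens) (hV : IsAffineOpen V) {d : ℕ}
    (f : 𝒮.presheaf.obj (op V)) (hf : f ∈ 𝒮.deg V hV d) (j j' : ℤ) (hm : m = j * d)
    (hn : n = j' * d) (y : Proj (𝒮.deg V hV)) (hy : f ∉ y.asHomogeneousIdeal) :
    ∃ (W : P.Opens) (g : Γ(CohB1.tensorMod L L', W)), RelProj.emb p chart V hV y ∈ W ∧
      IsGen (CohB1.tensorMod L L') W g ∧ IsGen L'' W ((mulHom hP hk hL hL' hL'').app W g) := by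
  let D : (Proj (𝒮.deg V hV)).Opens := Proj.basicOpen (𝒮.deg V hV) f
  let W : P.Opens := RelProj.emb p chart V hV ''ᵁ D
  have hWU : W ≤ p ⁻¹ᵁ V := by
    rintro _ ⟨z, -, rfl⟩
    exact emb_mem V hV z
  have hpre : RelProj.emb p chart V hV ⁻¹ᵁ W = D := (RelProj.emb p chart V hV).preimage_image_eq D
  have hD : ∀ z ∈ RelProj.emb p chart V hV ⁻¹ᵁ W, f ∉ z.asHomogeneousIdeal := by
    intro z hz
    rw [hpre] at hz
    exact (Proj.mem_basicOpen _ f z).1 hz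
  obtain ⟨e, he, hev⟩ := exists_powSec_chart hL V hV f hf j hm W hWU hD
  obtain ⟨e', he', hev'⟩ := exists_powSec_chart hL' V hV f hf j' hn W hWU hD
  refine ⟨W, tmul L L' e e', ⟨y, (Proj.mem_basicOpen _ f y).2 hy, rfl⟩, isGen_tmul he he', ?_⟩
  rw [mulHom_tmul]
  refine isGen_of_lam hL'' V hV W hWU _ ?_
  rw [pairFun_spec, hev, hev']
  unfold powSec
  rw [mulSec_fracSec]
  refine isGen_fracSec (𝒮.deg V hV) _ _ _ _ _ _ _ ?_
  intro z hz hmem
  rcases z.isPrime.mem_or_mem hmem with h | h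
  · exact hD z hz (z.isPrime.mem_of_pow_mem _ h)
  · exact hD z hz (z.isPrime.mem_of_pow_mem _ h)

include hP in
/-- `O_P(0)` has a global generator -/
theorem exists_isGen_top {L₀ : P.Modules}
    {lam₀ : ∀ (U : Y.Opens) (hU : IsAffineOpen U), L₀ ⟶ GTw p chart 0 U hU}
    (hL₀ : RelProj.IsRelTwist 𝒮 p chart 0 L₀ lam₀) : ∃ e : Γ(L₀, ⊤), IsGen L₀ ⊤ e := by
  have hone : ∀ U : Y.Opens, gres 𝒮 (1 : 𝒮.presheaf.obj (op ⊤)) U = 1 := fun U => map_one _
  obtain ⟨e, he, -⟩ := exists_isGen_basicOpen hP (d := 0) (1 : 𝒮.presheaf.obj (op ⊤))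
    (fun U hU => by rw [hone]; exact SetLike.GradedOne.one_mem) ⊤
    (fun U hU => by
      rw [hone]
      ext z
      constructor
      · intro _
        exact (Proj.mem_basicOpen _ _ z).2 (GrMod.one_nin z)
      · intro _
        trivial) 0 0 (by simp) hL₀
  exact ⟨e, he⟩


include hP in
/-- on a quasi-compact open, `O(n)|U ⊗ O(-n)|U ≅ O_U` for `n` divisible enough -/
theorem exists_tensor_restrict_iso (U : P.Opens) (hU : IsCompact (U : Set P)) :
    ∃ d : ℕ, 0 < d ∧ ∀ (n : ℤ), (d : ℤ) ∣ n →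
      ∀ (L : P.Modules) (lam : ∀ (V : Y.Opens) (hV : IsAffineOpen V), L ⟶ GTw p chart n V hV),
        RelProj.IsRelTwist 𝒮 p chart n L lam →
      ∀ (L' : P.Modules)
        (lam' : ∀ (V : Y.Opens) (hV : IsAffineOpen V), L' ⟶ GTw p chart (-n) V hV),
        RelProj.IsRelTwist 𝒮 p chart (-n) L' lam' →
          Nonempty (CohB1.tensorMod (L.restrict U.ι) (L'.restrict U.ι) ≅
            Coh.structureModule (U : Scheme.{u})) := by
  obtain ⟨d, hd, hcov⟩ := exists_common_degree (𝒮 := 𝒮) (chart := chart) U hU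
  refine ⟨d, hd, fun n hn L lam hL L' lam' hL' => ?_⟩
  obtain ⟨j, hj⟩ := hn
  obtain ⟨L₀, lam₀, hG₀⟩ := (twistSys hP 0).exists_isGlued
  have hL₀ : RelProj.IsRelTwist 𝒮 p chart 0 L₀ lam₀ := (isGluedTw_iff hP 0 L₀ lam₀).1 hG₀
  have hk : (0 : ℤ) = n + -n := by ring
  have hloc : ∀ x ∈ U, ∃ (W : P.Opens) (g : Γ(CohB1.tensorMod L L', W)), x ∈ W ∧
      IsGen (CohB1.tensorMod L L') W g ∧ IsGen L₀ W ((mulHom hP hk hL hL' hL₀).app W g) := by
    intro x hx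
    obtain ⟨V, hV, f, y, hf, hfy, rfl⟩ := hcov x hx
    exact mulHom_isGen_chart hP hk hL hL' hL₀ V hV f hf j (-j) (by rw [hj, mul_comm])
      (by rw [hj]; ring) y hfy
  have hbij := app_bijective_of_isGen_cover (mulHom hP hk hL hL' hL₀) U hloc
  obtain ⟨e, he⟩ := exists_isGen_top hP hL₀
  obtain ⟨γ, hγ⟩ := (hbij U le_rfl).2 (L₀.presheaf.map (homOfLE (le_top : U ≤ ⊤)).op e)
  have hgen : IsGen (CohB1.tensorMod L L') U γ := by
    refine isGen_of_app_bijective (mulHom hP hk hL hL' hL₀) U hbij γ ?_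
    rw [hγ]
    exact he.res le_top
  obtain ⟨i1⟩ := nonempty_iso_of_isGen hgen
  obtain ⟨i2⟩ := Groth.Agent.Lib.Helper60.TensorRestrict.nonempty_restrict_tensorMod_iso U.ι L L'
  exact ⟨i2.symm ≪≫ i1⟩

end Groth.Agent.Lib.Helper74.TwistNat
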