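import Groth.Agent.Lib.Helper74.TildeMul2
import Groth.Agent.Lib.Helper74.RelTwistMul2
import Groth.Agent.Lib.Helper74.RelTildeSys
import Groth.Agent.Lib.Lead.Tw2

/-!
# The multiplication `ℳ~(a) ⊗ O_P(b) ⟶ (ℳ(a + b))~` on a relative Proj (helper74)
-/

set_option autoImplicit false
universe u
open CategoryTheory AlgebraicGeometry TopologicalSpace Opposite
open scoped HomogeneousIdeal

namespace Groth.Agent.Lib.Helper74.TildeMul

open Groth.Agent.Lib.Lead.Inv Groth.Agent.Lib.Helper74.RelTilde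
open Groth.Agent.Lib.Helper74.RelGlue Groth.Agent.Lib.Helper74.ModSec Groth.Agent.Lib.Helper74.QMap
open Groth.Agent.Lib.Helper74.TwistGen Groth.Agent.Lib.Helper74.TwistNat
open Groth.Agent.Lib.Helper60.TildeSec

variable {Y P : Scheme.{u}} {𝒮 : RelProj.QCGrAlg Y} {p : P ⟶ Y}
  {chart : ∀ (U : Y.Opens) (hU : IsAffineOpen U),
    (((p ⁻¹ᵁ U : P.Opens) : Scheme.{u}) ≅ Proj (𝒮.deg U hU))}
  (hP : RelProj.IsRelProj 𝒮 p chart) {ℳ : RelProj.GrModule 𝒮} (hloc : IsLocalizing ℳ)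
  {a b k : ℤ} (hk : k = a + b)
  {F F' L : P.Modules}
  {lam : ∀ (U : Y.Opens) (hU : IsAffineOpen U), F ⟶ GT p chart ℳ a U hU}
  {lam' : ∀ (U : Y.Opens) (hU : IsAffineOpen U), F' ⟶ GT p chart ℳ k U hU}
  {lamL : ∀ (U : Y.Opens) (hU : IsAffineOpen U), L ⟶ GTw p chart b U hU}
  (hF : RelProj.IsRelTilde 𝒮 p chart ℳ a F lam) (hF' : RelProj.IsRelTilde 𝒮 p chart ℳ k F' lam')
  (hL : RelProj.IsRelTwist 𝒮 p chart b L lamL)

include hP hloc in
/-- valuewise compatibility of the chartwise readings of a section of `ℳ~(a)` -/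
theorem lamT_val_compat {a : ℤ} {F : P.Modules}
    {lam : ∀ (U : Y.Opens) (hU : IsAffineOpen U), F ⟶ GT p chart ℳ a U hU}
    (hF : RelProj.IsRelTilde 𝒮 p chart ℳ a F lam) {U V : Y.Opens} (hU : IsAffineOpen U)
    (hV : IsAffineOpen V) (i : V ≤ U) (W : P.Opens) (s : Γ(F, W))
    (y : (RelProj.emb p chart V hV ⁻¹ᵁ W : (Proj (𝒮.deg V hV)).Opens)) :
    GrMod.val (V := RelProj.emb p chart V hV ⁻¹ᵁ W) ((lam V hV).app W s) y =
      GrMod.locModMap (𝒮.res hU hV i) (irrelevant_le_map_res 𝒮 hU hV i) (ℳ.res hU hV i) y.1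
        (GrMod.val (V := RelProj.emb p chart U hU ⁻¹ᵁ W) ((lam U hU).app W s)
          ⟨ProjectiveSpectrum.comap (𝒮.res hU hV i) (irrelevant_le_map_res 𝒮 hU hV i) y.1,
            show _ ∈ W from (emb_comap hP hU hV i y.1).symm ▸ y.2⟩) := by
  have hG := (isGlued_iff hP a hloc F lam).2 hF
  rw [← cT_app_val hP ℳ a hU hV i W ((lam U hU).app W s) y]
  have := hG.compat_le_app hU hV i W s
  exact congrArg (fun σ => GrMod.val (V := RelProj.emb p chart V hV ⁻¹ᵁ W) σ y) this.symm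

include hP hloc in
/-- sections of `ℳ~(a)` are determined by their chartwise readings -/
theorem section_ext_tilde {a : ℤ} {F : P.Modules}
    {lam : ∀ (U : Y.Opens) (hU : IsAffineOpen U), F ⟶ GT p chart ℳ a U hU}
    (hF : RelProj.IsRelTilde 𝒮 p chart ℳ a F lam) (W : P.Opens) (s s' : Γ(F, W))
    (h : ∀ (U : Y.Opens) (hU : IsAffineOpen U), (lam U hU).app W s = (lam U hU).app W s') :
    s = s' :=
  IsGlued.section_ext ((isGlued_iff hP a hloc F lam).2 hF) W s s' h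

include hP hloc hF hF' hL in
/-- the product of a section of `ℳ~(a)` and a section of `O_P(b)` -/
theorem existsUnique_pairT (W : P.Opens) (s : Γ(F, W)) (t : Γ(L, W)) :
    ∃! σ : Γ(F', W), ∀ (U : Y.Opens) (hU : IsAffineOpen U),
      (lam' U hU).app W σ =
        smulSec (𝒮.deg U hU) (ℳ.deg U hU) hk (V := RelProj.emb p chart U hU ⁻¹ᵁ W)
          ((lamL U hU).app W t) ((lam U hU).app W s) := by
  have hG' := (isGlued_iff hP k hloc F' lam').2 hF'
  refine hG'.existsUnique_section W (fun U hU =>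
    smulSec (𝒮.deg U hU) (ℳ.deg U hU) hk (V := RelProj.emb p chart U hU ⁻¹ᵁ W)
      ((lamL U hU).app W t) ((lam U hU).app W s)) ?_
  intro U V hU hV i
  refine sec_ext (𝒮.deg V hV) (ℳ.deg V hV) k _ _ fun y => ?_
  refine (cT_app_val hP ℳ k hU hV i W _ y).trans ?_
  rw [smulSec_val, smulSec_val, GrMod.locModMap_smul, lamT_val_compat hP hloc hF hU hV i,
    lam_val_compat hP hL hU hV i]

/-- the product of two sections -/
noncomputable def pairT (W : P.Opens) (s : Γ(F, W)) (t : Γ(L, W)) : Γ(F', W) :=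
  (existsUnique_pairT hP hloc hk hF hF' hL W s t).choose

theorem pairT_spec (W : P.Opens) (s : Γ(F, W)) (t : Γ(L, W)) (U : Y.Opens)
    (hU : IsAffineOpen U) :
    (lam' U hU).app W (pairT hP hloc hk hF hF' hL W s t) =
      smulSec (𝒮.deg U hU) (ℳ.deg U hU) hk (V := RelProj.emb p chart U hU ⁻¹ᵁ W)
        ((lamL U hU).app W t) ((lam U hU).app W s) :=
  (existsUnique_pairT hP hloc hk hF hF' hL W s t).choose_spec.1 U hU

theorem pairT_add_left (W : P.Opens) (s₁ s₂ : Γ(F, W)) (t : Γ(L, W)) :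
    pairT hP hloc hk hF hF' hL W (s₁ + s₂) t =
      pairT hP hloc hk hF hF' hL W s₁ t + pairT hP hloc hk hF hF' hL W s₂ t := by
  refine section_ext_tilde hP hloc hF' W _ _ fun U hU => ?_
  rw [map_add, pairT_spec, pairT_spec, pairT_spec, map_add]
  exact smulSec_add_right (𝒮.deg U hU) (ℳ.deg U hU) hk _ _ _

theorem pairT_add_right (W : P.Opens) (s : Γ(F, W)) (t₁ t₂ : Γ(L, W)) :
    pairT hP hloc hk hF hF' hL W s (t₁ + t₂) =
      pairT hP hloc hk hF hF' hL W s t₁ + pairT hP hloc hk hF hF' hL W s t₂ := by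
  refine section_ext_tilde hP hloc hF' W _ _ fun U hU => ?_
  rw [map_add, pairT_spec, pairT_spec, pairT_spec, map_add]
  exact smulSec_add_left (𝒮.deg U hU) (ℳ.deg U hU) hk _ _ _

theorem lamT_smul {a : ℤ} {F : P.Modules}
    {lam : ∀ (U : Y.Opens) (hU : IsAffineOpen U), F ⟶ GT p chart ℳ a U hU}
    (W : P.Opens) (r : Γ(P, W)) (s : Γ(F, W)) (U : Y.Opens) (hU : IsAffineOpen U) :
    (lam U hU).app W (r • s) =
      (show Γ(GrMod.tilde (𝒮.deg U hU) (ℳ.deg U hU) a, RelProj.emb p chart U hU ⁻¹ᵁ W) from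
        ((RelProj.emb p chart U hU).app W).hom r •
          (show Γ(GrMod.tilde (𝒮.deg U hU) (ℳ.deg U hU) a, RelProj.emb p chart U hU ⁻¹ᵁ W) from
            (lam U hU).app W s)) :=
  (Scheme.Modules.Hom.app_smul _ _ _).trans (pushforward_smul _ _ _ _ _)

theorem pairT_smul_left (W : P.Opens) (r : Γ(P, W)) (s : Γ(F, W)) (t : Γ(L, W)) :
    pairT hP hloc hk hF hF' hL W (r • s) t = r • pairT hP hloc hk hF hF' hL W s t := by
  refine section_ext_tilde hP hloc hF' W _ _ fun U hU => ?_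
  refine (pairT_spec hP hloc hk hF hF' hL W (r • s) t U hU).trans ?_
  refine Eq.trans ?_ (lamT_smul W r (pairT hP hloc hk hF hF' hL W s t) U hU).symm
  rw [pairT_spec, lamT_smul]
  exact smulSec_smul_right (𝒮.deg U hU) (ℳ.deg U hU) hk _ _ _

theorem pairT_smul_right (W : P.Opens) (r : Γ(P, W)) (s : Γ(F, W)) (t : Γ(L, W)) :
    pairT hP hloc hk hF hF' hL W s (r • t) = r • pairT hP hloc hk hF hF' hL W s t := by
  refine section_ext_tilde hP hloc hF' W _ _ fun U hU => ?_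
  refine (pairT_spec hP hloc hk hF hF' hL W s (r • t) U hU).trans ?_
  refine Eq.trans ?_ (lamT_smul W r (pairT hP hloc hk hF hF' hL W s t) U hU).symm
  rw [pairT_spec, lam_smul]
  exact smulSec_smul_left (𝒮.deg U hU) (ℳ.deg U hU) hk _ _ _

theorem pairT_res {W W' : P.Opens} (h : W' ≤ W) (s : Γ(F, W)) (t : Γ(L, W)) :
    F'.presheaf.map (homOfLE h).op (pairT hP hloc hk hF hF' hL W s t) =
      pairT hP hloc hk hF hF' hL W' (F.presheaf.map (homOfLE h).op s)
        (L.presheaf.map (homOfLE h).op t) := by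
  refine section_ext_tilde hP hloc hF' W' _ _ fun U hU => ?_
  rw [hom_res, pairT_spec, pairT_spec, hom_res, hom_res]
  rfl

/-- the pairing as bilinear maps -/
noncomputable def pairTLin (W : P.Opens) :
    Γ(F, W) →ₗ[Γ(P, W)] Γ(L, W) →ₗ[Γ(P, W)] Γ(F', W) :=
  LinearMap.mk₂ Γ(P, W) (pairT hP hloc hk hF hF' hL W)
    (pairT_add_left hP hloc hk hF hF' hL W) (pairT_smul_left hP hloc hk hF hF' hL W)
    (pairT_add_right hP hloc hk hF hF' hL W) (pairT_smul_right hP hloc hk hF hF' hL W)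

/-- the multiplication map `ℳ~(a) ⊗ O_P(b) ⟶ (ℳ(a + b))~` -/
noncomputable def mulHomT : CohB1.tensorMod F L ⟶ F' :=
  Groth.Agent.Lib.Helper2.TensorDesc.desc F L F' (pairTLin hP hloc hk hF hF' hL)
    (fun _ _ h s t => pairT_res hP hloc hk hF hF' hL h s t)

theorem mulHomT_tmul (W : P.Opens) (s : Γ(F, W)) (t : Γ(L, W)) :
    (mulHomT hP hloc hk hF hF' hL).app W (tmul F L s t) = pairT hP hloc hk hF hF' hL W s t :=
  Groth.Agent.Lib.Helper2.TensorDesc.desc_tmul F L F' _ _ W s t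

end Groth.Agent.Lib.Helper74.TildeMul
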