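import Groth.Agent.Lib.Helper74.RelTildeMul

set_option autoImplicit false
universe u
open CategoryTheory AlgebraicGeometry TopologicalSpace Opposite
open scoped HomogeneousIdeal

namespace Groth.Agent.Lib.Helper74.ModSec

open Groth.Agent.Lib.Lead.Inv

variable {X : Scheme.{u}}

/-- a morphism which is bijective on sections over all small opens is an isomorphism -/
theorem isIso_of_locally_bijective {F G : X.Modules} (φ : F ⟶ G)
    (hbij : ∀ x : X, ∃ W : X.Opens, x ∈ W ∧ ∀ W' : X.Opens, W' ≤ W →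
      Function.Bijective (φ.app W')) : IsIso φ := by
  choose 𝒲 hx𝒲 h𝒲 using hbij
  have hinj : ∀ W₀ : X.Opens, Function.Injective (φ.app W₀) := by
    intro W₀ s s' hss'
    refine sec_ext_of_locally F s s' fun x hx => ⟨W₀ ⊓ 𝒲 x, inf_le_left, ⟨hx, hx𝒲 x⟩, ?_⟩
    apply (h𝒲 x _ inf_le_right).1
    rw [hom_rs, hom_rs, hss']
  apply Groth.Agent.Lib.Helper60.TensorLib.isIso_of_app_bijective
  intro W₀
  refine ⟨hinj W₀, app_surjective_of_locally φ W₀ (fun W' _ => hinj W') fun t x hx => ?_⟩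
  obtain ⟨σ, hσ⟩ := (h𝒲 x (W₀ ⊓ 𝒲 x) inf_le_right).2 (rs G inf_le_left t)
  exact ⟨W₀ ⊓ 𝒲 x, inf_le_left, ⟨hx, hx𝒲 x⟩, σ, hσ⟩

end Groth.Agent.Lib.Helper74.ModSec

namespace Groth.Agent.Lib.Helper74.TildeMul

open Groth.Agent.Lib.Lead.Inv Groth.Agent.Lib.Helper74.RelTilde
open Groth.Agent.Lib.Helper74.RelGlue Groth.Agent.Lib.Helper74.ModSec Groth.Agent.Lib.Helper74.QMap
open Groth.Agent.Lib.Helper74.TwistGen Groth.Agent.Lib.Helper74.TwistNat
open Groth.Agent.Lib.Helper60.TildeSec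

variable {Y P : Scheme.{u}} {𝒮 : RelProj.QCGrAlg Y} {p : P ⟶ Y}
  {chart : ∀ (U : Y.Opens) (hU : IsAffineOpen U),
    (((p ⁻¹ᵁ U : P.Opens) : Scheme.{u}) ≅ Proj (𝒮.deg U hU))}
  (hP : RelProj.IsRelProj 𝒮 p chart) {ℳ : RelProj.GrModule 𝒮} (hloc : IsLocalizing ℳ)
  {a b k : ℤ} (hk : k = a + b)
  {F F' L : P.Modules}
  {lam : ∀ (U : Y.Opens) (hU : IsAffineOpen U), F ⟶ GT p chart ℳ a U hU}
  {lam' : ∀ (U : Y.Opens) (hU : IsAffineOpen U), F' ⟶ GT p chart ℳ k U hU}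
  {lamL : ∀ (U : Y.Opens) (hU : IsAffineOpen U), L ⟶ GTw p chart b U hU}
  (hF : RelProj.IsRelTilde 𝒮 p chart ℳ a F lam) (hF' : RelProj.IsRelTilde 𝒮 p chart ℳ k F' lam')
  (hL : RelProj.IsRelTwist 𝒮 p chart b L lamL)

include hP hloc hF hF' hL in
/-- `ℳ~(a) ⊗ O_P(b) ≅ (ℳ(a + b))~` when `𝒮` is generated in degree one -/
theorem isIso_mulHomT (hgen : 𝒮.IsGenDegOne) : IsIso (mulHomT hP hloc hk hF hF' hL) := by
  refine isIso_of_locally_bijective _ fun x => ?_
  obtain ⟨U, hU, hxU⟩ := exists_affine_mem p x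
  obtain ⟨y, rfl⟩ := exists_emb_eq (chart := chart) U hU x hxU
  obtain ⟨t, ht, hty⟩ := exists_deg_one_notMem (hgen U hU) y
  let D : (Proj (𝒮.deg U hU)).Opens := Proj.basicOpen (𝒮.deg U hU) t
  let W : P.Opens := RelProj.emb p chart U hU ''ᵁ D
  have hWU : W ≤ p ⁻¹ᵁ U := by
    rintro _ ⟨z, -, rfl⟩
    exact emb_mem U hU z
  have hpre : RelProj.emb p chart U hU ⁻¹ᵁ W = D := (RelProj.emb p chart U hU).preimage_image_eq D
  have hD : ∀ z ∈ RelProj.emb p chart U hU ⁻¹ᵁ W, t ∉ z.asHomogeneousIdeal := by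
    intro z hz
    rw [hpre] at hz
    exact (Proj.mem_basicOpen _ t z).1 hz
  obtain ⟨e, he, hev⟩ := exists_powSec_chart hL U hU t ht b (by simp) W hWU hD
  refine ⟨W, ⟨y, (Proj.mem_basicOpen _ t y).2 hty, rfl⟩, fun W' hW' => ?_⟩
  have hD' : ∀ z ∈ RelProj.emb p chart U hU ⁻¹ᵁ W', t ∉ z.asHomogeneousIdeal :=
    fun z hz => hD z (hW' hz)
  -- the map `s ↦ s ⊗ e` is bijective
  have h1 : Function.Bijective (fun s : Γ(F, W') =>
      tmul F L s (L.presheaf.map (homOfLE hW').op e)) :=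
    Groth.Agent.Lib.Helper35.Gen.tm_right_bijective F L e ((isGen35_iff _ _ _).2 he) W' hW'
  -- the map `s ↦ s · e` is bijective
  have h2 : Function.Bijective (fun s : Γ(F, W') =>
      pairT hP hloc hk hF hF' hL W' s (L.presheaf.map (homOfLE hW').op e)) := by
    have hlam := hF.bijective U hU W' (hW'.trans hWU)
    have hlam' := hF'.bijective U hU W' (hW'.trans hWU)
    have hmul := smulSec_powSec_bijective (𝒮.deg U hU) (ℳ.deg U hU) t ht b b (by simp) hk
      (RelProj.emb p chart U hU ⁻¹ᵁ W') hD'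
    have hcomp : (fun σ : Γ(F', W') => (lam' U hU).app W' σ) ∘ (fun s : Γ(F, W') =>
        pairT hP hloc hk hF hF' hL W' s (L.presheaf.map (homOfLE hW').op e)) =
        (fun s => smulSec (𝒮.deg U hU) (ℳ.deg U hU) hk
          (TwistNat.powSec (𝒮.deg U hU) t ht b b (by simp) (RelProj.emb p chart U hU ⁻¹ᵁ W') hD') s) ∘
          (fun s : Γ(F, W') => (lam U hU).app W' s) := by
      funext s
      change (lam' U hU).app W' (pairT hP hloc hk hF hF' hL W' s _) = _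
      rw [pairT_spec, hom_res, hev]
      rfl
    have h3 : Function.Bijective ((fun σ : Γ(F', W') => (lam' U hU).app W' σ) ∘
        (fun s : Γ(F, W') =>
          pairT hP hloc hk hF hF' hL W' s (L.presheaf.map (homOfLE hW').op e))) := by
      rw [hcomp]
      exact hmul.comp hlam
    exact (Function.Bijective.of_comp_iff' hlam' _).1 h3
  have hcomp2 : ((mulHomT hP hloc hk hF hF' hL).app W') ∘ (fun s : Γ(F, W') =>
      tmul F L s (L.presheaf.map (homOfLE hW').op e)) =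
      (fun s : Γ(F, W') =>
        pairT hP hloc hk hF hF' hL W' s (L.presheaf.map (homOfLE hW').op e)) := by
    funext s
    exact mulHomT_tmul hP hloc hk hF hF' hL W' s _
  rw [← hcomp2] at h2
  exact (Function.Bijective.of_comp_iff _ h1).1 h2

include hP hloc hk hF hF' hL in
theorem nonempty_iso_tensor (hgen : 𝒮.IsGenDegOne) : Nonempty (F' ≅ CohB1.tensorMod F L) :=
  ⟨(@asIso _ _ _ _ (mulHomT hP hloc hk hF hF' hL) (isIso_mulHomT hP hloc hk hF hF' hL hgen)).symm⟩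

end Groth.Agent.Lib.Helper74.TildeMul
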