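import Groth.Agent.Lib.Helper74.RelTwistPb
import Groth.Agent.Lib.Helper74.RelGlueFam
import Groth.Agent.Lib.Helper74.QMapBC

/-!
# Base change of `O(n)` along `Proj(u)` over a morphism of bases (helper74)
-/

set_option autoImplicit false
universe u
open CategoryTheory AlgebraicGeometry TopologicalSpace Opposite
open scoped HomogeneousIdeal

namespace Groth.Agent.Lib.Helper74.TwistBC

open Groth.Agent.Lib.Lead.Inv Groth.Agent.Lib.Helper74.RelTilde
open Groth.Agent.Lib.Helper74.RelGlue Groth.Agent.Lib.Helper74.ModSec Groth.Agent.Lib.Helper74.QMap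
open Groth.Agent.Lib.Helper74.TwistGen Groth.Agent.Lib.Helper74.TwistNat

variable {Y Y' P P' : Scheme.{u}} {g : Y' ⟶ Y} {𝒮 : RelProj.QCGrAlg Y} {𝒮' : RelProj.QCGrAlg Y'}
  (u : RelProj.QGrHom g 𝒮 𝒮')
  (hirr : ∀ (U : Y.Opens) (hU : IsAffineOpen U) (U' : Y'.Opens) (hU' : IsAffineOpen U')
    (hle : U' ≤ g ⁻¹ᵁ U), (𝒮'.deg U' hU')₊ ≤ ((𝒮.deg U hU)₊).map (u.gradedAt U hU U' hU' hle))
  {p : P ⟶ Y}
  {chart : ∀ (U : Y.Opens) (hU : IsAffineOpen U),
    (((p ⁻¹ᵁ U : P.Opens) : Scheme.{u}) ≅ Proj (𝒮.deg U hU))}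
  {p' : P' ⟶ Y'}
  {chart' : ∀ (U' : Y'.Opens) (hU' : IsAffineOpen U'),
    (((p' ⁻¹ᵁ U' : P'.Opens) : Scheme.{u}) ≅ Proj (𝒮'.deg U' hU'))}
  {h : P' ⟶ P} (hh : RelProj.IsProjQMap u p chart p' chart' h)

include hh in
theorem map_emb_eq (U : Y.Opens) (hU : IsAffineOpen U) (U' : Y'.Opens) (hU' : IsAffineOpen U')
    (hle : U' ≤ g ⁻¹ᵁ U) :
    Proj.map (u.gradedAt U hU U' hU' hle) (hirr U hU U' hU' hle) ≫ RelProj.emb p chart U hU =
      RelProj.emb p' chart' U' hU' ≫ h :=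
  (emb_comp_of_isProjQMap u h hh U hU U' hU' hle (hirr U hU U' hU' hle)).symm

include hh in
theorem h_emb_apply (U : Y.Opens) (hU : IsAffineOpen U) (U' : Y'.Opens) (hU' : IsAffineOpen U')
    (hle : U' ≤ g ⁻¹ᵁ U) (y : Proj (𝒮'.deg U' hU')) :
    h (RelProj.emb p' chart' U' hU' y) = RelProj.emb p chart U hU
      (ProjectiveSpectrum.comap (u.gradedAt U hU U' hU' hle) (hirr U hU U' hU' hle) y) := by
  have := congrArg (fun f => f y) (map_emb_eq u hirr hh U hU U' hU' hle)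
  exact this.symm

theorem res_gradedAt {U V : Y.Opens} (hU : IsAffineOpen U) (hV : IsAffineOpen V) (i : V ≤ U)
    {U' V' : Y'.Opens} (hU' : IsAffineOpen U') (hV' : IsAffineOpen V') (i' : V' ≤ U')
    (hle : U' ≤ g ⁻¹ᵁ U) (hle' : V' ≤ g ⁻¹ᵁ V)
    (a : 𝒮.presheaf.obj (op U)) :
    𝒮'.res hU' hV' i' (u.gradedAt U hU U' hU' hle a) =
      u.gradedAt V hV V' hV' hle' (𝒮.res hU hV i a) := by
  have h1 := congr($(u.appLE_map hle i').hom a)
  have h2 := congr($(u.map_appLE i hle').hom a)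
  exact h1.trans h2.symm

/-- the chartwise comparison map `L ⟶ h_* (emb_{U'})_* O_{𝒮'(U')}(n)` -/
noncomputable def muBC (n : ℤ) {L : P.Modules}
    (lam : ∀ (U : Y.Opens) (hU : IsAffineOpen U), L ⟶ GTw p chart n U hU)
    (U : Y.Opens) (hU : IsAffineOpen U) (U' : Y'.Opens) (hU' : IsAffineOpen U')
    (hle : U' ≤ g ⁻¹ᵁ U) :
    L ⟶ (Scheme.Modules.pushforward h).obj (GTw p' chart' n U' hU') :=
  lam U hU ≫ (Scheme.Modules.pushforward (RelProj.emb p chart U hU)).map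
      (GrTwist.comap (u.gradedAt U hU U' hU' hle) (hirr U hU U' hU' hle) n) ≫
    (Scheme.Modules.pushforwardComp (Proj.map (u.gradedAt U hU U' hU' hle) (hirr U hU U' hU' hle))
      (RelProj.emb p chart U hU)).hom.app _ ≫
    (Scheme.Modules.pushforwardCongr (map_emb_eq u hirr hh U hU U' hU' hle)).hom.app _ ≫
    (Scheme.Modules.pushforwardComp (RelProj.emb p' chart' U' hU') h).inv.app _

theorem muBC_app_val (n : ℤ) {L : P.Modules}
    (lam : ∀ (U : Y.Opens) (hU : IsAffineOpen U), L ⟶ GTw p chart n U hU)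
    (U : Y.Opens) (hU : IsAffineOpen U) (U' : Y'.Opens) (hU' : IsAffineOpen U')
    (hle : U' ≤ g ⁻¹ᵁ U) (W : P.Opens) (s : Γ(L, W))
    (y : (RelProj.emb p' chart' U' hU' ⁻¹ᵁ (h ⁻¹ᵁ W) : (Proj (𝒮'.deg U' hU')).Opens)) :
    GrTwist.val (V := RelProj.emb p' chart' U' hU' ⁻¹ᵁ (h ⁻¹ᵁ W))
        ((muBC u hirr hh n lam U hU U' hU' hle).app W s) y =
      GrTwist.locMap (u.gradedAt U hU U' hU' hle) (hirr U hU U' hU' hle) y.1
        (GrTwist.val (V := RelProj.emb p chart U hU ⁻¹ᵁ W) ((lam U hU).app W s)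
          ⟨ProjectiveSpectrum.comap (u.gradedAt U hU U' hU' hle) (hirr U hU U' hU' hle) y.1,
            show _ ∈ W from (h_emb_apply u hirr hh U hU U' hU' hle y.1) ▸ y.2⟩) := rfl

variable (hP : RelProj.IsRelProj 𝒮 p chart) (hP' : RelProj.IsRelProj 𝒮' p' chart')

include hh hP hP' in
theorem comap_comap_eq {U V : Y.Opens} (hU : IsAffineOpen U) (hV : IsAffineOpen V) (i : V ≤ U)
    {U' V' : Y'.Opens} (hU' : IsAffineOpen U') (hV' : IsAffineOpen V') (i' : V' ≤ U')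
    (hle : U' ≤ g ⁻¹ᵁ U) (hle' : V' ≤ g ⁻¹ᵁ V)
    (y : Proj (𝒮'.deg V' hV')) :
    ProjectiveSpectrum.comap (𝒮.res hU hV i) (irrelevant_le_map_res 𝒮 hU hV i)
        (ProjectiveSpectrum.comap (u.gradedAt V hV V' hV' hle') (hirr V hV V' hV' hle') y) =
      ProjectiveSpectrum.comap (u.gradedAt U hU U' hU' hle) (hirr U hU U' hU' hle)
        (ProjectiveSpectrum.comap (𝒮'.res hU' hV' i') (irrelevant_le_map_res 𝒮' hU' hV' i') y) := by
  apply emb_inj (p := p) (chart := chart) U hU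
  rw [emb_comap hP hU hV i, ← h_emb_apply u hirr hh V hV V' hV' hle' y,
    ← h_emb_apply u hirr hh U hU U' hU' hle, emb_comap hP' hU' hV' i']

include hP hP' in
theorem muBC_compat (n : ℤ) {L : P.Modules}
    {lam : ∀ (U : Y.Opens) (hU : IsAffineOpen U), L ⟶ GTw p chart n U hU}
    (hL : RelProj.IsRelTwist 𝒮 p chart n L lam)
    {U V : Y.Opens} (hU : IsAffineOpen U) (hV : IsAffineOpen V) (i : V ≤ U)
    {U' V' : Y'.Opens} (hU' : IsAffineOpen U') (hV' : IsAffineOpen V') (i' : V' ≤ U')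
    (hle : U' ≤ g ⁻¹ᵁ U) (hle' : V' ≤ g ⁻¹ᵁ V) :
    muBC u hirr hh n lam U hU U' hU' hle ≫
        (Scheme.Modules.pushforward h).map (cTw hP' n hU' hV' i') =
      muBC u hirr hh n lam V hV V' hV' hle' := by
  refine hom_ext_sec _ _ fun W s => ?_
  refine sec_ext (𝒮'.deg V' hV') n _ _ fun y => ?_
  rw [comp_app_apply]
  refine (cTw_app_val hP' n hU' hV' i' (h ⁻¹ᵁ W) _ y).trans ?_
  rw [muBC_app_val, muBC_app_val, lam_val_compat hP hL hU hV i]
  have hpt := comap_comap_eq u hirr hh hP hP' hU hV i hU' hV' i' hle hle' y.1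
  obtain ⟨V₀, hV₀, hxV₀, i₀, j₀, a, ha, b, hb, hnin, -, hval⟩ :=
    exists_frac_tw (show Γ(GrTwist.twist (𝒮.deg U hU) n, RelProj.emb p chart U hU ⁻¹ᵁ W) from
      (lam U hU).app W s)
      ⟨ProjectiveSpectrum.comap (u.gradedAt U hU U' hU' hle) (hirr U hU U' hU' hle)
        (ProjectiveSpectrum.comap (𝒮'.res hU' hV' i') (irrelevant_le_map_res 𝒮' hU' hV' i') y.1),
        show _ ∈ W from by
          rw [← h_emb_apply u hirr hh U hU U' hU' hle, emb_comap hP' hU' hV' i']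
          exact y.2⟩
  have h1 := hval _ hxV₀
  have hx' : ProjectiveSpectrum.comap (𝒮.res hU hV i) (irrelevant_le_map_res 𝒮 hU hV i)
      (ProjectiveSpectrum.comap (u.gradedAt V hV V' hV' hle') (hirr V hV V' hV' hle') y.1) ∈ V₀ := by
    rw [hpt]
    exact hxV₀
  have h2 := hval _ hx'
  rw [h1, h2, GrTwist.locMap_mk, GrTwist.locMap_mk, GrTwist.locMap_mk, GrTwist.locMap_mk]
  refine mk_congr_tw ?_ ?_
  · exact res_gradedAt u hU hV i hU' hV' i' hle hle' a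
  · exact res_gradedAt u hU hV i hU' hV' i' hle hle' b


end Groth.Agent.Lib.Helper74.TwistBC
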