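import Groth.Agent.Lib.Helper74.RelTwistBC

set_option autoImplicit false
universe u
open CategoryTheory AlgebraicGeometry TopologicalSpace Opposite
open scoped HomogeneousIdeal

namespace Groth.Agent.Lib.Helper74.TwistBC

open Groth.Agent.Lib.Lead.Inv Groth.Agent.Lib.Helper74.RelTilde
open Groth.Agent.Lib.Helper74.RelGlue Groth.Agent.Lib.Helper74.ModSec Groth.Agent.Lib.Helper74.QMap
open Groth.Agent.Lib.Helper74.TwistGen Groth.Agent.Lib.Helper74.TwistNat

variable {Y Y' P P' : Scheme.{u}} {g : Y' ⟶ Y} {𝒮 : RelProj.QCGrAlg Y} {𝒮' : RelProj.QCGrAlg Y'}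
  (u : RelProj.QGrHom g 𝒮 𝒮')
  (hirr : ∀ (U : Y.Opens) (hU : IsAffineOpen U) (U' : Y'.Opens) (hU' : IsAffineOpen U')
    (hle : U' ≤ g ⁻¹ᵁ U), (𝒮'.deg U' hU')₊ ≤ ((𝒮.deg U hU)₊).map (u.gradedAt U hU U' hU' hle))
  {p : P ⟶ Y}
  {chart : ∀ (U : Y.Opens) (hU : IsAffineOpen U),
    (((p ⁻¹ᵁ U : P.Opens) : Scheme.{u}) ≅ Proj (𝒮.deg U hU))}
  {p' : P' ⟶ Y'}
  {chart' : ∀ (U' : Y'.Opens) (hU' : IsAffineOpen U'),
    (((p' ⁻¹ᵁ U' : P'.Opens) : Scheme.{u}) ≅ Proj (𝒮'.deg U' hU'))}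
  {h : P' ⟶ P} (hh : RelProj.IsProjQMap u p chart p' chart' h)
  (hP : RelProj.IsRelProj 𝒮 p chart) (hP' : RelProj.IsRelProj 𝒮' p' chart')

/-- affine pairs `(U, U')` with `U' ≤ g⁻¹ U` -/
structure APair (g : Y' ⟶ Y) where
  U : Y.Opens
  hU : IsAffineOpen U
  U' : Y'.Opens
  hU' : IsAffineOpen U'
  hle : U' ≤ g ⁻¹ᵁ U

include hP hP' in
/-- the comparison map `h^* O_P(n) ⟶ O_{P'}(n)` over a morphism of bases -/
theorem existsUnique_pbTheta (n : ℤ) {L : P.Modules}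
    {lam : ∀ (U : Y.Opens) (hU : IsAffineOpen U), L ⟶ GTw p chart n U hU}
    (hL : RelProj.IsRelTwist 𝒮 p chart n L lam) {L' : P'.Modules}
    {lam' : ∀ (U' : Y'.Opens) (hU' : IsAffineOpen U'), L' ⟶ GTw p' chart' n U' hU'}
    (hL' : RelProj.IsRelTwist 𝒮' p' chart' n L' lam') :
    ∃! φ' : (Scheme.Modules.pullback h).obj L ⟶ L',
      ∀ (U : Y.Opens) (hU : IsAffineOpen U) (U' : Y'.Opens) (hU' : IsAffineOpen U')
        (hle : U' ≤ g ⁻¹ᵁ U),
        φ' ≫ lam' U' hU' = ((Scheme.Modules.pullbackPushforwardAdjunction h).homEquiv _ _).symm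
          (muBC u hirr hh n lam U hU U' hU' hle) := by
  have hG := (isGluedTw_iff hP' n L' lam').2 hL'
  have hcov : ∀ y' : Y', ∃ i : APair g, y' ∈ i.U' := by
    intro y'
    obtain ⟨U, hyU⟩ := TopologicalSpace.Opens.mem_iSup.mp
      ((iSup_affineOpens_eq_top Y).ge (Set.mem_univ (g y')))
    have hy' : y' ∈ g ⁻¹ᵁ U.1 := hyU
    obtain ⟨U', hU', hyU', hle⟩ := ChartOpens.exists_affine_le hy'
    exact ⟨⟨U.1, U.2, U', hU', hle⟩, hyU'⟩
  have key := hG.existsUnique_hom_fam ((Scheme.Modules.pullback h).obj L) (I := APair g)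
    (fun i => i.U') (fun i => i.hU') hcov
    (fun i => ((Scheme.Modules.pullbackPushforwardAdjunction h).homEquiv _ _).symm
      (muBC u hirr hh n lam i.U i.hU i.U' i.hU' i.hle)) ?_
  · obtain ⟨φ', h1, h2⟩ := key
    exact ⟨φ', fun U hU U' hU' hle => h1 ⟨U, hU, U', hU', hle⟩,
      fun ψ hψ => h2 ψ fun i => hψ i.U i.hU i.U' i.hU' i.hle⟩
  · intro i k y' hi hk
    have hgy : g y' ∈ i.U ⊓ k.U := ⟨i.hle hi, k.hle hk⟩
    obtain ⟨D, hD, hyD, hDle⟩ := ChartOpens.exists_affine_le hgy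
    have hy'' : y' ∈ i.U' ⊓ k.U' ⊓ g ⁻¹ᵁ D := ⟨⟨hi, hk⟩, hyD⟩
    obtain ⟨D', hD', hyD', hD'le⟩ := ChartOpens.exists_affine_le hy''
    refine ⟨D', hD', hD'le.trans (inf_le_left.trans inf_le_left),
      hD'le.trans (inf_le_left.trans inf_le_right), hyD', ?_⟩
    have hleD : D' ≤ g ⁻¹ᵁ D := hD'le.trans inf_le_right
    have e1 : ((Scheme.Modules.pullbackPushforwardAdjunction h).homEquiv L
          (GTw p' chart' n i.U' i.hU')).symm (muBC u hirr hh n lam i.U i.hU i.U' i.hU' i.hle) ≫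
        cTw hP' n i.hU' hD' (hD'le.trans (inf_le_left.trans inf_le_left)) =
        ((Scheme.Modules.pullbackPushforwardAdjunction h).homEquiv L
          (GTw p' chart' n D' hD')).symm (muBC u hirr hh n lam D hD D' hD' hleD) := by
      rw [← Adjunction.homEquiv_naturality_right_symm,
        muBC_compat u hirr hh hP hP' n hL i.hU hD (hDle.trans inf_le_left) i.hU' hD' _ i.hle hleD]
    have e2 : ((Scheme.Modules.pullbackPushforwardAdjunction h).homEquiv L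
          (GTw p' chart' n k.U' k.hU')).symm (muBC u hirr hh n lam k.U k.hU k.U' k.hU' k.hle) ≫
        cTw hP' n k.hU' hD' (hD'le.trans (inf_le_left.trans inf_le_right)) =
        ((Scheme.Modules.pullbackPushforwardAdjunction h).homEquiv L
          (GTw p' chart' n D' hD')).symm (muBC u hirr hh n lam D hD D' hD' hleD) := by
      rw [← Adjunction.homEquiv_naturality_right_symm,
        muBC_compat u hirr hh hP hP' n hL k.hU hD (hDle.trans inf_le_right) k.hU' hD' _ k.hle hleD]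
    exact e1.trans e2.symm


end Groth.Agent.Lib.Helper74.TwistBC
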