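import Groth.Agent.Lib.Helper74.RelTwistBC2

set_option autoImplicit false
universe u
open CategoryTheory AlgebraicGeometry TopologicalSpace Opposite
open scoped HomogeneousIdeal

namespace Groth.Agent.Lib.Helper74.TwistBC

open Groth.Agent.Lib.Lead.Inv Groth.Agent.Lib.Helper74.RelTilde
open Groth.Agent.Lib.Helper74.RelGlue Groth.Agent.Lib.Helper74.ModSec Groth.Agent.Lib.Helper74.QMap
open Groth.Agent.Lib.Helper74.TwistGen Groth.Agent.Lib.Helper74.TwistNat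

variable {Y Y' P P' : Scheme.{u}} {g : Y' ⟶ Y} {𝒮 : RelProj.QCGrAlg Y} {𝒮' : RelProj.QCGrAlg Y'}
  (u : RelProj.QGrHom g 𝒮 𝒮')
  (hirr : ∀ (U : Y.Opens) (hU : IsAffineOpen U) (U' : Y'.Opens) (hU' : IsAffineOpen U')
    (hle : U' ≤ g ⁻¹ᵁ U), (𝒮'.deg U' hU')₊ ≤ ((𝒮.deg U hU)₊).map (u.gradedAt U hU U' hU' hle))
  {p : P ⟶ Y}
  {chart : ∀ (U : Y.Opens) (hU : IsAffineOpen U),
    (((p ⁻¹ᵁ U : P.Opens) : Scheme.{u}) ≅ Proj (𝒮.deg U hU))}
  {p' : P' ⟶ Y'}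
  {chart' : ∀ (U' : Y'.Opens) (hU' : IsAffineOpen U'),
    (((p' ⁻¹ᵁ U' : P'.Opens) : Scheme.{u}) ≅ Proj (𝒮'.deg U' hU'))}
  {h : P' ⟶ P} (hh : RelProj.IsProjQMap u p chart p' chart' h)
  (hP : RelProj.IsRelProj 𝒮 p chart) (hP' : RelProj.IsRelProj 𝒮' p' chart')

include hirr hh hP hP' in
/-- `h^* O_P(n) ≅ O_{P'}(n)` for `h = Proj(u)` over a morphism of bases, when `𝒮` is generated in
degree one -/
theorem nonempty_pullback_iso (hgen : 𝒮.IsGenDegOne) (n : ℤ) {L : P.Modules}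
    {lam : ∀ (U : Y.Opens) (hU : IsAffineOpen U), L ⟶ GTw p chart n U hU}
    (hL : RelProj.IsRelTwist 𝒮 p chart n L lam) {L' : P'.Modules}
    {lam' : ∀ (U' : Y'.Opens) (hU' : IsAffineOpen U'), L' ⟶ GTw p' chart' n U' hU'}
    (hL' : RelProj.IsRelTwist 𝒮' p' chart' n L' lam') :
    Nonempty ((Scheme.Modules.pullback h).obj L ≅ L') := by
  obtain ⟨φ', hφ', -⟩ := existsUnique_pbTheta u hirr hh hP hP' n hL hL'
  suffices hiso : IsIso φ' from ⟨@asIso _ _ _ _ φ' hiso⟩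
  refine isIso_of_isGen φ' fun x' => ?_
  obtain ⟨⟨U, hU⟩, hyU⟩ := TopologicalSpace.Opens.mem_iSup.mp
    ((iSup_affineOpens_eq_top Y).ge (Set.mem_univ (g (p' x'))))
  have hy' : p' x' ∈ g ⁻¹ᵁ U := hyU
  obtain ⟨U', hU', hxU', hle⟩ := ChartOpens.exists_affine_le hy'
  obtain ⟨y, rfl⟩ := exists_emb_eq (chart := chart') U' hU' x' hxU'
  obtain ⟨t, ht, hty⟩ := exists_deg_one_notMem (hgen U hU)
    (ProjectiveSpectrum.comap (u.gradedAt U hU U' hU' hle) (hirr U hU U' hU' hle) y)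
  let D : (Proj (𝒮.deg U hU)).Opens := Proj.basicOpen (𝒮.deg U hU) t
  let W : P.Opens := RelProj.emb p chart U hU ''ᵁ D
  have hWU : W ≤ p ⁻¹ᵁ U := by
    rintro _ ⟨z, -, rfl⟩
    exact emb_mem U hU z
  have hpre : RelProj.emb p chart U hU ⁻¹ᵁ W = D :=
    (RelProj.emb p chart U hU).preimage_image_eq D
  have hD : ∀ z ∈ RelProj.emb p chart U hU ⁻¹ᵁ W, t ∉ z.asHomogeneousIdeal := by
    intro z hz
    rw [hpre] at hz
    exact (Proj.mem_basicOpen _ t z).1 hz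
  obtain ⟨eA, heA, hevA⟩ := exists_powSec_chart hL U hU t ht n (by simp) W hWU hD
  let W' : P'.Opens := h ⁻¹ᵁ W ⊓ p' ⁻¹ᵁ U'
  have hDB : ∀ z ∈ RelProj.emb p' chart' U' hU' ⁻¹ᵁ W',
      u.gradedAt U hU U' hU' hle t ∉ z.asHomogeneousIdeal := by
    intro z hz
    have h1 : h (RelProj.emb p' chart' U' hU' z) ∈ W := hz.1
    rw [h_emb_apply u hirr hh U hU U' hU' hle z] at h1
    exact hD _ h1
  refine ⟨W', rs _ inf_le_left (Groth.Agent.Lib.Helper35.PbInv.pbSec h L W eA), ⟨?_, ?_⟩, ?_, ?_⟩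
  · change h (RelProj.emb p' chart' U' hU' y) ∈ W
    rw [h_emb_apply u hirr hh U hU U' hU' hle y]
    exact ⟨_, (Proj.mem_basicOpen _ t _).2 hty, rfl⟩
  · exact emb_mem U' hU' y
  · exact ((isGen35_iff _ _ _).1 (Groth.Agent.Lib.Helper35.PbInv.isGen_pbSec h L W eA
      ((isGen35_iff _ _ _).2 heA))).res inf_le_left
  · rw [hom_rs]
    refine isGen_of_lam hL' U' hU' W' inf_le_right _ ?_
    have key : (lam' U' hU').app W' (rs L' inf_le_left
        (φ'.app (h ⁻¹ᵁ W) (Groth.Agent.Lib.Helper35.PbInv.pbSec h L W eA))) =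
        TwistNat.powSec (𝒮'.deg U' hU') (u.gradedAt U hU U' hU' hle t)
          ((u.gradedAt U hU U' hU' hle).map_mem ht) n n (by simp)
          (RelProj.emb p' chart' U' hU' ⁻¹ᵁ W') hDB := by
      rw [hom_rs]
      have h1 : (φ' ≫ lam' U' hU').app (h ⁻¹ᵁ W)
          (Groth.Agent.Lib.Helper35.PbInv.pbSec h L W eA) =
          (muBC u hirr hh n lam U hU U' hU' hle).app W eA := by
        rw [hφ' U hU U' hU' hle]
        exact Groth.Agent.Lib.Helper35.PbInv.adj_app h (muBC u hirr hh n lam U hU U' hU' hle) W eA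
      have h2 : (lam' U' hU').app (h ⁻¹ᵁ W)
          (φ'.app (h ⁻¹ᵁ W) (Groth.Agent.Lib.Helper35.PbInv.pbSec h L W eA)) =
          (muBC u hirr hh n lam U hU U' hU' hle).app W eA :=
        Eq.trans (show _ = (φ' ≫ lam' U' hU').app (h ⁻¹ᵁ W) _ from rfl) h1
      rw [h2]
      refine sec_ext (𝒮'.deg U' hU') n (W := RelProj.emb p' chart' U' hU' ⁻¹ᵁ W') _ _
        fun z => ?_
      refine Eq.trans (show _ = GrTwist.val (V := RelProj.emb p' chart' U' hU' ⁻¹ᵁ (h ⁻¹ᵁ W))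
        ((muBC u hirr hh n lam U hU U' hU' hle).app W eA) ⟨z.1, z.2.1⟩ from rfl) ?_
      rw [muBC_app_val, hevA, TwistNat.powSec_val, TwistNat.powSec_val, GrTwist.locMap_mk]
      refine mk_congr_tw ?_ ?_
      · exact map_pow _ _ _
      · exact map_pow _ _ _
    rw [key]
    exact TwistNat.isGen_powSec (𝒮'.deg U' hU') _ _ n n (by simp) _ hDB

end Groth.Agent.Lib.Helper74.TwistBC
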