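import Groth.Agent.Lib.Helper74.TwistFrac2
import Groth.Agent.Lib.Helper74.RelStrSec
import Groth.Agent.Lib.Helper74.RelTwistNat

set_option autoImplicit false
universe u
open CategoryTheory AlgebraicGeometry TopologicalSpace Opposite
open scoped HomogeneousIdeal

namespace Groth.Agent.Lib.Helper74.RelTwistFrac

open Groth.Agent.Lib.Helper74.TwistNat Groth.Agent.Lib.Helper74.TwistGen
open Groth.Agent.Lib.Helper60.TildeSec

variable {Y P : Scheme.{u}} {𝒮 : RelProj.QCGrAlg Y} {p : P ⟶ Y}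
  {chart : ∀ (U : Y.Opens) (hU : IsAffineOpen U),
    (((p ⁻¹ᵁ U : P.Opens) : Scheme.{u}) ≅ Proj (𝒮.deg U hU))}
  {n : ℤ} {L : P.Modules}
  {lam : ∀ (U : Y.Opens) (hU : IsAffineOpen U), L ⟶ GTw p chart n U hU}
  (hP : RelProj.IsRelProj 𝒮 p chart) (hL : RelProj.IsRelTwist 𝒮 p chart n L lam)
  (U : Y.Opens) (hU : IsAffineOpen U) {d : ℕ} {f : 𝒮.presheaf.obj (op U)}
  (hf : f ∈ 𝒮.deg U hU d) (W : P.Opens) (hWU : W ≤ p ⁻¹ᵁ U)
  (hV : ∀ y, y ∈ RelProj.emb p chart U hU ⁻¹ᵁ W ↔ f ∉ y.asHomogeneousIdeal)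

/-- the chart identification on sections as an additive equivalence -/
noncomputable def lamEquiv :
    Γ(L, W) ≃+ Γ(GrTwist.twist (𝒮.deg U hU) n, RelProj.emb p chart U hU ⁻¹ᵁ W) :=
  AddEquiv.ofBijective ((lam U hU).app W).hom (hL.bijective U hU W hWU)

theorem lamEquiv_apply (t : Γ(L, W)) : lamEquiv hL U hU W hWU t = (lam U hU).app W t := rfl

/-- the section of `L` over `W` which reads `b / f ^ K` in the chart -/
noncomputable def tsec (K e : ℕ) (he : (e : ℤ) = ((K • d : ℕ) : ℤ) + n) :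
    𝒮.deg U hU e →+ Γ(L, W) :=
  (lamEquiv hL U hU W hWU).symm.toAddMonoidHom.comp
    (TwistFrac.fsecHom (𝒮.deg U hU) hf n _ hV K e he)

theorem lam_tsec (K e : ℕ) (he : (e : ℤ) = ((K • d : ℕ) : ℤ) + n) (b : 𝒮.deg U hU e) :
    (lam U hU).app W (tsec hL U hU hf W hWU hV K e he b) =
      TwistFrac.fsecHom (𝒮.deg U hU) hf n _ hV K e he b :=
  (lamEquiv hL U hU W hWU).apply_symm_apply _

theorem eq_tsec_of_lam (K e : ℕ) (he : (e : ℤ) = ((K • d : ℕ) : ℤ) + n) (b : 𝒮.deg U hU e)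
    (t : Γ(L, W))
    (ht : (lam U hU).app W t = TwistFrac.fsecHom (𝒮.deg U hU) hf n _ hV K e he b) :
    t = tsec hL U hU hf W hWU hV K e he b :=
  (hL.bijective U hU W hWU).1 (ht.trans (lam_tsec hL U hU hf W hWU hV K e he b).symm)

theorem tsec_raise (K e : ℕ) (he : (e : ℤ) = ((K • d : ℕ) : ℤ) + n) (N : ℕ) (b : 𝒮.deg U hU e) :
    tsec hL U hU hf W hWU hV K e he b =
      tsec hL U hU hf W hWU hV (K + N) (e + N • d) (FracBC.he_raise he N)
        ⟨f ^ N * b, FracBC.pow_mul_mem hf N b⟩ := by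
  refine eq_tsec_of_lam hL U hU hf W hWU hV _ _ _ _ _ ?_
  rw [lam_tsec]
  exact TwistFrac.fsecHom_raise (𝒮.deg U hU) hf n _ hV K e he N b

include hP in
theorem tsec_smul (K e : ℕ) (he : (e : ℤ) = ((K • d : ℕ) : ℤ) + n) (r' : Γ(Y, U))
    (b : 𝒮.deg U hU e) :
    tsec hL U hU hf W hWU hV K e he
        ⟨(𝒮.str.app (op U)).hom r' * b, FracBC.sB_mul_mem (𝒮.str_mem U hU) r' b⟩ =
      (p.appLE U W hWU).hom r' • tsec hL U hU hf W hWU hV K e he b := by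
  symm
  refine eq_tsec_of_lam hL U hU hf W hWU hV _ _ _ _ _ ?_
  have h1 : (lam U hU).app W ((p.appLE U W hWU).hom r' • tsec hL U hU hf W hWU hV K e he b) =
      (p.appLE U W hWU).hom r' • (lam U hU).app W (tsec hL U hU hf W hWU hV K e he b) :=
    Scheme.Modules.Hom.app_smul (lam U hU) _ _
  rw [h1, lam_tsec]
  refine Eq.trans (TwistGen.pushforward_smul (RelProj.emb p chart U hU)
    (GrTwist.twist (𝒮.deg U hU) n) W _ _) ?_
  exact TwistFrac.smul_fsecHom (𝒮.deg U hU) hf n _ hV _ _ (𝒮.str_mem U hU r')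
    (fun y => RelStrSec.emb_app_val hP U hU W hWU r' y) K e he b

theorem exists_eq_tsec (hd : 0 < d) (t : Γ(L, W)) :
    ∃ (K e : ℕ) (he : (e : ℤ) = ((K • d : ℕ) : ℤ) + n) (b : 𝒮.deg U hU e),
      t = tsec hL U hU hf W hWU hV K e he b := by
  obtain ⟨K, e, he, b, hb⟩ := TwistFrac.exists_eq_fsecHom (𝒮.deg U hU) hf n _ hV hd
    ((lam U hU).app W t)
  exact ⟨K, e, he, b, eq_tsec_of_lam hL U hU hf W hWU hV K e he b t hb⟩

theorem exists_pow_mul_eq_zero (hd : 0 < d) (K e : ℕ) (he : (e : ℤ) = ((K • d : ℕ) : ℤ) + n)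
    (b : 𝒮.deg U hU e) (h0 : tsec hL U hU hf W hWU hV K e he b = 0) :
    ∃ N : ℕ, f ^ N * (b : 𝒮.presheaf.obj (op U)) = 0 := by
  refine TwistFrac.exists_pow_mul_eq_zero' (𝒮.deg U hU) hf n _ hV hd K e he b ?_
  rw [← lam_tsec hL U hU hf W hWU hV K e he b, h0]
  exact map_zero ((lam U hU).app W).hom

end Groth.Agent.Lib.Helper74.RelTwistFrac
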