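import Groth.Agent.Lib.Helper74.RelTwistBC3
import Groth.Agent.Lib.Helper74.RelTwistFrac
import Groth.Agent.Lib.Helper74.PbSpan
import Groth.Agent.Lib.Helper74.QCohBij

set_option autoImplicit false
universe u
open CategoryTheory CategoryTheory.Limits AlgebraicGeometry TopologicalSpace Opposite
open scoped HomogeneousIdeal

namespace Groth.Agent.Lib.Helper74.TwistBC

open Groth.Agent.Lib.Lead.Inv Groth.Agent.Lib.Helper74.RelTilde
open Groth.Agent.Lib.Helper74.RelGlue Groth.Agent.Lib.Helper74.ModSec Groth.Agent.Lib.Helper74.QMap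
open Groth.Agent.Lib.Helper74.TwistGen Groth.Agent.Lib.Helper74.TwistNat
open Groth.Agent.Lib.Helper74.RelTwistFrac Groth.Agent.Lib.Helper74.PullbackBC

variable {Y Y' P P' : Scheme.{u}} {g : Y' ⟶ Y} {𝒮 : RelProj.QCGrAlg Y} {𝒮' : RelProj.QCGrAlg Y'}
  (u : RelProj.QGrHom g 𝒮 𝒮')
  (hirr : ∀ (U : Y.Opens) (hU : IsAffineOpen U) (U' : Y'.Opens) (hU' : IsAffineOpen U')
    (hle : U' ≤ g ⁻¹ᵁ U), (𝒮'.deg U' hU')₊ ≤ ((𝒮.deg U hU)₊).map (u.gradedAt U hU U' hU' hle))
  {p : P ⟶ Y}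
  {chart : ∀ (U : Y.Opens) (hU : IsAffineOpen U),
    (((p ⁻¹ᵁ U : P.Opens) : Scheme.{u}) ≅ Proj (𝒮.deg U hU))}
  {p' : P' ⟶ Y'}
  {chart' : ∀ (U' : Y'.Opens) (hU' : IsAffineOpen U'),
    (((p' ⁻¹ᵁ U' : P'.Opens) : Scheme.{u}) ≅ Proj (𝒮'.deg U' hU'))}
  {h : P' ⟶ P} (hh : RelProj.IsProjQMap u p chart p' chart' h)
  (hP : RelProj.IsRelProj 𝒮 p chart) (hP' : RelProj.IsRelProj 𝒮' p' chart')
  {n : ℤ} {L : P.Modules}
  {lam : ∀ (U : Y.Opens) (hU : IsAffineOpen U), L ⟶ GTw p chart n U hU}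
  (hL : RelProj.IsRelTwist 𝒮 p chart n L lam) {L' : P'.Modules}
  {lam' : ∀ (U' : Y'.Opens) (hU' : IsAffineOpen U'), L' ⟶ GTw p' chart' n U' hU'}
  (hL' : RelProj.IsRelTwist 𝒮' p' chart' n L' lam')
  (U : Y.Opens) (hU : IsAffineOpen U) (U' : Y'.Opens) (hU' : IsAffineOpen U')
  (hle : U' ≤ g ⁻¹ᵁ U) {d : ℕ} {f : 𝒮.presheaf.obj (op U)} (hf : f ∈ 𝒮.deg U hU d)
  (W : P.Opens) (hWU : W ≤ p ⁻¹ᵁ U)
  (hV : ∀ y, y ∈ RelProj.emb p chart U hU ⁻¹ᵁ W ↔ f ∉ y.asHomogeneousIdeal)
  (W' : P'.Opens) (eW : W' ≤ h ⁻¹ᵁ W) (hW'U' : W' ≤ p' ⁻¹ᵁ U')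
  (hV' : ∀ z, z ∈ RelProj.emb p' chart' U' hU' ⁻¹ᵁ W' ↔
    u.gradedAt U hU U' hU' hle f ∉ z.asHomogeneousIdeal)

/-- the comparison map sends `h^*(b / f^K)` to `φ b / (φ f)^K` -/
theorem phi_unitSec (φ' : (Scheme.Modules.pullback h).obj L ⟶ L')
    (hφ' : φ' ≫ lam' U' hU' = ((Scheme.Modules.pullbackPushforwardAdjunction h).homEquiv _ _).symm
      (muBC u hirr hh n lam U hU U' hU' hle))
    (K e : ℕ) (he : (e : ℤ) = ((K • d : ℕ) : ℤ) + n) (b : 𝒮.deg U hU e) :
    φ'.app W' (unitSec h L eW (tsec hL U hU hf W hWU hV K e he b)) =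
      tsec hL' U' hU' ((u.gradedAt U hU U' hU' hle).map_mem hf) W' hW'U' hV' K e he
        ⟨u.gradedAt U hU U' hU' hle b, (u.gradedAt U hU U' hU' hle).map_mem b.2⟩ := by
  refine eq_tsec_of_lam hL' U' hU' _ W' hW'U' hV' K e he _ _ ?_
  have h1 : (lam' U' hU').app W' (φ'.app W' (unitSec h L eW (tsec hL U hU hf W hWU hV K e he b))) =
      (φ' ≫ lam' U' hU').app W' (unitSec h L eW (tsec hL U hU hf W hWU hV K e he b)) := rfl
  rw [h1, hφ']
  have h2 : unitSec h L eW (tsec hL U hU hf W hWU hV K e he b) =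
      rs _ eW (Groth.Agent.Lib.Helper35.PbInv.pbSec h L W (tsec hL U hU hf W hWU hV K e he b)) := rfl
  rw [h2, hom_rs, Groth.Agent.Lib.Helper35.PbInv.adj_app]
  refine sec_ext (𝒮'.deg U' hU') n (W := RelProj.emb p' chart' U' hU' ⁻¹ᵁ W') _ _ fun z => ?_
  refine Eq.trans (show _ = GrTwist.val (V := RelProj.emb p' chart' U' hU' ⁻¹ᵁ (h ⁻¹ᵁ W))
    ((muBC u hirr hh n lam U hU U' hU' hle).app W (tsec hL U hU hf W hWU hV K e he b))
    ⟨z.1, eW z.2⟩ from rfl) ?_
  rw [muBC_app_val, lam_tsec, TwistFrac.fsecHom_apply, TwistFrac.fsec_val,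
    TwistFrac.fsecHom_apply, TwistFrac.fsec_val, GrTwist.locMap_mk]
  refine mk_congr_tw rfl ?_
  exact map_pow _ _ _

/-- `b ↦ r ↦ ρ r • τ b` as a bi-additive map -/
noncomputable def smulHom {R S M N : Type*} [CommRing R] [CommRing S] [AddCommGroup M] [Module S M]
    [AddCommGroup N] (ρ : R →+* S) (τ : N →+ M) : N →+ R →+ M :=
  AddMonoidHom.mk' (fun b => AddMonoidHom.mk' (fun r => ρ r • τ b)
    (fun r r' => by rw [map_add, add_smul]))
    (fun b b' => by
      ext r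
      simp only [AddMonoidHom.mk'_apply, AddMonoidHom.add_apply, map_add, smul_add])

theorem smulHom_apply {R S M N : Type*} [CommRing R] [CommRing S] [AddCommGroup M] [Module S M]
    [AddCommGroup N] (ρ : R →+* S) (τ : N →+ M) (b : N) (r : R) :
    smulHom ρ τ b r = ρ r • τ b := rfl

include hirr hh hP hP' hL hL' hf hWU hV eW hW'U' hV' in
/-- **local bijectivity of the comparison map** over `h⁻¹(D₊(f)) ∩ p'⁻¹(U')` -/
theorem bijective_app (hbc : RelSpec.IsQBaseChange u.toQHom) [L.IsQuasicoherent]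
    (hd : 0 < d) (hWaff : IsAffineOpen W) (hW' : W' = h ⁻¹ᵁ W ⊓ p' ⁻¹ᵁ U')
    (φ' : (Scheme.Modules.pullback h).obj L ⟶ L')
    (hφ' : φ' ≫ lam' U' hU' = ((Scheme.Modules.pullbackPushforwardAdjunction h).homEquiv _ _).symm
      (muBC u hirr hh n lam U hU U' hU' hle)) :
    IsAffineOpen W' ∧ Function.Bijective (φ'.app W') := by
  have H : IsPullback h p' p g := isPullback_of_isProjQMap u hP hP' hbc h hh
  have hW'aff : IsAffineOpen W' := by
    subst hW'
    have : IsAffine (U : Scheme.{u}) := hU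
    have : IsAffine (U' : Scheme.{u}) := hU'
    have : IsAffine (W : Scheme.{u}) := hWaff
    exact .of_isIso (Scheme.Hom.isPullback_resLE H hle hWU rfl).isoPullback.hom
  refine ⟨hW'aff, ?_⟩
  have hpoW : IsPushout (p.appLE U W hWU) (g.appLE U U' hle) (h.appLE W W' eW)
      (p'.appLE U' W' hW'U') := by
    subst hW'
    exact (isIso_pushoutSection_iff H hle hWU rfl).mp
      (isIso_pushoutSection_of_isAffineOpen H hle hWU rfl hU hU' hWaff)
  have hf' := (u.gradedAt U hU U' hU' hle).map_mem hf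
  -- the data of the criterion
  let ρ : Γ(Y', U') →+* Γ(P', W') := (p'.appLE U' W' hW'U').hom
  let PP : ∀ (K e : ℕ), (e : ℤ) = ((K • d : ℕ) : ℤ) + n →
      (𝒮.deg U hU e →+ Γ(Y', U') →+ Γ((Scheme.Modules.pullback h).obj L, W')) :=
    fun K e he => smulHom ρ ((unitSecHom h L eW).comp (tsec hL U hU hf W hWU hV K e he))
  have hPP : ∀ K e he b r, PP K e he b r =
      ρ r • unitSec h L eW (tsec hL U hU hf W hWU hV K e he b) := fun K e he b r => rfl
  let QQ : ∀ (K e : ℕ), (e : ℤ) = ((K • d : ℕ) : ℤ) + n → (𝒮'.deg U' hU' e →+ Γ(L', W')) :=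
    fun K e he => tsec hL' U' hU' hf' W' hW'U' hV' K e he
  have hL2 : ∀ r' : Γ(Y, U), (h.appLE W W' eW).hom ((p.appLE U W hWU).hom r') =
      ρ ((g.appLE U U' hle).hom r') := fun r' => congr($(hpoW.w).hom r')
  refine FracBC.bijective (f₀ := (g.appLE U U' hle).hom) (φ := u.gradedAt U hU U' hU' hle)
    (𝒮'.str_mem U' hU') (𝒮.str_mem U hU) hf n (φ'.app W').hom PP QQ
    ?hbal ?hΦ ?hraise ?hQ0 ?hQs ?hPgen (hbc U hU U' hU' hle)
  case hbal =>
    intro K e he r' b r
    rw [hPP, hPP, tsec_smul hP hL U hU hf W hWU hV K e he r' b, unitSec_smul, hL2, map_mul,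
      mul_smul, smul_comm]
  case hΦ =>
    intro K e he b r
    rw [hPP]
    have h1 : (φ'.app W').hom (ρ r • unitSec h L eW (tsec hL U hU hf W hWU hV K e he b)) =
        ρ r • (φ'.app W').hom (unitSec h L eW (tsec hL U hU hf W hWU hV K e he b)) :=
      Scheme.Modules.Hom.app_smul φ' _ _
    rw [h1]
    have h2 := phi_unitSec u hirr hh hL hL' U hU U' hU' hle hf W hWU hV W' eW hW'U' hV' φ' hφ'
      K e he b
    rw [show (φ'.app W').hom (unitSec h L eW (tsec hL U hU hf W hWU hV K e he b)) = _ from h2]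
    have h3 := tsec_smul hP' hL' U' hU' hf' W' hW'U' hV' K e he r
      ⟨u.gradedAt U hU U' hU' hle b, (u.gradedAt U hU U' hU' hle).map_mem b.2⟩
    rw [← h3]
    congr 1
    exact Subtype.ext (mul_comm _ _)
  case hraise =>
    intro K e he N b r
    rw [hPP, hPP, tsec_raise hL U hU hf W hWU hV K e he N b]
  case hQ0 =>
    intro K e he a h0
    exact RelTwistFrac.exists_pow_mul_eq_zero hL' U' hU' hf' W' hW'U' hV' hd K e he a h0
  case hQs =>
    intro y
    exact exists_eq_tsec hL' U' hU' hf' W' hW'U' hV' hd y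
  case hPgen =>
    intro x
    -- (a) `ρ r • unitSec t` lies in the closure
    have ha : ∀ (r : Γ(Y', U')) (t : Γ(L, W)), ρ r • unitSec h L eW t ∈
        AddSubgroup.closure {x | ∃ K e he b r, x = PP K e he b r} := by
      intro r t
      obtain ⟨K, e, he, b, rfl⟩ := exists_eq_tsec hL U hU hf W hWU hV hd t
      exact AddSubgroup.subset_closure ⟨K, e, he, b, r, rfl⟩
    -- (b) stability under the products `h^♯ s * ρ r`
    have hb : ∀ (s : Γ(P, W)) (r : Γ(Y', U')),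
        ∀ x ∈ AddSubgroup.closure {x | ∃ K e he b r, x = PP K e he b r},
        ((h.appLE W W' eW).hom s * ρ r) • x ∈
          AddSubgroup.closure {x | ∃ K e he b r, x = PP K e he b r} := by
      intro s r x hx
      induction hx using AddSubgroup.closure_induction with
      | mem x hx =>
        obtain ⟨K, e, he, b, r0, rfl⟩ := hx
        have h1 : ((h.appLE W W' eW).hom s * ρ r) • PP K e he b r0 =
            ρ (r * r0) • unitSec h L eW (s • tsec hL U hU hf W hWU hV K e he b) := by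
          rw [hPP, unitSec_smul, ← mul_smul, ← mul_smul, map_mul]
          congr 1
          ring
        rw [h1]
        exact ha _ _
      | zero => rw [smul_zero]; exact zero_mem _
      | add x y _ _ hx hy => rw [smul_add]; exact add_mem hx hy
      | neg x _ hx => rw [smul_neg]; exact neg_mem hx
    -- (c) stability under all functions
    have hc : ∀ (c : Γ(P', W')),
        ∀ x ∈ AddSubgroup.closure {x | ∃ K e he b r, x = PP K e he b r},
        c • x ∈ AddSubgroup.closure {x | ∃ K e he b r, x = PP K e he b r} := by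
      intro c x hx
      have hc' := PbSpan.mem_addClosure_of_isPushout hpoW c
      induction hc' using AddSubgroup.closure_induction with
      | mem c hc =>
        obtain ⟨s, r, rfl⟩ := hc
        exact hb s r x hx
      | zero => rw [zero_smul]; exact zero_mem _
      | add c c' _ _ h1 h2 => rw [add_smul]; exact add_mem h1 h2
      | neg c _ h1 => rw [neg_smul]; exact neg_mem h1
    -- (d) the pulled back sections span
    have hspan := PbSpan.span_unitSec h L hW'aff hWaff eW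
    have hx : x ∈ Submodule.span Γ(P', W') (Set.range (unitSec h L eW)) := by
      rw [hspan]; trivial
    induction hx using Submodule.span_induction with
    | mem x hx =>
      obtain ⟨t, rfl⟩ := hx
      have := ha 1 t
      rwa [map_one, one_smul] at this
    | zero => exact zero_mem _
    | add x y _ _ hx hy => exact add_mem hx hy
    | smul c x _ hx => exact hc c x hx

include hL in
/-- quasi-coherence of the relative twisting sheaves (as in S8285) -/
theorem isQCoh_relTwist : L.IsQuasicoherent := by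
  refine Groth.Agent.Lib.Helper74.RelTilde.isQuasicoherent_of_charts L fun x => ?_
  obtain ⟨U, hU, hxU⟩ := Groth.Agent.Lib.Helper74.RelTilde.exists_affine_mem p x
  refine ⟨_, RelProj.emb p chart U hU, inferInstance, _,
    Groth.Agent.Lib.Helper60.TildeSec.isQuasicoherent_tilde (𝒮.deg U hU) (𝒮.deg U hU) n, lam U hU, ?_,
    fun W hW => hL.bijective U hU W ?_⟩
  · rw [Groth.Agent.Lib.Helper74.RelTilde.opensRange_emb]
    exact hxU
  · rw [← Groth.Agent.Lib.Helper74.RelTilde.opensRange_emb (chart := chart)]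
    exact hW

include hirr hh hP hP' hL hL' in
/-- **`h^* O_P(n) ≅ O_{P'}(n)` for a base change `P' = P ×_Y Y'`** (no generation hypothesis) -/
theorem nonempty_pullback_iso_of_isQBaseChange (hbc : RelSpec.IsQBaseChange u.toQHom) :
    Nonempty ((Scheme.Modules.pullback h).obj L ≅ L') := by
  have : L.IsQuasicoherent := isQCoh_relTwist hL
  have : L'.IsQuasicoherent := isQCoh_relTwist hL'
  obtain ⟨φ', hφ', -⟩ := existsUnique_pbTheta u hirr hh hP hP' n hL hL'
  suffices hiso : IsIso φ' from ⟨@asIso _ _ _ _ φ' hiso⟩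
  refine Groth.Agent.Lib.Helper74.QCohBij.isIso_of_affine_cover φ' fun x' => ?_
  obtain ⟨⟨U, hU⟩, hyU⟩ := TopologicalSpace.Opens.mem_iSup.mp
    ((iSup_affineOpens_eq_top Y).ge (Set.mem_univ (g (p' x'))))
  have hy' : p' x' ∈ g ⁻¹ᵁ U := hyU
  obtain ⟨U', hU', hxU', hle⟩ := ChartOpens.exists_affine_le hy'
  obtain ⟨y, rfl⟩ := exists_emb_eq (chart := chart') U' hU' x' hxU'
  set z := ProjectiveSpectrum.comap (u.gradedAt U hU U' hU' hle) (hirr U hU U' hU' hle) y with hz
  have hcov := (Proj.affineOpenCover (𝒮.deg U hU)).covers z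
  have hz2 : z ∈ Proj.basicOpen (𝒮.deg U hU) ((Proj.affineOpenCover (𝒮.deg U hU)).idx z).2.1 := by
    rw [← Proj.opensRange_awayι (𝒮.deg U hU) _ ((Proj.affineOpenCover (𝒮.deg U hU)).idx z).2.2
      ((Proj.affineOpenCover (𝒮.deg U hU)).idx z).1.2]
    exact hcov
  obtain ⟨d, hd, f, hf, hfz⟩ : ∃ d : ℕ, 0 < d ∧ ∃ f, f ∈ 𝒮.deg U hU d ∧
      z ∈ Proj.basicOpen (𝒮.deg U hU) f :=
    ⟨_, ((Proj.affineOpenCover (𝒮.deg U hU)).idx z).1.2, _,
      ((Proj.affineOpenCover (𝒮.deg U hU)).idx z).2.2, hz2⟩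
  let D : (Proj (𝒮.deg U hU)).Opens := Proj.basicOpen (𝒮.deg U hU) f
  let W : P.Opens := RelProj.emb p chart U hU ''ᵁ D
  have hWU : W ≤ p ⁻¹ᵁ U := by
    rintro _ ⟨z, -, rfl⟩
    exact emb_mem U hU z
  have hpre : RelProj.emb p chart U hU ⁻¹ᵁ W = D :=
    (RelProj.emb p chart U hU).preimage_image_eq D
  have hV : ∀ y, y ∈ RelProj.emb p chart U hU ⁻¹ᵁ W ↔ f ∉ y.asHomogeneousIdeal := by
    intro y
    rw [hpre]
    exact Proj.mem_basicOpen _ f y
  have hWaff : IsAffineOpen W :=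
    (Proj.isAffineOpen_basicOpen (𝒮.deg U hU) f hf hd).image_of_isOpenImmersion _
  let W' : P'.Opens := h ⁻¹ᵁ W ⊓ p' ⁻¹ᵁ U'
  have hV' : ∀ z, z ∈ RelProj.emb p' chart' U' hU' ⁻¹ᵁ W' ↔
      u.gradedAt U hU U' hU' hle f ∉ z.asHomogeneousIdeal := by
    intro z
    constructor
    · intro hz
      have h1 : h (RelProj.emb p' chart' U' hU' z) ∈ W := hz.1
      rw [h_emb_apply u hirr hh U hU U' hU' hle z] at h1
      exact (hV _).1 h1
    · intro hz
      refine ⟨?_, emb_mem U' hU' z⟩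
      change h (RelProj.emb p' chart' U' hU' z) ∈ W
      rw [h_emb_apply u hirr hh U hU U' hU' hle z]
      exact (hV _).2 hz
  obtain ⟨haff, hbij⟩ := bijective_app u hirr hh hP hP' hL hL' U hU U' hU' hle hf W hWU hV W'
    inf_le_left inf_le_right hV' hbc hd hWaff rfl φ' (hφ' U hU U' hU' hle)
  refine ⟨W', haff, (hV' y).2 ?_, hbij⟩
  exact (Proj.mem_basicOpen _ f z).1 hfz

end Groth.Agent.Lib.Helper74.TwistBC
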