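import Groth.Agent.Lib.Helper74.RelTwistMul

/-!
# Functoriality of `O(n)` along morphisms of relative Proj's (helper74)

`muHom`: the chartwise comparison `LA ⟶ h_* (emb_U)_* O_{ℬ(U)}(n)`; `existsUnique_theta(_val)`:
the comparison `O_{P_𝒜}(n) ⟶ h_* O_{P_ℬ}(n)`; `existsUnique_pbTheta`: its adjoint.
-/

set_option autoImplicit false
universe u
open CategoryTheory AlgebraicGeometry TopologicalSpace Opposite
open scoped HomogeneousIdeal

namespace Groth.Agent.Lib.Helper74.TwistNat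

open Groth.Agent.Lib.Lead.Inv Groth.Agent.Lib.Helper74.RelTilde
open Groth.Agent.Lib.Helper74.RelGlue Groth.Agent.Lib.Helper74.ModSec Groth.Agent.Lib.Helper74.QMap
open Groth.Agent.Lib.Helper74.TwistGen

variable {Y PA PB : Scheme.{u}} {𝒜 ℬ : RelProj.QCGrAlg Y}
  (φ : 𝒜.toQCAlg ⟶ ℬ.toQCAlg) (hφ : RelProj.IsGradedHom φ)
  (hirr : ∀ (U : Y.Opens) (hU : IsAffineOpen U),
    (ℬ.deg U hU)₊ ≤ ((𝒜.deg U hU)₊).map (RelProj.gradedHomAt φ hφ U hU))
  {pA : PA ⟶ Y} {pB : PB ⟶ Y}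
  {chartA : ∀ (U : Y.Opens) (hU : IsAffineOpen U),
    (((pA ⁻¹ᵁ U : PA.Opens) : Scheme.{u}) ≅ Proj (𝒜.deg U hU))}
  {chartB : ∀ (U : Y.Opens) (hU : IsAffineOpen U),
    (((pB ⁻¹ᵁ U : PB.Opens) : Scheme.{u}) ≅ Proj (ℬ.deg U hU))}
  {h : PB ⟶ PA} (hh : RelProj.IsRelProjMap φ hφ hirr chartA chartB h)

include hh in
theorem map_emb_eq (U : Y.Opens) (hU : IsAffineOpen U) :
    Proj.map (RelProj.gradedHomAt φ hφ U hU) (hirr U hU) ≫ RelProj.emb pA chartA U hU =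
      RelProj.emb pB chartB U hU ≫ h := by
  have e := hh U hU
  unfold RelProj.emb
  rw [Category.assoc, e, Iso.inv_hom_id_assoc]

include hh in
theorem h_emb_apply (U : Y.Opens) (hU : IsAffineOpen U) (y : Proj (ℬ.deg U hU)) :
    h (RelProj.emb pB chartB U hU y) = RelProj.emb pA chartA U hU
      (ProjectiveSpectrum.comap (RelProj.gradedHomAt φ hφ U hU) (hirr U hU) y) := by
  have := congrArg (fun f => f y) (map_emb_eq φ hφ hirr hh U hU)
  exact this.symm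

theorem res_gradedHomAt {U V : Y.Opens} (hU : IsAffineOpen U) (hV : IsAffineOpen V) (i : V ≤ U)
    (a : 𝒜.presheaf.obj (op U)) :
    ℬ.res hU hV i (RelProj.gradedHomAt φ hφ U hU a) =
      RelProj.gradedHomAt φ hφ V hV (𝒜.res hU hV i a) := by
  exact (congr($(φ.hom.naturality (homOfLE i).op) a)).symm


/-- the chartwise comparison map `LA ⟶ h_* (emb_U)_* O_{ℬ(U)}(n)` -/
noncomputable def muHom (n : ℤ) {LA : PA.Modules}
    (lamA : ∀ (U : Y.Opens) (hU : IsAffineOpen U), LA ⟶ GTw pA chartA n U hU)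
    (U : Y.Opens) (hU : IsAffineOpen U) :
    LA ⟶ (Scheme.Modules.pushforward h).obj (GTw pB chartB n U hU) :=
  lamA U hU ≫ (Scheme.Modules.pushforward (RelProj.emb pA chartA U hU)).map
      (GrTwist.comap (RelProj.gradedHomAt φ hφ U hU) (hirr U hU) n) ≫
    (Scheme.Modules.pushforwardComp (Proj.map (RelProj.gradedHomAt φ hφ U hU) (hirr U hU))
      (RelProj.emb pA chartA U hU)).hom.app _ ≫
    (Scheme.Modules.pushforwardCongr (map_emb_eq φ hφ hirr hh U hU)).hom.app _ ≫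
    (Scheme.Modules.pushforwardComp (RelProj.emb pB chartB U hU) h).inv.app _

theorem muHom_app_val (n : ℤ) {LA : PA.Modules}
    (lamA : ∀ (U : Y.Opens) (hU : IsAffineOpen U), LA ⟶ GTw pA chartA n U hU)
    (U : Y.Opens) (hU : IsAffineOpen U) (W : PA.Opens) (s : Γ(LA, W))
    (y : (RelProj.emb pB chartB U hU ⁻¹ᵁ (h ⁻¹ᵁ W) : (Proj (ℬ.deg U hU)).Opens)) :
    GrTwist.val (V := RelProj.emb pB chartB U hU ⁻¹ᵁ (h ⁻¹ᵁ W))
        ((muHom φ hφ hirr hh n lamA U hU).app W s) y =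
      GrTwist.locMap (RelProj.gradedHomAt φ hφ U hU) (hirr U hU) y.1
        (GrTwist.val (V := RelProj.emb pA chartA U hU ⁻¹ᵁ W) ((lamA U hU).app W s)
          ⟨ProjectiveSpectrum.comap (RelProj.gradedHomAt φ hφ U hU) (hirr U hU) y.1,
            show _ ∈ W from (h_emb_apply φ hφ hirr hh U hU y.1) ▸ y.2⟩) := rfl


theorem exists_frac_tw {A σ : Type u} [CommRing A] [SetLike σ A] [AddSubgroupClass σ A]
    {𝒜 : ℕ → σ} [GradedRing 𝒜] {n : ℤ} {V : (Proj 𝒜).Opens}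
    (s : Γ(GrTwist.twist 𝒜 n, V)) (y : V) :
    ∃ (V' : (Proj 𝒜).Opens) (hV' : V' ≤ V) (_ : y.1 ∈ V') (i j : ℕ) (a : A) (_ : a ∈ 𝒜 i) (b : A)
      (_ : b ∈ 𝒜 j) (hnin : ∀ z ∈ V', b ∉ z.asHomogeneousIdeal),
      ((i : ℤ) = j + n ∨ a = 0) ∧ ∀ (z : Proj 𝒜) (hz : z ∈ V'),
        GrTwist.val s ⟨z, hV' hz⟩ = Localization.mk a ⟨b, hnin z hz⟩ := by
  obtain ⟨V', hyV', iV', i, j, ⟨a, ha⟩, ⟨b, hb⟩, nin, c, w⟩ :=
    (show GrTwist.sectN (𝒜 := 𝒜) n (op V) from s).2 y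
  exact ⟨V', iV'.le, hyV', i, j, a, ha, b, hb, fun z hz => nin ⟨z, hz⟩, c, fun z hz => w ⟨z, hz⟩⟩

theorem mk_congr_tw {A σ : Type u} [CommRing A] [SetLike σ A] [AddSubgroupClass σ A]
    {𝒜 : ℕ → σ} [GradedRing 𝒜] {x : ProjectiveSpectrum 𝒜} {a a' : A}
    {b b' : x.asHomogeneousIdeal.toIdeal.primeCompl} (ha : a = a') (hb : (b : A) = b') :
    (Localization.mk a b : GrTwist.Loc 𝒜 x) = Localization.mk a' b' := by
  subst ha
  congr 1
  exact Subtype.ext hb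

variable (hA : RelProj.IsRelProj 𝒜 pA chartA) (hB : RelProj.IsRelProj ℬ pB chartB)

include hh hA hB in
theorem comap_comap_eq {U V : Y.Opens} (hU : IsAffineOpen U) (hV : IsAffineOpen V) (i : V ≤ U)
    (y : Proj (ℬ.deg V hV)) :
    ProjectiveSpectrum.comap (𝒜.res hU hV i) (irrelevant_le_map_res 𝒜 hU hV i)
        (ProjectiveSpectrum.comap (RelProj.gradedHomAt φ hφ V hV) (hirr V hV) y) =
      ProjectiveSpectrum.comap (RelProj.gradedHomAt φ hφ U hU) (hirr U hU)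
        (ProjectiveSpectrum.comap (ℬ.res hU hV i) (irrelevant_le_map_res ℬ hU hV i) y) := by
  apply emb_inj (p := pA) (chart := chartA) U hU
  rw [emb_comap hA hU hV i, ← h_emb_apply φ hφ hirr hh V hV y,
    ← h_emb_apply φ hφ hirr hh U hU, emb_comap hB hU hV i]


include hA hB in
theorem muHom_compat (n : ℤ) {LA : PA.Modules}
    {lamA : ∀ (U : Y.Opens) (hU : IsAffineOpen U), LA ⟶ GTw pA chartA n U hU}
    (hLA : RelProj.IsRelTwist 𝒜 pA chartA n LA lamA)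
    {U V : Y.Opens} (hU : IsAffineOpen U) (hV : IsAffineOpen V) (i : V ≤ U) :
    muHom φ hφ hirr hh n lamA U hU ≫ (Scheme.Modules.pushforward h).map (cTw hB n hU hV i) =
      muHom φ hφ hirr hh n lamA V hV := by
  refine hom_ext_sec _ _ fun W s => ?_
  refine sec_ext (ℬ.deg V hV) n _ _ fun y => ?_
  rw [comp_app_apply]
  refine (cTw_app_val hB n hU hV i (h ⁻¹ᵁ W) _ y).trans ?_
  rw [muHom_app_val, muHom_app_val, lam_val_compat hA hLA hU hV i]
  have hpt := comap_comap_eq φ hφ hirr hh hA hB hU hV i y.1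
  obtain ⟨V₀, hV₀, hxV₀, i', j', a, ha, b, hb, hnin, -, hval⟩ :=
    exists_frac_tw (show Γ(GrTwist.twist (𝒜.deg U hU) n, RelProj.emb pA chartA U hU ⁻¹ᵁ W) from
      (lamA U hU).app W s)
      ⟨ProjectiveSpectrum.comap (RelProj.gradedHomAt φ hφ U hU) (hirr U hU)
        (ProjectiveSpectrum.comap (ℬ.res hU hV i) (irrelevant_le_map_res ℬ hU hV i) y.1),
        show _ ∈ W from by
          rw [← h_emb_apply φ hφ hirr hh U hU, emb_comap hB hU hV i]
          exact y.2⟩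
  have h1 := hval _ hxV₀
  have hx' : ProjectiveSpectrum.comap (𝒜.res hU hV i) (irrelevant_le_map_res 𝒜 hU hV i)
      (ProjectiveSpectrum.comap (RelProj.gradedHomAt φ hφ V hV) (hirr V hV) y.1) ∈ V₀ := by
    rw [hpt]
    exact hxV₀
  have h2 := hval _ hx'
  rw [h1, h2, GrTwist.locMap_mk, GrTwist.locMap_mk, GrTwist.locMap_mk, GrTwist.locMap_mk]
  refine mk_congr_tw ?_ ?_
  · exact res_gradedHomAt φ hφ hU hV i a
  · exact res_gradedHomAt φ hφ hU hV i b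


/-- universal property of `O_P(m)`, native form -/
theorem existsUnique_hom_tw {P : Scheme.{u}} {𝒮 : RelProj.QCGrAlg Y} {p : P ⟶ Y}
    {chart : ∀ (U : Y.Opens) (hU : IsAffineOpen U),
      (((p ⁻¹ᵁ U : P.Opens) : Scheme.{u}) ≅ Proj (𝒮.deg U hU))}
    (hP : RelProj.IsRelProj 𝒮 p chart) {m : ℤ} {L : P.Modules}
    {lam : ∀ (U : Y.Opens) (hU : IsAffineOpen U), L ⟶ GTw p chart m U hU}
    (hL : RelProj.IsRelTwist 𝒮 p chart m L lam) (T : P.Modules)
    (μ : ∀ (U : Y.Opens) (hU : IsAffineOpen U), T ⟶ GTw p chart m U hU)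
    (hμ : ∀ {U V : Y.Opens} (hU : IsAffineOpen U) (hV : IsAffineOpen V) (i : V ≤ U),
      μ U hU ≫ cTw hP m hU hV i = μ V hV) :
    ∃! φ : T ⟶ L, ∀ (U : Y.Opens) (hU : IsAffineOpen U), φ ≫ lam U hU = μ U hU :=
  ((isGluedTw_iff hP m L lam).2 hL).existsUnique_hom T μ hμ

include hA hB in
/-- the comparison map `h^* O_{P_𝒜}(n) ⟶ O_{P_ℬ}(n)` -/
theorem existsUnique_pbTheta (n : ℤ) {LA : PA.Modules}
    {lamA : ∀ (U : Y.Opens) (hU : IsAffineOpen U), LA ⟶ GTw pA chartA n U hU}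
    (hLA : RelProj.IsRelTwist 𝒜 pA chartA n LA lamA) {LB : PB.Modules}
    {lamB : ∀ (U : Y.Opens) (hU : IsAffineOpen U), LB ⟶ GTw pB chartB n U hU}
    (hLB : RelProj.IsRelTwist ℬ pB chartB n LB lamB) :
    ∃! φ' : (Scheme.Modules.pullback h).obj LA ⟶ LB, ∀ (U : Y.Opens) (hU : IsAffineOpen U),
      φ' ≫ lamB U hU = ((Scheme.Modules.pullbackPushforwardAdjunction h).homEquiv _ _).symm
        (muHom φ hφ hirr hh n lamA U hU) := by
  refine existsUnique_hom_tw hB hLB ((Scheme.Modules.pullback h).obj LA)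
    (fun U hU => ((Scheme.Modules.pullbackPushforwardAdjunction h).homEquiv _ _).symm
      (muHom φ hφ hirr hh n lamA U hU)) ?_
  intro U V hU hV i
  rw [← Adjunction.homEquiv_naturality_right_symm, muHom_compat φ hφ hirr hh hA hB n hLA]

include hA hB in
/-- the comparison map `O_{P_𝒜}(n) ⟶ h_* O_{P_ℬ}(n)`, in categorical form -/
theorem existsUnique_theta (n : ℤ) {LA : PA.Modules}
    {lamA : ∀ (U : Y.Opens) (hU : IsAffineOpen U), LA ⟶ GTw pA chartA n U hU}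
    (hLA : RelProj.IsRelTwist 𝒜 pA chartA n LA lamA) {LB : PB.Modules}
    {lamB : ∀ (U : Y.Opens) (hU : IsAffineOpen U), LB ⟶ GTw pB chartB n U hU}
    (hLB : RelProj.IsRelTwist ℬ pB chartB n LB lamB) :
    ∃! θ : LA ⟶ (Scheme.Modules.pushforward h).obj LB, ∀ (U : Y.Opens) (hU : IsAffineOpen U),
      θ ≫ (Scheme.Modules.pushforward h).map (lamB U hU) = muHom φ hφ hirr hh n lamA U hU := by
  obtain ⟨φ', hφ', huniq⟩ := existsUnique_pbTheta φ hφ hirr hh hA hB n hLA hLB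
  refine ⟨(Scheme.Modules.pullbackPushforwardAdjunction h).homEquiv _ _ φ', fun U hU => ?_,
    fun θ' hθ' => ?_⟩
  · rw [← Adjunction.homEquiv_naturality_right, hφ' U hU, Equiv.apply_symm_apply]
  · have : ((Scheme.Modules.pullbackPushforwardAdjunction h).homEquiv _ _).symm θ' = φ' := by
      refine huniq _ fun U hU => ?_
      rw [← Adjunction.homEquiv_naturality_right_symm, hθ' U hU]
    rw [← this, Equiv.apply_symm_apply]


include hh hA hB in
/-- the comparison map `O_{P_𝒜}(n) ⟶ h_* O_{P_ℬ}(n)`, valuewise form -/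
theorem existsUnique_theta_val (n : ℤ) {LA : PA.Modules}
    {lamA : ∀ (U : Y.Opens) (hU : IsAffineOpen U), LA ⟶ GTw pA chartA n U hU}
    (hLA : RelProj.IsRelTwist 𝒜 pA chartA n LA lamA) {LB : PB.Modules}
    {lamB : ∀ (U : Y.Opens) (hU : IsAffineOpen U), LB ⟶ GTw pB chartB n U hU}
    (hLB : RelProj.IsRelTwist ℬ pB chartB n LB lamB) :
    ∃! θ : LA ⟶ (Scheme.Modules.pushforward h).obj LB,
      ∀ (U : Y.Opens) (hU : IsAffineOpen U) (W : PA.Opens) (s : Γ(LA, W))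
        (y : ProjectiveSpectrum (ℬ.deg U hU))
        (hy : (RelProj.emb pB chartB U hU).base y ∈ h ⁻¹ᵁ W)
        (hy' : (RelProj.emb pA chartA U hU).base
          (ProjectiveSpectrum.comap (RelProj.gradedHomAt φ hφ U hU) (hirr U hU) y) ∈ W),
        GrTwist.val (V := RelProj.emb pB chartB U hU ⁻¹ᵁ (h ⁻¹ᵁ W))
            ((lamB U hU).app (h ⁻¹ᵁ W) (θ.app W s)) ⟨y, hy⟩ =
          GrTwist.locMap (RelProj.gradedHomAt φ hφ U hU) (hirr U hU) y
            (GrTwist.val (V := RelProj.emb pA chartA U hU ⁻¹ᵁ W) ((lamA U hU).app W s)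
              ⟨_, hy'⟩) := by
  refine (existsUnique_congr fun θ => ?_).1 (existsUnique_theta φ hφ hirr hh hA hB n hLA hLB)
  constructor
  · intro H U hU W s y hy hy'
    have := congrArg (fun ψ : LA ⟶ (Scheme.Modules.pushforward h).obj (GTw pB chartB n U hU) =>
      GrTwist.val (V := RelProj.emb pB chartB U hU ⁻¹ᵁ (h ⁻¹ᵁ W)) (ψ.app W s) ⟨y, hy⟩) (H U hU)
    exact this
  · intro H U hU
    refine hom_ext_sec _ _ fun W s => ?_
    refine sec_ext (ℬ.deg U hU) n (W := RelProj.emb pB chartB U hU ⁻¹ᵁ (h ⁻¹ᵁ W)) _ _ fun y => ?_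
    exact H U hU W s y.1 y.2 ((h_emb_apply φ hφ hirr hh U hU y.1) ▸ y.2)

end Groth.Agent.Lib.Helper74.TwistNat
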