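import Groth.Agent.Lib.Helper74.RelTildeSys

/-!
# Twisting sheaves on a relative Proj as glued modules (helper74)

`selfGr 𝒮` is `𝒮` as a graded module over itself; `isGlued_iff_isRelTwist` identifies `IsRelTwist`
with `IsGlued` for the chart system of `selfGr 𝒮`.
-/

set_option autoImplicit false
universe u
open CategoryTheory CategoryTheory.Limits AlgebraicGeometry TopologicalSpace Opposite
open scoped HomogeneousIdeal

namespace Groth.Agent.Lib.Helper74.RelTilde

open Groth.Agent.Lib.Helper74.ModSec Groth.Agent.Lib.Helper74.RelGlue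
open Groth.Agent.Lib.Helper74.QMap Groth.Agent.Lib.Helper74.GrModLoc
open Groth.Agent.Lib.Helper60.TildeSec

variable {Y P : Scheme.{u}} (𝒮 : RelProj.QCGrAlg Y) {p : P ⟶ Y}
  {chart : ∀ (U : Y.Opens) (hU : IsAffineOpen U),
    (((p ⁻¹ᵁ U : P.Opens) : Scheme.{u}) ≅ Proj (𝒮.deg U hU))}

/-- `𝒮` as a graded module over itself -/
noncomputable def selfGr : RelProj.GrModule 𝒮 where
  mod := SheafOfModules.unit (AMod.ringSheaf 𝒮.toQCAlg)
  deg U hU d := 𝒮.deg U hU d
  decomp U hU := (inferInstance : DirectSum.Decomposition (𝒮.deg U hU))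
  gradedSMul U hU := (inferInstance : SetLike.GradedSMul (𝒮.deg U hU) (𝒮.deg U hU))
  map_mem := @fun _ _ hU hV i _ _ hm => 𝒮.map_mem hU hV i hm

theorem selfGr_res_apply {U V : Y.Opens} (hU : IsAffineOpen U) (hV : IsAffineOpen V) (i : V ≤ U)
    (m : 𝒮.presheaf.obj (op U)) : (selfGr 𝒮).res hU hV i m = 𝒮.res hU hV i m := rfl

theorem isLocalizing_selfGr : IsLocalizing (selfGr 𝒮) := by
  intro U hU r
  constructor
  · intro m hm
    let _inst := (𝒮.presheaf.map (homOfLE (Y.basicOpen_le r)).op).hom.toAlgebra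
    have hloc : IsLocalization.Away ((𝒮.str.app (op U)).hom r)
        (𝒮.presheaf.obj (op (Y.basicOpen r))) := 𝒮.isQC U hU r
    have hm' : algebraMap (𝒮.presheaf.obj (op U)) (𝒮.presheaf.obj (op (Y.basicOpen r))) m = 0 := hm
    obtain ⟨⟨_, k, rfl⟩, hk⟩ := (IsLocalization.map_eq_zero_iff
      (Submonoid.powers ((𝒮.str.app (op U)).hom r)) _ _).mp hm'
    exact ⟨k, hk⟩
  · intro t
    obtain ⟨k, a, ha⟩ := exists_res_eq U hU r t
    exact ⟨k, a, ha⟩

section congr

variable {A σ : Type u} [CommRing A] [SetLike σ A] [AddSubgroupClass σ A] {𝒜 : ℕ → σ} [GradedRing 𝒜]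
variable {M : Type u} [AddCommGroup M] [Module A M]
variable {B σ' : Type u} [CommRing B] [SetLike σ' B] [AddSubgroupClass σ' B] {ℬ : ℕ → σ'}
  [GradedRing ℬ]
variable {N : Type u} [AddCommGroup N] [Module B N]

theorem locModMap_congr (ψ : 𝒜 →+*ᵍ ℬ) (hψ : ℬ₊ ≤ (𝒜₊).map ψ) (v v' : M →ₛₗ[ψ.toRingHom] N)
    (h : ∀ m, v m = v' m) (y : ProjectiveSpectrum ℬ)
    (q : GrMod.LocMod 𝒜 (M := M) (ProjectiveSpectrum.comap ψ hψ y)) :
    GrMod.locModMap ψ hψ v y q = GrMod.locModMap ψ hψ v' y q := by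
  induction q using LocalizedModule.induction_on with
  | h m s => rw [GrMod.locModMap_mk, GrMod.locModMap_mk, h]

end congr

variable {𝒮}

theorem isGlued_iff_isRelTwist (hP : RelProj.IsRelProj 𝒮 p chart) (n : ℤ) (L : P.Modules)
    (lam : ∀ (U : Y.Opens) (hU : IsAffineOpen U),
      L ⟶ (Scheme.Modules.pushforward (RelProj.emb p chart U hU)).obj
        (GrTwist.twist (𝒮.deg U hU) n)) :
    IsGlued (tildeSys hP n (isLocalizing_selfGr 𝒮)) L lam ↔
      RelProj.IsRelTwist 𝒮 p chart n L lam := by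
  have key : ∀ (U : Y.Opens) (hU : IsAffineOpen U) (r : Γ(Y, U))
      (y : ProjectiveSpectrum (𝒮.deg (Y.basicOpen r) (hU.basicOpen r)))
      (q : GrTwist.Loc (𝒮.deg U hU) (ProjectiveSpectrum.comap
        (𝒮.res hU (hU.basicOpen r) (Y.basicOpen_le r)) (𝒮.irrelevant_le_map U hU r) y)),
      GrTwist.locMap (𝒮.res hU (hU.basicOpen r) (Y.basicOpen_le r))
        (𝒮.irrelevant_le_map U hU r) y q =
      GrMod.locModMap (𝒮.res hU (hU.basicOpen r) (Y.basicOpen_le r))
        (𝒮.irrelevant_le_map U hU r)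
        ((selfGr 𝒮).res hU (hU.basicOpen r) (Y.basicOpen_le r)) y q := by
    intro U hU r y q
    rw [locMap_eq_locModMap]
    exact locModMap_congr _ _ _ _ (fun m => rfl) y q
  constructor
  · intro h
    refine ⟨h.bijective, fun U hU r W s y hy hy' => ?_⟩
    have h1 : (lam _ (hU.basicOpen r)).app W s =
        (cT hP (selfGr 𝒮) n hU (hU.basicOpen r) (Y.basicOpen_le r)).app W ((lam U hU).app W s) := by
      rw [← h.compat U hU r]
      rfl
    rw [h1, key]
    rfl
  · intro h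
    refine ⟨h.bijective, fun U hU r => ?_⟩
    refine hom_ext_sec _ _ fun W s => ?_
    refine sec_ext (𝒮.deg _ (hU.basicOpen r)) ((selfGr 𝒮).deg _ (hU.basicOpen r)) n _ _ fun y => ?_
    have hy' : (RelProj.emb p chart U hU).base (ProjectiveSpectrum.comap
        (𝒮.res hU (hU.basicOpen r) (Y.basicOpen_le r)) (𝒮.irrelevant_le_map U hU r) y.1) ∈ W := by
      have := emb_comap hP hU (hU.basicOpen r) (Y.basicOpen_le r) y.1
      exact this.symm ▸ y.2
    have h2 := h.compat U hU r W s y.1 y.2 hy'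
    rw [key] at h2
    exact h2.symm

end Groth.Agent.Lib.Helper74.RelTilde
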