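import Groth.Agent.Lib.Helper74.TwistGen
import Groth.Agent.Lib.Helper74.RelTwistSys
import Groth.Agent.Lib.Lead.Inv3

/-!
# Generators of the twisting sheaves on a relative Proj (helper74)
-/

set_option autoImplicit false
universe u
open CategoryTheory AlgebraicGeometry TopologicalSpace Opposite
open scoped HomogeneousIdeal

namespace Groth.Agent.Lib.Helper74.TwistGen

open Groth.Agent.Lib.Helper60.TildeSec Groth.Agent.Lib.Lead.Inv Groth.Agent.Lib.Helper74.RelTilde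

section abs

variable {A σ : Type u} [CommRing A] [SetLike σ A] [AddSubgroupClass σ A] (𝒜 : ℕ → σ) [GradedRing 𝒜]

theorem pow_deg_eq (n : ℤ) (d : ℕ) (m : ℤ) (hm : m = n * d) :
    ((n.toNat • d : ℕ) : ℤ) = ((-n).toNat • d : ℕ) + m := by
  subst hm
  have := Int.toNat_sub_toNat_neg n
  simp only [smul_eq_mul]
  push_cast
  nlinarith

/-- the section `f ^ n` (`n` an integer) of `O(n d)` over an open where `f` does not vanish -/
def powSec {d : ℕ} (f : A) (hf : f ∈ 𝒜 d) (n m : ℤ) (hm : m = n * d) (W : (Proj 𝒜).Opens)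
    (hW : ∀ y ∈ W, f ∉ y.asHomogeneousIdeal) : Γ(GrMod.tilde 𝒜 𝒜 m, W) :=
  fracSec 𝒜 𝒜 (f ^ n.toNat) (SetLike.pow_mem_graded _ hf) (f ^ (-n).toNat)
    (SetLike.pow_mem_graded _ hf) (pow_deg_eq n d m hm) W
    (fun y hy h => hW y hy (y.isPrime.mem_of_pow_mem _ h))

theorem powSec_val {d : ℕ} (f : A) (hf : f ∈ 𝒜 d) (n m : ℤ) (hm : m = n * d) (W : (Proj 𝒜).Opens)
    (hW : ∀ y ∈ W, f ∉ y.asHomogeneousIdeal) (y : W) :
    GrMod.val (powSec 𝒜 f hf n m hm W hW) y =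
      LocalizedModule.mk (f ^ n.toNat) (⟨f ^ (-n).toNat,
        fun h => hW y.1 y.2 (y.1.isPrime.mem_of_pow_mem _ h)⟩ :
          y.1.asHomogeneousIdeal.toIdeal.primeCompl) := rfl

theorem isGen_powSec {d : ℕ} (f : A) (hf : f ∈ 𝒜 d) (n m : ℤ) (hm : m = n * d)
    (W : (Proj 𝒜).Opens) (hW : ∀ y ∈ W, f ∉ y.asHomogeneousIdeal) :
    IsGen (GrMod.tilde 𝒜 𝒜 m) W (powSec 𝒜 f hf n m hm W hW) :=
  isGen_fracSec 𝒜 _ _ _ _ _ W _ (fun y hy h => hW y hy (y.isPrime.mem_of_pow_mem _ h))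

end abs

section rel

variable {Y P : Scheme.{u}} {𝒮 : RelProj.QCGrAlg Y} {p : P ⟶ Y}
  {chart : ∀ (U : Y.Opens) (hU : IsAffineOpen U),
    (((p ⁻¹ᵁ U : P.Opens) : Scheme.{u}) ≅ Proj (𝒮.deg U hU))}

/-- a section of `O_P(n)` which reads as a generator on a chart is a generator -/
theorem isGen_of_lam {n : ℤ} {L : P.Modules}
    {lam : ∀ (U : Y.Opens) (hU : IsAffineOpen U),
      L ⟶ (Scheme.Modules.pushforward (RelProj.emb p chart U hU)).obj
        (GrTwist.twist (𝒮.deg U hU) n)}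
    (hL : RelProj.IsRelTwist 𝒮 p chart n L lam) (U : Y.Opens) (hU : IsAffineOpen U)
    (W : P.Opens) (hW : W ≤ p ⁻¹ᵁ U) (e : Γ(L, W))
    (he : IsGen (GrTwist.twist (𝒮.deg U hU) n) (RelProj.emb p chart U hU ⁻¹ᵁ W)
      ((lam U hU).app W e)) : IsGen L W e := by
  refine isGen_of_pushforward (RelProj.emb p chart U hU) _ L (lam U hU)
    (fun W' hW' => hL.bijective U hU W' ?_) W ?_ e he
  · rwa [← opensRange_emb (chart := chart) U hU]
  · rwa [opensRange_emb (chart := chart) U hU]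

/-- `O_P(n)` is invertible when `𝒮` is generated in degree one -/
theorem isInvertible_relTwist (hgen : 𝒮.IsGenDegOne) {n : ℤ} {L : P.Modules}
    {lam : ∀ (U : Y.Opens) (hU : IsAffineOpen U),
      L ⟶ (Scheme.Modules.pushforward (RelProj.emb p chart U hU)).obj
        (GrTwist.twist (𝒮.deg U hU) n)}
    (hL : RelProj.IsRelTwist 𝒮 p chart n L lam) : PicF.IsInvertible L := by
  rw [isInvertible_iff_exists_isGen]
  intro x
  obtain ⟨U, hU, hxU⟩ := exists_affine_mem p x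
  obtain ⟨y, rfl⟩ := exists_emb_eq (chart := chart) U hU x hxU
  obtain ⟨f, hf, hfy⟩ := exists_deg_one_notMem (hgen U hU) y
  let D : (Proj (𝒮.deg U hU)).Opens := Proj.basicOpen (𝒮.deg U hU) f
  let W : P.Opens := RelProj.emb p chart U hU ''ᵁ D
  have hWU : W ≤ p ⁻¹ᵁ U := by
    rintro _ ⟨z, -, rfl⟩
    exact emb_mem U hU z
  have hpre : RelProj.emb p chart U hU ⁻¹ᵁ W = D := (RelProj.emb p chart U hU).preimage_image_eq D
  have hD : ∀ z ∈ RelProj.emb p chart U hU ⁻¹ᵁ W, f ∉ z.asHomogeneousIdeal := by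
    intro z hz
    rw [hpre] at hz
    exact (Proj.mem_basicOpen _ f z).1 hz
  obtain ⟨e, he⟩ := (hL.bijective U hU W hWU).2
    (powSec (𝒮.deg U hU) f hf n n (by simp) (RelProj.emb p chart U hU ⁻¹ᵁ W) hD)
  refine ⟨W, ⟨y, (Proj.mem_basicOpen _ f y).2 hfy, rfl⟩, e, isGen_of_lam hL U hU W hWU e ?_⟩
  rw [he]
  exact isGen_powSec (𝒮.deg U hU) f hf n n (by simp) _ hD

end rel

end Groth.Agent.Lib.Helper74.TwistGen
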