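import Groth.Agent.Lib.Helper74.RelTwistGen
import Groth.Agent.Lib.Lead.SheafPts

set_option autoImplicit false
universe u
open CategoryTheory AlgebraicGeometry TopologicalSpace Opposite
open scoped HomogeneousIdeal

namespace Groth.Agent.Lib.Helper74.TwistGen

open Groth.Agent.Lib.Helper60.TildeSec Groth.Agent.Lib.Lead.Inv Groth.Agent.Lib.Helper74.RelTilde
open Groth.Agent.Lib.Lead.QCohAff Groth.Agent.Lib.Lead.SheafGlue
open Groth.Agent.Lib.Helper74.RelGlue Groth.Agent.Lib.Helper74.ModSec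

/-- being a generator is local -/
theorem isGen_of_cover {X : Scheme.{u}} (F : X.Modules) {U : X.Opens} (g : Γ(F, U))
    (h : ∀ x ∈ U, ∃ (V : X.Opens) (hV : V ≤ U), x ∈ V ∧
      IsGen F V (F.presheaf.map (homOfLE hV).op g)) : IsGen F U g := by
  refine isGen_of_local F g ?_ ?_
  · intro W hW r hr
    refine eq_of_locally_eq_ptsX r 0 fun x hx => ?_
    obtain ⟨V, hV, hxV, hgen⟩ := h x (hW hx)
    refine ⟨W ⊓ V, inf_le_left, ⟨hx, hxV⟩, ?_⟩
    rw [map_zero]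
    have h1 := hgen (W ⊓ V) inf_le_right
    apply h1.1
    simp only
    rw [zero_smul, res_res]
    have h2 := congrArg (F.presheaf.map (homOfLE (inf_le_left : W ⊓ V ≤ W)).op) hr
    rw [res_smul, res_res, map_zero] at h2
    exact h2
  · intro W hW σ x hx
    obtain ⟨V, hV, hxV, hgen⟩ := h x (hW hx)
    have h1 := hgen (W ⊓ V) inf_le_right
    obtain ⟨c, hc⟩ := h1.2 (F.presheaf.map (homOfLE (inf_le_left : W ⊓ V ≤ W)).op σ)
    refine ⟨W ⊓ V, inf_le_left, ⟨hx, hxV⟩, c, ?_⟩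
    simp only at hc
    rw [res_res] at hc
    exact hc


section rel

variable {Y P : Scheme.{u}} {𝒮 : RelProj.QCGrAlg Y} {p : P ⟶ Y}
  {chart : ∀ (U : Y.Opens) (hU : IsAffineOpen U),
    (((p ⁻¹ᵁ U : P.Opens) : Scheme.{u}) ≅ Proj (𝒮.deg U hU))}

theorem emb_preimage_eq (U : Y.Opens) (hU : IsAffineOpen U) (Xf : P.Opens)
    (D : (Proj (𝒮.deg U hU)).Opens)
    (h : Xf ⊓ p ⁻¹ᵁ U = (p ⁻¹ᵁ U).ι ''ᵁ ((chart U hU).hom ⁻¹ᵁ D)) :
    RelProj.emb p chart U hU ⁻¹ᵁ Xf = D := by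
  ext z
  have hz : RelProj.emb p chart U hU z = (p ⁻¹ᵁ U).ι ((chart U hU).inv z) := rfl
  have hcz : (chart U hU).hom ((chart U hU).inv z) = z := by
    rw [← Scheme.Hom.comp_apply, Iso.inv_hom_id]
    rfl
  constructor
  · intro hzX
    have h1 : RelProj.emb p chart U hU z ∈ Xf ⊓ p ⁻¹ᵁ U := ⟨hzX, emb_mem U hU z⟩
    rw [h] at h1
    obtain ⟨w, hw, hwz⟩ := h1
    rw [hz] at hwz
    have := (p ⁻¹ᵁ U).ι.isOpenEmbedding.injective hwz
    subst this
    have hw' : (chart U hU).hom ((chart U hU).inv z) ∈ D := hw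
    rwa [hcz] at hw'
  · intro hzD
    have h1 : RelProj.emb p chart U hU z ∈ Xf ⊓ p ⁻¹ᵁ U := by
      rw [h, hz]
      refine ⟨(chart U hU).inv z, ?_, rfl⟩
      change (chart U hU).hom ((chart U hU).inv z) ∈ D
      rwa [hcz]
    exact h1.1


end rel

end Groth.Agent.Lib.Helper74.TwistGen
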