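import Groth.Agent.Lib.Helper74.RelTwistInv

/-!
# `X_f` as the generating locus of the section `f` of `O_P(d)` (helper74)
-/

set_option autoImplicit false
universe u
open CategoryTheory AlgebraicGeometry TopologicalSpace Opposite
open scoped HomogeneousIdeal

namespace Groth.Agent.Lib.Helper74.TwistNat

open Groth.Agent.Lib.Lead.Inv Groth.Agent.Lib.Helper74.RelTilde
open Groth.Agent.Lib.Helper74.RelGlue Groth.Agent.Lib.Helper74.ModSec Groth.Agent.Lib.Helper74.QMap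
open Groth.Agent.Lib.Helper74.TwistGen Groth.Agent.Lib.Helper60.TildeSec

section rel

variable {Y P : Scheme.{u}} {𝒮 : RelProj.QCGrAlg Y} {p : P ⟶ Y}
  {chart : ∀ (U : Y.Opens) (hU : IsAffineOpen U),
    (((p ⁻¹ᵁ U : P.Opens) : Scheme.{u}) ≅ Proj (𝒮.deg U hU))}

/-- sections of a glued module are determined by their chartwise readings -/
theorem IsGlued.section_ext {𝔊 : ChartSys p} {F : P.Modules}
    {lam : ∀ (U : Y.Opens) (hU : IsAffineOpen U), F ⟶ 𝔊.G U hU} (h : IsGlued 𝔊 F lam)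
    (W : P.Opens) (s s' : Γ(F, W))
    (hss' : ∀ (U : Y.Opens) (hU : IsAffineOpen U), (lam U hU).app W s = (lam U hU).app W s') :
    s = s' := by
  obtain ⟨s₀, -, hs₀⟩ := h.existsUnique_section W (fun U hU => (lam U hU).app W s)
    (fun hU hV i => h.compat_le_app hU hV i W s)
  rw [hs₀ s (fun _ _ => rfl), hs₀ s' (fun U hU => (hss' U hU).symm)]

/-- reading of the restriction of a global section -/
theorem val_lam_val {m : ℤ} {L : P.Modules}
    {lam : ∀ (U : Y.Opens) (hU : IsAffineOpen U), L ⟶ GTw p chart m U hU}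
    (s : Coh.structureModule P ⟶ L) (U : Y.Opens) (hU : IsAffineOpen U) (W : P.Opens)
    (y : (RelProj.emb p chart U hU ⁻¹ᵁ W : (Proj (𝒮.deg U hU)).Opens)) :
    GrTwist.val (V := RelProj.emb p chart U hU ⁻¹ᵁ W) ((lam U hU).app W (val s W)) y =
      GrTwist.val (V := RelProj.emb p chart U hU ⁻¹ᵁ ⊤) ((lam U hU).app ⊤ (val s ⊤))
        ⟨y.1, Set.mem_univ _⟩ := by
  rw [← val_res s (le_top : W ≤ ⊤), hom_res]
  rfl


theorem isUnit_mk_iff {A σ : Type u} [CommRing A] [SetLike σ A] [AddSubgroupClass σ A]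
    {𝒜 : ℕ → σ} [GradedRing 𝒜] (y : ProjectiveSpectrum 𝒜) (a : A)
    (b : y.asHomogeneousIdeal.toIdeal.primeCompl) :
    IsUnit (Localization.mk a b : GrTwist.Loc 𝒜 y) ↔ a ∉ y.asHomogeneousIdeal := by
  rw [Localization.mk_eq_mk', IsLocalization.AtPrime.isUnit_mk'_iff
    (Localization.AtPrime y.asHomogeneousIdeal.toIdeal) y.asHomogeneousIdeal.toIdeal]
  rfl

/-- `X_f` is the locus where the section `f` of `O_P(d)` generates -/
theorem basicOpen_eq_genLocus (hP : RelProj.IsRelProj 𝒮 p chart) (hgen : 𝒮.IsGenDegOne) {d : ℕ}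
    (f : 𝒮.presheaf.obj (op ⊤))
    (hf : ∀ (U : Y.Opens) (hU : IsAffineOpen U), gres 𝒮 f U ∈ 𝒮.deg U hU d)
    (Xf : P.Opens)
    (hXf : ∀ (U : Y.Opens) (hU : IsAffineOpen U),
      RelProj.emb p chart U hU ⁻¹ᵁ Xf = Proj.basicOpen (𝒮.deg U hU) (gres 𝒮 f U))
    {L : P.Modules}
    {lam : ∀ (U : Y.Opens) (hU : IsAffineOpen U), L ⟶ GTw p chart (d : ℤ) U hU}
    (hL : RelProj.IsRelTwist 𝒮 p chart (d : ℤ) L lam) (s : Coh.structureModule P ⟶ L)
    (hs : ∀ (U : Y.Opens) (hU : IsAffineOpen U) (y : Proj (𝒮.deg U hU)),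
      GrTwist.val (V := RelProj.emb p chart U hU ⁻¹ᵁ ⊤) ((lam U hU).app ⊤ (val s ⊤))
        ⟨y, Set.mem_univ _⟩ = Localization.mk (gres 𝒮 f U) 1) :
    Xf = CohB1.genLocus L s := by
  have hG := (isGluedTw_iff hP (d : ℤ) L lam).2 hL
  apply le_antisymm
  · rw [le_genLocus_iff_isGen]
    obtain ⟨e, he, hval⟩ := exists_isGen_basicOpen hP f hf Xf hXf 1 (d : ℤ) (by simp) hL
    have hes : e = val s Xf := by
      refine IsGlued.section_ext hG Xf e (val s Xf) fun U hU => ?_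
      refine sec_ext (𝒮.deg U hU) (d : ℤ) _ _ fun y => ?_
      obtain ⟨hy, hv⟩ := hval U hU y
      refine hv.trans (Eq.symm ((val_lam_val s U hU Xf y).trans ((hs U hU y.1).trans ?_)))
      rw [Localization.mk_eq_mk_iff, Localization.r_iff_exists]
      exact ⟨1, by simp⟩
    rw [← hes]
    exact he
  · intro x hx
    have hgl : IsGen L (CohB1.genLocus L s) (val s _) := (le_genLocus_iff_isGen s _).1 le_rfl
    obtain ⟨U, hU, hxU⟩ := exists_affine_mem p x
    obtain ⟨y, rfl⟩ := exists_emb_eq (chart := chart) U hU x hxU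
    suffices hfy : gres 𝒮 f U ∉ y.asHomogeneousIdeal by
      have : y ∈ RelProj.emb p chart U hU ⁻¹ᵁ Xf := by
        rw [hXf U hU]
        exact (Proj.mem_basicOpen _ _ y).2 hfy
      exact this
    obtain ⟨t, ht, hty⟩ := exists_deg_one_notMem (hgen U hU) y
    let D : (Proj (𝒮.deg U hU)).Opens := Proj.basicOpen (𝒮.deg U hU) t
    let W : P.Opens := CohB1.genLocus L s ⊓ RelProj.emb p chart U hU ''ᵁ D
    have hWU : W ≤ p ⁻¹ᵁ U := by
      rintro _ ⟨-, z, -, rfl⟩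
      exact emb_mem U hU z
    have hyW : y ∈ RelProj.emb p chart U hU ⁻¹ᵁ W :=
      ⟨hx, y, (Proj.mem_basicOpen _ t y).2 hty, rfl⟩
    have h1 : ∀ z ∈ RelProj.emb p chart U hU ⁻¹ᵁ W,
        (1 : 𝒮.presheaf.obj (op U)) ∉ z.asHomogeneousIdeal :=
      fun z _ => GrMod.one_nin z
    have hij : ((d • 1 : ℕ) : ℤ) = ((0 : ℕ) : ℤ) + (d : ℤ) := by simp
    obtain ⟨et, het⟩ := (hL.bijective U hU W hWU).2
      (fracSec (𝒮.deg U hU) (t ^ d) (SetLike.pow_mem_graded d ht) 1 SetLike.GradedOne.one_mem hij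
        (RelProj.emb p chart U hU ⁻¹ᵁ W) h1)
    obtain ⟨c, hc⟩ := (hgl W inf_le_left).2 et
    have h2 := congrArg (fun σ => GrTwist.val (V := RelProj.emb p chart U hU ⁻¹ᵁ W)
      ((lam U hU).app W σ) ⟨y, hyW⟩) hc
    simp only at h2
    rw [Scheme.Modules.Hom.app_smul, pushforward_smul] at h2
    erw [smul_val] at h2
    rw [val_res s, val_lam_val, hs, het, fracSec_val] at h2
    have hu : IsUnit (Localization.mk (t ^ d) (⟨1, h1 y hyW⟩ :
        y.asHomogeneousIdeal.toIdeal.primeCompl) : GrTwist.Loc (𝒮.deg U hU) y) :=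
      (isUnit_mk_iff y _ _).2 (fun h => hty (y.isPrime.mem_of_pow_mem _ h))
    rw [← h2] at hu
    exact (isUnit_mk_iff y _ _).1 (isUnit_of_mul_isUnit_right hu)

end rel

end Groth.Agent.Lib.Helper74.TwistNat
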