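import Groth.Agent.Lib.Helper74.TwistMul
import Groth.Agent.Lib.Helper74.RelTwistLocus
import Groth.Agent.Lib.Helper2.TensorDesc
import Groth.Agent.Lib.Helper74.IsoGen

/-!
# The multiplication `O_P(m) ⊗ O_P(n) ⟶ O_P(m + n)` on a relative Proj (helper74)
-/

set_option autoImplicit false
universe u
open CategoryTheory AlgebraicGeometry TopologicalSpace Opposite
open scoped HomogeneousIdeal

namespace Groth.Agent.Lib.Helper74.TwistNat

open Groth.Agent.Lib.Lead.Inv Groth.Agent.Lib.Helper74.RelTilde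
open Groth.Agent.Lib.Helper74.RelGlue Groth.Agent.Lib.Helper74.ModSec Groth.Agent.Lib.Helper74.QMap
open Groth.Agent.Lib.Helper74.TwistGen

variable {Y P : Scheme.{u}} {𝒮 : RelProj.QCGrAlg Y} {p : P ⟶ Y}
  {chart : ∀ (U : Y.Opens) (hU : IsAffineOpen U),
    (((p ⁻¹ᵁ U : P.Opens) : Scheme.{u}) ≅ Proj (𝒮.deg U hU))}
  (hP : RelProj.IsRelProj 𝒮 p chart) {m n k : ℤ} (hk : k = m + n)
  {L L' L'' : P.Modules}
  {lam : ∀ (U : Y.Opens) (hU : IsAffineOpen U), L ⟶ GTw p chart m U hU}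
  {lam' : ∀ (U : Y.Opens) (hU : IsAffineOpen U), L' ⟶ GTw p chart n U hU}
  {lam'' : ∀ (U : Y.Opens) (hU : IsAffineOpen U), L'' ⟶ GTw p chart k U hU}
  (hL : RelProj.IsRelTwist 𝒮 p chart m L lam) (hL' : RelProj.IsRelTwist 𝒮 p chart n L' lam')
  (hL'' : RelProj.IsRelTwist 𝒮 p chart k L'' lam'')

include hP in
/-- valuewise compatibility of the chartwise readings of a section -/
theorem lam_val_compat {m : ℤ} {L : P.Modules}
    {lam : ∀ (U : Y.Opens) (hU : IsAffineOpen U), L ⟶ GTw p chart m U hU}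
    (hL : RelProj.IsRelTwist 𝒮 p chart m L lam) {U V : Y.Opens} (hU : IsAffineOpen U)
    (hV : IsAffineOpen V) (i : V ≤ U) (W : P.Opens) (s : Γ(L, W))
    (y : (RelProj.emb p chart V hV ⁻¹ᵁ W : (Proj (𝒮.deg V hV)).Opens)) :
    GrTwist.val (V := RelProj.emb p chart V hV ⁻¹ᵁ W) ((lam V hV).app W s) y =
      GrTwist.locMap (𝒮.res hU hV i) (irrelevant_le_map_res 𝒮 hU hV i) y.1
        (GrTwist.val (V := RelProj.emb p chart U hU ⁻¹ᵁ W) ((lam U hU).app W s)
          ⟨ProjectiveSpectrum.comap (𝒮.res hU hV i) (irrelevant_le_map_res 𝒮 hU hV i) y.1,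
            show _ ∈ W from (emb_comap hP hU hV i y.1).symm ▸ y.2⟩) := by
  have hG := (isGluedTw_iff hP m L lam).2 hL
  rw [← cTw_app_val hP m hU hV i W ((lam U hU).app W s) y]
  have := hG.compat_le_app hU hV i W s
  exact congrArg (fun σ => GrTwist.val (V := RelProj.emb p chart V hV ⁻¹ᵁ W) σ y) this.symm

include hP in
/-- sections of `O_P(m)` are determined by their chartwise readings -/
theorem section_ext_tw {m : ℤ} {L : P.Modules}
    {lam : ∀ (U : Y.Opens) (hU : IsAffineOpen U), L ⟶ GTw p chart m U hU}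
    (hL : RelProj.IsRelTwist 𝒮 p chart m L lam) (W : P.Opens) (s s' : Γ(L, W))
    (h : ∀ (U : Y.Opens) (hU : IsAffineOpen U), (lam U hU).app W s = (lam U hU).app W s') :
    s = s' :=
  IsGlued.section_ext ((isGluedTw_iff hP m L lam).2 hL) W s s' h

include hP hL hL' hL'' in
/-- the product of sections of `O_P(m)` and `O_P(n)` -/
theorem existsUnique_pair (W : P.Opens) (s : Γ(L, W)) (s' : Γ(L', W)) :
    ∃! σ : Γ(L'', W), ∀ (U : Y.Opens) (hU : IsAffineOpen U),
      (lam'' U hU).app W σ =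
        mulSec (𝒮.deg U hU) hk (V := RelProj.emb p chart U hU ⁻¹ᵁ W)
          ((lam U hU).app W s) ((lam' U hU).app W s') := by
  have hG'' := (isGluedTw_iff hP k L'' lam'').2 hL''
  refine hG''.existsUnique_section W (fun U hU =>
    mulSec (𝒮.deg U hU) hk (V := RelProj.emb p chart U hU ⁻¹ᵁ W)
      ((lam U hU).app W s) ((lam' U hU).app W s')) ?_
  intro U V hU hV i
  refine sec_ext (𝒮.deg V hV) k _ _ fun y => ?_
  refine (cTw_app_val hP k hU hV i W _ y).trans ?_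
  rw [mulSec_val, mulSec_val, map_mul, lam_val_compat hP hL hU hV i,
    lam_val_compat hP hL' hU hV i]


/-- the product of two sections -/
noncomputable def pairFun (W : P.Opens) (s : Γ(L, W)) (s' : Γ(L', W)) : Γ(L'', W) :=
  (existsUnique_pair hP hk hL hL' hL'' W s s').choose

theorem pairFun_spec (W : P.Opens) (s : Γ(L, W)) (s' : Γ(L', W)) (U : Y.Opens)
    (hU : IsAffineOpen U) :
    (lam'' U hU).app W (pairFun hP hk hL hL' hL'' W s s') =
      mulSec (𝒮.deg U hU) hk (V := RelProj.emb p chart U hU ⁻¹ᵁ W)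
        ((lam U hU).app W s) ((lam' U hU).app W s') :=
  (existsUnique_pair hP hk hL hL' hL'' W s s').choose_spec.1 U hU

theorem pairFun_add_left (W : P.Opens) (s₁ s₂ : Γ(L, W)) (s' : Γ(L', W)) :
    pairFun hP hk hL hL' hL'' W (s₁ + s₂) s' =
      pairFun hP hk hL hL' hL'' W s₁ s' + pairFun hP hk hL hL' hL'' W s₂ s' := by
  refine section_ext_tw hP hL'' W _ _ fun U hU => ?_
  rw [map_add, pairFun_spec, pairFun_spec, pairFun_spec, map_add]
  exact mulSec_add_left (𝒮.deg U hU) hk _ _ _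

theorem pairFun_add_right (W : P.Opens) (s : Γ(L, W)) (s₁' s₂' : Γ(L', W)) :
    pairFun hP hk hL hL' hL'' W s (s₁' + s₂') =
      pairFun hP hk hL hL' hL'' W s s₁' + pairFun hP hk hL hL' hL'' W s s₂' := by
  refine section_ext_tw hP hL'' W _ _ fun U hU => ?_
  rw [map_add, pairFun_spec, pairFun_spec, pairFun_spec, map_add]
  exact mulSec_add_right (𝒮.deg U hU) hk _ _ _

theorem lam_smul {m : ℤ} {L : P.Modules}
    {lam : ∀ (U : Y.Opens) (hU : IsAffineOpen U), L ⟶ GTw p chart m U hU}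
    (W : P.Opens) (r : Γ(P, W)) (s : Γ(L, W)) (U : Y.Opens) (hU : IsAffineOpen U) :
    (lam U hU).app W (r • s) =
      (show Γ(GrTwist.twist (𝒮.deg U hU) m, RelProj.emb p chart U hU ⁻¹ᵁ W) from
        ((RelProj.emb p chart U hU).app W).hom r •
          (show Γ(GrTwist.twist (𝒮.deg U hU) m, RelProj.emb p chart U hU ⁻¹ᵁ W) from
            (lam U hU).app W s)) :=
  (Scheme.Modules.Hom.app_smul _ _ _).trans (pushforward_smul _ _ _ _ _)

theorem pairFun_smul_left (W : P.Opens) (r : Γ(P, W)) (s : Γ(L, W)) (s' : Γ(L', W)) :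
    pairFun hP hk hL hL' hL'' W (r • s) s' = r • pairFun hP hk hL hL' hL'' W s s' := by
  refine section_ext_tw hP hL'' W _ _ fun U hU => ?_
  refine (pairFun_spec hP hk hL hL' hL'' W (r • s) s' U hU).trans ?_
  refine Eq.trans ?_ (lam_smul W r (pairFun hP hk hL hL' hL'' W s s') U hU).symm
  rw [pairFun_spec, lam_smul]
  exact mulSec_smul_left (𝒮.deg U hU) hk _ _ _

theorem pairFun_smul_right (W : P.Opens) (r : Γ(P, W)) (s : Γ(L, W)) (s' : Γ(L', W)) :
    pairFun hP hk hL hL' hL'' W s (r • s') = r • pairFun hP hk hL hL' hL'' W s s' := by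
  refine section_ext_tw hP hL'' W _ _ fun U hU => ?_
  refine (pairFun_spec hP hk hL hL' hL'' W s (r • s') U hU).trans ?_
  refine Eq.trans ?_ (lam_smul W r (pairFun hP hk hL hL' hL'' W s s') U hU).symm
  rw [pairFun_spec, lam_smul]
  exact mulSec_smul_right (𝒮.deg U hU) hk _ _ _

theorem pairFun_res {W W' : P.Opens} (h : W' ≤ W) (s : Γ(L, W)) (s' : Γ(L', W)) :
    L''.presheaf.map (homOfLE h).op (pairFun hP hk hL hL' hL'' W s s') =
      pairFun hP hk hL hL' hL'' W' (L.presheaf.map (homOfLE h).op s)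
        (L'.presheaf.map (homOfLE h).op s') := by
  refine section_ext_tw hP hL'' W' _ _ fun U hU => ?_
  rw [hom_res, pairFun_spec, pairFun_spec, hom_res, hom_res]
  rfl

/-- the pairing as bilinear maps -/
noncomputable def pairLin (W : P.Opens) :
    Γ(L, W) →ₗ[Γ(P, W)] Γ(L', W) →ₗ[Γ(P, W)] Γ(L'', W) :=
  LinearMap.mk₂ Γ(P, W) (pairFun hP hk hL hL' hL'' W)
    (pairFun_add_left hP hk hL hL' hL'' W) (pairFun_smul_left hP hk hL hL' hL'' W)
    (pairFun_add_right hP hk hL hL' hL'' W) (pairFun_smul_right hP hk hL hL' hL'' W)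

/-- the multiplication map `O_P(m) ⊗ O_P(n) ⟶ O_P(m + n)` -/
noncomputable def mulHom : CohB1.tensorMod L L' ⟶ L'' :=
  Groth.Agent.Lib.Helper2.TensorDesc.desc L L' L'' (pairLin hP hk hL hL' hL'')
    (fun U V h s s' => pairFun_res hP hk hL hL' hL'' h s s')

theorem mulHom_tmul (W : P.Opens) (s : Γ(L, W)) (s' : Γ(L', W)) :
    (mulHom hP hk hL hL' hL'').app W (tmul L L' s s') = pairFun hP hk hL hL' hL'' W s s' :=
  Groth.Agent.Lib.Helper2.TensorDesc.desc_tmul L L' L'' _ _ W s s'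


/-- the chart open `emb(D₊(t))` together with the section reading `t ^ j` on it -/
theorem exists_powSec_chart {m : ℤ} {L : P.Modules}
    {lam : ∀ (U : Y.Opens) (hU : IsAffineOpen U), L ⟶ GTw p chart m U hU}
    (hL : RelProj.IsRelTwist 𝒮 p chart m L lam) (U : Y.Opens) (hU : IsAffineOpen U) {d : ℕ}
    (t : 𝒮.presheaf.obj (op U)) (ht : t ∈ 𝒮.deg U hU d) (j : ℤ) (hm : m = j * d)
    (W : P.Opens) (hWU : W ≤ p ⁻¹ᵁ U)
    (hD : ∀ z ∈ RelProj.emb p chart U hU ⁻¹ᵁ W, t ∉ z.asHomogeneousIdeal) :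
    ∃ e : Γ(L, W), IsGen L W e ∧ (lam U hU).app W e =
      powSec (𝒮.deg U hU) t ht j m hm (RelProj.emb p chart U hU ⁻¹ᵁ W) hD := by
  obtain ⟨e, he⟩ := (hL.bijective U hU W hWU).2
    (powSec (𝒮.deg U hU) t ht j m hm (RelProj.emb p chart U hU ⁻¹ᵁ W) hD)
  refine ⟨e, isGen_of_lam hL U hU W hWU e ?_, he⟩
  rw [he]
  exact isGen_powSec (𝒮.deg U hU) t ht j m hm _ hD

include hP hL hL' hL'' in
/-- `O_P(m) ⊗ O_P(n) ≅ O_P(m + n)` when `𝒮` is generated in degree one -/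
theorem isIso_mulHom (hgen : 𝒮.IsGenDegOne) : IsIso (mulHom hP hk hL hL' hL'') := by
  refine isIso_of_isGen _ fun x => ?_
  obtain ⟨U, hU, hxU⟩ := exists_affine_mem p x
  obtain ⟨y, rfl⟩ := exists_emb_eq (chart := chart) U hU x hxU
  obtain ⟨t, ht, hty⟩ := exists_deg_one_notMem (hgen U hU) y
  let D : (Proj (𝒮.deg U hU)).Opens := Proj.basicOpen (𝒮.deg U hU) t
  let W : P.Opens := RelProj.emb p chart U hU ''ᵁ D
  have hWU : W ≤ p ⁻¹ᵁ U := by
    rintro _ ⟨z, -, rfl⟩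
    exact emb_mem U hU z
  have hpre : RelProj.emb p chart U hU ⁻¹ᵁ W = D := (RelProj.emb p chart U hU).preimage_image_eq D
  have hD : ∀ z ∈ RelProj.emb p chart U hU ⁻¹ᵁ W, t ∉ z.asHomogeneousIdeal := by
    intro z hz
    rw [hpre] at hz
    exact (Proj.mem_basicOpen _ t z).1 hz
  obtain ⟨e, he, hev⟩ := exists_powSec_chart hL U hU t ht m (by simp) W hWU hD
  obtain ⟨e', he', hev'⟩ := exists_powSec_chart hL' U hU t ht n (by simp) W hWU hD
  refine ⟨W, tmul L L' e e', ⟨y, (Proj.mem_basicOpen _ t y).2 hty, rfl⟩, isGen_tmul he he', ?_⟩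
  rw [mulHom_tmul]
  refine isGen_of_lam hL'' U hU W hWU _ ?_
  rw [pairFun_spec, hev, hev']
  unfold powSec
  rw [mulSec_fracSec]
  refine isGen_fracSec (𝒮.deg U hU) _ _ _ _ _ _ _ ?_
  intro z hz hmem
  rcases z.isPrime.mem_or_mem hmem with h | h
  · exact hD z hz (z.isPrime.mem_of_pow_mem _ h)
  · exact hD z hz (z.isPrime.mem_of_pow_mem _ h)

include hP hk hL hL' hL'' in
theorem nonempty_tensor_iso (hgen : 𝒮.IsGenDegOne) : Nonempty (CohB1.tensorMod L L' ≅ L'') :=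
  ⟨@asIso _ _ _ _ (mulHom hP hk hL hL' hL'') (isIso_mulHom hP hk hL hL' hL'' hgen)⟩

end Groth.Agent.Lib.Helper74.TwistNat
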