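import Groth.Agent.Lib.Helper74.QMapSpec
import Groth.Agent.Lib.Helper74.QMapCone

set_option autoImplicit false
universe u
open CategoryTheory CategoryTheory.Limits AlgebraicGeometry TopologicalSpace Opposite

namespace Groth.Agent.Lib.Helper74.SpecQ

open Groth.Agent.Lib.Helper74.QMap

section charts

variable {S : Scheme.{u}} (A : RelSpec.QCAlg S)

theorem ι_basicOpen (U : S.Opens) (hU : IsAffineOpen U) (r : Γ(S, U)) :
    Spec.map (A.presheaf.map (homOfLE (S.basicOpen_le r)).op) ≫ A.ι U hU =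
      A.ι (S.basicOpen r) (hU.basicOpen r) := by
  let U' : S.AffineZariskiSite := ⟨U, hU⟩
  exact A.ι_res (U := U') (V := U'.basicOpen r) (homOfLE (U'.basicOpen_le r))

theorem ι_of_eq {U W : S.Opens} (hU : IsAffineOpen U) (hW : IsAffineOpen W) (r : Γ(S, U))
    (e : S.basicOpen r = W) (i : W ≤ U) :
    Spec.map (A.presheaf.map (homOfLE i).op) ≫ A.ι U hU = A.ι W hW := by
  subst e
  exact ι_basicOpen A U hU r

theorem exists_ι_eq (U : S.Opens) (hU : IsAffineOpen U) (c : A.spec) (hc : A.π c ∈ U) :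
    ∃ c', A.ι U hU c' = c := by
  have : c ∈ A.π ⁻¹ᵁ U := hc
  rw [A.π_preimage U hU] at this
  exact this

theorem π_ι_mem (U : S.Opens) (hU : IsAffineOpen U) (c : Spec (A.presheaf.obj (op U))) :
    A.π (A.ι U hU c) ∈ U := by
  have : A.ι U hU c ∈ A.π ⁻¹ᵁ U := by
    rw [A.π_preimage U hU]; exact ⟨c, rfl⟩
  exact this

theorem mem_range_specMap_res_basicOpen (V : S.Opens) (hV : IsAffineOpen V) (s : Γ(S, V))
    (c : Spec (A.presheaf.obj (op V))) (hc : A.π (A.ι V hV c) ∈ S.basicOpen s) :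
    c ∈ Set.range (Spec.map (A.presheaf.map (homOfLE (S.basicOpen_le s)).op)) := by
  obtain ⟨c', hc'⟩ := exists_ι_eq A (S.basicOpen s) (hV.basicOpen s) _ hc
  refine ⟨c', ?_⟩
  apply (A.ι V hV).isOpenEmbedding.injective
  rw [← hc', ← ι_basicOpen A V hV s]
  rfl

theorem isOpenImmersion_specMap_res_basicOpen (V : S.Opens) (hV : IsAffineOpen V) (s : Γ(S, V)) :
    IsOpenImmersion (Spec.map (A.presheaf.map (homOfLE (S.basicOpen_le s)).op)) := by
  have : IsOpenImmersion (Spec.map (A.presheaf.map (homOfLE (S.basicOpen_le s)).op) ≫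
      A.ι V hV) := by
    rw [ι_basicOpen]; infer_instance
  exact IsOpenImmersion.of_comp _ (A.ι V hV)

/-- compatibility of the charts of a relative spectrum for arbitrary affine opens `V ≤ U` -/
theorem ι_res' {U V : S.Opens} (hU : IsAffineOpen U) (hV : IsAffineOpen V) (i : V ≤ U) :
    Spec.map (A.presheaf.map (homOfLE i).op) ≫ A.ι U hU = A.ι V hV := by
  refine hom_ext_of_forall_exists _ _ fun c => ?_
  have hvV : A.π (A.ι V hV c) ∈ V := π_ι_mem A V hV c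
  obtain ⟨r, s, e, hvr⟩ := exists_basicOpen_le_affine_inter hU hV _ ⟨i hvV, hvV⟩
  refine ⟨_, Spec.map (A.presheaf.map (homOfLE (S.basicOpen_le s)).op),
    isOpenImmersion_specMap_res_basicOpen A V hV s,
    mem_range_specMap_res_basicOpen A V hV s c (e ▸ hvr), ?_⟩
  have hle : S.basicOpen s ≤ U := (S.basicOpen_le s).trans i
  rw [ι_basicOpen A V hV s, ← ι_of_eq A hU (hV.basicOpen s) r e hle, ← Spec.map_comp_assoc,
    ← Functor.map_comp]
  rfl

end charts

section qmap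

variable {S S' : Scheme.{u}} {g : S' ⟶ S} {A : RelSpec.QCAlg S} {B : RelSpec.QCAlg S'}
  (u : RelSpec.QHom g A B)

/-- affine pairs -/
structure PairIdx (g : S' ⟶ S) where
  U : S.Opens
  hU : IsAffineOpen U
  U' : S'.Opens
  hU' : IsAffineOpen U'
  hle : U' ≤ g ⁻¹ᵁ U

theorem exists_pair_chart (c : B.spec) :
    ∃ (i : PairIdx g) (c' : Spec (B.presheaf.obj (op i.U'))), B.ι i.U' i.hU' c' = c := by
  obtain ⟨U, hU, U', hU', hle, hcU'⟩ := exists_affine_pair g (B.π c)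
  obtain ⟨c', hc'⟩ := exists_ι_eq B U' hU' c hcU'
  exact ⟨⟨U, hU, U', hU', hle⟩, c', hc'⟩

/-- the local piece of `Spec(u)` over an affine pair -/
noncomputable def pairMap (i : PairIdx g) : Spec (B.presheaf.obj (op i.U')) ⟶ A.spec :=
  Spec.map (u.appLE i.U i.U' i.hle) ≫ A.ι i.U i.hU

theorem pairMap_res (i k : PairIdx g) (hU' : k.U' ≤ i.U') (hU : k.U ≤ i.U) :
    Spec.map (B.presheaf.map (homOfLE hU').op) ≫ pairMap u i = pairMap u k := by
  rw [pairMap, pairMap, ← Spec.map_comp_assoc, u.appLE_map i.hle hU',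
    ← u.map_appLE hU k.hle, Spec.map_comp_assoc, ι_res' A i.hU k.hU hU]

theorem isSpecQMap_iff (h : B.spec ⟶ A.spec) :
    RelSpec.IsSpecQMap u h ↔ ∀ i : PairIdx g, B.ι i.U' i.hU' ≫ h = pairMap u i :=
  ⟨fun hh i => hh i.U i.hU i.U' i.hU' i.hle, fun hh U hU U' hU' hle => hh ⟨U, hU, U', hU', hle⟩⟩

/-- existence and uniqueness of `Spec(u)` -/
theorem existsUnique_isSpecQMap : ∃! h : B.spec ⟶ A.spec, RelSpec.IsSpecQMap u h := by
  have key := existsUnique_glue_family (fun i : PairIdx g => Spec (B.presheaf.obj (op i.U')))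
    (fun i => B.ι i.U' i.hU') (fun i => pairMap u i)
    (fun c => by obtain ⟨i, c', hc'⟩ := exists_pair_chart (g := g) c; exact ⟨i, c', hc'⟩) ?_
  · obtain ⟨h, hh, huniq⟩ := key
    exact ⟨h, (isSpecQMap_iff u h).mpr hh, fun h' hh' => huniq h' ((isSpecQMap_iff u h').mp hh')⟩
  · intro i i' x x' hxx'
    have h1 : B.π (B.ι i.U' i.hU' x) ∈ i.U' := π_ι_mem B i.U' i.hU' x
    have h2 : B.π (B.ι i.U' i.hU' x) ∈ i'.U' := by rw [hxx']; exact π_ι_mem B i'.U' i'.hU' x'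
    have h3 : g (B.π (B.ι i.U' i.hU' x)) ∈ i.U ⊓ i'.U := ⟨i.hle h1, i'.hle h2⟩
    obtain ⟨V, hV, hzV, hVle⟩ := ChartOpens.exists_affine_le h3
    have h4 : B.π (B.ι i.U' i.hU' x) ∈ i.U' ⊓ i'.U' ⊓ g ⁻¹ᵁ V := ⟨⟨h1, h2⟩, hzV⟩
    obtain ⟨V', hV', hzV', hV'le⟩ := ChartOpens.exists_affine_le h4
    have hVU : V ≤ i.U := hVle.trans inf_le_left
    have hVU2 : V ≤ i'.U := hVle.trans inf_le_right
    have hV'U : V' ≤ i.U' := hV'le.trans (inf_le_left.trans inf_le_left)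
    have hV'U2 : V' ≤ i'.U' := hV'le.trans (inf_le_left.trans inf_le_right)
    have hV'V : V' ≤ g ⁻¹ᵁ V := hV'le.trans inf_le_right
    let k : PairIdx g := ⟨V, hV, V', hV', hV'V⟩
    obtain ⟨y, hy⟩ := exists_ι_eq B V' hV' _ hzV'
    refine ⟨k, y, Spec.map (B.presheaf.map (homOfLE hV'U).op),
      Spec.map (B.presheaf.map (homOfLE hV'U2).op), ?_, ι_res' B i.hU' hV' hV'U,
      ι_res' B i'.hU' hV' hV'U2, pairMap_res u i k hV'U hVU, pairMap_res u i' k hV'U2 hVU2⟩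
    apply (B.ι i.U' i.hU').isOpenEmbedding.injective
    rw [← hy, ← ι_res' B i.hU' hV' hV'U]
    rfl

/-- `Spec(u)` lies over `g` -/
theorem isSpecQMap_comp (h : B.spec ⟶ A.spec) (hh : RelSpec.IsSpecQMap u h) :
    h ≫ A.π = B.π ≫ g := by
  refine hom_ext_of_forall_exists _ _ fun c => ?_
  obtain ⟨i, c', hc'⟩ := exists_pair_chart (g := g) c
  refine ⟨_, B.ι i.U' i.hU', inferInstance, ⟨c', hc'⟩, ?_⟩
  rw [reassoc_of% (hh i.U i.hU i.U' i.hU' i.hle), A.ι_π, reassoc_of% (B.ι_π i.U' i.hU'),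
    ← Spec.map_comp_assoc, u.str_appLE, Spec.map_comp_assoc,
    IsAffineOpen.SpecMap_appLE_fromSpec g i.hU i.hU' i.hle]

end qmap

end Groth.Agent.Lib.Helper74.SpecQ
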