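import Groth.Agent.Lib.Helper74.SpectralLimit

set_option autoImplicit false
universe u

namespace Groth.Agent.Lib.Helper74

open Topology TopologicalSpace Set CategoryTheory CategoryTheory.Limits

variable {J : Type u} [SmallCategory J]

theorem exists_cone_of_finset_arrows [IsCofiltered J] (O₀ : Finset J) (A : Finset (Arrow J)) :
    ∃ (O : Finset J) (k : J) (T : ∀ j, j ∈ O → (k ⟶ j)), O₀ ⊆ O ∧
      ∀ a ∈ A, ∃ (h1 : a.left ∈ O) (h2 : a.right ∈ O), T _ h1 ≫ a.hom = T _ h2 := by
  classical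
  let O : Finset J := O₀ ∪ A.image (fun a => a.left) ∪ A.image (fun a => a.right)
  have hl : ∀ a ∈ A, a.left ∈ O := fun a ha =>
    Finset.mem_union_left _ (Finset.mem_union_right _ (Finset.mem_image_of_mem _ ha))
  have hr : ∀ a ∈ A, a.right ∈ O := fun a ha =>
    Finset.mem_union_right _ (Finset.mem_image_of_mem _ ha)
  let H : Finset (Σ' (X Y : J) (_ : X ∈ O) (_ : Y ∈ O), X ⟶ Y) :=
    A.attach.image (fun a => ⟨a.1.left, a.1.right, hl a.1 a.2, hr a.1 a.2, a.1.hom⟩)
  obtain ⟨S, T, hT⟩ := IsCofiltered.inf_exists O H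
  refine ⟨O, S, fun j hj => T hj, ?_, ?_⟩
  · intro j hj
    exact Finset.mem_union_left _ (Finset.mem_union_left _ hj)
  · intro a ha
    refine ⟨hl a ha, hr a ha, ?_⟩
    apply hT
    exact Finset.mem_image.mpr ⟨⟨a, ha⟩, Finset.mem_attach _ _, rfl⟩

variable (F : J ⥤ TopCat.{u})
  (hF : ∀ j, SpectralSpace (F.obj j))
  (hFm : ∀ {i j : J} (a : i ⟶ j), IsSpectralMap (F.map a : F.obj i → F.obj j))

include hF hFm

theorem exists_cone_of_limitSet_inter_eq_empty [IsCofiltered J] (C : Set (∀ j, F.obj j))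
    (hC : IsClosed[constructibleTopology (∀ j, F.obj j)] C) (hLC : limitSet F ∩ C = ∅)
    (O₀ : Finset J) :
    ∃ (O : Finset J) (k : J) (T : ∀ j, j ∈ O → (k ⟶ j)), O₀ ⊆ O ∧
      ∀ x ∈ C, ∀ w : F.obj k, ¬ (∀ j (hj : j ∈ O), x j = F.map (T j hj) w) := by
  have : SpectralSpace (∀ j, F.obj j) := spectralSpace_pi
  have hCc : @IsCompact _ (constructibleTopology (∀ j, F.obj j)) C :=
    isCompact_cons_of_isClosed_cons hC
  rw [limitSet_eq_iInter, inter_comm] at hLC
  obtain ⟨A, hA⟩ := @IsCompact.elim_finite_subfamily_closed _ (constructibleTopology _) C _ hCc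
    (fun a : Arrow J => {x : ∀ j, F.obj j | F.map a.hom (x a.left) = x a.right})
    (isClosed_cons_eqSet F hF hFm) hLC
  obtain ⟨O, k, T, hO, hT⟩ := exists_cone_of_finset_arrows O₀ A
  refine ⟨O, k, T, hO, ?_⟩
  intro x hx w hw
  have : x ∈ C ∩ ⋂ a ∈ A, {x : ∀ j, F.obj j | F.map a.hom (x a.left) = x a.right} := by
    refine ⟨hx, ?_⟩
    simp only [mem_iInter, mem_ofPred_eq]
    intro a ha
    obtain ⟨h1, h2, h3⟩ := hT a ha
    rw [hw _ h1, hw _ h2, ← h3]
    simp
  rw [hA] at this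
  exact this

theorem exists_mem_limitSet_pi [IsCofiltered J] (Z : ∀ j, Set (F.obj j))
    (hne : ∀ j, (Z j).Nonempty)
    (hZ : ∀ j, IsClosed[constructibleTopology (F.obj j)] (Z j))
    (hmap : ∀ {i j : J} (a : i ⟶ j), Set.MapsTo (F.map a) (Z i) (Z j)) :
    (limitSet F ∩ Set.univ.pi Z).Nonempty := by
  classical
  by_contra hcon
  rw [Set.not_nonempty_iff_eq_empty] at hcon
  obtain ⟨O, k, T, -, hT⟩ := exists_cone_of_limitSet_inter_eq_empty F hF hFm _
    (isClosed_cons_pi F hF Z hZ) hcon ∅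
  obtain ⟨w, hw⟩ := hne k
  choose z hz using hne
  let x : ∀ j, F.obj j := fun j => if h : j ∈ O then F.map (T j h) w else z j
  apply hT x ?_ w ?_
  · intro j _
    by_cases h : j ∈ O
    · simp only [x, dif_pos h]
      exact hmap (T j h) hw
    · simp only [x, dif_neg h]
      exact hz j
  · intro j hj
    simp only [x, dif_pos hj]

theorem exists_forall_proj_mem [IsCofiltered J] (c : Cone F) (hc : IsLimit c)
    (Z : ∀ j, Set (F.obj j)) (hne : ∀ j, (Z j).Nonempty)
    (hZ : ∀ j, IsClosed[constructibleTopology (F.obj j)] (Z j))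
    (hmap : ∀ {i j : J} (a : i ⟶ j), Set.MapsTo (F.map a) (Z i) (Z j)) :
    ∃ x : c.pt, ∀ j, c.π.app j x ∈ Z j := by
  obtain ⟨x, hx1, hx2⟩ := exists_mem_limitSet_pi F hF hFm Z hne hZ hmap
  rw [← range_limitMap F c hc] at hx1
  obtain ⟨y, rfl⟩ := hx1
  exact ⟨y, fun j => hx2 j (mem_univ j)⟩

theorem preimage_subset_preimage_iff [IsCofiltered J] (c : Cone F) (hc : IsLimit c)
    (i : J) (E F' : Set (F.obj i)) (hE : IsClosed[constructibleTopology (F.obj i)] E)
    (hF' : IsOpen[constructibleTopology (F.obj i)] F') :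
    (c.π.app i ⁻¹' E ⊆ c.π.app i ⁻¹' F') ↔
      ∃ (j : J) (a : j ⟶ i), F.map a ⁻¹' E ⊆ F.map a ⁻¹' F' := by
  classical
  constructor
  · intro h
    by_cases hne : ∀ j, Nonempty (F.obj j)
    · have hC : IsClosed[constructibleTopology (∀ j, F.obj j)]
          (Function.eval i ⁻¹' (E ∩ F'ᶜ)) := by
        refine @IsClosed.preimage _ _ (constructibleTopology _) (constructibleTopology _) _
          (continuous_cons_of_isSpectralMap (isSpectralMap_eval i)) _ ?_
        exact isClosed_cons_inter hE (@IsOpen.isClosed_compl _ (constructibleTopology _) _ hF')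
      have hLC : limitSet F ∩ (Function.eval i ⁻¹' (E ∩ F'ᶜ)) = ∅ := by
        rw [Set.eq_empty_iff_forall_notMem]
        rintro x ⟨hx1, hx2, hx3⟩
        rw [← range_limitMap F c hc] at hx1
        obtain ⟨y, rfl⟩ := hx1
        exact hx3 (h hx2)
      obtain ⟨O, k, T, hO, hT⟩ := exists_cone_of_limitSet_inter_eq_empty F hF hFm _ hC hLC {i}
      have hi : i ∈ O := hO (Finset.mem_singleton_self i)
      refine ⟨k, T i hi, ?_⟩
      intro w hw
      by_contra hw'
      let x : ∀ j, F.obj j := fun j =>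
        if h : j ∈ O then F.map (T j h) w else Classical.choice (hne j)
      apply hT x ?_ w ?_
      · change x i ∈ E ∩ F'ᶜ
        simp only [x, dif_pos hi]
        exact ⟨hw, hw'⟩
      · intro j hj
        simp only [x, dif_pos hj]
    · push Not at hne
      obtain ⟨j0, hj0⟩ := hne
      refine ⟨IsCofiltered.min j0 i, IsCofiltered.minToRight j0 i, ?_⟩
      intro w _
      exact (hj0.false (F.map (IsCofiltered.minToLeft j0 i) w)).elim
  · rintro ⟨j, a, h⟩ y hy
    have h1 : c.π.app i y = F.map a (c.π.app j y) := by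
      rw [← c.w a]
      rfl
    rw [mem_preimage, h1] at hy ⊢
    exact h hy

end Groth.Agent.Lib.Helper74
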