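import Groth.Agent.Lib.Helper74.SpectralCofiltered

set_option autoImplicit false
universe u

namespace Groth.Agent.Lib.Helper74

open Topology TopologicalSpace Set CategoryTheory CategoryTheory.Limits

variable {J : Type u} [SmallCategory J] [IsCofiltered J] (F : J ⥤ TopCat.{u})
  (hF : ∀ j, SpectralSpace (F.obj j))
  (hFm : ∀ {i j : J} (a : i ⟶ j), IsSpectralMap (F.map a : F.obj i → F.obj j))
  (c : Cone F)

def Desc (U : Set c.pt) : Prop :=
  ∃ (i : J) (Ui : Set (F.obj i)), IsOpen Ui ∧ IsCompact Ui ∧ c.π.app i ⁻¹' Ui = U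

omit [IsCofiltered J] in
theorem proj_preimage_comp {i j : J} (a : i ⟶ j) (V : Set (F.obj j)) :
    c.π.app i ⁻¹' (F.map a ⁻¹' V) = c.π.app j ⁻¹' V := by
  ext y
  simp only [mem_preimage]
  rw [← c.w a]
  rfl

include hF in
theorem desc_univ : Desc F c Set.univ := by
  obtain ⟨k⟩ := IsCofiltered.nonempty (C := J)
  have := hF k
  exact ⟨k, Set.univ, isOpen_univ, isCompact_univ, Set.preimage_univ⟩

theorem desc_empty : Desc F c ∅ := by
  obtain ⟨k⟩ := IsCofiltered.nonempty (C := J)
  exact ⟨k, ∅, isOpen_empty, isCompact_empty, Set.preimage_empty⟩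

include hF hFm in
theorem desc_inter {U V : Set c.pt} (hU : Desc F c U) (hV : Desc F c V) : Desc F c (U ∩ V) := by
  obtain ⟨i, Ui, hUi1, hUi2, rfl⟩ := hU
  obtain ⟨j, Vj, hVj1, hVj2, rfl⟩ := hV
  have := hF (IsCofiltered.min i j)
  refine ⟨IsCofiltered.min i j, F.map (IsCofiltered.minToLeft i j) ⁻¹' Ui ∩
    F.map (IsCofiltered.minToRight i j) ⁻¹' Vj, ?_, ?_, ?_⟩
  · exact (hUi1.preimage (hFm _).continuous).inter (hVj1.preimage (hFm _).continuous)
  · exact ((hFm _).isCompact_preimage_of_isOpen hUi1 hUi2).inter_of_isOpen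
      ((hFm _).isCompact_preimage_of_isOpen hVj1 hVj2)
      (hUi1.preimage (hFm _).continuous) (hVj1.preimage (hFm _).continuous)
  · rw [Set.preimage_inter, proj_preimage_comp, proj_preimage_comp]

include hFm in
theorem desc_union {U V : Set c.pt} (hU : Desc F c U) (hV : Desc F c V) : Desc F c (U ∪ V) := by
  obtain ⟨i, Ui, hUi1, hUi2, rfl⟩ := hU
  obtain ⟨j, Vj, hVj1, hVj2, rfl⟩ := hV
  refine ⟨IsCofiltered.min i j, F.map (IsCofiltered.minToLeft i j) ⁻¹' Ui ∪
    F.map (IsCofiltered.minToRight i j) ⁻¹' Vj, ?_, ?_, ?_⟩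
  · exact (hUi1.preimage (hFm _).continuous).union (hVj1.preimage (hFm _).continuous)
  · exact ((hFm _).isCompact_preimage_of_isOpen hUi1 hUi2).union
      ((hFm _).isCompact_preimage_of_isOpen hVj1 hVj2)
  · rw [Set.preimage_union, proj_preimage_comp, proj_preimage_comp]

include hF hFm in
theorem desc_biInter {ι : Type*} (s : Finset ι) (U : ι → Set c.pt)
    (hU : ∀ i ∈ s, Desc F c (U i)) : Desc F c (⋂ i ∈ s, U i) := by
  classical
  induction s using Finset.induction_on with
  | empty => simpa using desc_univ F hF c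
  | insert a s _ ih =>
    rw [Finset.set_biInter_insert]
    exact desc_inter F hF hFm c (hU a (Finset.mem_insert_self a s))
      (ih fun i hi => hU i (Finset.mem_insert_of_mem hi))

include hFm in
theorem desc_biUnion {ι : Type*} (s : Finset ι) (U : ι → Set c.pt)
    (hU : ∀ i ∈ s, Desc F c (U i)) : Desc F c (⋃ i ∈ s, U i) := by
  classical
  induction s using Finset.induction_on with
  | empty => simpa using desc_empty F c
  | insert a s _ ih =>
    rw [Finset.set_biUnion_insert]
    exact desc_union F hFm c (hU a (Finset.mem_insert_self a s))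
      (ih fun i hi => hU i (Finset.mem_insert_of_mem hi))

include hF hFm in
theorem isTopologicalBasis_desc (hc : IsLimit c) :
    IsTopologicalBasis {U : Set c.pt | Desc F c U} := by
  apply isTopologicalBasis_of_isOpen_of_nhds
  · rintro U ⟨i, Ui, hUi1, _, rfl⟩
    exact hUi1.preimage (ConcreteCategory.hom (c.π.app i)).continuous
  · intro y O hy hO
    obtain ⟨O', hO', rfl⟩ := (limitMap_isEmbedding F c hc).isInducing.isOpen_iff.mp hO
    obtain ⟨S, ⟨V, G, hV, rfl⟩, hyS, hSO⟩ :=
      (isTopologicalBasis_pi (fun j => PrespectralSpace.isTopologicalBasis (X := F.obj j))).exists_subset_of_mem_open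
        hy hO'
    refine ⟨limitMap F c ⁻¹' ((G : Set J).pi V), ?_, hyS, Set.preimage_mono hSO⟩
    have : limitMap F c ⁻¹' ((G : Set J).pi V) = ⋂ j ∈ G, c.π.app j ⁻¹' V j := by
      ext z
      simp [limitMap, Set.mem_pi]
    rw [mem_ofPred_eq, this]
    apply desc_biInter F hF hFm c
    intro j hj
    exact ⟨j, V j, (hV j hj).1, (hV j hj).2, rfl⟩

include hF hFm in
theorem desc_of_isCompact_isOpen (hc : IsLimit c) {U : Set c.pt} (hU1 : IsOpen U)
    (hU2 : IsCompact U) : Desc F c U := by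
  obtain ⟨S, hS, rfl⟩ := (isTopologicalBasis_desc F hF hFm c hc).open_eq_sUnion hU1
  rw [Set.sUnion_eq_biUnion] at hU2
  obtain ⟨S', hS'1, hS'2, hS'3⟩ := hU2.elim_finite_subcover_image
    (fun V hV => (isTopologicalBasis_desc F hF hFm c hc).isOpen (hS hV)) subset_rfl
  have : ⋃₀ S = ⋃ V ∈ hS'2.toFinset, V := by
    apply Set.Subset.antisymm
    · rw [Set.sUnion_eq_biUnion]
      simpa using hS'3
    · apply Set.iUnion₂_subset
      intro V hV
      exact Set.subset_sUnion_of_mem (hS'1 (hS'2.mem_toFinset.mp hV))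
  rw [this]
  apply desc_biUnion F hFm c
  intro V hV
  exact hS (hS'1 (hS'2.mem_toFinset.mp hV))

end Groth.Agent.Lib.Helper74

namespace Groth.Agent.Lib.Helper74

open Topology TopologicalSpace Set CategoryTheory CategoryTheory.Limits

variable {J : Type u} [SmallCategory J] [IsCofiltered J] (F : J ⥤ TopCat.{u})
  (hF : ∀ j, SpectralSpace (F.obj j))
  (hFm : ∀ {i j : J} (a : i ⟶ j), IsSpectralMap (F.map a : F.obj i → F.obj j))
  (c : Cone F) (hc : IsLimit c)

omit [IsCofiltered J] in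
theorem map_preimage_comp {i j k : J} (a : i ⟶ j) (b : j ⟶ k) (V : Set (F.obj k)) :
    F.map a ⁻¹' (F.map b ⁻¹' V) = F.map (a ≫ b) ⁻¹' V := by
  ext y
  simp

theorem isClopen_cons_of_isCompact_isOpen {X : Type*} [TopologicalSpace X] {U : Set X}
    (hU1 : IsOpen U) (hU2 : IsCompact U) : @IsClopen X (constructibleTopology X) U :=
  ⟨isClosed_cons_of_isCompact_isOpen hU1 hU2, isOpen_cons_of_isCompact_isOpen hU1 hU2⟩

include hF hFm hc in
theorem exists_map_preimage_subset (i j : J) (Ui : Set (F.obj i)) (Uj : Set (F.obj j))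
    (hUi1 : IsOpen Ui) (hUi2 : IsCompact Ui) (hUj1 : IsOpen Uj) (hUj2 : IsCompact Uj)
    (h : c.π.app i ⁻¹' Ui ⊆ c.π.app j ⁻¹' Uj) :
    ∃ (k : J) (a : k ⟶ i) (b : k ⟶ j), F.map a ⁻¹' Ui ⊆ F.map b ⁻¹' Uj := by
  have hE := isClopen_cons_of_isCompact_isOpen
    (hUi1.preimage (hFm (IsCofiltered.minToLeft i j)).continuous)
    ((hFm (IsCofiltered.minToLeft i j)).isCompact_preimage_of_isOpen hUi1 hUi2)
  have hF' := isClopen_cons_of_isCompact_isOpen
    (hUj1.preimage (hFm (IsCofiltered.minToRight i j)).continuous)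
    ((hFm (IsCofiltered.minToRight i j)).isCompact_preimage_of_isOpen hUj1 hUj2)
  have h' : c.π.app (IsCofiltered.min i j) ⁻¹' (F.map (IsCofiltered.minToLeft i j) ⁻¹' Ui) ⊆
      c.π.app (IsCofiltered.min i j) ⁻¹' (F.map (IsCofiltered.minToRight i j) ⁻¹' Uj) := by
    rw [proj_preimage_comp, proj_preimage_comp]
    exact h
  obtain ⟨k, d, hd⟩ := (preimage_subset_preimage_iff F hF hFm c hc _ _ _ hE.1 hF'.2).mp h'
  rw [map_preimage_comp, map_preimage_comp] at hd
  exact ⟨k, _, _, hd⟩

include hF hFm hc in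
theorem exists_map_preimage_eq (i : J) (E F' : Set (F.obj i))
    (hE : @IsClopen _ (constructibleTopology (F.obj i)) E)
    (hF' : @IsClopen _ (constructibleTopology (F.obj i)) F')
    (h : c.π.app i ⁻¹' E = c.π.app i ⁻¹' F') :
    ∃ (j : J) (a : j ⟶ i), F.map a ⁻¹' E = F.map a ⁻¹' F' := by
  obtain ⟨j1, a1, h1⟩ := (preimage_subset_preimage_iff F hF hFm c hc _ _ _ hE.1 hF'.2).mp h.le
  obtain ⟨j2, a2, h2⟩ := (preimage_subset_preimage_iff F hF hFm c hc _ _ _ hF'.1 hE.2).mp h.ge
  obtain ⟨k, g1, g2, hg⟩ := IsCofiltered.cospan a1 a2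
  refine ⟨k, g1 ≫ a1, Set.Subset.antisymm ?_ ?_⟩
  · rw [← map_preimage_comp, ← map_preimage_comp]
    exact Set.preimage_mono h1
  · rw [hg, ← map_preimage_comp, ← map_preimage_comp]
    exact Set.preimage_mono h2

end Groth.Agent.Lib.Helper74

namespace Groth.Agent.Lib.Helper74

open Topology TopologicalSpace Set CategoryTheory CategoryTheory.Limits

theorem isConstructible_preimage_of_isSpectralMap {X Y : Type*} [TopologicalSpace X]
    [TopologicalSpace Y] [QuasiSeparatedSpace X] [CompactSpace Y] {f : X → Y}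
    (hf : IsSpectralMap f) {s : Set Y} (hs : IsConstructible s) : IsConstructible (f ⁻¹' s) :=
  hs.preimage hf.continuous fun _ hs1 hs2 =>
    (hf.isCompact_preimage_of_isOpen hs1 hs2.isCompact).isRetrocompact (hs1.preimage hf.continuous)

variable {J : Type u} [SmallCategory J] [IsCofiltered J] (F : J ⥤ TopCat.{u})
  (hF : ∀ j, SpectralSpace (F.obj j))
  (hFm : ∀ {i j : J} (a : i ⟶ j), IsSpectralMap (F.map a : F.obj i → F.obj j))
  (c : Cone F) (hc : IsLimit c)

include hF hFm hc in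
theorem exists_isConstructible_preimage_eq (E : Set c.pt) (hE : IsConstructible E) :
    ∃ (i : J) (Ei : Set (F.obj i)), IsConstructible Ei ∧ c.π.app i ⁻¹' Ei = E := by
  have hsp : SpectralSpace c.pt := spectralSpace_limit F hF hFm c hc
  induction hE using IsConstructible.empty_union_induction with
  | open_retrocompact U hU1 hU2 =>
    obtain ⟨i, Ui, hUi1, hUi2, rfl⟩ := desc_of_isCompact_isOpen F hF hFm c hc hU1 hU2.isCompact
    have := hF i
    exact ⟨i, Ui, hUi2.isConstructible hUi1, rfl⟩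
  | union s hs t ht hs' ht' =>
    obtain ⟨i, si, hsi, rfl⟩ := hs'
    obtain ⟨j, tj, htj, rfl⟩ := ht'
    have := hF i
    have := hF j
    have := hF (IsCofiltered.min i j)
    refine ⟨IsCofiltered.min i j, F.map (IsCofiltered.minToLeft i j) ⁻¹' si ∪
      F.map (IsCofiltered.minToRight i j) ⁻¹' tj, ?_, ?_⟩
    · exact (isConstructible_preimage_of_isSpectralMap (hFm _) hsi).union
        (isConstructible_preimage_of_isSpectralMap (hFm _) htj)
    · rw [Set.preimage_union, proj_preimage_comp, proj_preimage_comp]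
  | compl s hs hs' =>
    obtain ⟨i, si, hsi, rfl⟩ := hs'
    exact ⟨i, siᶜ, hsi.compl, Set.preimage_compl⟩

include hF hFm hc in
theorem exists_isConstructible_isOpen_preimage_eq (E : Set c.pt) (hE : IsConstructible E)
    (hEo : IsOpen E) :
    ∃ (i : J) (Ei : Set (F.obj i)), IsConstructible Ei ∧ IsOpen Ei ∧ c.π.app i ⁻¹' Ei = E := by
  have hsp : SpectralSpace c.pt := spectralSpace_limit F hF hFm c hc
  have hEc : IsCompact E := isCompact_of_isClosed_cons (isClopen_cons_of_isConstructible hE).1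
  obtain ⟨i, Ui, hUi1, hUi2, rfl⟩ := desc_of_isCompact_isOpen F hF hFm c hc hEo hEc
  have := hF i
  exact ⟨i, Ui, hUi2.isConstructible hUi1, hUi1, rfl⟩

include hF hFm hc in
theorem exists_isConstructible_isClosed_preimage_eq (E : Set c.pt) (hE : IsConstructible E)
    (hEc : IsClosed E) :
    ∃ (i : J) (Ei : Set (F.obj i)), IsConstructible Ei ∧ IsClosed Ei ∧ c.π.app i ⁻¹' Ei = E := by
  obtain ⟨i, Ui, hUi1, hUi2, hUi3⟩ :=
    exists_isConstructible_isOpen_preimage_eq F hF hFm c hc Eᶜ hE.compl hEc.isOpen_compl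
  refine ⟨i, Uiᶜ, hUi1.compl, hUi2.isClosed_compl, ?_⟩
  rw [Set.preimage_compl, hUi3, compl_compl]

end Groth.Agent.Lib.Helper74
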