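import Groth.Agent.Lib.Helper74.SpectralLimit
import Mathlib.Topology.NoetherianSpace

set_option autoImplicit false
universe u

namespace Groth.Agent.Lib.Helper74

open Topology TopologicalSpace Set CategoryTheory CategoryTheory.Limits

theorem spectralSpace_of_finite (X : Type*) [TopologicalSpace X] [Finite X] [T0Space X]
    [QuasiSober X] : SpectralSpace X :=
  { toT0Space := inferInstance
    toCompactSpace := inferInstance
    toQuasiSober := inferInstance
    toQuasiSeparatedSpace := inferInstance
    toPrespectralSpace := inferInstance }

theorem isSpectralMap_of_finite {X Y : Type*} [TopologicalSpace X] [TopologicalSpace Y] [Finite X]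
    {f : X → Y} (hf : Continuous f) : IsSpectralMap f :=
  ⟨hf, fun _ _ _ => (Set.toFinite _).isCompact⟩

theorem spectralSpace_of_isLimit_finite_sober {J : Type u} [SmallCategory J]
    (F : J ⥤ TopCat.{u})
    (hF : ∀ j : J, Finite (F.obj j) ∧ T0Space (F.obj j) ∧ QuasiSober (F.obj j))
    (c : Cone F) (hc : IsLimit c) :
    SpectralSpace c.pt := by
  apply spectralSpace_limit F ?_ ?_ c hc
  · intro j
    obtain ⟨h1, h2, h3⟩ := hF j
    exact spectralSpace_of_finite _
  · intro i j a
    obtain ⟨h1, h2, h3⟩ := hF i
    exact isSpectralMap_of_finite (ConcreteCategory.hom (F.map a)).continuous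

end Groth.Agent.Lib.Helper74
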