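import Groth.Agent.Lib.Helper74.SpectralSierpinski
import Mathlib.Topology.Category.TopCat.Limits.Basic

set_option autoImplicit false
universe u

namespace Groth.Agent.Lib.Helper74

open Topology TopologicalSpace Set CategoryTheory CategoryTheory.Limits

section

variable (X : Type u) [TopologicalSpace X]

abbrev CO : Type u := {U : Set X // IsOpen U ∧ IsCompact U}

variable {X}

def fU (𝒰 : Finset (CO X)) : X → (𝒰 → Prop) := fun x U => x ∈ U.1.1

abbrev XU (𝒰 : Finset (CO X)) : Type u := Set.range (fU 𝒰)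

def resU {𝒰 𝒱 : Finset (CO X)} (h : 𝒰 ≤ 𝒱) : XU 𝒱 → XU 𝒰 := fun p =>
  ⟨fun U => p.1 ⟨U.1, h U.2⟩, by
    obtain ⟨x, hx⟩ := p.2
    exact ⟨x, by funext U; rw [← hx]; rfl⟩⟩

theorem continuous_resU {𝒰 𝒱 : Finset (CO X)} (h : 𝒰 ≤ 𝒱) : Continuous (resU h) := by
  apply Continuous.subtype_mk
  apply continuous_pi
  intro U
  exact (continuous_apply _).comp continuous_subtype_val

variable (X)

def hochsterFunctor : (Finset (CO X))ᵒᵖ ⥤ TopCat.{u} where
  obj 𝒰 := TopCat.of (XU 𝒰.unop)
  map g := TopCat.ofHom ⟨resU (leOfHom g.unop), continuous_resU _⟩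
  map_id _ := rfl
  map_comp _ _ := rfl

def hochsterMap (x : X) : (TopCat.limitCone.{u, u} (hochsterFunctor X)).pt :=
  ⟨fun 𝒰 => ⟨fU 𝒰.unop x, mem_range_self x⟩, fun _ => rfl⟩

theorem hochsterFunctor_obj_props (j : (Finset (CO X))ᵒᵖ) :
    Finite ((hochsterFunctor X).obj j) ∧ T0Space ((hochsterFunctor X).obj j) ∧
      QuasiSober ((hochsterFunctor X).obj j) := by
  have h1 : Finite (XU j.unop) := inferInstance
  have : T0Space Prop := t0Space_Prop
  have h2 : T0Space (XU j.unop) := inferInstance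
  have h3 : QuasiSober (XU j.unop) := quasiSober_of_finite _
  exact ⟨h1, h2, h3⟩

theorem continuous_hochsterMap : Continuous (hochsterMap X) := by
  apply Continuous.subtype_mk
  apply continuous_pi
  intro 𝒰
  apply Continuous.subtype_mk
  apply continuous_pi
  intro U
  exact continuous_Prop.2 U.1.2.1

theorem isInducing_hochsterMap [PrespectralSpace X] : IsInducing (hochsterMap X) := by
  refine ⟨le_antisymm (continuous_hochsterMap X).le_induced ?_⟩
  intro O hO
  obtain ⟨S, hS, rfl⟩ := PrespectralSpace.isTopologicalBasis.open_eq_sUnion hO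
  refine @isOpen_sUnion X (induced (hochsterMap X) inferInstance) S ?_
  intro s hs
  rw [isOpen_induced_iff]
  let s' : CO X := ⟨s, hS hs⟩
  refine ⟨(fun u : (TopCat.limitCone.{u, u} (hochsterFunctor X)).pt =>
      (u.1 (Opposite.op {s'})).1 ⟨s', Finset.mem_singleton_self s'⟩) ⁻¹' {True}, ?_, ?_⟩
  · apply isOpen_singleton_true.preimage
    have h1 : Continuous (fun u : (TopCat.limitCone.{u, u} (hochsterFunctor X)).pt =>
        u.1 (Opposite.op {s'})) :=
      (continuous_apply (A := fun j => (hochsterFunctor X).obj j) (Opposite.op {s'})).comp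
        continuous_subtype_val
    have h2 : Continuous (fun u : (TopCat.limitCone.{u, u} (hochsterFunctor X)).pt =>
        (u.1 (Opposite.op {s'})).1) := continuous_subtype_val.comp h1
    exact (continuous_apply _).comp h2
  · ext x
    simp only [mem_preimage, mem_singleton_iff, eq_iff_iff, iff_true]
    rfl

theorem injective_hochsterMap [T0Space X] [PrespectralSpace X] :
    Function.Injective (hochsterMap X) := by
  intro x y hxy
  by_contra hne
  obtain ⟨U, hU1, hU2, h⟩ := exists_isCompact_isOpen_mem_not_mem hne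
  let U' : CO X := ⟨U, hU1, hU2⟩
  have h1 : ((hochsterMap X x).1 (Opposite.op {U'})).1 ⟨U', Finset.mem_singleton_self U'⟩ =
      ((hochsterMap X y).1 (Opposite.op {U'})).1 ⟨U', Finset.mem_singleton_self U'⟩ := by
    rw [hxy]
  have h2 : (x ∈ U) = (y ∈ U) := h1
  rw [eq_iff_iff] at h2
  tauto

theorem surjective_hochsterMap [SpectralSpace X] : Function.Surjective (hochsterMap X) := by
  classical
  intro u
  let Z : Finset (CO X) → Set X := fun 𝒰 => {x | fU 𝒰 x = (u.1 (Opposite.op 𝒰)).1}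
  have hZ : ∀ 𝒰, Z 𝒰 = ⋂ U : 𝒰, {x | (x ∈ U.1.1) = (u.1 (Opposite.op 𝒰)).1 U} := by
    intro 𝒰
    ext x
    simp only [Z, mem_ofPred_eq, mem_iInter]
    constructor
    · intro h U
      rw [← h]
      rfl
    · intro h
      funext U
      exact h U
  have hcompat : ∀ {𝒰 𝒱 : Finset (CO X)} (h : 𝒰 ≤ 𝒱),
      resU h (u.1 (Opposite.op 𝒱)) = u.1 (Opposite.op 𝒰) := by
    intro 𝒰 𝒱 h
    exact u.2 (homOfLE h).op
  have hne : (⋂ 𝒰, Z 𝒰).Nonempty := by
    apply nonempty_iInter_of_directed_cons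
    · intro 𝒰 𝒱
      refine ⟨𝒰 ∪ 𝒱, ?_, ?_⟩
      · intro x hx
        simp only [Z, mem_ofPred_eq] at hx ⊢
        rw [← hcompat (Finset.subset_union_left : 𝒰 ≤ 𝒰 ∪ 𝒱)]
        funext U
        change fU (𝒰 ∪ 𝒱) x ⟨U.1, Finset.mem_union_left _ U.2⟩ = _
        rw [hx]
        rfl
      · intro x hx
        simp only [Z, mem_ofPred_eq] at hx ⊢
        rw [← hcompat (Finset.subset_union_right : 𝒱 ≤ 𝒰 ∪ 𝒱)]
        funext U
        change fU (𝒰 ∪ 𝒱) x ⟨U.1, Finset.mem_union_right _ U.2⟩ = _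
        rw [hx]
        rfl
    · intro 𝒰
      obtain ⟨x, hx⟩ := (u.1 (Opposite.op 𝒰)).2
      exact ⟨x, hx⟩
    · intro 𝒰
      rw [hZ]
      refine @isClosed_iInter _ _ (constructibleTopology X) _ fun U => ?_
      by_cases hU : (u.1 (Opposite.op 𝒰)).1 U
      · have : {x | (x ∈ U.1.1) = (u.1 (Opposite.op 𝒰)).1 U} = U.1.1 := by
          ext x
          simp [hU]
        rw [this]
        exact isClosed_cons_of_isCompact_isOpen U.1.2.1 U.1.2.2
      · have : {x | (x ∈ U.1.1) = (u.1 (Opposite.op 𝒰)).1 U} = U.1.1ᶜ := by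
          ext x
          simp [hU]
        rw [this]
        exact isClosed_cons_of_isClosed U.1.2.1.isClosed_compl
  obtain ⟨x, hx⟩ := hne
  rw [mem_iInter] at hx
  refine ⟨x, ?_⟩
  apply Subtype.ext
  funext 𝒰
  apply Subtype.ext
  exact hx 𝒰.unop

noncomputable def hochsterHomeo [SpectralSpace X] :
    X ≃ₜ (TopCat.limitCone.{u, u} (hochsterFunctor X)).pt :=
  IsEmbedding.toHomeomorphOfSurjective ⟨isInducing_hochsterMap X, injective_hochsterMap X⟩
    (surjective_hochsterMap X)

theorem exists_isLimit_finite_sober_of_spectralSpace [SpectralSpace X] :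
    ∃ (J : Type u) (_ : Preorder J) (_ : Nonempty J) (_ : IsDirected J (· ≤ ·))
      (F : Jᵒᵖ ⥤ TopCat.{u}) (c : Cone F), Nonempty (IsLimit c) ∧
        (∀ j : Jᵒᵖ, Finite (F.obj j) ∧ T0Space (F.obj j) ∧ QuasiSober (F.obj j)) ∧
        Nonempty (c.pt ≅ TopCat.of X) :=
  ⟨Finset (CO X), inferInstance, inferInstance, inferInstance, hochsterFunctor X,
    TopCat.limitCone.{u, u} (hochsterFunctor X), ⟨TopCat.limitConeIsLimit.{u, u} _⟩,
    hochsterFunctor_obj_props X,
    ⟨(TopCat.isoOfHomeo (X := TopCat.of X) (hochsterHomeo X)).symm⟩⟩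

end

end Groth.Agent.Lib.Helper74
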