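import Groth.Agent.Lib.Helper74.SpectralPi
import Mathlib.Topology.Category.TopCat.Limits.Basic
import Mathlib.CategoryTheory.Filtered.Basic

set_option autoImplicit false
universe u

namespace Groth.Agent.Lib.Helper74

open Topology TopologicalSpace Set CategoryTheory CategoryTheory.Limits

variable {J : Type u} [SmallCategory J] (F : J ⥤ TopCat.{u})

def limitMap (c : Cone F) : c.pt → ∀ j, F.obj j := fun y j => c.π.app j y

def limitSet : Set (∀ j, F.obj j) := {x | ∀ {i j : J} (a : i ⟶ j), F.map a (x i) = x j}

theorem limitMap_isEmbedding_and_range (c : Cone F) (hc : IsLimit c) :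
    IsEmbedding (limitMap F c) ∧ Set.range (limitMap F c) = limitSet F := by
  let e := hc.conePointUniqueUpToIso (TopCat.limitConeIsLimit.{u,u} F)
  have he : ∀ (j : J) (y : c.pt), ((e.hom y).val j) = c.π.app j y := by
    intro j y
    have := IsLimit.conePointUniqueUpToIso_hom_comp hc (TopCat.limitConeIsLimit.{u,u} F) j
    rw [← this]
    rfl
  have hφ : limitMap F c = Subtype.val ∘ (TopCat.homeoOfIso e) := by
    funext y j
    exact (he j y).symm
  constructor
  · rw [hφ]
    exact IsEmbedding.subtypeVal.comp (TopCat.homeoOfIso e).isEmbedding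
  · ext x
    constructor
    · rintro ⟨y, rfl⟩ i j a
      dsimp only [limitMap]
      rw [← c.w a]
      rfl
    · intro hx
      refine ⟨e.inv ⟨x, hx⟩, ?_⟩
      funext j
      dsimp only [limitMap]
      rw [← he]
      have : e.hom (e.inv ⟨x, hx⟩) = ⟨x, hx⟩ := by
        rw [← TopCat.comp_app]
        simp
      rw [this]

theorem limitMap_isEmbedding (c : Cone F) (hc : IsLimit c) : IsEmbedding (limitMap F c) :=
  (limitMap_isEmbedding_and_range F c hc).1

theorem range_limitMap (c : Cone F) (hc : IsLimit c) : Set.range (limitMap F c) = limitSet F :=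
  (limitMap_isEmbedding_and_range F c hc).2

theorem limitSet_eq_iInter :
    limitSet F = ⋂ a : Arrow J, {x | F.map a.hom (x a.left) = x a.right} := by
  ext x
  simp only [limitSet, mem_ofPred_eq, mem_iInter]
  constructor
  · intro h a
    exact h a.hom
  · intro h i j a
    exact h (Arrow.mk a)

section Spectral

variable (hF : ∀ j, SpectralSpace (F.obj j))
  (hFm : ∀ {i j : J} (a : i ⟶ j), IsSpectralMap (F.map a : F.obj i → F.obj j))

include hF hFm

theorem isClosed_cons_eqSet (a : Arrow J) :
    IsClosed[constructibleTopology (∀ j, F.obj j)] {x | F.map a.hom (x a.left) = x a.right} := by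
  have h1 : IsSpectralMap (fun x : ∀ j, F.obj j => F.map a.hom (x a.left)) :=
    (hFm a.hom).comp (isSpectralMap_eval a.left)
  have h2 : IsSpectralMap (fun x : ∀ j, F.obj j => x a.right) := isSpectralMap_eval a.right
  exact @isClosed_eq (F.obj a.right) (∀ j, F.obj j) (constructibleTopology _)
    (constructibleTopology _) t2Space_cons _ _
    (continuous_cons_of_isSpectralMap h1) (continuous_cons_of_isSpectralMap h2)

theorem isClosed_cons_limitSet :
    IsClosed[constructibleTopology (∀ j, F.obj j)] (limitSet F) := by
  rw [limitSet_eq_iInter]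
  exact @isClosed_iInter _ _ (constructibleTopology _) _ (isClosed_cons_eqSet F hF hFm)

theorem spectralSpace_limit (c : Cone F) (hc : IsLimit c) : SpectralSpace c.pt := by
  have : SpectralSpace (∀ j, F.obj j) := spectralSpace_pi
  apply spectralSpace_of_isEmbedding_of_isClosed_cons_range (limitMap_isEmbedding F c hc)
  rw [range_limitMap F c hc]
  exact isClosed_cons_limitSet F hF hFm

theorem isSpectralMap_limitMap (c : Cone F) (hc : IsLimit c) : IsSpectralMap (limitMap F c) := by
  have : SpectralSpace (∀ j, F.obj j) := spectralSpace_pi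
  apply isSpectralMap_of_isInducing_of_isClosed_cons_range (limitMap_isEmbedding F c hc).isInducing
  rw [range_limitMap F c hc]
  exact isClosed_cons_limitSet F hF hFm

theorem isSpectralMap_proj (c : Cone F) (hc : IsLimit c) (j : J) :
    IsSpectralMap (c.π.app j : c.pt → F.obj j) :=
  (isSpectralMap_eval j).comp (isSpectralMap_limitMap F hF hFm c hc)

omit hFm in
theorem isClosed_cons_pi (Z : ∀ j, Set (F.obj j))
    (hZ : ∀ j, IsClosed[constructibleTopology (F.obj j)] (Z j)) :
    IsClosed[constructibleTopology (∀ j, F.obj j)] (Set.univ.pi Z) := by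
  have : Set.univ.pi Z = ⋂ j, (Function.eval j) ⁻¹' (Z j) := by
    ext x
    simp
  rw [this]
  refine @isClosed_iInter _ _ (constructibleTopology _) _ (fun j => ?_)
  exact @IsClosed.preimage _ _ (constructibleTopology _) (constructibleTopology _) _
    (continuous_cons_of_isSpectralMap (isSpectralMap_eval j)) _ (hZ j)

theorem isCompact_limit_of_isClosed_cons (c : Cone F) (hc : IsLimit c)
    (Z : ∀ j, Set (F.obj j)) (hZ : ∀ j, IsClosed[constructibleTopology (F.obj j)] (Z j)) :
    IsCompact {x : c.pt | ∀ j, c.π.app j x ∈ Z j} := by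
  have : SpectralSpace (∀ j, F.obj j) := spectralSpace_pi
  have h1 : IsCompact (limitSet F ∩ Set.univ.pi Z) :=
    isCompact_of_isClosed_cons
      (isClosed_cons_inter (isClosed_cons_limitSet F hF hFm) (isClosed_cons_pi F hF Z hZ))
  have h2 : {x : c.pt | ∀ j, c.π.app j x ∈ Z j} = limitMap F c ⁻¹' (limitSet F ∩ Set.univ.pi Z) := by
    ext y
    simp only [mem_ofPred_eq, mem_preimage, mem_inter_iff, mem_univ_pi]
    constructor
    · intro h
      refine ⟨?_, h⟩
      rw [← range_limitMap F c hc]
      exact ⟨y, rfl⟩
    · intro h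
      exact h.2
  rw [h2]
  apply (limitMap_isEmbedding F c hc).isInducing.isCompact_preimage' h1
  rw [range_limitMap F c hc]
  exact inter_subset_left

end Spectral

end Groth.Agent.Lib.Helper74
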