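import Groth.Agent.Lib.Helper74.Spectral

set_option autoImplicit false
universe u v

namespace Groth.Agent.Lib.Helper74

open Topology TopologicalSpace Set

variable {ι : Type u} {X : ι → Type v} [∀ i, TopologicalSpace (X i)]

theorem isCompact_set_pi [∀ i, CompactSpace (X i)] {s : Set ι} {t : ∀ i, Set (X i)}
    (h : ∀ i ∈ s, IsCompact (t i)) : IsCompact (s.pi t) := by
  classical
  rw [← Set.univ_pi_ite]
  apply isCompact_univ_pi
  intro i
  split_ifs with hi
  · exact h i hi
  · exact isCompact_univ

theorem isSpectralMap_eval [∀ i, CompactSpace (X i)] (i : ι) :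
    IsSpectralMap (Function.eval i : (∀ i, X i) → X i) := by
  refine ⟨continuous_apply i, fun U _ hU2 => ?_⟩
  classical
  have : Function.eval i ⁻¹' U = ({i} : Set ι).pi (fun j => if h : j = i then h ▸ U else Set.univ) := by
    rw [Set.singleton_pi]
    simp
  rw [this]
  apply isCompact_set_pi
  intro j hj
  rw [Set.mem_singleton_iff] at hj
  subst hj
  simpa using hU2

theorem prespectralSpace_pi [∀ i, CompactSpace (X i)] [∀ i, PrespectralSpace (X i)] :
    PrespectralSpace (∀ i, X i) := by
  refine PrespectralSpace.of_isTopologicalBasis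
    (isTopologicalBasis_pi (fun i => PrespectralSpace.isTopologicalBasis (X := X i))) ?_
  rintro S ⟨U, F, hU, rfl⟩
  exact isCompact_set_pi fun i hi => (hU i hi).2

theorem quasiSeparatedSpace_pi [∀ i, CompactSpace (X i)] [∀ i, PrespectralSpace (X i)]
    [∀ i, QuasiSeparatedSpace (X i)] : QuasiSeparatedSpace (∀ i, X i) := by
  classical
  let J := {p : (∀ i, Set (X i)) × Finset ι // ∀ i ∈ p.2, IsOpen (p.1 i) ∧ IsCompact (p.1 i)}
  let b : J → Set (∀ i, X i) := fun p => (p.1.2 : Set ι).pi p.1.1
  have hb : IsTopologicalBasis (Set.range b) := by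
    convert isTopologicalBasis_pi (fun i => PrespectralSpace.isTopologicalBasis (X := X i)) using 1
    ext S
    constructor
    · rintro ⟨p, rfl⟩
      exact ⟨p.1.1, p.1.2, p.2, rfl⟩
    · rintro ⟨U, F, hU, rfl⟩
      exact ⟨⟨⟨U, F⟩, hU⟩, rfl⟩
  refine QuasiSeparatedSpace.of_isTopologicalBasis hb ?_
  intro p q
  have : b p ∩ b q = Set.univ.pi (fun i => (if i ∈ (p.1.2 : Set ι) then p.1.1 i else Set.univ) ∩
      (if i ∈ (q.1.2 : Set ι) then q.1.1 i else Set.univ)) := by
    rw [Set.pi_inter_distrib, Set.univ_pi_ite, Set.univ_pi_ite]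
  rw [this]
  apply isCompact_univ_pi
  intro i
  by_cases h1 : i ∈ (p.1.2 : Set ι) <;> by_cases h2 : i ∈ (q.1.2 : Set ι)
  · simp only [h1, h2, if_true]
    exact (p.2 i h1).2.inter_of_isOpen (q.2 i h2).2 (p.2 i h1).1 (q.2 i h2).1
  · simp only [h1, h2, if_true, if_false, Set.inter_univ]
    exact (p.2 i h1).2
  · simp only [h1, h2, if_true, if_false, Set.univ_inter]
    exact (q.2 i h2).2
  · simp only [h1, h2, if_false, Set.inter_univ]
    exact isCompact_univ

theorem quasiSober_pi [∀ i, QuasiSober (X i)] : QuasiSober (∀ i, X i) := by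
  classical
  rw [quasiSober_iff]
  intro Z hZi hZc
  have h1 : ∀ i, ∃ η : X i, IsGenericPoint η (closure (Function.eval i '' Z)) := fun i =>
    QuasiSober.sober (hZi.image _ (continuous_apply i).continuousOn).closure isClosed_closure
  choose η hη using h1
  refine ⟨η, ?_⟩
  rw [isGenericPoint_def]
  have hcl : closure ({η} : Set (∀ i, X i)) = Set.univ.pi fun i => closure {η i} := by
    rw [← closure_pi_set, Set.univ_pi_singleton]
  apply Set.Subset.antisymm
  · apply (hZc.closure_subset_iff).mpr
    rw [Set.singleton_subset_iff]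
    by_contra hηZ
    obtain ⟨S, ⟨U, F, hU, rfl⟩, hηS, hSZ⟩ :=
      (isTopologicalBasis_pi (fun i => isTopologicalBasis_opens (α := X i))).exists_subset_of_mem_open
        (show η ∈ Zᶜ from hηZ) hZc.isOpen_compl
    have h2 := isIrreducible_iff_sInter.mp hZi (F.image fun i => Function.eval i ⁻¹' U i)
      (by
        intro u hu
        rw [Finset.mem_image] at hu
        obtain ⟨i, hi, rfl⟩ := hu
        exact (hU i hi).preimage (continuous_apply i))
      (by
        intro u hu
        rw [Finset.mem_image] at hu
        obtain ⟨i, hi, rfl⟩ := hu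
        have h3 : η i ∈ closure (Function.eval i '' Z) := (hη i).mem
        obtain ⟨_, hz1, ⟨z, hz, rfl⟩⟩ := mem_closure_iff.mp h3 (U i) (hU i hi) (hηS i hi)
        exact ⟨z, hz, hz1⟩)
    obtain ⟨z, hzZ, hz⟩ := h2
    apply hSZ _ hzZ
    intro i hi
    rw [Set.mem_sInter] at hz
    exact hz _ (Finset.mem_coe.mpr (Finset.mem_image.mpr ⟨i, hi, rfl⟩))
  · rw [hcl]
    intro z hz i _
    change z i ∈ closure {η i}
    rw [(hη i).def]
    exact subset_closure ⟨z, hz, rfl⟩

theorem spectralSpace_pi [∀ i, SpectralSpace (X i)] : SpectralSpace (∀ i, X i) :=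
  { toT0Space := inferInstance
    toCompactSpace := inferInstance
    toQuasiSober := quasiSober_pi
    toQuasiSeparatedSpace := quasiSeparatedSpace_pi
    toPrespectralSpace := prespectralSpace_pi }

end Groth.Agent.Lib.Helper74

namespace Groth.Agent.Lib.Helper74

open Topology TopologicalSpace Set

theorem spectralSpace_of_homeomorph {A : Type*} {B : Type*} [TopologicalSpace A]
    [TopologicalSpace B] (e : A ≃ₜ B) [SpectralSpace A] : SpectralSpace B := by
  have : CompactSpace B := e.compactSpace
  exact e.symm.isOpenEmbedding.spectralSpace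

def fam2 (A B : Type u) : Bool → Type u
  | true => A
  | false => B

@[reducible] def fam2Top (A B : Type u) [tA : TopologicalSpace A] [tB : TopologicalSpace B] :
    ∀ b, TopologicalSpace (fam2 A B b)
  | true => tA
  | false => tB

theorem fam2Spectral (A B : Type u) [TopologicalSpace A] [TopologicalSpace B]
    [hA : SpectralSpace A] [hB : SpectralSpace B] :
    ∀ b, @SpectralSpace (fam2 A B b) (fam2Top A B b)
  | true => hA
  | false => hB

def fam2Homeo (A B : Type u) [TopologicalSpace A] [TopologicalSpace B] :
    @Homeomorph (∀ b, fam2 A B b) (A × B) (@Pi.topologicalSpace _ _ (fam2Top A B)) _ :=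
  letI := fam2Top A B
  { toFun := fun f => (f true, f false)
    invFun := fun p b => match b with
      | true => p.1
      | false => p.2
    left_inv := by
      intro f
      funext b
      cases b <;> rfl
    right_inv := by
      intro p
      rfl
    continuous_toFun := by
      exact (continuous_apply true).prodMk (continuous_apply false)
    continuous_invFun := by
      apply continuous_pi
      intro b
      cases b
      · exact continuous_snd
      · exact continuous_fst }

theorem spectralSpace_prod (A B : Type u) [TopologicalSpace A] [TopologicalSpace B]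
    [SpectralSpace A] [SpectralSpace B] : SpectralSpace (A × B) := by
  let _ := fam2Top A B
  have := fam2Spectral A B
  have : SpectralSpace (∀ b, fam2 A B b) := spectralSpace_pi
  exact spectralSpace_of_homeomorph (fam2Homeo A B)

end Groth.Agent.Lib.Helper74
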