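import Groth.Agent.Lib.Helper74.SpectralPi
import Mathlib.Topology.NoetherianSpace

set_option autoImplicit false
universe u v

namespace Groth.Agent.Lib.Helper74

open Topology TopologicalSpace Set

theorem quasiSober_of_finite (X : Type*) [TopologicalSpace X] [Finite X] : QuasiSober X := by
  classical
  rw [quasiSober_iff]
  intro Z hZi hZc
  have hfin : Z.Finite := Set.toFinite Z
  have hcov : Z ⊆ ⋃₀ ↑(hfin.toFinset.image fun z => closure ({z} : Set X)) := by
    intro z hz
    refine ⟨closure {z}, ?_, subset_closure (mem_singleton z)⟩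
    rw [Finset.mem_coe, Finset.mem_image]
    exact ⟨z, hfin.mem_toFinset.mpr hz, rfl⟩
  obtain ⟨W, hW, hZW⟩ := isIrreducible_iff_sUnion_isClosed.mp hZi _ (by
    intro W hW
    rw [Finset.mem_image] at hW
    obtain ⟨z, _, rfl⟩ := hW
    exact isClosed_closure) hcov
  rw [Finset.mem_image] at hW
  obtain ⟨z, hz, rfl⟩ := hW
  refine ⟨z, ?_⟩
  rw [isGenericPoint_def]
  apply Set.Subset.antisymm _ hZW
  exact hZc.closure_subset_iff.mpr (singleton_subset_iff.mpr (hfin.mem_toFinset.mp hz))

theorem t0Space_Prop : T0Space Prop := by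
  rw [t0Space_iff_exists_isOpen_xor_mem]
  intro p q hpq
  refine ⟨{True}, isOpen_singleton_true, ?_⟩
  simp only [mem_singleton_iff, eq_iff_iff, iff_true]
  by_cases hp : p
  · left
    refine ⟨hp, fun hq => hpq ?_⟩
    simp [hp, hq]
  · right
    refine ⟨?_, hp⟩
    by_contra hq
    apply hpq
    simp [hp, hq]

theorem spectralSpace_Prop : SpectralSpace Prop :=
  { toT0Space := t0Space_Prop
    toCompactSpace := inferInstance
    toQuasiSober := quasiSober_of_finite Prop
    toQuasiSeparatedSpace := inferInstance
    toPrespectralSpace := inferInstance }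

theorem eq_univ_of_isOpen_Prop_of_false_mem {V : Set Prop} (hV : IsOpen V) (h : False ∈ V) :
    V = Set.univ := by
  have := hV.mem_nhds h
  rw [nhds_false] at this
  exact Filter.mem_top.mp this

theorem isSpectralMap_mem {X : Type*} [TopologicalSpace X] [CompactSpace X] {U : Set X}
    (hU1 : IsOpen U) (hU2 : IsCompact U) : IsSpectralMap (fun x => x ∈ U) := by
  refine ⟨continuous_Prop.2 hU1, fun V hV _ => ?_⟩
  by_cases hF : False ∈ V
  · rw [eq_univ_of_isOpen_Prop_of_false_mem hV hF, preimage_univ]
    exact isCompact_univ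
  · by_cases hT : True ∈ V
    · have : (fun x => x ∈ U) ⁻¹' V = U := by
        ext x
        simp only [mem_preimage]
        constructor
        · intro hx
          by_contra hxU
          apply hF
          convert hx
          simp [hxU]
        · intro hx
          convert hT
          simp [hx]
      rw [this]
      exact hU2
    · have : (fun x => x ∈ U) ⁻¹' V = ∅ := by
        ext x
        simp only [mem_preimage, mem_empty_iff_false, iff_false]
        intro hx
        by_cases hxU : x ∈ U
        · apply hT
          convert hx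
          simp [hxU]
        · apply hF
          convert hx
          simp [hxU]
      rw [this]
      exact isCompact_empty

theorem isSpectralMap_pi {X : Type*} [TopologicalSpace X] [CompactSpace X]
    [QuasiSeparatedSpace X] {ι : Type*} {Y : ι → Type*} [∀ i, TopologicalSpace (Y i)]
    [∀ i, CompactSpace (Y i)] [∀ i, PrespectralSpace (Y i)]
    (g : X → ∀ i, Y i) (hg : ∀ i, IsSpectralMap (fun x => g x i)) : IsSpectralMap g := by
  classical
  refine ⟨continuous_pi fun i => (hg i).continuous, fun W hW1 hW2 => ?_⟩
  obtain ⟨S, hS, rfl⟩ := (isTopologicalBasis_pi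
    (fun i => PrespectralSpace.isTopologicalBasis (X := Y i))).open_eq_sUnion hW1
  rw [Set.sUnion_eq_biUnion] at hW2
  obtain ⟨S', hS'1, hS'2, hS'3⟩ := hW2.elim_finite_subcover_image
    (fun V hV => by
      obtain ⟨U, G, hU, rfl⟩ := hS hV
      exact isOpen_set_pi G.finite_toSet fun i hi => (hU i hi).1) subset_rfl
  have : ⋃₀ S = ⋃ V ∈ S', V := by
    apply Set.Subset.antisymm
    · rw [Set.sUnion_eq_biUnion]
      exact hS'3
    · apply Set.iUnion₂_subset
      intro V hV
      exact Set.subset_sUnion_of_mem (hS'1 hV)
  rw [this, Set.preimage_iUnion₂]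
  apply hS'2.isCompact_biUnion
  intro V hV
  obtain ⟨U, G, hU, rfl⟩ := hS (hS'1 hV)
  have h2 : g ⁻¹' ((G : Set ι).pi U) = ⋂ i ∈ G, (fun x => g x i) ⁻¹' U i := by
    ext x
    simp [Set.mem_pi]
  rw [h2]
  have h3 : ∀ (G' : Finset ι), (∀ i ∈ G', i ∈ G) →
      IsCompact (⋂ i ∈ G', (fun x => g x i) ⁻¹' U i) ∧
      IsOpen (⋂ i ∈ G', (fun x => g x i) ⁻¹' U i) := by
    intro G'
    induction G' using Finset.induction_on with
    | empty =>
      intro _
      simp only [Finset.notMem_empty, iInter_of_empty, iInter_univ]
      exact ⟨isCompact_univ, isOpen_univ⟩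
    | insert a s _ ih =>
      intro h
      rw [Finset.set_biInter_insert]
      have ha := hU a (h a (Finset.mem_insert_self a s))
      have ih' := ih fun i hi => h i (Finset.mem_insert_of_mem hi)
      exact ⟨((hg a).isCompact_preimage_of_isOpen ha.1 ha.2).inter_of_isOpen ih'.1
        (ha.1.preimage (hg a).continuous) ih'.2, (ha.1.preimage (hg a).continuous).inter ih'.2⟩
  exact (h3 G fun i hi => hi).1

theorem spectralSpace_iff_embedding_pi_sierpinski (X : Type u) [TopologicalSpace X] :
    SpectralSpace X ↔ ∃ (I : Type u) (f : X → (I → Prop)),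
      Topology.IsEmbedding f ∧
        @IsClosed (I → Prop) (constructibleTopology (I → Prop)) (Set.range f) := by
  have hP := spectralSpace_Prop
  constructor
  · intro hX
    let I := {U : Set X // IsOpen U ∧ IsCompact U}
    let f : X → (I → Prop) := fun x U => x ∈ U.1
    have hsp : IsSpectralMap f :=
      isSpectralMap_pi f fun U => isSpectralMap_mem U.2.1 U.2.2
    have : SpectralSpace (I → Prop) := spectralSpace_pi
    refine ⟨I, f, ⟨⟨?_⟩, ?_⟩, ?_⟩
    · apply le_antisymm hsp.continuous.le_induced
      intro O hO
      obtain ⟨S, hS, rfl⟩ := PrespectralSpace.isTopologicalBasis.open_eq_sUnion hO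
      refine @isOpen_sUnion X (induced f Pi.topologicalSpace) S ?_
      intro s hs
      rw [isOpen_induced_iff]
      refine ⟨(fun p : I → Prop => p ⟨s, hS hs⟩) ⁻¹' {True},
        isOpen_singleton_true.preimage (continuous_apply _), ?_⟩
      ext x
      simp [f]
    · intro x y hxy
      by_contra hne
      obtain ⟨U, hU1, hU2, h⟩ := exists_isCompact_isOpen_mem_not_mem hne
      have h1 := congrFun hxy ⟨U, hU1, hU2⟩
      simp only [f, eq_iff_iff] at h1
      tauto
    · rw [← Set.image_univ]
      exact isClosedMap_cons_of_isSpectralMap hsp _ (@isClosed_univ _ (constructibleTopology X))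
  · rintro ⟨I, f, hf, hr⟩
    have : SpectralSpace (I → Prop) := spectralSpace_pi
    exact spectralSpace_of_isEmbedding_of_isClosed_cons_range hf hr

end Groth.Agent.Lib.Helper74
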