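import Groth.Agent.Lib.Helper74.TwistFrac
import Groth.Agent.Lib.Helper60.TildeQCoh

set_option autoImplicit false
universe u
open CategoryTheory AlgebraicGeometry TopologicalSpace Opposite
open scoped HomogeneousIdeal
open HomogeneousLocalization

namespace Groth.Agent.Lib.Helper74.StrSec

open Groth.Agent.Lib.Helper60.TildeSec Groth.Agent.Lib.Helper74.TwistGen

variable {A σ : Type u} [CommRing A] [SetLike σ A] [AddSubgroupClass σ A] (𝒜 : ℕ → σ) [GradedRing 𝒜]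

/-- the global section of `Proj 𝒜` attached to a degree-zero element -/
noncomputable def zsec (a0 : 𝒜 0) : Γ(Proj 𝒜, ⊤) :=
  ((Proj.toSpecZero 𝒜).appTop).hom ((Scheme.ΓSpecIso (.of (𝒜 0))).inv.hom a0)

theorem zsec_res {d : ℕ} (hd : 0 < d) {f : A} (hf : f ∈ 𝒜 d) (a0 : 𝒜 0) :
    ((Proj 𝒜).presheaf.map (homOfLE (le_top : Proj.basicOpen 𝒜 f ≤ ⊤)).op).hom (zsec 𝒜 a0) =
      (Proj.awayToSection 𝒜 f).hom (fromZeroRingHom 𝒜 (Submonoid.powers f) a0) := by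
  have h1 := Proj.awayι_toSpecZero 𝒜 f hf hd
  have h2 : (Proj.basicOpenToSpec 𝒜 f).appTop = (Scheme.ΓSpecIso _).hom ≫ Proj.awayToSection 𝒜 f ≫
      (Proj.basicOpen 𝒜 f).topIso.inv := Proj.basicOpenToSpec_app_top 𝒜 f
  have h4 : Proj.basicOpenToSpec 𝒜 f ≫ Proj.awayι 𝒜 f hf hd = (Proj.basicOpen 𝒜 f).ι := by
    rw [Proj.awayι, ← Proj.basicOpenIsoSpec_hom 𝒜 f hf hd, Iso.hom_inv_id_assoc]
  -- categorical form
  suffices H : (Scheme.ΓSpecIso (.of (𝒜 0))).inv ≫ (Proj.toSpecZero 𝒜).appTop ≫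
      (Proj 𝒜).presheaf.map (homOfLE (le_top : Proj.basicOpen 𝒜 f ≤ ⊤)).op =
      CommRingCat.ofHom (fromZeroRingHom 𝒜 (Submonoid.powers f)) ≫ Proj.awayToSection 𝒜 f by
    exact congr($(H).hom a0)
  have h3 : Proj.awayToSection 𝒜 f = (Scheme.ΓSpecIso _).inv ≫
      (Proj.basicOpenToSpec 𝒜 f).appTop ≫ (Proj.basicOpen 𝒜 f).topIso.hom := by
    rw [h2]
    simp only [Category.assoc, Iso.inv_hom_id, Category.comp_id, Iso.inv_hom_id_assoc]
  have hlast : (Proj.basicOpen 𝒜 f).ι.appTop ≫ (Proj.basicOpen 𝒜 f).topIso.hom =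
      (Proj 𝒜).presheaf.map (homOfLE (le_top : Proj.basicOpen 𝒜 f ≤ ⊤)).op := by
    rw [Scheme.Opens.ι_appTop, Scheme.Opens.topIso_hom]
    erw [← Functor.map_comp]
    rfl
  rw [h3, Scheme.ΓSpecIso_inv_naturality_assoc, ← h1, ← hlast, ← h4]
  simp only [Scheme.Hom.comp_appTop, Category.assoc]

/-- the value of `zsec a0` at every point is `a0 / 1` -/
theorem zsec_val (a0 : 𝒜 0) (y : (⊤ : (Proj 𝒜).Opens)) :
    ((show OSec 𝒜 ⊤ from zsec 𝒜 a0).1 y).val = Localization.mk (a0 : A) 1 := by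
  have hy := (Proj.affineOpenCover 𝒜).covers y.1
  have hy2 : y.1 ∈ Proj.basicOpen 𝒜 ((Proj.affineOpenCover 𝒜).idx y.1).2.1 := by
    rw [← Proj.opensRange_awayι 𝒜 _ ((Proj.affineOpenCover 𝒜).idx y.1).2.2
      ((Proj.affineOpenCover 𝒜).idx y.1).1.2]
    exact hy
  have h1 := zsec_res 𝒜 ((Proj.affineOpenCover 𝒜).idx y.1).1.2
    ((Proj.affineOpenCover 𝒜).idx y.1).2.2 a0
  have h2 := congrArg (fun s => ((show OSec 𝒜 (Proj.basicOpen 𝒜
    ((Proj.affineOpenCover 𝒜).idx y.1).2.1) from s).1 ⟨y.1, hy2⟩).val) h1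
  exact h2

/-- restriction of `zsec` to an arbitrary open: values -/
theorem zsec_res_val (a0 : 𝒜 0) (V : (Proj 𝒜).Opens) (y : V) :
    ((show OSec 𝒜 V from ((Proj 𝒜).presheaf.map (homOfLE (le_top : V ≤ ⊤)).op).hom
      (zsec 𝒜 a0)).1 y).val = Localization.mk (a0 : A) 1 :=
  zsec_val 𝒜 a0 ⟨y.1, trivial⟩

end Groth.Agent.Lib.Helper74.StrSec
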