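import Mathlib.LinearAlgebra.SymmetricAlgebra.Basic
import Mathlib.Algebra.Module.LocalizedModule.Basic
import Mathlib.RingTheory.Localization.Away.Basic
import Mathlib.RingTheory.Localization.Module

/-!
# Symmetric algebras: semilinear functoriality and compatibility with localization

* `symMap f g hg : Sym_R M →+* Sym_{R'} M'` for a ring hom `f : R →+* R'` and an `f`-semilinear additive map
  `g : M →+ M'`; functorial (`symMap_id`, `symMap_comp`).
* `ringHom_ext`: ring homs out of a symmetric algebra are determined on scalars and generators.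
* `isLocalization_symMap`: if `R' = R[1/r]` and `M' = M[1/r]` (elementwise form), then
  `Sym_{R'} M' = (Sym_R M)[1/r]` through `symMap`.
-/

set_option autoImplicit false
set_option linter.style.haveILetI false

namespace Groth.Agent.Lib.Helper74.SymAlg

open SymmetricAlgebra

section ext

variable {R M A : Type*} [CommRing R] [AddCommGroup M] [Module R M] [Semiring A]

theorem ringHom_ext {F G : SymmetricAlgebra R M →+* A}
    (h1 : ∀ r, F (algebraMap R _ r) = G (algebraMap R _ r))
    (h2 : ∀ m, F (ι R M m) = G (ι R M m)) : F = G := by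
  refine RingHom.ext fun x => ?_
  induction x using SymmetricAlgebra.induction with
  | algebraMap r => exact h1 r
  | ι m => exact h2 m
  | mul a b ha hb => rw [map_mul, map_mul, ha, hb]
  | add a b ha hb => rw [map_add, map_add, ha, hb]

end ext

section symMap

variable {R R' R'' M M' M'' : Type*} [CommRing R] [CommRing R'] [CommRing R'']
  [AddCommGroup M] [Module R M] [AddCommGroup M'] [Module R' M'] [AddCommGroup M''] [Module R'' M'']

/-- The ring homomorphism of symmetric algebras induced by a ring homomorphism `f` and an `f`-semilinear map `g`. -/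
noncomputable def symMap (f : R →+* R') (g : M →+ M') (hg : ∀ r m, g (r • m) = f r • g m) :
    SymmetricAlgebra R M →+* SymmetricAlgebra R' M' :=
  letI : Algebra R (SymmetricAlgebra R' M') := ((algebraMap R' (SymmetricAlgebra R' M')).comp f).toAlgebra
  (SymmetricAlgebra.lift (R := R) (M := M) (A := SymmetricAlgebra R' M')
    { toFun := fun m => ι R' M' (g m)
      map_add' := fun a b => by rw [map_add, map_add]
      map_smul' := fun r m => by
        rw [hg, map_smul, RingHom.id_apply, Algebra.smul_def, Algebra.smul_def]
        rfl }).toRingHom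

variable (f : R →+* R') (g : M →+ M') (hg : ∀ r m, g (r • m) = f r • g m)

@[simp] theorem symMap_algebraMap (r : R) :
    symMap f g hg (algebraMap R _ r) = algebraMap R' _ (f r) := by
  letI : Algebra R (SymmetricAlgebra R' M') := ((algebraMap R' (SymmetricAlgebra R' M')).comp f).toAlgebra
  exact AlgHom.commutes _ r

@[simp] theorem symMap_ι (m : M) : symMap f g hg (ι R M m) = ι R' M' (g m) := by
  letI : Algebra R (SymmetricAlgebra R' M') := ((algebraMap R' (SymmetricAlgebra R' M')).comp f).toAlgebra
  exact SymmetricAlgebra.lift_ι_apply _ m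

theorem symMap_id :
    symMap (RingHom.id R) (AddMonoidHom.id M) (fun _ _ => rfl) = RingHom.id (SymmetricAlgebra R M) :=
  ringHom_ext (fun r => by simp) (fun m => by simp)

theorem symMap_comp (f' : R' →+* R'') (g' : M' →+ M'') (hg' : ∀ r m, g' (r • m) = f' r • g' m) :
    (symMap f' g' hg').comp (symMap f g hg) =
      symMap (f'.comp f) (g'.comp g) (fun r m => by simp [hg, hg']) :=
  ringHom_ext (fun r => by simp) (fun m => by simp)

end symMap

section loc

variable {R R' M M' : Type*} [CommRing R] [CommRing R']
  [AddCommGroup M] [Module R M] [AddCommGroup M'] [Module R' M']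

/-- Symmetric algebras commute with localization at an element. -/
theorem isLocalization_symMap (f : R →+* R') (g : M →+ M') (hg : ∀ r m, g (r • m) = f r • g m) (r : R)
    (hR : letI := f.toAlgebra; IsLocalization.Away r R')
    (hker : ∀ m, g m = 0 → ∃ n : ℕ, r ^ n • m = 0)
    (hsurj : ∀ m', ∃ (n : ℕ) (m : M), g m = f r ^ n • m') :
    letI := (symMap f g hg).toAlgebra
    IsLocalization.Away (algebraMap R (SymmetricAlgebra R M) r) (SymmetricAlgebra R' M') := by
  letI := f.toAlgebra
  letI : Module R M' := Module.compHom M' f
  haveI : IsScalarTower R R' M' := ⟨fun a b c => by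
    change (f a * b) • c = f a • (b • c)
    rw [mul_smul]⟩
  let P := SymmetricAlgebra R M
  let T := SymmetricAlgebra R' M'
  let θ : P →+* T := symMap f g hg
  letI : Algebra P T := θ.toAlgebra
  let x : P := algebraMap R P r
  let L := Localization.Away x
  have hfr : IsUnit (f r) := IsLocalization.Away.algebraMap_isUnit r
  -- `L` is an algebra over `R'`
  have hrL : IsUnit (algebraMap R L r) := by
    rw [IsScalarTower.algebraMap_apply R P L]
    exact IsLocalization.Away.algebraMap_isUnit x
  let κ : R' →+* L := IsLocalization.Away.lift r hrL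
  have hκ : ∀ a, κ (f a) = algebraMap R L a := fun a => IsLocalization.Away.lift_eq r hrL a
  letI : Algebra R' L := κ.toAlgebra
  haveI : IsScalarTower R R' L := IsScalarTower.of_algebraMap_eq fun a => (hκ a).symm
  -- `θ x` is a unit
  have hθx : IsUnit (θ x) := by
    change IsUnit (symMap f g hg (algebraMap R P r))
    rw [symMap_algebraMap]
    exact hfr.map _
  let ψ : L →+* T := IsLocalization.Away.lift x hθx
  have hψ : ∀ p, ψ (algebraMap P L p) = θ p := fun p => IsLocalization.Away.lift_eq x hθx p
  -- the module map `M' → L`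
  let gl : M →ₗ[R] M' := { toFun := g, map_add' := map_add g, map_smul' := fun a m => hg a m }
  haveI : IsLocalizedModule (.powers r) gl := by
    refine ⟨fun s => ?_, fun y => ?_, fun {a b} hab => ?_⟩
    · have h0 : algebraMap R (Module.End R M') s =
          Module.toModuleEnd R (S := R') M' (algebraMap R R' s) := by
        ext m; simp
      rw [h0]
      exact (IsLocalization.map_units R' s).map _
    · obtain ⟨n, m, hm⟩ := hsurj y
      exact ⟨⟨m, ⟨r ^ n, n, rfl⟩⟩, by change (r ^ n) • y = g m; rw [hm]; change f (r ^ n) • y = _; rw [map_pow]⟩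
    · have h0 : g (a - b) = 0 := by rw [map_sub]; exact sub_eq_zero.mpr hab
      obtain ⟨n, hn⟩ := hker _ h0
      refine ⟨⟨r ^ n, n, rfl⟩, ?_⟩
      change r ^ n • a = r ^ n • b
      rw [← sub_eq_zero, ← smul_sub]; exact hn
  let h₀ : M →ₗ[R] L := (IsScalarTower.toAlgHom R P L).toLinearMap ∘ₗ ι R M
  have hunits : ∀ s : Submonoid.powers r, IsUnit (algebraMap R (Module.End R L) s) := fun s => by
    have h0 : algebraMap R (Module.End R L) s =
        Module.toModuleEnd R (S := R') L (algebraMap R R' s) := by
      ext m; simp
    rw [h0]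
    exact (IsLocalization.map_units R' s).map _
  let h₁ : M' →ₗ[R] L := IsLocalizedModule.lift (.powers r) gl h₀ hunits
  have hh₁ : ∀ m, h₁ (g m) = algebraMap P L (ι R M m) := fun m =>
    IsLocalizedModule.lift_apply (.powers r) gl h₀ hunits m
  let h₂ : M' →ₗ[R'] L := h₁.extendScalarsOfIsLocalization (.powers r) R'
  let φ : T →ₐ[R'] L := SymmetricAlgebra.lift h₂
  have hφι : ∀ m', φ (ι R' M' m') = h₁ m' := fun m' => SymmetricAlgebra.lift_ι_apply h₂ m'
  -- the two composites
  have h1 : (φ : T →+* L).comp ψ = RingHom.id L := by
    refine IsLocalization.ringHom_ext (.powers x) ?_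
    refine ringHom_ext (fun a => ?_) (fun m => ?_)
    · change φ (ψ (algebraMap P L (algebraMap R P a))) = algebraMap P L (algebraMap R P a)
      rw [hψ]
      change φ (symMap f g hg (algebraMap R P a)) = _
      rw [symMap_algebraMap, AlgHom.commutes]
      change κ (f a) = _
      rw [hκ, IsScalarTower.algebraMap_apply R P L]
    · change φ (ψ (algebraMap P L (ι R M m))) = algebraMap P L (ι R M m)
      rw [hψ]
      change φ (symMap f g hg (ι R M m)) = _
      rw [symMap_ι, hφι, hh₁]
  have hψκ : ∀ a', ψ (algebraMap R' L a') = algebraMap R' T a' := by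
    have : (ψ.comp (algebraMap R' L)) = algebraMap R' T := by
      refine IsLocalization.ringHom_ext (.powers r) ?_
      ext a
      change ψ (κ (f a)) = algebraMap R' T (f a)
      rw [hκ, IsScalarTower.algebraMap_apply R P L, hψ]
      change symMap f g hg (algebraMap R P a) = _
      rw [symMap_algebraMap]
    exact fun a' => congr($this a')
  have h2 : ψ.comp (φ : T →+* L) = RingHom.id T := by
    refine ringHom_ext (fun a' => ?_) (fun m' => ?_)
    · change ψ (φ (algebraMap R' T a')) = algebraMap R' T a'
      rw [AlgHom.commutes, hψκ]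
    · change ψ (φ (ι R' M' m')) = ι R' M' m'
      obtain ⟨n, m, hm⟩ := hsurj m'
      have hu : IsUnit (algebraMap R' T (f r ^ n)) := (hfr.pow n).map _
      apply hu.mul_left_cancel
      have e1 : algebraMap R' T (f r ^ n) * ι R' M' m' = ι R' M' (g m) := by
        rw [hm, map_smul, Algebra.smul_def]
      have e2 : algebraMap R' T (f r ^ n) * ψ (φ (ι R' M' m')) = ψ (φ (ι R' M' (g m))) := by
        rw [hm, map_smul, Algebra.smul_def, map_mul, map_mul, AlgHom.commutes, hψκ]
      rw [e1, e2, hφι, hh₁, hψ]
      change symMap f g hg (ι R M m) = _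
      rw [symMap_ι]
  let e : L ≃+* T := RingEquiv.ofRingHom ψ (φ : T →+* L) h2 h1
  let e' : L ≃ₐ[P] T := { e with commutes' := fun p => hψ p }
  exact IsLocalization.isLocalization_of_algEquiv (.powers x) e'

end loc

end Groth.Agent.Lib.Helper74.SymAlg
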