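import Groth.Agent.Lib.Helper74.SymQCAlg

/-!
# The symmetric algebra commutes with base change (pushout form) (helper74)
-/

set_option autoImplicit false
universe u
open CategoryTheory CategoryTheory.Limits

namespace Groth.Agent.Lib.Helper74.SymBC

open Groth.Agent.Lib.Helper74.SymQ

variable {R R' A A' : Type u} [CommRing R] [CommRing R'] [CommRing A] [CommRing A']
  [Algebra R A] [Algebra R' A'] (φ : R →+* R')
  {M M' : Type u} [AddCommGroup M] [Module R M] [AddCommGroup M'] [Module R' M']
  (η : M →+ M')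
  (hη : ∀ (Q : Type u) [AddCommGroup Q] [Module R' Q] (w : M →+ Q),
    (∀ (r : R) (m : M), w (r • m) = φ r • w m) → ∃! g : M' →ₗ[R'] Q, ∀ m, g (η m) = w m)
  {ι : M →ₗ[R] A} {ι' : M' →ₗ[R'] A'} (hι : IsSymmetricAlgebra ι) (hι' : IsSymmetricAlgebra ι')
  (u : A →+* A') (hu1 : ∀ r : R, u (algebraMap R A r) = algebraMap R' A' (φ r))
  (hu2 : ∀ m : M, u (ι m) = ι' (η m))

include hη hι hι' hu1 hu2 in
theorem isPushout :
    IsPushout (CommRingCat.ofHom φ) (CommRingCat.ofHom (algebraMap R A))
      (CommRingCat.ofHom (algebraMap R' A')) (CommRingCat.ofHom u) := by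
  have w : CommRingCat.ofHom φ ≫ CommRingCat.ofHom (algebraMap R' A') =
      CommRingCat.ofHom (algebraMap R A) ≫ CommRingCat.ofHom u := by
    ext r
    exact (hu1 r).symm
  have key : ∀ s : PushoutCocone (CommRingCat.ofHom φ) (CommRingCat.ofHom (algebraMap R A)),
      ∃ d : CommRingCat.of A' ⟶ s.pt, CommRingCat.ofHom (algebraMap R' A') ≫ d = s.inl ∧
        CommRingCat.ofHom u ≫ d = s.inr ∧
        ∀ m : CommRingCat.of A' ⟶ s.pt, CommRingCat.ofHom (algebraMap R' A') ≫ m = s.inl →
          CommRingCat.ofHom u ≫ m = s.inr → m = d := by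
    intro s
    letI : Algebra R' s.pt := s.inl.hom.toAlgebra
    have hcond : ∀ r : R, s.inl.hom (φ r) = s.inr.hom (algebraMap R A r) := fun r =>
      congrArg (fun ψ => ψ.hom r) s.condition
    let w₀ : M →+ s.pt := s.inr.hom.toAddMonoidHom.comp ι.toAddMonoidHom
    have hw₀ : ∀ (r : R) (m : M), w₀ (r • m) = φ r • w₀ m := by
      intro r m
      change s.inr.hom (ι (r • m)) = s.inl.hom (φ r) * s.inr.hom (ι m)
      rw [map_smul, Algebra.smul_def, map_mul, hcond]
    obtain ⟨g, hg, hguniq⟩ := hη s.pt w₀ hw₀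
    refine ⟨CommRingCat.ofHom (hι'.lift g).toRingHom, ?_, ?_, ?_⟩
    · ext r'
      exact (hι'.lift g).commutes r'
    · have : (hι'.lift g).toRingHom.comp u = s.inr.hom := by
        refine ringHom_ext_of_isSymmetricAlgebra hι ?_ ?_
        · intro r
          change (hι'.lift g) (u (algebraMap R A r)) = _
          rw [hu1, (hι'.lift g).commutes]
          exact hcond r
        · intro m
          change (hι'.lift g) (u (ι m)) = _
          rw [hu2, IsSymmetricAlgebra.lift_eq, hg]
          rfl
      ext x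
      exact congrArg (fun ψ : A →+* s.pt => ψ x) this
    · intro m hm1 hm2
      have hm1' : ∀ x, m.hom (algebraMap R' A' x) = s.inl.hom x := fun x =>
        congrArg (fun ψ => ψ.hom x) hm1
      have hm2' : ∀ x, m.hom (u x) = s.inr.hom x := fun x => congrArg (fun ψ => ψ.hom x) hm2
      let m' : A' →ₐ[R'] s.pt := { m.hom with commutes' := fun r => hm1' r }
      have hm'g : m'.toLinearMap ∘ₗ ι' = g := by
        apply hguniq
        intro x
        change m.hom (ι' (η x)) = _
        rw [← hu2, hm2']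
        rfl
      have : m' = hι'.lift g := hι'.lift_unique hm'g
      ext x
      exact congrArg (fun ψ : A' →ₐ[R'] s.pt => ψ x) this
  choose d hd1 hd2 hd3 using key
  exact ⟨⟨w⟩, ⟨PushoutCocone.IsColimit.mk w d hd1 hd2 hd3⟩⟩

end Groth.Agent.Lib.Helper74.SymBC
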