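import Groth.Agent.Lib.Helper74.SymProd
import Groth.Agent.Lib.Helper74.SymQCAlgProps
import Groth.Agent.Lib.Helper2.QCohLim

/-!
# `V(E ⊕ F) = V(E) ×_S V(F)`
-/

set_option autoImplicit false
set_option linter.style.haveILetI false
universe u

open CategoryTheory CategoryTheory.Limits AlgebraicGeometry TopologicalSpace Opposite

noncomputable section

namespace Groth.Agent.Lib.Helper74.SymBiprod

open RelSpec Groth.Agent.Lib.Helper74.SymQ Groth.Agent.Lib.Helper74.QMap

section charts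

/-- a square of schemes is a pullback when it is so over the members of a family of open charts covering `X` -/
theorem isPullback_of_charts {W X Y Z : Scheme.{u}} (fWX : W ⟶ X) (fWY : W ⟶ Y) (fXZ : X ⟶ Z) (fYZ : Y ⟶ Z)
    {ι : Type u} (Xi Wi : ι → Scheme.{u}) (iX : ∀ i, Xi i ⟶ X) [∀ i, IsOpenImmersion (iX i)]
    (hcov : ∀ x : X, ∃ i, x ∈ Set.range (iX i))
    (iW : ∀ i, Wi i ⟶ W) (fi : ∀ i, Wi i ⟶ Xi i)
    (h1 : ∀ i, IsPullback (iW i) (fi i) fWX (iX i))
    (h2 : ∀ i, IsPullback (fi i) (iW i ≫ fWY) (iX i ≫ fXZ) fYZ) : IsPullback fWX fWY fXZ fYZ := by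
  let 𝒰 : X.OpenCover := Scheme.Cover.mkOfCovers ι Xi iX (fun x => by
    obtain ⟨i, y, hy⟩ := hcov x
    exact ⟨i, y, hy⟩)
  refine Scheme.isPullback_of_openCover fWX fWY fXZ fYZ 𝒰 fun (i : ι) => ?_
  change IsPullback (pullback.snd fWX (iX i)) (pullback.fst fWX (iX i) ≫ fWY) (iX i ≫ fXZ) fYZ
  refine (h2 i).of_iso (h1 i).isoPullback (Iso.refl _) (Iso.refl _) (Iso.refl _) ?_ ?_ ?_ ?_
  · rw [Iso.refl_hom, Category.comp_id]
    exact ((h1 i).isoPullback_hom_snd).symm
  · rw [Iso.refl_hom, Category.comp_id, (h1 i).isoPullback_hom_fst_assoc]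
  · rw [Iso.refl_hom, Iso.refl_hom, Category.comp_id, Category.id_comp]
  · rw [Iso.refl_hom, Iso.refl_hom, Category.comp_id, Category.id_comp]

end charts

variable {S : Scheme.{u}}

/-- a module map as a linear map on sections -/
def linApp {E F : S.Modules} (φ : E ⟶ F) (U : S.Opens) : Γ(E, U) →ₗ[Γ(S, U)] Γ(F, U) where
  toFun m := φ.app U m
  map_add' a b := map_add (φ.app U).hom a b
  map_smul' r m := Scheme.Modules.Hom.app_smul φ r m

@[simp] theorem linApp_apply {E F : S.Modules} (φ : E ⟶ F) (U : S.Opens) (m : Γ(E, U)) :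
    linApp φ U m = φ.app U m := rfl

theorem linApp_comp {E F G : S.Modules} (φ : E ⟶ F) (ψ : F ⟶ G) (U : S.Opens) (m : Γ(E, U)) :
    linApp ψ U (linApp φ U m) = linApp (φ ≫ ψ) U m := rfl

variable (E F : S.Modules) [E.IsQuasicoherent] [F.IsQuasicoherent]
  {AE AF A : QCAlg S} {jE : E ⟶ AE.toModule} {jF : F ⟶ AF.toModule} {j : E ⊞ F ⟶ A.toModule}
  (hAE : IsSymAlg E AE jE) (hAF : IsSymAlg F AF jF) (hA : IsSymAlg (E ⊞ F) A j)
  (ψE : AE ⟶ A) (ψF : AF ⟶ A)
  (hψE : jE ≫ QCAlg.Hom.toModuleMap ψE = biprod.inl ≫ j)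
  (hψF : jF ≫ QCAlg.Hom.toModuleMap ψF = biprod.inr ≫ j)

/-- a homomorphism of quasi-coherent algebras as an algebra homomorphism on sections -/
def algApp {A B : QCAlg S} (ψ : A ⟶ B) (U : S.Opens) :
    A.presheaf.obj (op U) →ₐ[Γ(S, U)] B.presheaf.obj (op U) :=
  { (ψ.hom.app (op U)).hom with commutes' := fun r => hom_algebraMap ψ U r }

include hAE hAF hA hψE hψF in
theorem isPushout_sections (U : S.Opens) (hU : IsAffineOpen U) :
    IsPushout (AE.str.app (op U)) (AF.str.app (op U)) (ψE.hom.app (op U)) (ψF.hom.app (op U)) := by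
  haveI : (E ⊞ F).IsQuasicoherent := Groth.Agent.Lib.Helper2.KerSec.isQuasicoherent_biprod E F
  have hfE := isSymmetricAlgebra_of_isSymAlg hAE U hU
  have hfF := isSymmetricAlgebra_of_isSymAlg hAF U hU
  have hf := isSymmetricAlgebra_of_isSymAlg hA U hU
  have key := SymProd.isPushout (R := Γ(S, U)) (AE := AE.presheaf.obj (op U)) (AF := AF.presheaf.obj (op U))
    (A := A.presheaf.obj (op U))
    (linApp (biprod.inl : E ⟶ E ⊞ F) U) (linApp (biprod.inr : F ⟶ E ⊞ F) U)
    (linApp (biprod.fst : E ⊞ F ⟶ E) U) (linApp (biprod.snd : E ⊞ F ⟶ F) U)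
    (fun m => by rw [linApp_comp, biprod.inl_fst]; rfl)
    (fun m => by rw [linApp_comp, biprod.inl_snd]; rfl)
    (fun n => by rw [linApp_comp, biprod.inr_fst]; rfl)
    (fun n => by rw [linApp_comp, biprod.inr_snd]; rfl)
    (fun x => Groth.Agent.Lib.Helper2.KerSec.biprod_total_apply E F U x)
    hfE hfF hf (algApp ψE U) (algApp ψF U)
    (fun m => by
      have := congrArg (fun φ : E ⟶ A.toModule => jLin φ U m) hψE
      exact this)
    (fun n => by
      have := congrArg (fun φ : F ⟶ A.toModule => jLin φ U n) hψF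
      exact this)
  exact key

include hAE hAF hA hψE hψF in
/-- `V(E ⊕ F) = V(E) ×_S V(F)` -/
theorem isPullback_specMap :
    IsPullback (QCAlg.specMap ψE) (QCAlg.specMap ψF) AE.π AF.π := by
  refine isPullback_of_charts (QCAlg.specMap ψE) (QCAlg.specMap ψF) AE.π AF.π
    (ι := S.affineOpens)
    (fun U => Spec (AE.presheaf.obj (op U.1))) (fun U => Spec (A.presheaf.obj (op U.1)))
    (fun U => AE.ι U.1 U.2) ?_ (fun U => A.ι U.1 U.2) (fun U => Spec.map (ψE.hom.app (op U.1))) ?_ ?_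
  · intro x
    obtain ⟨U, hxU⟩ := TopologicalSpace.Opens.mem_iSup.mp
      ((iSup_affineOpens_eq_top S).ge (Set.mem_univ (AE.π x)))
    refine ⟨U, ?_⟩
    have : x ∈ AE.π ⁻¹ᵁ U.1 := hxU
    rw [AE.π_preimage U.1 U.2] at this
    exact this
  · intro U
    exact isPullback_ι_specMap ψE U.1 U.2
  · intro U
    have sq1 := AlgebraicGeometry.isPullback_SpecMap_of_isPushout _ _ _ _
      (isPushout_sections E F hAE hAF hA ψE ψF hψE hψF U.1 U.2)
    have sq3 := isPullback_ι (A := AF) U.1 U.2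
    have e2 : A.ι U.1 U.2 ≫ QCAlg.specMap ψF = Spec.map (ψF.hom.app (op U.1)) ≫ AF.ι U.1 U.2 :=
      QCAlg.ι_specMap U.1 U.2 ψF
    have := sq1.paste_vert sq3.flip
    rw [e2, AE.ι_π]
    exact this

end Groth.Agent.Lib.Helper74.SymBiprod
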