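import Mathlib.LinearAlgebra.SymmetricAlgebra.Basic
import Mathlib.RingTheory.GradedAlgebra.Basic
import Mathlib.LinearAlgebra.TensorAlgebra.Grading

set_option autoImplicit false
open scoped DirectSum

namespace Groth.Agent.Lib.Helper74.SymGraded

variable {R M A : Type*} [CommRing R] [AddCommGroup M] [Module R M] [CommRing A] [Algebra R A]
  (f : M →ₗ[R] A)

/-- `f` into the graded structure -/
noncomputable def gι : M →ₗ[R] ⨁ i : ℕ, ↥(LinearMap.range f ^ i) :=
  DirectSum.lof R ℕ (fun i => ↥(LinearMap.range f ^ i)) 1 ∘ₗ
    f.codRestrict _ fun m => by simpa only [pow_one] using LinearMap.mem_range_self _ m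

theorem gι_apply (m : M) :
    gι f m = DirectSum.of (fun (i : ℕ) => ↥(LinearMap.range f ^ i)) 1
      ⟨f m, by simpa only [pow_one] using LinearMap.mem_range_self _ m⟩ := rfl

variable {f}

/-- a symmetric algebra is graded by the powers of the image of the module -/
@[instance_reducible]
noncomputable def gradedAlgebra (hf : IsSymmetricAlgebra f) :
    GradedAlgebra ((LinearMap.range f ^ ·) : ℕ → Submodule R A) :=
  GradedAlgebra.ofAlgHom _ (hf.lift (gι f))
    (by
      apply hf.algHom_ext
      ext m
      change (DirectSum.coeAlgHom fun x => LinearMap.range f ^ x) (hf.lift (gι f) (f m)) = f m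
      rw [hf.lift_eq, gι_apply, DirectSum.coeAlgHom_of])
    fun i x => by
    obtain ⟨x, hx⟩ := x
    dsimp only [Subtype.coe_mk, DirectSum.lof_eq_of]
    induction hx using Submodule.pow_induction_on_left' with
    | algebraMap r =>
      rw [AlgHom.commutes, DirectSum.algebraMap_apply]; rfl
    | add x y i hx hy ihx ihy =>
      rw [map_add, ihx, ihy, ← map_add]
      rfl
    | mem_mul m hm i x hx ih =>
      obtain ⟨m, rfl⟩ := hm
      rw [map_mul, ih, hf.lift_eq, gι_apply, DirectSum.of_mul_of]
      exact DirectSum.of_eq_of_gradedMonoid_eq (Sigma.subtype_ext (add_comm _ _) rfl)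

end Groth.Agent.Lib.Helper74.SymGraded
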