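import Mathlib
import Groth.Agent.Lib.Helper74.SymAlgLoc

/-!
# `Sym(M ⊕ R) = Sym(M)[z]`
-/

set_option autoImplicit false
universe u
open Polynomial

namespace Groth.Agent.Lib.Helper74.SymPoly

variable {R A B : Type u} [CommRing R] [CommRing A] [CommRing B] [Algebra R A] [Algebra R B]
  {M MN : Type*} [AddCommGroup M] [Module R M] [AddCommGroup MN] [Module R MN]
  (inl : M →ₗ[R] MN) (inr : R →ₗ[R] MN) (fst : MN →ₗ[R] M) (snd : MN →ₗ[R] R)
  (htot : ∀ x, inl (fst x) + inr (snd x) = x)
  {f : M →ₗ[R] A} (hf : IsSymmetricAlgebra f)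
  (ιA : A →ₐ[R] B) (z : B) (he : Function.Bijective (Polynomial.eval₂RingHom (ιA : A →+* B) z))
  {g : MN →ₗ[R] B} (hg1 : ∀ m, g (inl m) = ιA (f m)) (hg2 : g (inr 1) = z)

include htot hf he hg1 hg2 in
theorem isSymmetricAlgebra_poly : IsSymmetricAlgebra g := by
  set e := Polynomial.eval₂RingHom (ιA : A →+* B) z with hedef
  let a0 : A →ₐ[R] SymmetricAlgebra R MN := hf.lift (SymmetricAlgebra.ι R MN ∘ₗ inl)
  let c : Polynomial A →+* SymmetricAlgebra R MN :=
    Polynomial.eval₂RingHom (a0 : A →+* SymmetricAlgebra R MN) (SymmetricAlgebra.ι R MN (inr 1))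
  let L : SymmetricAlgebra R MN →ₐ[R] B := SymmetricAlgebra.lift g
  have hLa0 : L.comp a0 = ιA := by
    apply hf.algHom_ext
    ext m
    change L (a0 (f m)) = ιA (f m)
    rw [IsSymmetricAlgebra.lift_eq]
    change L (SymmetricAlgebra.ι R MN (inl m)) = _
    rw [SymmetricAlgebra.lift_ι_apply, hg1]
  have h1 : (L : SymmetricAlgebra R MN →+* B).comp c = e := by
    apply Polynomial.ringHom_ext
    · intro a
      change L (c (C a)) = e (C a)
      rw [hedef]
      simp only [c, Polynomial.coe_eval₂RingHom, Polynomial.eval₂_C]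
      exact congrArg (fun ψ : A →ₐ[R] B => ψ a) hLa0
    · change L (c X) = e X
      rw [hedef]
      simp only [c, Polynomial.coe_eval₂RingHom, Polynomial.eval₂_X]
      change L (SymmetricAlgebra.ι R MN (inr 1)) = z
      rw [SymmetricAlgebra.lift_ι_apply, hg2]
  have hinr : ∀ r : R, inr r = r • inr 1 := fun r => by
    rw [← map_smul, smul_eq_mul, mul_one]
  -- a preimage under `e` of `L y`
  have h2 : ∀ y : SymmetricAlgebra R MN, ∃ p : Polynomial A, e p = L y ∧ c p = y := by
    intro y
    induction y using SymmetricAlgebra.induction with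
    | algebraMap r =>
      refine ⟨C (algebraMap R A r), ?_, ?_⟩
      · rw [hedef]
        simp only [Polynomial.coe_eval₂RingHom, Polynomial.eval₂_C]
        change ιA (algebraMap R A r) = L (algebraMap R _ r)
        rw [ιA.commutes, L.commutes]
      · simp only [c, Polynomial.coe_eval₂RingHom, Polynomial.eval₂_C]
        change a0 (algebraMap R A r) = _
        rw [a0.commutes]
    | ι x =>
      refine ⟨C (f (fst x)) + C (algebraMap R A (snd x)) * X, ?_, ?_⟩
      · rw [hedef]
        simp only [Polynomial.coe_eval₂RingHom, Polynomial.eval₂_add, Polynomial.eval₂_mul,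
          Polynomial.eval₂_C, Polynomial.eval₂_X]
        change ιA (f (fst x)) + ιA (algebraMap R A (snd x)) * z = L (SymmetricAlgebra.ι R MN x)
        rw [SymmetricAlgebra.lift_ι_apply, ιA.commutes, ← hg1, ← hg2, ← Algebra.smul_def, ← map_smul,
          ← hinr, ← map_add, htot]
      · simp only [c, Polynomial.coe_eval₂RingHom, Polynomial.eval₂_add, Polynomial.eval₂_mul,
          Polynomial.eval₂_C, Polynomial.eval₂_X]
        change a0 (f (fst x)) + a0 (algebraMap R A (snd x)) * _ = _
        rw [IsSymmetricAlgebra.lift_eq, a0.commutes, ← Algebra.smul_def, ← map_smul, ← hinr]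
        change SymmetricAlgebra.ι R MN (inl (fst x)) + _ = _
        rw [← map_add, htot]
    | mul a b ha hb =>
      obtain ⟨p, hp1, hp2⟩ := ha
      obtain ⟨q, hq1, hq2⟩ := hb
      exact ⟨p * q, by rw [map_mul, map_mul, hp1, hq1], by rw [map_mul, hp2, hq2]⟩
    | add a b ha hb =>
      obtain ⟨p, hp1, hp2⟩ := ha
      obtain ⟨q, hq1, hq2⟩ := hb
      exact ⟨p + q, by rw [map_add, map_add, hp1, hq1], by rw [map_add, hp2, hq2]⟩
  constructor
  · rw [injective_iff_map_eq_zero]
    intro y hy
    obtain ⟨p, hp1, hp2⟩ := h2 y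
    have hy' : L y = 0 := hy
    rw [hy'] at hp1
    have : p = 0 := he.1 (by rw [hp1, map_zero])
    rw [← hp2, this, map_zero]
  · intro b
    obtain ⟨p, rfl⟩ := he.2 b
    refine ⟨c p, ?_⟩
    exact congrArg (fun ψ : Polynomial A →+* B => ψ p) h1

end Groth.Agent.Lib.Helper74.SymPoly
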