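import Groth.Agent.Lib.Helper74.SymPoly
import Groth.Agent.Lib.Helper74.SymBiprod
import Groth.Prelude.Def_RelSpec2

/-!
# `Sym(E ⊕ O_Y) = Sym(E)[z]` as graded quasi-coherent algebras
-/

set_option autoImplicit false
set_option linter.style.haveILetI false
universe u

open CategoryTheory CategoryTheory.Limits AlgebraicGeometry TopologicalSpace Opposite

noncomputable section

namespace Groth.Agent.Lib.Helper74.SymPolyQ

open RelSpec Groth.Agent.Lib.Helper74.SymQ Groth.Agent.Lib.Helper74.SymBiprod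

variable {Y : Scheme.{u}} (E : Y.Modules) [E.IsQuasicoherent]
  {𝒮 𝒮h : RelProj.QCGrAlg Y} {j : E ⟶ 𝒮.toModule} (hS : RelProj.IsGrSymAlg E 𝒮 j)
  {ι : 𝒮.toQCAlg ⟶ 𝒮h.toQCAlg} {z : 𝒮h.presheaf.obj (op ⊤)} (hz : RelCone.IsPolyOver 𝒮 𝒮h ι z)
  (k : Coh.structureModule Y ⟶ 𝒮h.toModule)
  (hk : ∀ U : Y.Opens, (k.app U) (1 : Γ(Y, U)) = RelCone.restrictTop 𝒮h z U)

/-- sections of the structure sheaf as a module are the functions -/
def unitLin (U : Y.Opens) : Γ(Y, U) →ₗ[Γ(Y, U)] Γ(Coh.structureModule Y, U) where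
  toFun r := r
  map_add' _ _ := rfl
  map_smul' _ _ := rfl

include hS hz hk in
theorem isSymmetricAlgebra_sections (U : Y.Opens) (hU : IsAffineOpen U) :
    IsSymmetricAlgebra (jLin (biprod.desc (j ≫ QCAlg.Hom.toModuleMap ι) k :
      E ⊞ Coh.structureModule Y ⟶ 𝒮h.toQCAlg.toModule) U) := by
  have hf := isSymmetricAlgebra_of_isSymAlg hS.1 U hU
  refine SymPoly.isSymmetricAlgebra_poly (R := Γ(Y, U)) (A := 𝒮.presheaf.obj (op U))
    (B := 𝒮h.presheaf.obj (op U))
    (linApp (biprod.inl : E ⟶ E ⊞ Coh.structureModule Y) U)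
    ((linApp (biprod.inr : Coh.structureModule Y ⟶ E ⊞ Coh.structureModule Y) U).comp (unitLin U))
    (linApp (biprod.fst : E ⊞ Coh.structureModule Y ⟶ E) U)
    ((linApp (biprod.snd : E ⊞ Coh.structureModule Y ⟶ Coh.structureModule Y) U))
    (fun x => Groth.Agent.Lib.Helper2.KerSec.biprod_total_apply E (Coh.structureModule Y) U x)
    hf (algApp ι U) (RelCone.restrictTop 𝒮h z U) ?_ ?_ ?_
  · exact hz.bij U hU
  · intro m
    have h1 : (biprod.inl : E ⟶ E ⊞ Coh.structureModule Y) ≫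
        (biprod.desc (j ≫ QCAlg.Hom.toModuleMap ι) k : E ⊞ Coh.structureModule Y ⟶ 𝒮h.toQCAlg.toModule) =
          j ≫ QCAlg.Hom.toModuleMap ι := biprod.inl_desc _ _
    have := congrArg (fun φ : E ⟶ 𝒮h.toQCAlg.toModule => jLin φ U m) h1
    exact this
  · have h1 : (biprod.inr : Coh.structureModule Y ⟶ E ⊞ Coh.structureModule Y) ≫
        (biprod.desc (j ≫ QCAlg.Hom.toModuleMap ι) k : E ⊞ Coh.structureModule Y ⟶ 𝒮h.toQCAlg.toModule) =
          k := biprod.inr_desc _ _
    have := congrArg (fun φ : Coh.structureModule Y ⟶ 𝒮h.toQCAlg.toModule => jLin φ U (1 : Γ(Y, U))) h1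
    exact this.trans (hk U)

include hS hz hk in
theorem isGrSymAlg_biprod :
    RelProj.IsGrSymAlg (E ⊞ Coh.structureModule Y) 𝒮h (biprod.desc (j ≫ QCAlg.Hom.toModuleMap ι) k) := by
  refine ⟨isSymAlg_of_local _ _ (isSymmetricAlgebra_sections E hS hz k hk), ?_⟩
  intro U hU x
  set J : E ⊞ Coh.structureModule Y ⟶ 𝒮h.toQCAlg.toModule := biprod.desc (j ≫ QCAlg.Hom.toModuleMap ι) k with hJ
  have hx := Groth.Agent.Lib.Helper2.KerSec.biprod_total_apply E (Coh.structureModule Y) U x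
  rw [← hx]
  have hadd : (J.app U) ((biprod.inl : E ⟶ E ⊞ Coh.structureModule Y).app U ((biprod.fst : E ⊞ Coh.structureModule Y ⟶ E).app U x) +
      (biprod.inr : Coh.structureModule Y ⟶ E ⊞ Coh.structureModule Y).app U
        ((biprod.snd : E ⊞ Coh.structureModule Y ⟶ Coh.structureModule Y).app U x)) =
      jLin J U (linApp (biprod.inl : E ⟶ E ⊞ Coh.structureModule Y) U
        (linApp (biprod.fst : E ⊞ Coh.structureModule Y ⟶ E) U x)) +
      jLin J U (linApp (biprod.inr : Coh.structureModule Y ⟶ E ⊞ Coh.structureModule Y) U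
        (linApp (biprod.snd : E ⊞ Coh.structureModule Y ⟶ Coh.structureModule Y) U x)) :=
    map_add (jLin J U) _ _
  rw [hadd]
  refine add_mem ?_ ?_
  · have h1 : (biprod.inl : E ⟶ E ⊞ Coh.structureModule Y) ≫ J = j ≫ QCAlg.Hom.toModuleMap ι :=
      biprod.inl_desc _ _
    have h2 := congrArg (fun φ : E ⟶ 𝒮h.toQCAlg.toModule => jLin φ U
      (linApp (biprod.fst : E ⊞ Coh.structureModule Y ⟶ E) U x)) h1
    have h3 : jLin J U (linApp (biprod.inl : E ⟶ E ⊞ Coh.structureModule Y) U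
        (linApp (biprod.fst : E ⊞ Coh.structureModule Y ⟶ E) U x)) =
        (ι.hom.app (op U)).hom (jLin j U (linApp (biprod.fst : E ⊞ Coh.structureModule Y ⟶ E) U x)) := h2
    rw [h3]
    exact hz.graded U hU 1 _ (hS.2 U hU _)
  · set r : Γ(Y, U) := linApp (biprod.snd : E ⊞ Coh.structureModule Y ⟶ Coh.structureModule Y) U x with hr
    have h1 : (biprod.inr : Coh.structureModule Y ⟶ E ⊞ Coh.structureModule Y) ≫ J = k :=
      biprod.inr_desc _ _
    have h2 := congrArg (fun φ : Coh.structureModule Y ⟶ 𝒮h.toQCAlg.toModule => jLin φ U r) h1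
    have h3 : jLin J U (linApp (biprod.inr : Coh.structureModule Y ⟶ E ⊞ Coh.structureModule Y) U r) =
        jLin k U r := h2
    rw [h3]
    have h4 : jLin k U r = r • jLin k U (1 : Γ(Y, U)) := by
      rw [← map_smul]
      congr 1
      exact (mul_one r).symm
    rw [h4]
    have h5 : jLin k U (1 : Γ(Y, U)) = RelCone.restrictTop 𝒮h z U := hk U
    rw [h5, Algebra.smul_def]
    have := SetLike.mul_mem_graded (𝒮h.str_mem U hU r) (hz.deg_z U hU)
    rw [zero_add] at this
    exact this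

end Groth.Agent.Lib.Helper74.SymPolyQ
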