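import Mathlib

/-!
# `Sym(M ⊕ N)` is the coproduct of `Sym M` and `Sym N` (pushout over the base ring)
-/

set_option autoImplicit false
universe u
open CategoryTheory CategoryTheory.Limits

namespace Groth.Agent.Lib.Helper74.SymProd

variable {R AE AF A : Type u} [CommRing R] [CommRing AE] [CommRing AF] [CommRing A]
  [Algebra R AE] [Algebra R AF] [Algebra R A]
  {M N MN : Type*} [AddCommGroup M] [Module R M] [AddCommGroup N] [Module R N] [AddCommGroup MN] [Module R MN]
  (inl : M →ₗ[R] MN) (inr : N →ₗ[R] MN) (fst : MN →ₗ[R] M) (snd : MN →ₗ[R] N)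
  (h11 : ∀ m, fst (inl m) = m) (h12 : ∀ m, snd (inl m) = 0)
  (h21 : ∀ n, fst (inr n) = 0) (h22 : ∀ n, snd (inr n) = n)
  (htot : ∀ x, inl (fst x) + inr (snd x) = x)
  {fE : M →ₗ[R] AE} {fF : N →ₗ[R] AF} {f : MN →ₗ[R] A}
  (hfE : IsSymmetricAlgebra fE) (hfF : IsSymmetricAlgebra fF) (hf : IsSymmetricAlgebra f)
  (ψE : AE →ₐ[R] A) (ψF : AF →ₐ[R] A)
  (hψE : ∀ m, ψE (fE m) = f (inl m)) (hψF : ∀ n, ψF (fF n) = f (inr n))

include h11 h12 h21 h22 htot hfE hfF hf hψE hψF in
theorem isPushout :
    IsPushout (CommRingCat.ofHom (algebraMap R AE)) (CommRingCat.ofHom (algebraMap R AF))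
      (CommRingCat.ofHom ψE.toRingHom) (CommRingCat.ofHom ψF.toRingHom) := by
  have w : CommRingCat.ofHom (algebraMap R AE) ≫ CommRingCat.ofHom ψE.toRingHom =
      CommRingCat.ofHom (algebraMap R AF) ≫ CommRingCat.ofHom ψF.toRingHom := by
    ext r
    change ψE (algebraMap R AE r) = ψF (algebraMap R AF r)
    rw [ψE.commutes, ψF.commutes]
  -- the data attached to a cocone
  have key : ∀ s : PushoutCocone (CommRingCat.ofHom (algebraMap R AE)) (CommRingCat.ofHom (algebraMap R AF)),
      ∃ d : CommRingCat.of A ⟶ s.pt, CommRingCat.ofHom ψE.toRingHom ≫ d = s.inl ∧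
        CommRingCat.ofHom ψF.toRingHom ≫ d = s.inr ∧
        ∀ m : CommRingCat.of A ⟶ s.pt, CommRingCat.ofHom ψE.toRingHom ≫ m = s.inl →
          CommRingCat.ofHom ψF.toRingHom ≫ m = s.inr → m = d := by
    intro s
    letI : Algebra R s.pt := (s.inl.hom.comp (algebraMap R AE)).toAlgebra
    have hcond : ∀ r : R, s.inr.hom (algebraMap R AF r) = s.inl.hom (algebraMap R AE r) := fun r =>
      (congrArg (fun ψ => ψ.hom r) s.condition).symm
    let a' : AE →ₐ[R] s.pt := { s.inl.hom with commutes' := fun r => rfl }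
    let b' : AF →ₐ[R] s.pt := { s.inr.hom with commutes' := fun r => hcond r }
    let g : MN →ₗ[R] s.pt := a'.toLinearMap ∘ₗ fE ∘ₗ fst + b'.toLinearMap ∘ₗ fF ∘ₗ snd
    have hg1 : ∀ m, g (inl m) = a' (fE m) := fun m => by
      simp only [g, LinearMap.add_apply, LinearMap.comp_apply, h11, h12, map_zero, add_zero]
      rfl
    have hg2 : ∀ n, g (inr n) = b' (fF n) := fun n => by
      simp only [g, LinearMap.add_apply, LinearMap.comp_apply, h21, h22, map_zero, zero_add]
      rfl
    have hl1 : (hf.lift g).comp ψE = a' := by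
      apply hfE.algHom_ext
      ext m
      change (hf.lift g) (ψE (fE m)) = a' (fE m)
      rw [hψE, IsSymmetricAlgebra.lift_eq, hg1]
    have hl2 : (hf.lift g).comp ψF = b' := by
      apply hfF.algHom_ext
      ext n
      change (hf.lift g) (ψF (fF n)) = b' (fF n)
      rw [hψF, IsSymmetricAlgebra.lift_eq, hg2]
    refine ⟨CommRingCat.ofHom (hf.lift g).toRingHom, ?_, ?_, ?_⟩
    · ext x
      exact congrArg (fun ψ : AE →ₐ[R] s.pt => ψ x) hl1
    · ext x
      exact congrArg (fun ψ : AF →ₐ[R] s.pt => ψ x) hl2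
    · intro m hm1 hm2
      have hm1' : ∀ x, m.hom (ψE x) = s.inl.hom x := fun x => congrArg (fun ψ => ψ.hom x) hm1
      have hm2' : ∀ x, m.hom (ψF x) = s.inr.hom x := fun x => congrArg (fun ψ => ψ.hom x) hm2
      let m' : A →ₐ[R] s.pt := { m.hom with
        commutes' := fun r => by
          change m.hom (algebraMap R A r) = s.inl.hom (algebraMap R AE r)
          rw [← ψE.commutes r, hm1'] }
      have : m' = hf.lift g := by
        apply hf.lift_unique
        ext x
        simp only [LinearMap.comp_apply, AlgHom.toLinearMap_apply]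
        rw [← htot x, map_add, map_add, map_add, hg1, hg2, ← hψE, ← hψF]
        change m.hom (ψE _) + m.hom (ψF _) = _
        rw [hm1', hm2']
        rfl
      ext x
      exact congrArg (fun ψ : A →ₐ[R] s.pt => ψ x) this
  choose d hd1 hd2 hd3 using key
  exact ⟨⟨w⟩, ⟨PushoutCocone.IsColimit.mk w d hd1 hd2 hd3⟩⟩

end Groth.Agent.Lib.Helper74.SymProd
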