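import Groth.Agent.Lib.Helper74.PullbackBC
import Groth.Agent.Lib.Helper74.SymBC
import Groth.Agent.Lib.Helper74.QMapSpec

/-!
# `V(g^* E) = V(E) ×_S S'` (helper74)
-/

set_option autoImplicit false
universe u
open CategoryTheory CategoryTheory.Limits AlgebraicGeometry TopologicalSpace Opposite

namespace Groth.Agent.Lib.Helper74.SymPullback

open Groth.Agent.Lib.Helper74.SymQ Groth.Agent.Lib.Helper74.PullbackBC

variable {S S' : Scheme.{u}} (g : S' ⟶ S)
    (E : S.Modules) [E.IsQuasicoherent] (A : RelSpec.QCAlg S) (j : E ⟶ A.toModule) (hA : RelSpec.IsSymAlg E A j)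
    (B : RelSpec.QCAlg S') (j' : (Scheme.Modules.pullback g).obj E ⟶ B.toModule)
    (hB : RelSpec.IsSymAlg ((Scheme.Modules.pullback g).obj E) B j')
    (u : RelSpec.QHom g A B)
    (hu : ∀ (U : S.Opens) (x : Γ(E, U)),
      (u.app U).hom ((j.app U) x) =
        (j'.app (g ⁻¹ᵁ U)) (((Scheme.Modules.pullbackPushforwardAdjunction g).unit.app E).app U x))

include hA hB hu in
theorem isQBaseChange : RelSpec.IsQBaseChange u := by
  haveI : ((Scheme.Modules.pullback g).obj E).IsQuasicoherent := inferInstance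
  intro U hU U' hU' hle
  have hιA := isSymmetricAlgebra_of_isSymAlg hA U hU
  have hιB := isSymmetricAlgebra_of_isSymAlg hB U' hU'
  refine Groth.Agent.Lib.Helper74.SymBC.isPushout (g.appLE U U' hle).hom
    (unitSecHom g E hle)
    (fun Q _ _ w hw => existsUnique_lift g E hU' hU hle Q w hw)
    hιA hιB (u.appLE U U' hle).hom ?_ ?_
  · intro r
    change (B.presheaf.map (homOfLE hle).op).hom ((u.app U).hom ((A.str.app (op U)).hom r)) = _
    have h1 : (u.app U).hom ((A.str.app (op U)).hom r) =
        (B.str.app (op (g ⁻¹ᵁ U))).hom ((g.app U).hom r) :=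
      congrArg (fun ψ => ψ.hom r) (u.str_app U)
    rw [h1]
    exact str_res B hle ((g.app U).hom r)
  · intro m
    change (B.presheaf.map (homOfLE hle).op).hom ((u.app U).hom ((j.app U).hom m)) = _
    rw [hu U m]
    exact (jLin_res j' hle _).symm

end Groth.Agent.Lib.Helper74.SymPullback
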