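import Groth.Agent.Lib.Helper74.SymPullback
import Groth.Agent.Lib.Helper74.SymQCAlg
import Groth.Prelude.Def_RelProj4

set_option autoImplicit false
universe u
open CategoryTheory CategoryTheory.Limits AlgebraicGeometry TopologicalSpace Opposite

noncomputable section

namespace Groth.Agent.Lib.Helper74.SymQHom

open RelSpec Groth.Agent.Lib.Helper74.SymQ Groth.Agent.Lib.Helper74.OfAffine

variable {S S' : Scheme.{u}} (g : S' ⟶ S) (E : S.Modules) [E.IsQuasicoherent]
  (A : RelSpec.QCAlg S) (j : E ⟶ A.toModule) (hA : RelSpec.IsSymAlg E A j)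
  (B : RelSpec.QCAlg S') (j' : (Scheme.Modules.pullback g).obj E ⟶ B.toModule)

/-- the sheaf `g_* B` -/
def pushB : TopCat.Sheaf CommRingCat.{u} S.carrier :=
  ⟨g.base _* B.presheaf, TopCat.Sheaf.pushforward_sheaf_of_sheaf _ B.isSheaf⟩

/-- the structure map `O_S(U) → B(g⁻¹U)` -/
def strT (U : S.Opens) : Γ(S, U) →+* B.presheaf.obj (op (g ⁻¹ᵁ U)) :=
  (g.app U ≫ B.str.app (op (g ⁻¹ᵁ U))).hom

/-- the unit followed by `j'` -/
def unitJ (U : S.Opens) (m : Γ(E, U)) : B.presheaf.obj (op (g ⁻¹ᵁ U)) :=
  (j'.app (g ⁻¹ᵁ U)).hom ((((Scheme.Modules.pullbackPushforwardAdjunction g).unit.app E).app U).hom m)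

omit [E.IsQuasicoherent] in
theorem unitJ_add (U : S.Opens) (m m' : Γ(E, U)) :
    unitJ g E B j' U (m + m') = unitJ g E B j' U m + unitJ g E B j' U m' := by
  simp only [unitJ, map_add]
  exact map_add _ _ _

omit [E.IsQuasicoherent] in
theorem unitJ_smul (U : S.Opens) (r : Γ(S, U)) (m : Γ(E, U)) :
    unitJ g E B j' U (r • m) = strT g B U r * unitJ g E B j' U m := by
  have h1 := Scheme.Modules.Hom.app_smul ((Scheme.Modules.pullbackPushforwardAdjunction g).unit.app E) r m
  rw [unitJ, h1]
  exact Scheme.Modules.Hom.app_smul j' ((g.app U).hom r) _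

omit [E.IsQuasicoherent] in
theorem unitJ_res {U V : S.Opens} (h : V ≤ U) (m : Γ(E, U)) :
    unitJ g E B j' V (E.presheaf.map (homOfLE h).op m) =
      (B.presheaf.map (homOfLE (g.preimage_mono h)).op).hom (unitJ g E B j' U m) := by
  have h1 := Groth.Agent.Lib.Helper74.PullbackBC.hom_app_res'
    ((Scheme.Modules.pullbackPushforwardAdjunction g).unit.app E) h m
  have h2 := Groth.Agent.Lib.Helper74.PullbackBC.hom_app_res' j' (g.preimage_mono h)
    ((((Scheme.Modules.pullbackPushforwardAdjunction g).unit.app E).app U).hom m)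
  have h1' : (((Scheme.Modules.pullbackPushforwardAdjunction g).unit.app E).app V).hom
      (E.presheaf.map (homOfLE h).op m) =
      ((Scheme.Modules.pullback g).obj E).presheaf.map (homOfLE (g.preimage_mono h)).op
        ((((Scheme.Modules.pullbackPushforwardAdjunction g).unit.app E).app U).hom m) := h1.symm
  rw [unitJ, h1']
  exact h2.symm

omit [E.IsQuasicoherent] in
theorem strT_res {U V : S.Opens} (h : V ≤ U) (r : Γ(S, U)) :
    strT g B V ((S.presheaf.map (homOfLE h).op).hom r) =
      (B.presheaf.map (homOfLE (g.preimage_mono h)).op).hom (strT g B U r) := by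
  have h1 := congr($(g.naturality (homOfLE h).op).hom r)
  have h2 := congr($(B.str.naturality (homOfLE (g.preimage_mono h)).op).hom ((g.app U).hom r))
  simp only [strT, CommRingCat.hom_comp, RingHom.comp_apply] at h1 h2 ⊢
  rw [← h2]
  congr 1

/-- the linear map `E(U) → B(g⁻¹U)` -/
def ellU (U : S.Opens) :
    letI := (strT g B U).toAlgebra
    Γ(E, U) →ₗ[Γ(S, U)] B.presheaf.obj (op (g ⁻¹ᵁ U)) :=
  letI := (strT g B U).toAlgebra
  { toFun := unitJ g E B j' U
    map_add' := unitJ_add g E B j' U
    map_smul' := fun r m => by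
      rw [unitJ_smul, RingHom.id_apply, Algebra.smul_def]
      rfl }

include hA in
/-- the homomorphism `A(U) → B(g⁻¹U)` over an affine open -/
def etaU (U : S.Opens) (hU : IsAffineOpen U) :
    A.presheaf.obj (op U) →+* B.presheaf.obj (op (g ⁻¹ᵁ U)) :=
  letI := (strT g B U).toAlgebra
  ((isSymmetricAlgebra_of_isSymAlg hA U hU).lift (ellU g E B j' U)).toRingHom

theorem etaU_algebraMap (U : S.Opens) (hU : IsAffineOpen U) (r : Γ(S, U)) :
    etaU g E A j hA B j' U hU ((A.str.app (op U)).hom r) = strT g B U r := by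
  let _ := (strT g B U).toAlgebra
  exact AlgHom.commutes ((isSymmetricAlgebra_of_isSymAlg hA U hU).lift (ellU g E B j' U)) r

theorem etaU_j (U : S.Opens) (hU : IsAffineOpen U) (m : Γ(E, U)) :
    etaU g E A j hA B j' U hU ((j.app U).hom m) = unitJ g E B j' U m := by
  let _ := (strT g B U).toAlgebra
  exact (isSymmetricAlgebra_of_isSymAlg hA U hU).lift_eq (ellU g E B j' U) m

theorem etaU_res {U V : S.Opens} (hU : IsAffineOpen U) (hV : IsAffineOpen V) (h : V ≤ U) :
    (etaU g E A j hA B j' V hV).comp (A.presheaf.map (homOfLE h).op).hom =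
      (B.presheaf.map (homOfLE (g.preimage_mono h)).op).hom.comp (etaU g E A j hA B j' U hU) := by
  refine ringHom_ext_of_isSymmetricAlgebra (isSymmetricAlgebra_of_isSymAlg hA U hU) ?_ ?_
  · intro r
    simp only [RingHom.comp_apply]
    rw [algebraMap_algSect, etaU_algebraMap, ← strT_res]
    have : (A.presheaf.map (homOfLE h).op).hom ((A.str.app (op U)).hom r) =
        (A.str.app (op V)).hom ((S.presheaf.map (homOfLE h).op).hom r) :=
      congr($(A.str.naturality (homOfLE h).op).hom r).symm
    rw [this, etaU_algebraMap]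
  · intro m
    simp only [RingHom.comp_apply, jLin_apply]
    rw [etaU_j, ← unitJ_res]
    have := jLin_res j h m
    simp only [jLin_apply] at this
    erw [← this]
    exact etaU_j g E A j hA B j' V hV _

/-- the maps `etaU` as a natural transformation on the affine opens -/
def etaNat : (Scheme.AffineZariskiSite.toOpensFunctor S).op ⋙ A.presheaf ⟶
    (Scheme.AffineZariskiSite.toOpensFunctor S).op ⋙ (pushB g B).obj where
  app U := CommRingCat.ofHom (etaU g E A j hA B j' U.unop.1 U.unop.2)
  naturality {U V} i := by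
    ext1
    exact etaU_res g E A j hA B j' U.unop.2 V.unop.2
      (Scheme.AffineZariskiSite.toOpens_mono i.unop.le)

/-- the extension to all opens -/
def etaAll : A.presheaf ⟶ (pushB g B).obj :=
  Functor.IsCoverDense.restrictHomEquivHom (G := Scheme.AffineZariskiSite.toOpensFunctor S)
    (K := Opens.grothendieckTopology S) (ℱ := A.presheaf) (ℱ' := pushB g B)
    (etaNat g E A j hA B j')

theorem etaAll_app (U : S.Opens) (hU : IsAffineOpen U) :
    (etaAll g E A j hA B j').app (op U) = CommRingCat.ofHom (etaU g E A j hA B j' U hU) :=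
  NatTrans.congr_app ((Functor.IsCoverDense.restrictHomEquivHom
    (G := Scheme.AffineZariskiSite.toOpensFunctor S)
    (K := Opens.grothendieckTopology S) (ℱ := A.presheaf) (ℱ' := pushB g B)).symm_apply_apply
      (etaNat g E A j hA B j')) (op ⟨U, hU⟩)

/-- sections of `g_* B` agreeing on affine opens are equal -/
theorem pushB_section_ext {U : S.Opens} (s t : B.presheaf.obj (op (g ⁻¹ᵁ U)))
    (h : ∀ (V : S.Opens) (_ : IsAffineOpen V) (hVU : V ≤ U),
      (B.presheaf.map (homOfLE (g.preimage_mono hVU)).op).hom s =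
        (B.presheaf.map (homOfLE (g.preimage_mono hVU)).op).hom t) : s = t := by
  refine TopCat.Sheaf.eq_of_locally_eq' (pushB g B)
    (fun V : {V : S.affineOpens // V.1 ≤ U} => (V.1.1 : S.Opens)) U (fun V => homOfLE V.2) ?_ s t
    (fun V => h V.1.1 V.1.2 V.2)
  intro x hx
  obtain ⟨V, hV, hxV, hVU⟩ := Opens.isBasis_iff_nbhd.mp S.isBasis_affineOpens hx
  exact Opens.mem_iSup.mpr ⟨⟨⟨V, hV⟩, hVU⟩, hxV⟩

/-- the `g`-morphism `A → B` extending the unit -/
def symQHom : RelSpec.QHom g A B where
  app U := (etaAll g E A j hA B j').app (op U)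
  naturality {U V} i := ((etaAll g E A j hA B j').naturality (homOfLE i).op).symm
  str_app U := by
    ext r
    refine pushB_section_ext g B _ _ fun V hV hVU => ?_
    have h1 := congr($((etaAll g E A j hA B j').naturality (homOfLE hVU).op).hom
      ((A.str.app (op U)).hom r))
    simp only [CommRingCat.hom_comp, RingHom.comp_apply] at h1 ⊢
    refine h1.symm.trans ?_
    rw [etaAll_app g E A j hA B j' V hV]
    have h2 : (A.presheaf.map (homOfLE hVU).op).hom ((A.str.app (op U)).hom r) =
        (A.str.app (op V)).hom ((S.presheaf.map (homOfLE hVU).op).hom r) :=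
      congr($(A.str.naturality (homOfLE hVU).op).hom r).symm
    change etaU g E A j hA B j' V hV _ = _
    rw [h2, etaU_algebraMap, strT_res]
    rfl

theorem symQHom_j (U : S.Opens) (x : Γ(E, U)) :
    ((symQHom g E A j hA B j').app U).hom ((j.app U) x) =
      (j'.app (g ⁻¹ᵁ U)) (((Scheme.Modules.pullbackPushforwardAdjunction g).unit.app E).app U x) := by
  refine pushB_section_ext g B _ _ fun V hV hVU => ?_
  have h1 := congr($((etaAll g E A j hA B j').naturality (homOfLE hVU).op).hom ((j.app U).hom x))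
  simp only [CommRingCat.hom_comp, RingHom.comp_apply] at h1
  refine h1.symm.trans ?_
  rw [etaAll_app g E A j hA B j' V hV]
  have h2 := jLin_res j hVU x
  simp only [jLin_apply] at h2
  change etaU g E A j hA B j' V hV ((A.presheaf.map (homOfLE hVU).op).hom ((j.app U).hom x)) = _
  erw [← h2]
  rw [etaU_j]
  exact unitJ_res g E B j' hVU x

end Groth.Agent.Lib.Helper74.SymQHom
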