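import Groth.Agent.Lib.Helper74.Dehom
import Groth.Agent.Lib.Helper60.TildeSec
import Groth.Prelude.Def_RelProj3


/-!
# Fraction sections of `M(n)~` over `D₊(f)`, `deg f = 1` (helper74)
-/

set_option autoImplicit false
universe u
open CategoryTheory AlgebraicGeometry TopologicalSpace Opposite
open scoped HomogeneousIdeal

namespace Groth.Agent.Lib.Helper74.TildeFr

open HomogeneousLocalization Groth.Agent.Lib.Helper60.TildeSec Groth.Agent.Lib.Helper74.Dehom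

theorem mk_add_same {R M : Type*} [CommRing R] [AddCommGroup M] [Module R M] {S : Submonoid R}
    (m m' : M) (s : S) :
    LocalizedModule.mk (m + m') s = LocalizedModule.mk m s + LocalizedModule.mk m' s := by
  rw [LocalizedModule.mk_add_mk, LocalizedModule.mk_eq]
  refine ⟨1, ?_⟩
  simp only [one_smul, smul_add, mul_smul]

variable {A σ : Type u} [CommRing A] [SetLike σ A] [AddSubgroupClass σ A] (𝒜 : ℕ → σ) [GradedRing 𝒜]
variable {f : A} (hf : f ∈ 𝒜 1)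
variable {M τ : Type u} [AddCommGroup M] [Module A M] [SetLike τ M] [AddSubgroupClass τ M]
  (ℳ : ℕ → τ) [SetLike.GradedSMul 𝒜 ℳ] (n : ℤ)

theorem pow_notMem (k : ℕ) (y : ProjectiveSpectrum 𝒜) (hy : y ∈ Proj.basicOpen 𝒜 f) :
    f ^ k ∉ y.asHomogeneousIdeal := fun h => hy (y.isPrime.mem_of_pow_mem k h)

theorem deg_eq (μ : ℕ) : ((n.toNat + μ : ℕ) : ℤ) = ((μ + (-n).toNat : ℕ) : ℤ) + n := by
  have := Int.toNat_sub_toNat_neg n
  push_cast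
  omega

/-- the section `(f^p • m) / f^(μ+q)` of `M(n)~` over `D₊(f)`, where `n = p - q`, `m ∈ ℳ μ` -/
noncomputable def fr (μ : ℕ) (m : M) (hm : m ∈ ℳ μ) :
    Γ(GrMod.tilde 𝒜 ℳ n, Proj.basicOpen 𝒜 f) :=
  fracSec 𝒜 ℳ (f ^ n.toNat • m) (SetLike.GradedSMul.smul_mem (pow_mem_deg 𝒜 hf n.toNat) hm)
    (f ^ (μ + (-n).toNat)) (pow_mem_deg 𝒜 hf _) (deg_eq n μ) _ (pow_notMem 𝒜 _)

theorem fr_val (μ : ℕ) (m : M) (hm : m ∈ ℳ μ) (y : Proj.basicOpen 𝒜 f) :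
    GrMod.val (fr 𝒜 hf ℳ n μ m hm) y =
      LocalizedModule.mk (f ^ n.toNat • m) ⟨f ^ (μ + (-n).toNat), pow_notMem 𝒜 _ y.1 y.2⟩ := rfl

theorem fr_add (μ : ℕ) (m m' : M) (hm : m ∈ ℳ μ) (hm' : m' ∈ ℳ μ) :
    fr 𝒜 hf ℳ n μ (m + m') (add_mem hm hm') = fr 𝒜 hf ℳ n μ m hm + fr 𝒜 hf ℳ n μ m' hm' := by
  apply sec_ext
  intro y
  change _ = GrMod.val (fr 𝒜 hf ℳ n μ m hm) y + GrMod.val (fr 𝒜 hf ℳ n μ m' hm') y
  rw [fr_val, fr_val, fr_val, smul_add, mk_add_same]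

/-- `fr` as an additive map on the degree-`μ` part -/
noncomputable def frHom (μ : ℕ) : ℳ μ →+ Γ(GrMod.tilde 𝒜 ℳ n, Proj.basicOpen 𝒜 f) where
  toFun m := fr 𝒜 hf ℳ n μ m m.2
  map_zero' := by
    apply sec_ext
    intro y
    rw [fr_val]
    change LocalizedModule.mk (f ^ n.toNat • (0 : M)) _ = 0
    rw [smul_zero, LocalizedModule.zero_mk]
  map_add' m m' := fr_add 𝒜 hf ℳ n μ (m : M) (m' : M) m.2 m'.2

/-- multiplication by a homogeneous element -/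
theorem fr_smul {α μ : ℕ} {a : A} (ha : a ∈ 𝒜 α) (m : M) (hm : m ∈ ℳ μ) :
    fr 𝒜 hf ℳ n (α + μ) (a • m) (SetLike.GradedSMul.smul_mem ha hm) =
      θ 𝒜 hf a • fr 𝒜 hf ℳ n μ m hm := by
  apply sec_ext
  intro y
  rw [smul_val, fr_val, fr_val, θ_val 𝒜 hf ha, LocalizedModule.mk_smul_mk]
  congr 1
  · rw [smul_comm]
  · apply Subtype.ext
    change f ^ (α + μ + (-n).toNat) = f ^ α * f ^ (μ + (-n).toNat)
    rw [add_assoc, pow_add]

theorem frHom_apply (μ : ℕ) (m : ℳ μ) :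
    frHom 𝒜 hf ℳ n μ m = fr 𝒜 hf ℳ n μ (m : M) m.2 := rfl

section decomp

variable [DirectSum.Decomposition ℳ]

/-- every section over `D₊(f)` is one of the fractions `fr` -/
theorem exists_eq_fr (t : Γ(GrMod.tilde 𝒜 ℳ n, Proj.basicOpen 𝒜 f)) :
    ∃ (e : ℕ) (m : M) (hm : m ∈ ℳ e), t = fr 𝒜 hf ℳ n e m hm := by
  obtain ⟨K, e, m, hm, he, hval⟩ := exists_eq_frac 𝒜 ℳ Nat.one_pos hf (Proj.basicOpen 𝒜 f)
    (fun y => Iff.rfl) (show GrMod.sect 𝒜 ℳ n (op (Proj.basicOpen 𝒜 f)) from t)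
  refine ⟨e, m, hm, sec_ext 𝒜 ℳ n _ _ fun y => ?_⟩
  rw [fr_val]
  refine (hval y).trans ?_
  rw [LocalizedModule.mk_eq]
  refine ⟨1, ?_⟩
  rw [one_smul, one_smul]
  change f ^ (e + (-n).toNat) • m = f ^ K • f ^ n.toNat • m
  rw [smul_smul, ← pow_add]
  congr 2
  have := Int.toNat_sub_toNat_neg n
  push_cast at he
  omega

/-- a fraction section which vanishes has numerator killed by a power of `f` -/
theorem exists_pow_smul_eq_zero_of_fr_eq_zero (e : ℕ) (m : M) (hm : m ∈ ℳ e)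
    (h0 : fr 𝒜 hf ℳ n e m hm = 0) : ∃ j : ℕ, f ^ j • m = 0 := by
  refine exists_pow_smul_eq_zero 𝒜 ℳ hm Nat.one_pos hf fun x hx => ?_
  have h1 : GrMod.val (fr 𝒜 hf ℳ n e m hm) ⟨x, hx⟩ = 0 := by rw [h0]; rfl
  rw [fr_val, ← LocalizedModule.zero_mk 1, LocalizedModule.mk_eq] at h1
  obtain ⟨u, hu⟩ := h1
  rw [smul_zero, smul_zero, one_smul] at hu
  refine ⟨(u : A) * f ^ n.toNat, fun h => ?_, ?_⟩
  · rcases x.isPrime.mem_or_mem h with h' | h'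
    · exact u.2 h'
    · exact pow_notMem 𝒜 _ x hx h'
  · rw [mul_smul]
    exact hu

end decomp

section comap

variable {B σ' : Type u} [CommRing B] [SetLike σ' B] [AddSubgroupClass σ' B]
  {ℬ : ℕ → σ'} [GradedRing ℬ] (ψ : 𝒜 →+*ᵍ ℬ) (hψ : ℬ₊ ≤ (𝒜₊).map ψ)
  {N τ' : Type u} [AddCommGroup N] [Module B N] [SetLike τ' N] [AddSubgroupClass τ' N] (𝒩 : ℕ → τ')
  [SetLike.GradedSMul ℬ 𝒩]
  (v : M →ₛₗ[ψ.toRingHom] N) (hv : ∀ (i : ℕ) (m : M), m ∈ ℳ i → v m ∈ 𝒩 i)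

/-- the canonical map `M(n)~ → Φ_* N(n)~` on fraction sections -/
theorem comap_fr (μ : ℕ) (m : M) (hm : m ∈ ℳ μ) :
    (show Γ(GrMod.tilde ℬ 𝒩 n, Proj.basicOpen ℬ (ψ f)) from
      ((GrMod.comap ψ hψ v hv n).app (Proj.basicOpen 𝒜 f)).hom (fr 𝒜 hf ℳ n μ m hm)) =
    fr ℬ (ψ.map_mem hf) 𝒩 n μ (v m) (hv μ m hm) := by
  apply sec_ext
  intro y
  rw [fr_val]
  refine (GrMod.comap_app_val ψ hψ v hv n (Proj.basicOpen 𝒜 f) (fr 𝒜 hf ℳ n μ m hm) y).trans ?_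
  rw [fr_val, GrMod.locModMap_mk]
  congr 1
  · rw [LinearMap.map_smulₛₗ]
    congr 1
    exact map_pow ψ f _
  · exact Subtype.ext (map_pow ψ f _)

end comap

end Groth.Agent.Lib.Helper74.TildeFr
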