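import Groth.Agent.Lib.Helper74.TwistMul
import Groth.Agent.Lib.Helper74.GrModLoc
import Groth.Agent.Lib.Helper60.TildeQCoh

/-!
# The action of sections of `O(b)` on sections of `M(a)~` on `Proj` (helper74)
-/

set_option autoImplicit false
universe u
open CategoryTheory AlgebraicGeometry TopologicalSpace Opposite

namespace Groth.Agent.Lib.Helper74.TildeMul

open Groth.Agent.Lib.Helper60.TildeSec Groth.Agent.Lib.Lead.Inv Groth.Agent.Lib.Helper74.TwistGen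
open Groth.Agent.Lib.Helper74

variable {A σ : Type u} [CommRing A] [SetLike σ A] [AddSubgroupClass σ A] (𝒜 : ℕ → σ) [GradedRing 𝒜]
variable {M τ : Type u} [AddCommGroup M] [Module A M] [SetLike τ M] [AddSubgroupClass τ M]
  (ℳ : ℕ → τ) [SetLike.GradedSMul 𝒜 ℳ]

omit [AddSubgroupClass τ M] [SetLike.GradedSMul 𝒜 ℳ] in
theorem mk_mem_tildeAt {n : ℤ} {i j : ℕ} {m : M} (hm : m ∈ ℳ i) {s : A} (hs : s ∈ 𝒜 j)
    (x : ProjectiveSpectrum 𝒜) (hsx : s ∉ x.asHomogeneousIdeal)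
    (hij : (i : ℤ) = j + n ∨ m = 0) :
    (LocalizedModule.mk m ⟨s, hsx⟩ : GrMod.LocMod 𝒜 (M := M) x) ∈ GrMod.tildeAt 𝒜 ℳ n x := by
  rcases hij with hij | rfl
  · exact Submodule.subset_span ⟨i, j, ⟨m, hm⟩, ⟨s, hs⟩, hsx, hij, rfl⟩
  · rw [LocalizedModule.zero_mk]
    exact zero_mem _

/-- local fraction form of the product of a section of `O(b)` and a section of `M(a)~` -/
theorem exists_smul_frac {a b k : ℤ} (hk : k = a + b) {V : (Proj 𝒜).Opens}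
    (t : Γ(GrTwist.twist 𝒜 b, V)) (s : Γ(GrMod.tilde 𝒜 ℳ a, V)) (y : V) :
    ∃ (V' : Opens (ProjectiveSpectrum.top 𝒜)) (_ : y.1 ∈ V') (i : V' ⟶ V) (i' j' : ℕ)
      (m : ℳ i') (c : 𝒜 j') (nin : ∀ z : V', (c : A) ∉ z.1.asHomogeneousIdeal),
      ((i' : ℤ) = j' + k ∨ (m : M) = 0) ∧ ∀ z : V',
        GrTwist.val t (i z) • GrMod.val s (i z) =
          (LocalizedModule.mk (m : M) ⟨c, nin z⟩ : GrMod.LocMod 𝒜 (M := M) z.1) := by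
  obtain ⟨V1, hy1, i1, a1, b1, ⟨p1, hp1⟩, ⟨q1, hq1⟩, nin1, hd1, hv1⟩ :=
    (show GrTwist.sectN (𝒜 := 𝒜) b (op V) from t).2 y
  obtain ⟨V2, hy2, i2, a2, b2, ⟨p2, hp2⟩, ⟨q2, hq2⟩, nin2, hd2, hv2⟩ :=
    (show GrMod.sect 𝒜 ℳ a (op V) from s).2 y
  have nin : ∀ z : (V1 ⊓ V2 : Opens _), q1 * q2 ∉ z.1.asHomogeneousIdeal := fun z h =>
    ((z.1.isPrime.mem_or_mem h).elim (nin1 ⟨z.1, z.2.1⟩)) (nin2 ⟨z.1, z.2.2⟩)
  refine ⟨V1 ⊓ V2, ⟨hy1, hy2⟩, Opens.infLELeft _ _ ≫ i1, a1 + a2, b1 + b2,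
    ⟨p1 • p2, SetLike.GradedSMul.smul_mem hp1 hp2⟩, ⟨q1 * q2, SetLike.mul_mem_graded hq1 hq2⟩, nin,
    ?_, fun z => ?_⟩
  · replace hd1 : (a1 : ℤ) = b1 + b ∨ p1 = 0 := hd1
    replace hd2 : (a2 : ℤ) = b2 + a ∨ p2 = 0 := hd2
    rcases hd1 with h1 | h1
    · rcases hd2 with h2 | h2
      · left
        push_cast
        omega
      · right
        change p1 • p2 = 0
        rw [h2, smul_zero]
    · right
      change p1 • p2 = 0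
      rw [h1, zero_smul]
  · have e1 := hv1 ⟨z.1, z.2.1⟩
    have e2 := hv2 ⟨z.1, z.2.2⟩
    change GrTwist.val t ⟨z.1, _⟩ = _ at e1
    change GrMod.val s ⟨z.1, _⟩ = _ at e2
    change GrTwist.val t ⟨z.1, _⟩ • GrMod.val s ⟨z.1, _⟩ = _
    rw [e1, e2, LocalizedModule.mk_smul_mk]
    rfl

/-- the product of a section of `O(b)` and a section of `M(a)~`, a section of `M(a + b)~` -/
def smulSec {a b k : ℤ} (hk : k = a + b) {V : (Proj 𝒜).Opens}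
    (t : Γ(GrTwist.twist 𝒜 b, V)) (s : Γ(GrMod.tilde 𝒜 ℳ a, V)) : Γ(GrMod.tilde 𝒜 ℳ k, V) :=
  show GrMod.sect 𝒜 ℳ k (op V) from
  ⟨fun y => ⟨GrTwist.val t y • GrMod.val s y, by
      obtain ⟨V', hy, i, i', j', m, c, nin, hd, hv⟩ := exists_smul_frac 𝒜 ℳ hk t s y
      have := hv ⟨y.1, hy⟩
      change GrTwist.val t y • GrMod.val s y = _ at this
      rw [this]
      exact mk_mem_tildeAt 𝒜 ℳ m.2 c.2 y.1 (nin ⟨y.1, hy⟩) hd⟩,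
    fun y => by
      obtain ⟨V', hy, i, i', j', m, c, nin, hd, hv⟩ := exists_smul_frac 𝒜 ℳ hk t s y
      exact ⟨V', hy, i, i', j', m, c, nin, hd, hv⟩⟩

theorem smulSec_val {a b k : ℤ} (hk : k = a + b) {V : (Proj 𝒜).Opens}
    (t : Γ(GrTwist.twist 𝒜 b, V)) (s : Γ(GrMod.tilde 𝒜 ℳ a, V)) (y : V) :
    GrMod.val (smulSec 𝒜 ℳ hk t s) y = GrTwist.val t y • GrMod.val s y := rfl

theorem add_valT (n : ℤ) {W : (Proj 𝒜).Opens} (s t : Γ(GrMod.tilde 𝒜 ℳ n, W)) (y : W) :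
    GrMod.val (s + t) y = GrMod.val s y + GrMod.val t y := rfl

theorem smulSec_add_left {a b k : ℤ} (hk : k = a + b) {V : (Proj 𝒜).Opens}
    (t t' : Γ(GrTwist.twist 𝒜 b, V)) (s : Γ(GrMod.tilde 𝒜 ℳ a, V)) :
    smulSec 𝒜 ℳ hk (t + t') s = smulSec 𝒜 ℳ hk t s + smulSec 𝒜 ℳ hk t' s := by
  refine sec_ext 𝒜 ℳ k _ _ fun y => ?_
  rw [add_valT, smulSec_val, smulSec_val, smulSec_val, TwistNat.add_val, add_smul]

theorem smulSec_add_right {a b k : ℤ} (hk : k = a + b) {V : (Proj 𝒜).Opens}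
    (t : Γ(GrTwist.twist 𝒜 b, V)) (s s' : Γ(GrMod.tilde 𝒜 ℳ a, V)) :
    smulSec 𝒜 ℳ hk t (s + s') = smulSec 𝒜 ℳ hk t s + smulSec 𝒜 ℳ hk t s' := by
  refine sec_ext 𝒜 ℳ k _ _ fun y => ?_
  rw [add_valT, smulSec_val, smulSec_val, smulSec_val, add_valT, smul_add]

theorem smulSec_smul_left {a b k : ℤ} (hk : k = a + b) {V : (Proj 𝒜).Opens} (r : Γ(Proj 𝒜, V))
    (t : Γ(GrTwist.twist 𝒜 b, V)) (s : Γ(GrMod.tilde 𝒜 ℳ a, V)) :
    smulSec 𝒜 ℳ hk (r • t) s = r • smulSec 𝒜 ℳ hk t s := by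
  refine sec_ext 𝒜 ℳ k _ _ fun y => ?_
  rw [smul_val, smulSec_val, smulSec_val, TwistNat.smul_val, mul_smul]

theorem smulSec_smul_right {a b k : ℤ} (hk : k = a + b) {V : (Proj 𝒜).Opens} (r : Γ(Proj 𝒜, V))
    (t : Γ(GrTwist.twist 𝒜 b, V)) (s : Γ(GrMod.tilde 𝒜 ℳ a, V)) :
    smulSec 𝒜 ℳ hk t (r • s) = r • smulSec 𝒜 ℳ hk t s := by
  refine sec_ext 𝒜 ℳ k _ _ fun y => ?_
  rw [smul_val, smulSec_val, smulSec_val, smul_val, smul_comm]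

theorem smulSec_res {a b k : ℤ} (hk : k = a + b) {V V' : (Proj 𝒜).Opens} (i : V' ⟶ V)
    (t : Γ(GrTwist.twist 𝒜 b, V)) (s : Γ(GrMod.tilde 𝒜 ℳ a, V)) :
    (GrMod.tilde 𝒜 ℳ k).presheaf.map i.op (smulSec 𝒜 ℳ hk t s) =
      smulSec 𝒜 ℳ hk ((GrTwist.twist 𝒜 b).presheaf.map i.op t)
        ((GrMod.tilde 𝒜 ℳ a).presheaf.map i.op s) := rfl

/-- associativity of the action with the product of twist sections -/
theorem smulSec_smulSec {a b c k l : ℤ} (hk : k = a + b) (hl : l = k + c) {bc : ℤ} (hbc : bc = c + b)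
    (hl' : l = a + bc) {V : (Proj 𝒜).Opens}
    (t : Γ(GrTwist.twist 𝒜 b, V)) (t' : Γ(GrTwist.twist 𝒜 c, V)) (s : Γ(GrMod.tilde 𝒜 ℳ a, V)) :
    smulSec 𝒜 ℳ hl t' (smulSec 𝒜 ℳ hk t s) =
      smulSec 𝒜 ℳ hl' (TwistNat.mulSec 𝒜 hbc t' t) s := by
  refine sec_ext 𝒜 ℳ l _ _ fun y => ?_
  rw [smulSec_val, smulSec_val, smulSec_val, TwistNat.mulSec_val, mul_smul]

end Groth.Agent.Lib.Helper74.TildeMul
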