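import Groth.Agent.Lib.Helper74.TildeMul

set_option autoImplicit false
universe u
open CategoryTheory AlgebraicGeometry TopologicalSpace Opposite

namespace Groth.Agent.Lib.Helper74.TildeMul

open Groth.Agent.Lib.Helper60.TildeSec Groth.Agent.Lib.Lead.Inv Groth.Agent.Lib.Helper74.TwistGen
open Groth.Agent.Lib.Helper74

variable {A σ : Type u} [CommRing A] [SetLike σ A] [AddSubgroupClass σ A] (𝒜 : ℕ → σ) [GradedRing 𝒜]
variable {M τ : Type u} [AddCommGroup M] [Module A M] [SetLike τ M] [AddSubgroupClass τ M]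
  (ℳ : ℕ → τ) [SetLike.GradedSMul 𝒜 ℳ]

theorem powSec_val_mul {d : ℕ} (f : A) (hf : f ∈ 𝒜 d) (j m m' : ℤ) (hm : m = j * d)
    (hm' : m' = (-j) * d) (W : (Proj 𝒜).Opens) (hW : ∀ y ∈ W, f ∉ y.asHomogeneousIdeal) (y : W) :
    GrTwist.val (TwistNat.powSec 𝒜 f hf (-j) m' hm' W hW) y *
      GrTwist.val (TwistNat.powSec 𝒜 f hf j m hm W hW) y = 1 := by
  rw [TwistNat.powSec_val, TwistNat.powSec_val, Localization.mk_mul, ← Localization.mk_one,
    Localization.mk_eq_mk_iff, Localization.r_iff_exists]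
  refine ⟨1, ?_⟩
  simp only [OneMemClass.coe_one, one_mul, mul_one, Submonoid.coe_mul, neg_neg]
  ring

/-- multiplication by `f ^ j` is bijective on sections over opens where `f` does not vanish -/
theorem smulSec_powSec_bijective {d : ℕ} (f : A) (hf : f ∈ 𝒜 d) (j b : ℤ) (hb : b = j * d)
    {a k : ℤ} (hk : k = a + b) (W : (Proj 𝒜).Opens) (hW : ∀ y ∈ W, f ∉ y.asHomogeneousIdeal) :
    Function.Bijective (fun s : Γ(GrMod.tilde 𝒜 ℳ a, W) =>
      smulSec 𝒜 ℳ hk (TwistNat.powSec 𝒜 f hf j b hb W hW) s) := by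
  have hb' : -b = (-j) * d := by rw [hb]; ring
  have hk' : a = k + -b := by omega
  constructor
  · intro s s' h
    refine sec_ext 𝒜 ℳ a _ _ fun y => ?_
    have h1 := congrArg (fun σ => GrTwist.val (TwistNat.powSec 𝒜 f hf (-j) (-b) hb' W hW) y •
      GrMod.val σ y) h
    simp only [smulSec_val] at h1
    rwa [← mul_smul, ← mul_smul, powSec_val_mul, one_smul, one_smul] at h1
  · intro s'
    refine ⟨smulSec 𝒜 ℳ hk' (TwistNat.powSec 𝒜 f hf (-j) (-b) hb' W hW) s', ?_⟩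
    refine sec_ext 𝒜 ℳ k _ _ fun y => ?_
    rw [smulSec_val, smulSec_val, ← mul_smul, mul_comm, powSec_val_mul, one_smul]

end Groth.Agent.Lib.Helper74.TildeMul
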