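import Groth.Agent.Lib.Helper74.TildeFr
import Groth.Agent.Lib.Helper74.QCohBij
import Groth.Agent.Lib.Helper74.PullbackBC


/-!
# `Φ^*(M(n)~) ≅ (M ⊗_A B)(n)~` for a graded base change, `A` generated in degree one (helper74)
-/

set_option autoImplicit false
universe u
open CategoryTheory AlgebraicGeometry TopologicalSpace Opposite
open scoped HomogeneousIdeal

namespace Groth.Agent.Lib.Helper74.TildePullback

open HomogeneousLocalization Groth.Agent.Lib.Helper60.TildeSec Groth.Agent.Lib.Helper74.Dehom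
  Groth.Agent.Lib.Helper74.TildeFr

section algebra

/-- `Q` with the ring `B` acting through `θ : B → B₀` -/
def Via {B B₀ : Type u} [CommRing B] [CommRing B₀] (_θ : B →+* B₀) (Q : Type u) : Type u := Q

variable {B B₀ : Type u} [CommRing B] [CommRing B₀] (θ : B →+* B₀) (Q : Type u) [AddCommGroup Q]
  [Module B₀ Q]

instance : AddCommGroup (Via θ Q) := inferInstanceAs (AddCommGroup Q)
noncomputable instance : Module B (Via θ Q) := Module.compHom Q θ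

theorem via_smul (b : B) (q : Via θ Q) : b • q = (θ b • (show Q from q) : Q) := rfl

end algebra

theorem pow_smul_eq_self {R Q : Type*} [Monoid R] [MulAction R Q] {r : R}
    (h : ∀ q : Q, r • q = q) (k : ℕ) (q : Q) : r ^ k • q = q := by
  induction k with
  | zero => rw [pow_zero, one_smul]
  | succ k ih => rw [pow_succ, mul_smul, h, ih]

section glue

variable {A σ : Type u} [CommRing A] [SetLike σ A] [AddSubgroupClass σ A] (𝒜 : ℕ → σ) [GradedRing 𝒜]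
variable {M τ : Type u} [AddCommGroup M] [Module A M] [SetLike τ M] [AddSubgroupClass τ M]
  (ℳ : ℕ → τ) [SetLike.GradedSMul 𝒜 ℳ] [DirectSum.Decomposition ℳ]
variable {Q : Type u} [AddCommGroup Q] {R₀ : Type u} [CommRing R₀] [Module R₀ Q] (κ : A →+* R₀)
  (c : ∀ μ, ℳ μ →+ Q)

/-- glue additive maps on the graded pieces -/
noncomputable def glueAdd : M →+ Q :=
  (DirectSum.toAddMonoid c).comp (DirectSum.decomposeAddEquiv ℳ).toAddMonoidHom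

omit [SetLike.GradedSMul 𝒜 ℳ] in
theorem glueAdd_of_mem {μ : ℕ} {m : M} (hm : m ∈ ℳ μ) : glueAdd ℳ c m = c μ ⟨m, hm⟩ := by
  change DirectSum.toAddMonoid c (DirectSum.decompose ℳ m) = _
  rw [DirectSum.decompose_of_mem ℳ hm, DirectSum.toAddMonoid_of]

theorem glueAdd_smul
    (hc : ∀ {α μ : ℕ} (a : A) (ha : a ∈ 𝒜 α) (m : M) (hm : m ∈ ℳ μ),
      c (α + μ) ⟨a • m, SetLike.GradedSMul.smul_mem ha hm⟩ = κ a • c μ ⟨m, hm⟩)
    (a : A) (m : M) : glueAdd ℳ c (a • m) = κ a • glueAdd ℳ c m := by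
  induction a using DirectSum.Decomposition.inductionOn 𝒜 with
  | zero => simp
  | @homogeneous α a =>
    induction m using DirectSum.Decomposition.inductionOn ℳ with
    | zero => simp
    | @homogeneous μ m =>
      rw [glueAdd_of_mem ℳ c (SetLike.GradedSMul.smul_mem a.2 m.2), glueAdd_of_mem ℳ c m.2]
      exact hc a a.2 m m.2
    | add m m' h h' => rw [smul_add, map_add, map_add, h, h', smul_add]
  | add a b ha hb => rw [add_smul, map_add, ha, hb, map_add, add_smul]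

/-- homogenization: every element is congruent to a homogeneous one modulo `f - 1` -/
theorem exists_homogenize {f : A} (hf : f ∈ 𝒜 1) (y : M) :
    ∃ (E : ℕ) (y' : M), y' ∈ ℳ E ∧ ∀ (Q' : Type u) [AddCommGroup Q'] [Module A Q']
      (Λ : M →ₗ[A] Q'), (∀ q : Q', f • q = q) → Λ y' = Λ y := by
  have hpow : ∀ (Q' : Type u) [AddCommGroup Q'] [Module A Q'], (∀ q : Q', f • q = q) →
      ∀ (k : ℕ) (q : Q'), f ^ k • q = q := by
    intro Q' _ _ h k q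
    induction k with
    | zero => rw [pow_zero, one_smul]
    | succ k ih => rw [pow_succ, mul_smul, h, ih]
  induction y using DirectSum.Decomposition.inductionOn ℳ with
  | zero => exact ⟨0, 0, zero_mem _, fun _ _ _ _ _ => rfl⟩
  | @homogeneous i m => exact ⟨i, m, m.2, fun _ _ _ _ _ => rfl⟩
  | add y₁ y₂ h₁ h₂ =>
    obtain ⟨E₁, y₁', hy₁, H₁⟩ := h₁
    obtain ⟨E₂, y₂', hy₂, H₂⟩ := h₂
    refine ⟨E₂ + E₁, f ^ E₂ • y₁' + f ^ E₁ • y₂', add_mem ?_ ?_, ?_⟩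
    · exact SetLike.GradedSMul.smul_mem (pow_mem_deg 𝒜 hf E₂) hy₁
    · rw [add_comm E₂ E₁]
      exact SetLike.GradedSMul.smul_mem (pow_mem_deg 𝒜 hf E₁) hy₂
    · intro Q' _ _ Λ hΛ
      rw [map_add, map_add, map_smul, map_smul, hpow Q' hΛ, hpow Q' hΛ, H₁ Q' Λ hΛ, H₂ Q' Λ hΛ]

end glue

section main

open Groth.Agent.Lib.Helper74.PullbackBC Scheme.Modules

variable {A σ : Type u} [CommRing A] [SetLike σ A] [AddSubgroupClass σ A] {𝒜 : ℕ → σ} [GradedRing 𝒜]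
  {B σ' : Type u} [CommRing B] [SetLike σ' B] [AddSubgroupClass σ' B] {ℬ : ℕ → σ'} [GradedRing ℬ]
  (ψ : 𝒜 →+*ᵍ ℬ) (hψ : ℬ₊ ≤ (𝒜₊).map ψ)
  {M τ : Type u} [AddCommGroup M] [Module A M] [SetLike τ M] [AddSubgroupClass τ M] (ℳ : ℕ → τ)
  [SetLike.GradedSMul 𝒜 ℳ] [DirectSum.Decomposition ℳ]
  {N τ' : Type u} [AddCommGroup N] [Module B N] [SetLike τ' N] [AddSubgroupClass τ' N] (𝒩 : ℕ → τ')
  [SetLike.GradedSMul ℬ 𝒩] [DirectSum.Decomposition 𝒩]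
  (v : M →ₛₗ[ψ.toRingHom] N) (hv : ∀ (i : ℕ) (m : M), m ∈ ℳ i → v m ∈ 𝒩 i)
  (n : ℤ) {f : A} (hf : f ∈ 𝒜 1)

instance : (GrMod.tilde 𝒜 ℳ n).IsQuasicoherent := isQuasicoherent_tilde 𝒜 ℳ n

/-- the adjoint morphism `ν : Φ^*(M(n)~) ⟶ N(n)~` -/
noncomputable def nu :
    (pullback (Proj.map ψ hψ)).obj (GrMod.tilde 𝒜 ℳ n) ⟶ GrMod.tilde ℬ 𝒩 n :=
  ((pullbackPushforwardAdjunction (Proj.map ψ hψ)).homEquiv _ _).symm (GrMod.comap ψ hψ v hv n)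

omit [DirectSum.Decomposition ℳ] [DirectSum.Decomposition 𝒩] in
theorem nu_unit (V : (Proj 𝒜).Opens) (x : Γ(GrMod.tilde 𝒜 ℳ n, V)) :
    ((nu ψ hψ ℳ 𝒩 v hv n).app (Proj.map ψ hψ ⁻¹ᵁ V)).hom
      ((((pullbackPushforwardAdjunction (Proj.map ψ hψ)).unit.app (GrMod.tilde 𝒜 ℳ n)).app V).hom x) =
    ((GrMod.comap ψ hψ v hv n).app V).hom x := by
  have h : (pullbackPushforwardAdjunction (Proj.map ψ hψ)).unit.app (GrMod.tilde 𝒜 ℳ n) ≫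
      (pushforward (Proj.map ψ hψ)).map (nu ψ hψ ℳ 𝒩 v hv n) = GrMod.comap ψ hψ v hv n :=
    (Adjunction.homEquiv_unit _ _ _ _).symm.trans (Equiv.apply_symm_apply _ _)
  exact congrArg (fun φ => (Scheme.Modules.Hom.app φ V).hom x) h

/-- `U' = D₊(ψ f) ≤ Φ⁻¹ D₊(f)` -/
theorem le_preimage : Proj.basicOpen ℬ (ψ f) ≤ Proj.map ψ hψ ⁻¹ᵁ Proj.basicOpen 𝒜 f := le_rfl

omit [DirectSum.Decomposition ℳ] [DirectSum.Decomposition 𝒩] in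
theorem nu_unitSec (x : Γ(GrMod.tilde 𝒜 ℳ n, Proj.basicOpen 𝒜 f)) :
    ((nu ψ hψ ℳ 𝒩 v hv n).app (Proj.basicOpen ℬ (ψ f))).hom
      (unitSec (Proj.map ψ hψ) (GrMod.tilde 𝒜 ℳ n) (le_preimage ψ hψ) x) =
    ((GrMod.comap ψ hψ v hv n).app (Proj.basicOpen 𝒜 f)).hom x := by
  have h1 := Groth.Agent.Lib.Lead.QCohAff.res_self
    ((pullback (Proj.map ψ hψ)).obj (GrMod.tilde 𝒜 ℳ n))
    (le_refl (Proj.map ψ hψ ⁻¹ᵁ Proj.basicOpen 𝒜 f))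
    ((((pullbackPushforwardAdjunction (Proj.map ψ hψ)).unit.app (GrMod.tilde 𝒜 ℳ n)).app
      (Proj.basicOpen 𝒜 f)).hom x)
  exact (congrArg ((nu ψ hψ ℳ 𝒩 v hv n).app (Proj.map ψ hψ ⁻¹ᵁ Proj.basicOpen 𝒜 f)).hom h1).trans
    (nu_unit ψ hψ ℳ 𝒩 v hv n _ x)

/-- the components of `ω` -/
noncomputable def omegaC (μ : ℕ) : ℳ μ →+
    Γ((pullback (Proj.map ψ hψ)).obj (GrMod.tilde 𝒜 ℳ n), Proj.basicOpen ℬ (ψ f)) :=
  (unitSecHom (Proj.map ψ hψ) (GrMod.tilde 𝒜 ℳ n) (le_preimage ψ hψ)).comp (frHom 𝒜 hf ℳ n μ)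

omit [DirectSum.Decomposition ℳ] in
theorem omegaC_smul {α μ : ℕ} (a : A) (ha : a ∈ 𝒜 α) (m : M) (hm : m ∈ ℳ μ) :
    omegaC ψ hψ ℳ n hf (α + μ) ⟨a • m, SetLike.GradedSMul.smul_mem ha hm⟩ =
      ((θ ℬ (ψ.map_mem hf)).comp ψ.toRingHom) a • omegaC ψ hψ ℳ n hf μ ⟨m, hm⟩ := by
  change unitSec (Proj.map ψ hψ) (GrMod.tilde 𝒜 ℳ n) (le_preimage ψ hψ)
      (fr 𝒜 hf ℳ n (α + μ) (a • m) (SetLike.GradedSMul.smul_mem ha hm)) =
    θ ℬ (ψ.map_mem hf) (ψ a) • unitSec (Proj.map ψ hψ) (GrMod.tilde 𝒜 ℳ n) (le_preimage ψ hψ)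
      (fr 𝒜 hf ℳ n μ m hm)
  rw [fr_smul 𝒜 hf ℳ n ha m hm, unitSec_smul, appLE_θ 𝒜 hf ψ hψ]

/-- the additive map `ω : M → Γ(Φ^* M(n)~, D₊(ψ f))` -/
noncomputable def omegaAdd : M →+
    Γ((pullback (Proj.map ψ hψ)).obj (GrMod.tilde 𝒜 ℳ n), Proj.basicOpen ℬ (ψ f)) :=
  glueAdd ℳ (omegaC ψ hψ ℳ n hf)

theorem omegaAdd_of_mem {μ : ℕ} {m : M} (hm : m ∈ ℳ μ) :
    omegaAdd ψ hψ ℳ n hf m = unitSec (Proj.map ψ hψ) (GrMod.tilde 𝒜 ℳ n) (le_preimage ψ hψ)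
      (fr 𝒜 hf ℳ n μ m hm) :=
  glueAdd_of_mem ℳ _ hm

theorem omegaAdd_smul (a : A) (m : M) :
    omegaAdd ψ hψ ℳ n hf (a • m) = θ ℬ (ψ.map_mem hf) (ψ a) • omegaAdd ψ hψ ℳ n hf m :=
  glueAdd_smul 𝒜 ℳ ((θ ℬ (ψ.map_mem hf)).comp ψ.toRingHom) (omegaC ψ hψ ℳ n hf)
    (fun a ha m hm => omegaC_smul ψ hψ ℳ n hf a ha m hm) a m

/-- `ω` as a `ψ`-semilinear map -/
noncomputable def omega : M →ₛₗ[ψ.toRingHom] Via (θ ℬ (ψ.map_mem hf))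
    Γ((pullback (Proj.map ψ hψ)).obj (GrMod.tilde 𝒜 ℳ n), Proj.basicOpen ℬ (ψ f)) where
  toFun := omegaAdd ψ hψ ℳ n hf
  map_add' := map_add _
  map_smul' := omegaAdd_smul ψ hψ ℳ n hf

/-- the additive map `Σ : N → Γ(N(n)~, D₊(ψ f))` -/
noncomputable def sigmaAdd : N →+ Γ(GrMod.tilde ℬ 𝒩 n, Proj.basicOpen ℬ (ψ f)) :=
  glueAdd 𝒩 (frHom ℬ (ψ.map_mem hf) 𝒩 n)

theorem sigmaAdd_of_mem {ε : ℕ} {y : N} (hy : y ∈ 𝒩 ε) :
    sigmaAdd ψ 𝒩 n hf y = fr ℬ (ψ.map_mem hf) 𝒩 n ε y hy :=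
  glueAdd_of_mem 𝒩 _ hy

theorem sigmaAdd_smul (b : B) (y : N) :
    sigmaAdd ψ 𝒩 n hf (b • y) = θ ℬ (ψ.map_mem hf) b • sigmaAdd ψ 𝒩 n hf y :=
  glueAdd_smul ℬ 𝒩 (θ ℬ (ψ.map_mem hf)) (frHom ℬ (ψ.map_mem hf) 𝒩 n)
    (fun a ha m hm => fr_smul ℬ (ψ.map_mem hf) 𝒩 n ha m hm) b y

/-- `Σ` as a `B`-linear map -/
noncomputable def sigma : N →ₗ[B] Via (θ ℬ (ψ.map_mem hf))
    Γ(GrMod.tilde ℬ 𝒩 n, Proj.basicOpen ℬ (ψ f)) where
  toFun := sigmaAdd ψ 𝒩 n hf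
  map_add' := map_add _
  map_smul' := sigmaAdd_smul ψ 𝒩 n hf

/-- `ν` on sections over `D₊(ψ f)` as a `B`-linear map -/
noncomputable def nuLin : Via (θ ℬ (ψ.map_mem hf))
      Γ((pullback (Proj.map ψ hψ)).obj (GrMod.tilde 𝒜 ℳ n), Proj.basicOpen ℬ (ψ f)) →ₗ[B]
    Via (θ ℬ (ψ.map_mem hf)) Γ(GrMod.tilde ℬ 𝒩 n, Proj.basicOpen ℬ (ψ f)) where
  toFun := ((nu ψ hψ ℳ 𝒩 v hv n).app (Proj.basicOpen ℬ (ψ f))).hom
  map_add' := map_add _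
  map_smul' b x := Scheme.Modules.Hom.app_smul (nu ψ hψ ℳ 𝒩 v hv n) (θ ℬ (ψ.map_mem hf) b) x

variable (hbc : ∀ (Q : Type u) [AddCommGroup Q] [Module B Q] (w : M →ₛₗ[ψ.toRingHom] Q),
      ∃! g : N →ₗ[B] Q, ∀ m : M, g (v m) = w m)

include hbc hf in
/-- `ν` is bijective on the sections over `D₊(ψ f)`, `f` homogeneous of degree one -/
theorem bijective_nu_app :
    Function.Bijective ((nu ψ hψ ℳ 𝒩 v hv n).app (Proj.basicOpen ℬ (ψ f))) := by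
  have hg : ψ f ∈ ℬ 1 := ψ.map_mem hf
  have hUaff : IsAffineOpen (Proj.basicOpen 𝒜 f) :=
    Proj.isAffineOpen_basicOpen 𝒜 f hf Nat.one_pos
  have hU'aff : IsAffineOpen (Proj.basicOpen ℬ (ψ f)) :=
    Proj.isAffineOpen_basicOpen ℬ (ψ f) hg Nat.one_pos
  obtain ⟨Ω, hΩ, -⟩ := hbc _ (omega ψ hψ ℳ n hf)
  have hΩ' : ∀ m : M, Ω (v m) = omegaAdd ψ hψ ℳ n hf m := hΩ
  -- `ν ∘ Ω = Σ`
  have hSig : (nuLin ψ hψ ℳ 𝒩 v hv n hf).comp Ω = sigma ψ 𝒩 n hf := by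
    refine (hbc _ ((sigma ψ 𝒩 n hf).comp v)).unique (fun m => ?_) (fun m => rfl)
    change ((nu ψ hψ ℳ 𝒩 v hv n).app (Proj.basicOpen ℬ (ψ f))).hom (Ω (v m)) =
      sigmaAdd ψ 𝒩 n hf (v m)
    rw [hΩ']
    induction m using DirectSum.Decomposition.inductionOn ℳ with
    | zero => simp
    | @homogeneous μ m =>
      rw [omegaAdd_of_mem ψ hψ ℳ n hf m.2, nu_unitSec, sigmaAdd_of_mem ψ 𝒩 n hf (hv μ m m.2)]
      exact comap_fr 𝒜 hf ℳ n ψ hψ 𝒩 v hv μ m m.2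
    | add m m' h h' => rw [map_add, map_add, h, h', map_add, map_add]
  have hSig' : ∀ y : N, ((nu ψ hψ ℳ 𝒩 v hv n).app (Proj.basicOpen ℬ (ψ f))).hom (Ω y) =
      sigmaAdd ψ 𝒩 n hf y := fun y => congrArg (fun L => L y) hSig
  -- `ψ f` acts as the identity
  have hgP : ∀ q : Via (θ ℬ hg)
      Γ((pullback (Proj.map ψ hψ)).obj (GrMod.tilde 𝒜 ℳ n), Proj.basicOpen ℬ (ψ f)),
      (ψ f) • q = q := fun q => by
    rw [via_smul, θ_self, one_smul]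
  have hgG : ∀ q : Via (θ ℬ hg) Γ(GrMod.tilde ℬ 𝒩 n, Proj.basicOpen ℬ (ψ f)),
      (ψ f) • q = q := fun q => by
    rw [via_smul, θ_self, one_smul]
  -- surjectivity
  have hsurj : Function.Surjective ((nu ψ hψ ℳ 𝒩 v hv n).app (Proj.basicOpen ℬ (ψ f))) := by
    intro t
    obtain ⟨e, y, hy, rfl⟩ := exists_eq_fr ℬ hg 𝒩 n t
    exact ⟨Ω y, (hSig' y).trans (sigmaAdd_of_mem ψ 𝒩 n hf hy)⟩
  -- `Ω` is surjective
  have hΩsurj : Function.Surjective Ω := by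
    let R' : Submodule Γ(Proj ℬ, Proj.basicOpen ℬ (ψ f))
        Γ((pullback (Proj.map ψ hψ)).obj (GrMod.tilde 𝒜 ℳ n), Proj.basicOpen ℬ (ψ f)) :=
      { carrier := Set.range Ω
        add_mem' := by
          rintro _ _ ⟨a, rfl⟩ ⟨b, rfl⟩
          exact ⟨a + b, map_add _ _ _⟩
        zero_mem' := ⟨0, map_zero _⟩
        smul_mem' := by
          rintro c _ ⟨y, rfl⟩
          obtain ⟨b, rfl⟩ := θ_surjective ℬ hg c
          exact ⟨b • y, LinearMap.map_smul Ω b y⟩ }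
    have hmem : ∀ m : Γ(GrMod.tilde 𝒜 ℳ n, Proj.basicOpen 𝒜 f),
        R'.mkQ (unitSec (Proj.map ψ hψ) (GrMod.tilde 𝒜 ℳ n) (le_preimage ψ hψ) m) =
          (0 : Γ(GrMod.tilde 𝒜 ℳ n, Proj.basicOpen 𝒜 f) →+ _) m := by
      intro m
      obtain ⟨e₁, m₁, hm₁, rfl⟩ := exists_eq_fr 𝒜 hf ℳ n m
      rw [Submodule.mkQ_apply, AddMonoidHom.zero_apply, Submodule.Quotient.mk_eq_zero]
      refine ⟨v m₁, ?_⟩
      rw [hΩ']
      exact omegaAdd_of_mem ψ hψ ℳ n hf hm₁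
    have huniq := (existsUnique_lift (Proj.map ψ hψ) (GrMod.tilde 𝒜 ℳ n) hU'aff hUaff
      (le_preimage ψ hψ) (_ ⧸ R') 0 (by intro a m; simp)).unique hmem (y₂ := 0) (fun m => rfl)
    have hR : R' = ⊤ := by
      rw [← Submodule.ker_mkQ R', huniq, LinearMap.ker_zero]
    intro x
    have hx : x ∈ R' := by rw [hR]; trivial
    exact hx
  -- injectivity
  refine ⟨?_, hsurj⟩
  rw [injective_iff_map_eq_zero]
  intro x hx
  obtain ⟨y, rfl⟩ := hΩsurj x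
  obtain ⟨E, y', hy', H⟩ := exists_homogenize ℬ 𝒩 hg y
  have h1 : sigmaAdd ψ 𝒩 n hf y' = 0 := by
    have h := H _ (sigma ψ 𝒩 n hf) hgG
    change sigmaAdd ψ 𝒩 n hf y' = sigmaAdd ψ 𝒩 n hf y at h
    rw [h, ← hSig' y]
    exact hx
  rw [sigmaAdd_of_mem ψ 𝒩 n hf hy'] at h1
  obtain ⟨j, hj⟩ := exists_pow_smul_eq_zero_of_fr_eq_zero ℬ hg 𝒩 n E y' hy' h1
  have h2 : Ω y' = 0 := by
    have h3 : Ω ((ψ f) ^ j • y') = Ω y' := by
      rw [LinearMap.map_smul]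
      exact pow_smul_eq_self hgP j _
    rw [← h3, hj, map_zero]
  rw [← H _ Ω hgP]
  exact h2

include hbc in
/-- **EGA II 2.8.10-style**: `ν : Φ^*(M(n)~) ⟶ (M ⊗_A B)(n)~` is an isomorphism when `A₊` is
generated by `A₁` -/
theorem isIso_nu (hgen : (𝒜₊).toIdeal = Ideal.span (𝒜 1 : Set A)) :
    IsIso (nu ψ hψ ℳ 𝒩 v hv n) := by
  haveI : (GrMod.tilde ℬ 𝒩 n).IsQuasicoherent := isQuasicoherent_tilde ℬ 𝒩 n
  apply Groth.Agent.Lib.Helper74.QCohBij.isIso_of_affine_cover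
  intro x
  have hex : ∃ f ∈ 𝒜 1, ψ f ∉ x.asHomogeneousIdeal := by
    by_contra hcon
    push Not at hcon
    apply x.not_irrelevant_le
    refine hψ.trans ?_
    rw [HomogeneousIdeal.map_le_iff_le_comap]
    intro a ha
    have ha' : a ∈ (𝒜₊).toIdeal := ha
    rw [hgen] at ha'
    change a ∈ (x.asHomogeneousIdeal.toIdeal.comap ψ)
    refine (Ideal.span_le.2 ?_) ha'
    intro f hf
    exact hcon f hf
  obtain ⟨f, hf, hfx⟩ := hex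
  exact ⟨Proj.basicOpen ℬ (ψ f), Proj.isAffineOpen_basicOpen ℬ (ψ f) (ψ.map_mem hf) Nat.one_pos,
    (Proj.mem_basicOpen ℬ _ x).2 hfx, bijective_nu_app ψ hψ ℳ 𝒩 v hv n hf hbc⟩

end main

end Groth.Agent.Lib.Helper74.TildePullback
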