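import Groth.Agent.Lib.Helper74.TwistFrac3
import Groth.Agent.Lib.Helper74.RelStrSec
import Groth.Agent.Lib.Helper74.PbSpan
import Groth.Agent.Lib.Helper74.QCohBij
import Groth.Agent.Lib.Helper74.FracBC
import Groth.Agent.Lib.Helper5.ProjBaseChange
import Groth.Agent.Lib.Helper35.PbSec
import Groth.Agent.Lib.Helper74.RelTwistComap

set_option autoImplicit false
universe u
open CategoryTheory CategoryTheory.Limits AlgebraicGeometry TopologicalSpace Opposite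
open scoped HomogeneousIdeal

namespace Groth.Agent.Lib.Helper74.TwistBCAbs

open Groth.Agent.Lib.Helper74.TwistGen Groth.Agent.Lib.Helper74.TwistNat
open Groth.Agent.Lib.Helper74.PullbackBC Groth.Agent.Lib.Helper74.StrSec
open Groth.Agent.Lib.Helper60.TildeSec Groth.Agent.Lib.Helper74.ModSec

section grsub

variable {R A : Type u} [CommRing R] [CommRing A] [Algebra R A] (𝒜 : ℕ → Submodule R A)
  [GradedAlgebra 𝒜]

/-- the underlying additive-subgroup grading -/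
def toAddGr : ℕ → AddSubgroup A := fun i => (𝒜 i).toAddSubgroup

instance : SetLike.GradedMonoid (toAddGr 𝒜) where
  one_mem := SetLike.GradedOne.one_mem (A := 𝒜)
  mul_mem := fun _ _ _ _ hi hj => SetLike.GradedMul.mul_mem (A := 𝒜) hi hj

noncomputable instance : GradedRing (toAddGr 𝒜) :=
  { (inferInstance : SetLike.GradedMonoid (toAddGr 𝒜)) with
    decompose' := fun a => (DirectSum.decompose 𝒜 a : DirectSum ℕ fun i => 𝒜 i)
    left_inv := fun a => DirectSum.Decomposition.left_inv (ℳ := 𝒜) a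
    right_inv := fun a => DirectSum.Decomposition.right_inv (ℳ := 𝒜) a }

/-- the structure morphism `Proj 𝒜 ⟶ Spec R` -/
noncomputable def strMap : Proj 𝒜 ⟶ Spec (CommRingCat.of R) :=
  Proj.toSpecZero 𝒜 ≫ Spec.map (CommRingCat.ofHom (algebraMap R (𝒜 0)))

/-- the structure map on sections -/
noncomputable def rho (W : (Proj 𝒜).Opens) : R →+* Γ(Proj 𝒜, W) :=
  ((strMap 𝒜).appLE ⊤ W le_top).hom.comp (Scheme.ΓSpecIso (CommRingCat.of R)).inv.hom

theorem strMap_appLE (W : (Proj 𝒜).Opens) :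
    (Scheme.ΓSpecIso (CommRingCat.of R)).inv ≫ (strMap 𝒜).appLE ⊤ W le_top =
      CommRingCat.ofHom (algebraMap R (𝒜 0)) ≫ (Scheme.ΓSpecIso (.of (𝒜 0))).inv ≫
        (Proj.toSpecZero 𝒜).appTop ≫
        (Proj 𝒜).presheaf.map (homOfLE (le_top : W ≤ ⊤)).op := by
  have h1 := Scheme.Hom.appLE_comp_appLE (Proj.toSpecZero 𝒜)
    (Spec.map (CommRingCat.ofHom (algebraMap R (𝒜 0)))) ⊤ ⊤ W le_top le_top
  have e2 : (Spec.map (CommRingCat.ofHom (algebraMap R (𝒜 0)))).appLE ⊤ ⊤ le_top =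
      (Spec.map (CommRingCat.ofHom (algebraMap R (𝒜 0)))).appTop := by
    simp [Scheme.Hom.appLE]
  rw [strMap, ← h1, e2, ← Scheme.ΓSpecIso_inv_naturality_assoc]
  rfl

theorem rho_val (W : (Proj 𝒜).Opens) (r : R) (y : W) :
    ((show OSec 𝒜 W from rho 𝒜 W r).1 y).val = Localization.mk (algebraMap R A r) 1 := by
  have h1 := congr($(strMap_appLE 𝒜 W).hom r)
  have h2 := zsec_res_val 𝒜 (algebraMap R (𝒜 0) r) W y
  refine Eq.trans ?_ h2
  exact congrArg (fun s => ((show OSec 𝒜 W from s).1 y).val) h1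

end grsub

section main

variable {R R' A B : Type u} [CommRing R'] [CommRing R] [Algebra R' R]
  [CommRing B] [Algebra R' B] (ℬ : ℕ → Submodule R' B) [GradedAlgebra ℬ]
  [CommRing A] [Algebra R A] [Algebra R' A] [IsScalarTower R' R A] (𝒜 : ℕ → Submodule R A)
  [GradedAlgebra 𝒜] [Algebra B A] [IsScalarTower R' B A] [Algebra.IsPushout R' R B A]
  (φ : ℬ →+*ᵍ 𝒜) (hφA : ∀ b : B, φ b = algebraMap B A b)
  (hφ : HomogeneousIdeal.irrelevant 𝒜 ≤ (HomogeneousIdeal.irrelevant ℬ).map φ) (n : ℤ)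

/-- `φ` for the additive-subgroup gradings -/
def toAddGrHom : toAddGr ℬ →+*ᵍ toAddGr 𝒜 :=
  { φ.toRingHom with map_mem := fun hx => φ.map_mem hx }

/-- the comparison map `Φ^* O(n) ⟶ O(n)` -/
noncomputable def theta :
    (Scheme.Modules.pullback (Proj.map φ hφ)).obj (GrTwist.twist ℬ n) ⟶ GrTwist.twist 𝒜 n :=
  ((Scheme.Modules.pullbackPushforwardAdjunction (Proj.map φ hφ)).homEquiv _ _).symm
    (GrTwist.comap φ hφ n)

instance : (GrTwist.twist ℬ n).IsQuasicoherent :=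
  Groth.Agent.Lib.Helper60.TildeSec.isQuasicoherent_tilde ℬ ℬ n

variable {d : ℕ} {f : B} (hf : f ∈ ℬ d)
  (W : (Proj ℬ).Opens) (hV : ∀ y, y ∈ W ↔ f ∉ y.asHomogeneousIdeal)
  (W' : (Proj 𝒜).Opens) (eW : W' ≤ Proj.map φ hφ ⁻¹ᵁ W)
  (hV' : ∀ z, z ∈ W' ↔ φ f ∉ z.asHomogeneousIdeal)

set_option linter.unusedSectionVars false in
/-- the comparison map sends `Φ^*(b / f^K)` to `φ b / (φ f)^K` -/
theorem theta_unitSec (K e : ℕ) (he : (e : ℤ) = ((K • d : ℕ) : ℤ) + n) (b : B) (hb : b ∈ ℬ e) :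
    (theta ℬ 𝒜 φ hφ n).app W' (unitSec (Proj.map φ hφ) (GrTwist.twist ℬ n) eW
      (TwistFrac.fsec ℬ hf n W hV K e b hb he)) =
      TwistFrac.fsec 𝒜 (φ.map_mem hf) n W' hV' K e (φ b) (φ.map_mem hb) he := by
  have h2 : unitSec (Proj.map φ hφ) (GrTwist.twist ℬ n) eW
      (TwistFrac.fsec ℬ hf n W hV K e b hb he) =
      rs _ eW (Groth.Agent.Lib.Helper35.PbInv.pbSec (Proj.map φ hφ) (GrTwist.twist ℬ n) W
        (TwistFrac.fsec ℬ hf n W hV K e b hb he)) := rfl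
  rw [h2, theta, hom_rs, Groth.Agent.Lib.Helper35.PbInv.adj_app]
  refine sec_ext 𝒜 n _ _ fun z => ?_
  refine Eq.trans (show _ = GrTwist.val (V := Proj.map φ hφ ⁻¹ᵁ W)
    ((GrTwist.comap φ hφ n).app W (TwistFrac.fsec ℬ hf n W hV K e b hb he)) ⟨z.1, eW z.2⟩
    from rfl) ?_
  refine Eq.trans (GrTwist.comap_app_val φ hφ n W _ ⟨z.1, eW z.2⟩) ?_
  refine Eq.trans (congrArg (GrTwist.locMap φ hφ z.1)
    (TwistFrac.fsec_val ℬ hf n W hV K e b hb he ⟨_, eW z.2⟩)) ?_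
  refine Eq.trans (GrTwist.locMap_mk φ hφ z.1 b _) ?_
  refine Eq.trans ?_
    (TwistFrac.fsec_val 𝒜 (φ.map_mem hf) n W' hV' K e (φ b) (φ.map_mem hb) he z).symm
  refine Groth.Agent.Lib.Helper74.TwistNat.mk_congr_tw rfl ?_
  exact map_pow _ _ _

end main

/-- `b ↦ r ↦ ρ r • τ b` as a bi-additive map -/
noncomputable def smulHom {R S M N : Type*} [CommRing R] [CommRing S] [AddCommGroup M] [Module S M]
    [AddCommGroup N] (ρ : R →+* S) (τ : N →+ M) : N →+ R →+ M :=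
  AddMonoidHom.mk' (fun b => AddMonoidHom.mk' (fun r => ρ r • τ b)
    (fun r r' => by rw [map_add, add_smul]))
    (fun b b' => by
      ext r
      simp only [AddMonoidHom.mk'_apply, AddMonoidHom.add_apply, map_add, smul_add])

section main2

variable {R R' A B : Type u} [CommRing R'] [CommRing R] [Algebra R' R]
  [CommRing B] [Algebra R' B] (ℬ : ℕ → Submodule R' B) [GradedAlgebra ℬ]
  [CommRing A] [Algebra R A] [Algebra R' A] [IsScalarTower R' R A] (𝒜 : ℕ → Submodule R A)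
  [GradedAlgebra 𝒜] [Algebra B A] [IsScalarTower R' B A] [Algebra.IsPushout R' R B A]
  (φ : ℬ →+*ᵍ 𝒜) (hφA : ∀ b : B, φ b = algebraMap B A b)
  (hφ : HomogeneousIdeal.irrelevant 𝒜 ≤ (HomogeneousIdeal.irrelevant ℬ).map φ) (n : ℤ)
  {d : ℕ} {f : B} (hf : f ∈ ℬ d)
  (W : (Proj ℬ).Opens) (hV : ∀ y, y ∈ W ↔ f ∉ y.asHomogeneousIdeal)
  (W' : (Proj 𝒜).Opens) (eW : W' ≤ Proj.map φ hφ ⁻¹ᵁ W)
  (hV' : ∀ z, z ∈ W' ↔ φ f ∉ z.asHomogeneousIdeal)

/-- fractions as an additive map on the additive-subgroup grading -/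
noncomputable def fsH (K e : ℕ) (he : (e : ℤ) = ((K • d : ℕ) : ℤ) + n) :
    toAddGr ℬ e →+ Γ(GrTwist.twist ℬ n, W) :=
  AddMonoidHom.mk' (fun b => TwistFrac.fsec ℬ hf n W hV K e b.1 b.2 he)
    (fun b b' => TwistFrac.fsec_add ℬ hf n W hV K e he b.1 b'.1 b.2 b'.2)

theorem fsec_congr (K e : ℕ) (he : (e : ℤ) = ((K • d : ℕ) : ℤ) + n) {a a' : B} (h : a = a')
    (ha : a ∈ ℬ e) (ha' : a' ∈ ℬ e) :
    TwistFrac.fsec ℬ hf n W hV K e a ha he = TwistFrac.fsec ℬ hf n W hV K e a' ha' he := by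
  subst h; rfl

include hφA hf hV eW hV' in
/-- **local bijectivity of the comparison map** over `Φ⁻¹(D₊(f))` -/
theorem bijective_app (hd : 0 < d) (hWaff : IsAffineOpen W)
    (hW' : W' = Proj.map φ hφ ⁻¹ᵁ W ⊓ strMap 𝒜 ⁻¹ᵁ ⊤) :
    IsAffineOpen W' ∧ Function.Bijective ((theta ℬ 𝒜 φ hφ n).app W') := by
  have H : IsPullback (Proj.map φ hφ) (strMap 𝒜) (strMap ℬ)
      (Spec.map (CommRingCat.ofHom (algebraMap R' R))) :=
    Groth.Agent.Lib.Helper5.proj_baseChange_isPullback φ hφA hφ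
  have hWU : W ≤ strMap ℬ ⁻¹ᵁ ⊤ := le_top
  have hle : (⊤ : (Spec (CommRingCat.of R)).Opens) ≤
      Spec.map (CommRingCat.ofHom (algebraMap R' R)) ⁻¹ᵁ ⊤ := le_top
  have hT' : IsAffineOpen (⊤ : (Spec (CommRingCat.of R')).Opens) := isAffineOpen_top _
  have hT : IsAffineOpen (⊤ : (Spec (CommRingCat.of R)).Opens) := isAffineOpen_top _
  have hW'aff : IsAffineOpen W' := by
    subst hW'
    have : IsAffine ((⊤ : (Spec (CommRingCat.of R')).Opens) : Scheme.{u}) := hT'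
    have : IsAffine ((⊤ : (Spec (CommRingCat.of R)).Opens) : Scheme.{u}) := hT
    have : IsAffine (W : Scheme.{u}) := hWaff
    exact .of_isIso (Scheme.Hom.isPullback_resLE H hle hWU rfl).isoPullback.hom
  refine ⟨hW'aff, ?_⟩
  have hpoW : IsPushout ((strMap ℬ).appLE ⊤ W hWU)
      ((Spec.map (CommRingCat.ofHom (algebraMap R' R))).appLE ⊤ ⊤ hle)
      ((Proj.map φ hφ).appLE W W' eW) ((strMap 𝒜).appLE ⊤ W' le_top) := by
    subst hW'
    exact (isIso_pushoutSection_iff H hle hWU rfl).mp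
      (isIso_pushoutSection_of_isAffineOpen H hle hWU rfl hT' hT hWaff)
  have hf' := φ.map_mem hf
  have hA : ∀ r : R, algebraMap R A r ∈ toAddGr 𝒜 0 := fun r => SetLike.algebraMap_mem_graded 𝒜 r
  have hB : ∀ r' : R', algebraMap R' B r' ∈ toAddGr ℬ 0 :=
    fun r' => SetLike.algebraMap_mem_graded ℬ r'
  let ρ : R →+* Γ(Proj 𝒜, W') := rho 𝒜 W'
  let PP : ∀ (K e : ℕ), (e : ℤ) = ((K • d : ℕ) : ℤ) + n →
      (toAddGr ℬ e →+ R →+ Γ((Scheme.Modules.pullback (Proj.map φ hφ)).obj (GrTwist.twist ℬ n), W')) :=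
    fun K e he => smulHom ρ ((unitSecHom (Proj.map φ hφ) (GrTwist.twist ℬ n) eW).comp
      (fsH ℬ n hf W hV K e he))
  have hPP : ∀ K e he (b : toAddGr ℬ e) r, PP K e he b r =
      ρ r • unitSec (Proj.map φ hφ) (GrTwist.twist ℬ n) eW
        (TwistFrac.fsec ℬ hf n W hV K e b.1 b.2 he) := fun K e he b r => rfl
  let QQ : ∀ (K e : ℕ), (e : ℤ) = ((K • d : ℕ) : ℤ) + n →
      (toAddGr 𝒜 e →+ Γ(GrTwist.twist 𝒜 n, W')) :=
    fun K e he => fsH 𝒜 n hf' W' hV' K e he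
  have hQQ : ∀ K e he (a : toAddGr 𝒜 e), QQ K e he a =
      TwistFrac.fsec 𝒜 hf' n W' hV' K e a.1 a.2 he := fun K e he a => rfl
  have hL2 : ∀ r' : R', ((Proj.map φ hφ).appLE W W' eW).hom (rho ℬ W r') =
      ρ (algebraMap R' R r') := by
    intro r'
    have h1 := congr($(hpoW.w).hom ((Scheme.ΓSpecIso (CommRingCat.of R')).inv.hom r'))
    refine h1.trans ?_
    have e2 : (Spec.map (CommRingCat.ofHom (algebraMap R' R))).appLE ⊤ ⊤ hle =
        (Spec.map (CommRingCat.ofHom (algebraMap R' R))).appTop := by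
      simp [Scheme.Hom.appLE]
    have h3 := congr($(Scheme.ΓSpecIso_inv_naturality
      (CommRingCat.ofHom (algebraMap R' R))).hom r')
    rw [e2]
    exact congrArg ((strMap 𝒜).appLE ⊤ W' le_top).hom h3.symm
  have hpo : IsPushout (CommRingCat.ofHom (algebraMap R' R)) (CommRingCat.ofHom (algebraMap R' B))
      (CommRingCat.ofHom (algebraMap R A))
      (CommRingCat.ofHom (toAddGrHom ℬ 𝒜 φ).toRingHom) := by
    have h1 : (toAddGrHom ℬ 𝒜 φ).toRingHom = algebraMap B A := RingHom.ext hφA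
    rw [h1]
    exact CommRingCat.isPushout_iff_isPushout.mpr inferInstance
  refine FracBC.bijective (f₀ := algebraMap R' R) (sB := algebraMap R' B) (sA := algebraMap R A)
    (φ := toAddGrHom ℬ 𝒜 φ) hA hB (show f ∈ toAddGr ℬ d from hf) n
    ((theta ℬ 𝒜 φ hφ n).app W').hom PP QQ ?hbal ?hΦ ?hraise ?hQ0 ?hQs ?hPgen hpo
  case hbal =>
    intro K e he r' b r
    rw [hPP, hPP]
    have h1 : TwistFrac.fsec ℬ hf n W hV K e (algebraMap R' B r' * b.1)
        (FracBC.sB_mul_mem hB r' b) he = rho ℬ W r' • TwistFrac.fsec ℬ hf n W hV K e b.1 b.2 he :=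
      (TwistFrac.smul_fsec ℬ hf n W hV _ _ (SetLike.algebraMap_mem_graded ℬ r')
        (fun y => rho_val ℬ W r' y) K e he b.1 b.2).symm
    rw [show TwistFrac.fsec ℬ hf n W hV K e
      (⟨algebraMap R' B r' * b.1, FracBC.sB_mul_mem hB r' b⟩ : toAddGr ℬ e).1 _ he = _ from h1,
      unitSec_smul, hL2, map_mul, mul_smul, smul_comm]
  case hΦ =>
    intro K e he b r
    rw [hPP, hQQ]
    have h1 : ((theta ℬ 𝒜 φ hφ n).app W').hom (ρ r • unitSec (Proj.map φ hφ) (GrTwist.twist ℬ n) eW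
        (TwistFrac.fsec ℬ hf n W hV K e b.1 b.2 he)) =
        ρ r • ((theta ℬ 𝒜 φ hφ n).app W').hom (unitSec (Proj.map φ hφ) (GrTwist.twist ℬ n) eW
        (TwistFrac.fsec ℬ hf n W hV K e b.1 b.2 he)) :=
      Scheme.Modules.Hom.app_smul (theta ℬ 𝒜 φ hφ n) _ _
    rw [h1]
    have h2 := theta_unitSec ℬ 𝒜 φ hφ n hf W hV W' eW hV' K e he b.1 b.2
    rw [show ((theta ℬ 𝒜 φ hφ n).app W').hom (unitSec (Proj.map φ hφ) (GrTwist.twist ℬ n) eW
        (TwistFrac.fsec ℬ hf n W hV K e b.1 b.2 he)) = _ from h2]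
    rw [TwistFrac.smul_fsec 𝒜 hf' n W' hV' _ _ (SetLike.algebraMap_mem_graded 𝒜 r)
        (fun y => rho_val 𝒜 W' r y) K e he (φ b.1) (φ.map_mem b.2)]
    exact fsec_congr 𝒜 n hf' W' hV' K e he (mul_comm _ _) _ _
  case hraise =>
    intro K e he N b r
    rw [hPP, hPP, TwistFrac.fsec_raise ℬ hf n W hV K e he N b.1 b.2]
  case hQ0 =>
    intro K e he a h0
    exact TwistFrac.exists_pow_mul_eq_zero 𝒜 hf' n W' hV' hd K e a.1 a.2 he h0
  case hQs =>
    intro y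
    obtain ⟨K, e, a, ha, he, h⟩ := TwistFrac.exists_eq_fsec 𝒜 hf' n W' hV' hd y
    exact ⟨K, e, he, ⟨a, ha⟩, h⟩
  case hPgen =>
    intro x
    have ha : ∀ (r : R) (t : Γ(GrTwist.twist ℬ n, W)),
        ρ r • unitSec (Proj.map φ hφ) (GrTwist.twist ℬ n) eW t ∈
        AddSubgroup.closure {x | ∃ K e he b r, x = PP K e he b r} := by
      intro r t
      obtain ⟨K, e, b, hb, he, rfl⟩ := TwistFrac.exists_eq_fsec ℬ hf n W hV hd t
      exact AddSubgroup.subset_closure ⟨K, e, he, ⟨b, hb⟩, r, rfl⟩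
    have hb : ∀ (s : Γ(Proj ℬ, W)) (r : R),
        ∀ x ∈ AddSubgroup.closure {x | ∃ K e he b r, x = PP K e he b r},
        (((Proj.map φ hφ).appLE W W' eW).hom s * ρ r) • x ∈
          AddSubgroup.closure {x | ∃ K e he b r, x = PP K e he b r} := by
      intro s r x hx
      induction hx using AddSubgroup.closure_induction with
      | mem x hx =>
        obtain ⟨K, e, he, b, r0, rfl⟩ := hx
        have h1 : (((Proj.map φ hφ).appLE W W' eW).hom s * ρ r) • PP K e he b r0 =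
            ρ (r * r0) • unitSec (Proj.map φ hφ) (GrTwist.twist ℬ n) eW
              (s • TwistFrac.fsec ℬ hf n W hV K e b.1 b.2 he) := by
          rw [hPP, unitSec_smul, ← mul_smul, ← mul_smul, map_mul]
          congr 1
          ring
        rw [h1]
        exact ha _ _
      | zero => rw [smul_zero]; exact zero_mem _
      | add x y _ _ hx hy => rw [smul_add]; exact add_mem hx hy
      | neg x _ hx => rw [smul_neg]; exact neg_mem hx
    have hsurj : ∀ t : Γ(Spec (CommRingCat.of R), ⊤), ∃ r : R,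
        ((strMap 𝒜).appLE ⊤ W' le_top).hom t = ρ r := by
      intro t
      refine ⟨(Scheme.ΓSpecIso (CommRingCat.of R)).hom.hom t, ?_⟩
      have h1 : (Scheme.ΓSpecIso (CommRingCat.of R)).inv.hom
          ((Scheme.ΓSpecIso (CommRingCat.of R)).hom.hom t) = t :=
        congr($((Scheme.ΓSpecIso (CommRingCat.of R)).hom_inv_id).hom t)
      exact (congrArg ((strMap 𝒜).appLE ⊤ W' le_top).hom h1).symm
    have hc : ∀ (c : Γ(Proj 𝒜, W')),
        ∀ x ∈ AddSubgroup.closure {x | ∃ K e he b r, x = PP K e he b r},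
        c • x ∈ AddSubgroup.closure {x | ∃ K e he b r, x = PP K e he b r} := by
      intro c x hx
      have hc' := PbSpan.mem_addClosure_of_isPushout hpoW c
      induction hc' using AddSubgroup.closure_induction with
      | mem c hc =>
        obtain ⟨s, t, rfl⟩ := hc
        obtain ⟨r, hr⟩ := hsurj t
        rw [hr]
        exact hb s r x hx
      | zero => rw [zero_smul]; exact zero_mem _
      | add c c' _ _ h1 h2 => rw [add_smul]; exact add_mem h1 h2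
      | neg c _ h1 => rw [neg_smul]; exact neg_mem h1
    have hspan := PbSpan.span_unitSec (Proj.map φ hφ) (GrTwist.twist ℬ n) hW'aff hWaff eW
    have hx : x ∈ Submodule.span Γ(Proj 𝒜, W')
        (Set.range (unitSec (Proj.map φ hφ) (GrTwist.twist ℬ n) eW)) := by
      rw [hspan]; trivial
    induction hx using Submodule.span_induction with
    | mem x hx =>
      obtain ⟨t, rfl⟩ := hx
      have := ha 1 t
      rwa [map_one, one_smul] at this
    | zero => exact zero_mem _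
    | add x y _ _ hx hy => exact add_mem hx hy
    | smul c x _ hx => exact hc c x hx

include hφA in
/-- **`Φ^* O(n) ≅ O(n)` for a base change of graded algebras** -/
theorem isIso_theta : IsIso (theta ℬ 𝒜 φ hφ n) := by
  refine Groth.Agent.Lib.Helper74.QCohBij.isIso_of_affine_cover _ fun x => ?_
  have hcov := (Proj.affineOpenCover ℬ).covers ((Proj.map φ hφ) x)
  have hz2 : (Proj.map φ hφ) x ∈
      Proj.basicOpen ℬ ((Proj.affineOpenCover ℬ).idx ((Proj.map φ hφ) x)).2.1 := by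
    rw [← Proj.opensRange_awayι ℬ _ ((Proj.affineOpenCover ℬ).idx ((Proj.map φ hφ) x)).2.2
      ((Proj.affineOpenCover ℬ).idx ((Proj.map φ hφ) x)).1.2]
    exact hcov
  obtain ⟨d, hd, f, hf, hfz⟩ : ∃ d : ℕ, 0 < d ∧ ∃ f, f ∈ ℬ d ∧
      (Proj.map φ hφ) x ∈ Proj.basicOpen ℬ f :=
    ⟨_, ((Proj.affineOpenCover ℬ).idx ((Proj.map φ hφ) x)).1.2, _,
      ((Proj.affineOpenCover ℬ).idx ((Proj.map φ hφ) x)).2.2, hz2⟩
  have hV : ∀ y, y ∈ Proj.basicOpen ℬ f ↔ f ∉ y.asHomogeneousIdeal :=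
    fun y => Proj.mem_basicOpen ℬ f y
  have hWaff : IsAffineOpen (Proj.basicOpen ℬ f) := Proj.isAffineOpen_basicOpen ℬ f hf hd
  have hV' : ∀ z, z ∈ (Proj.map φ hφ ⁻¹ᵁ Proj.basicOpen ℬ f ⊓ strMap 𝒜 ⁻¹ᵁ ⊤ : (Proj 𝒜).Opens) ↔
      φ f ∉ z.asHomogeneousIdeal :=
    fun z => ⟨fun h => (hV _).1 h.1, fun h => ⟨(hV ((Proj.map φ hφ) z)).2 h, trivial⟩⟩
  obtain ⟨haff, hbij⟩ := bijective_app ℬ 𝒜 φ hφA hφ n hf (Proj.basicOpen ℬ f) hV
    (Proj.map φ hφ ⁻¹ᵁ Proj.basicOpen ℬ f ⊓ strMap 𝒜 ⁻¹ᵁ ⊤) inf_le_left hV' hd hWaff rfl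
  exact ⟨_, haff, ⟨hfz, trivial⟩, hbij⟩

include hφA in
theorem nonempty_pullback_iso :
    Nonempty ((Scheme.Modules.pullback (Proj.map φ hφ)).obj (GrTwist.twist ℬ n) ≅
      GrTwist.twist 𝒜 n) :=
  ⟨@asIso _ _ _ _ (theta ℬ 𝒜 φ hφ n) (isIso_theta ℬ 𝒜 φ hφA hφ n)⟩

end main2

end Groth.Agent.Lib.Helper74.TwistBCAbs
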