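import Groth.Agent.Lib.Helper74.TwistNat
import Groth.Agent.Lib.Helper60.TildeSec
import Groth.Agent.Lib.Helper60.TildeSecAlg

/-!
# Sections of `O(n)` over `D₊(f)` as global fractions, `f` homogeneous of any positive degree
(helper74)
-/

set_option autoImplicit false
universe u
open CategoryTheory AlgebraicGeometry TopologicalSpace Opposite
open scoped HomogeneousIdeal

namespace Groth.Agent.Lib.Helper74.TwistFrac

open Groth.Agent.Lib.Helper74.TwistNat Groth.Agent.Lib.Helper74.TwistGen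

variable {A σ : Type u} [CommRing A] [SetLike σ A] [AddSubgroupClass σ A] (𝒜 : ℕ → σ) [GradedRing 𝒜]
  {d : ℕ} {f : A} (hf : f ∈ 𝒜 d) (n : ℤ)
  (V : (Proj 𝒜).Opens) (hV : ∀ y, y ∈ V ↔ f ∉ y.asHomogeneousIdeal)

include hV in
theorem pow_notMem (K : ℕ) (y : Proj 𝒜) (hy : y ∈ V) : f ^ K ∉ y.asHomogeneousIdeal :=
  fun h => (hV y).1 hy (y.isPrime.mem_of_pow_mem K h)

/-- the section `a / f ^ K` of `O(n)` over `D₊(f)` -/
noncomputable def fsec (K e : ℕ) (a : A) (ha : a ∈ 𝒜 e) (he : (e : ℤ) = ((K • d : ℕ) : ℤ) + n) :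
    Γ(GrTwist.twist 𝒜 n, V) :=
  fracSec 𝒜 a ha (f ^ K) (SetLike.pow_mem_graded K hf) he V (pow_notMem 𝒜 V hV K)

theorem fsec_val (K e : ℕ) (a : A) (ha : a ∈ 𝒜 e) (he : (e : ℤ) = ((K • d : ℕ) : ℤ) + n) (y : V) :
    GrTwist.val (fsec 𝒜 hf n V hV K e a ha he) y =
      Localization.mk a ⟨f ^ K, pow_notMem 𝒜 V hV K y.1 y.2⟩ := rfl

/-- every section of `O(n)` over `D₊(f)` is a global fraction -/
theorem exists_eq_fsec (hd : 0 < d) (t : Γ(GrTwist.twist 𝒜 n, V)) :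
    ∃ (K e : ℕ) (a : A) (ha : a ∈ 𝒜 e) (he : (e : ℤ) = ((K • d : ℕ) : ℤ) + n),
      t = fsec 𝒜 hf n V hV K e a ha he := by
  obtain ⟨K, e, m, hm, he, hval⟩ := Groth.Agent.Lib.Helper60.TildeSec.exists_eq_frac 𝒜 𝒜 hd hf V hV
    (show GrMod.sect 𝒜 𝒜 n (op V) from t)
  have he' : (e : ℤ) = ((K • d : ℕ) : ℤ) + n := by
    rw [he, smul_eq_mul]; push_cast; rfl
  refine ⟨K, e, m, hm, he', ?_⟩
  refine sec_ext 𝒜 n _ _ fun y => ?_
  rw [fsec_val]
  exact hval y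

/-- a vanishing fraction has numerator killed by a power of `f` -/
theorem exists_pow_mul_eq_zero (hd : 0 < d) (K e : ℕ) (a : A) (ha : a ∈ 𝒜 e)
    (he : (e : ℤ) = ((K • d : ℕ) : ℤ) + n) (h0 : fsec 𝒜 hf n V hV K e a ha he = 0) :
    ∃ N : ℕ, f ^ N * a = 0 := by
  have := Groth.Agent.Lib.Helper60.TildeSec.exists_pow_smul_eq_zero 𝒜 𝒜 ha hd hf (fun x hx => ?_)
  · exact this
  have hxV : x ∈ V := (hV x).2 hx
  have h1 : GrTwist.val (fsec 𝒜 hf n V hV K e a ha he) ⟨x, hxV⟩ = 0 := by rw [h0]; rfl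
  rw [fsec_val, ← Localization.mk_zero 1, Localization.mk_eq_mk_iff, Localization.r_iff_exists] at h1
  obtain ⟨c, hc⟩ := h1
  refine ⟨c, c.2, ?_⟩
  simpa using hc

end Groth.Agent.Lib.Helper74.TwistFrac
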