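import Groth.Agent.Lib.Helper74.TwistNat

/-!
# Products of sections of twisting sheaves on `Proj` (helper74)
-/

set_option autoImplicit false
universe u
open CategoryTheory AlgebraicGeometry TopologicalSpace Opposite

namespace Groth.Agent.Lib.Helper74.TwistNat

open Groth.Agent.Lib.Helper60.TildeSec Groth.Agent.Lib.Lead.Inv Groth.Agent.Lib.Helper74.TwistGen

variable {A σ : Type u} [CommRing A] [SetLike σ A] [AddSubgroupClass σ A] (𝒜 : ℕ → σ) [GradedRing 𝒜]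

theorem mk_mem_twistAt {n : ℤ} {i j : ℕ} {a : A} (ha : a ∈ 𝒜 i) {s : A} (hs : s ∈ 𝒜 j)
    (x : ProjectiveSpectrum 𝒜) (hsx : s ∉ x.asHomogeneousIdeal)
    (hij : (i : ℤ) = j + n ∨ a = 0) :
    (Localization.mk a ⟨s, hsx⟩ : GrTwist.Loc 𝒜 x) ∈ GrTwist.twistAt 𝒜 n x := by
  rcases hij with hij | rfl
  · exact Submodule.subset_span ⟨i, j, ⟨a, ha⟩, ⟨s, hs⟩, hsx, hij, rfl⟩
  · rw [Localization.mk_zero]
    exact zero_mem _

/-- local fraction form of the product of two sections -/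
theorem exists_mul_frac {m n k : ℤ} (hk : k = m + n) {V : (Proj 𝒜).Opens}
    (s : Γ(GrTwist.twist 𝒜 m, V)) (t : Γ(GrTwist.twist 𝒜 n, V)) (y : V) :
    ∃ (V' : Opens (ProjectiveSpectrum.top 𝒜)) (_ : y.1 ∈ V') (i : V' ⟶ V) (i' j' : ℕ)
      (a : 𝒜 i') (b : 𝒜 j') (nin : ∀ z : V', (b : A) ∉ z.1.asHomogeneousIdeal),
      ((i' : ℤ) = j' + k ∨ (a : A) = 0) ∧ ∀ z : V',
        GrTwist.val s (i z) * GrTwist.val t (i z) = Localization.mk (a : A) ⟨b, nin z⟩ := by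
  obtain ⟨V1, hy1, i1, a1, b1, ⟨p1, hp1⟩, ⟨q1, hq1⟩, nin1, hd1, hv1⟩ :=
    (show GrTwist.sectN (𝒜 := 𝒜) m (op V) from s).2 y
  obtain ⟨V2, hy2, i2, a2, b2, ⟨p2, hp2⟩, ⟨q2, hq2⟩, nin2, hd2, hv2⟩ :=
    (show GrTwist.sectN (𝒜 := 𝒜) n (op V) from t).2 y
  have nin : ∀ z : (V1 ⊓ V2 : Opens _), q1 * q2 ∉ z.1.asHomogeneousIdeal := fun z h =>
    ((z.1.isPrime.mem_or_mem h).elim (nin1 ⟨z.1, z.2.1⟩)) (nin2 ⟨z.1, z.2.2⟩)
  refine ⟨V1 ⊓ V2, ⟨hy1, hy2⟩, Opens.infLELeft _ _ ≫ i1, a1 + a2, b1 + b2,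
    ⟨p1 * p2, SetLike.mul_mem_graded hp1 hp2⟩, ⟨q1 * q2, SetLike.mul_mem_graded hq1 hq2⟩, nin,
    ?_, fun z => ?_⟩
  · replace hd1 : (a1 : ℤ) = b1 + m ∨ p1 = 0 := hd1
    replace hd2 : (a2 : ℤ) = b2 + n ∨ p2 = 0 := hd2
    rcases hd1 with h1 | h1
    · rcases hd2 with h2 | h2
      · left
        push_cast
        omega
      · right
        change p1 * p2 = 0
        rw [h2, mul_zero]
    · right
      change p1 * p2 = 0
      rw [h1, zero_mul]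
  · have e1 := hv1 ⟨z.1, z.2.1⟩
    have e2 := hv2 ⟨z.1, z.2.2⟩
    change GrTwist.val s ⟨z.1, _⟩ = _ at e1
    change GrTwist.val t ⟨z.1, _⟩ = _ at e2
    change GrTwist.val s ⟨z.1, _⟩ * GrTwist.val t ⟨z.1, _⟩ = _
    rw [e1, e2, Localization.mk_mul]
    rfl

/-- the product of sections of `O(m)` and `O(n)`, a section of `O(m + n)` -/
def mulSec {m n k : ℤ} (hk : k = m + n) {V : (Proj 𝒜).Opens}
    (s : Γ(GrTwist.twist 𝒜 m, V)) (t : Γ(GrTwist.twist 𝒜 n, V)) : Γ(GrTwist.twist 𝒜 k, V) :=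
  show GrTwist.sectN (𝒜 := 𝒜) k (op V) from
  ⟨fun y => ⟨GrTwist.val s y * GrTwist.val t y, by
      obtain ⟨V', hy, i, i', j', a, b, nin, hd, hv⟩ := exists_mul_frac 𝒜 hk s t y
      have := hv ⟨y.1, hy⟩
      change GrTwist.val s y * GrTwist.val t y = _ at this
      rw [this]
      exact mk_mem_twistAt 𝒜 a.2 b.2 y.1 (nin ⟨y.1, hy⟩) hd⟩,
    fun y => by
      obtain ⟨V', hy, i, i', j', a, b, nin, hd, hv⟩ := exists_mul_frac 𝒜 hk s t y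
      exact ⟨V', hy, i, i', j', a, b, nin, hd, hv⟩⟩

theorem mulSec_val {m n k : ℤ} (hk : k = m + n) {V : (Proj 𝒜).Opens}
    (s : Γ(GrTwist.twist 𝒜 m, V)) (t : Γ(GrTwist.twist 𝒜 n, V)) (y : V) :
    GrTwist.val (mulSec 𝒜 hk s t) y = GrTwist.val s y * GrTwist.val t y := rfl


theorem add_val (n : ℤ) {W : (Proj 𝒜).Opens} (s t : Γ(GrTwist.twist 𝒜 n, W)) (y : W) :
    GrTwist.val (s + t) y = GrTwist.val s y + GrTwist.val t y := rfl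

theorem mulSec_add_left {m n k : ℤ} (hk : k = m + n) {V : (Proj 𝒜).Opens}
    (s s' : Γ(GrTwist.twist 𝒜 m, V)) (t : Γ(GrTwist.twist 𝒜 n, V)) :
    mulSec 𝒜 hk (s + s') t = mulSec 𝒜 hk s t + mulSec 𝒜 hk s' t := by
  refine sec_ext 𝒜 k _ _ fun y => ?_
  rw [add_val, mulSec_val, mulSec_val, mulSec_val, add_val, add_mul]

theorem mulSec_add_right {m n k : ℤ} (hk : k = m + n) {V : (Proj 𝒜).Opens}
    (s : Γ(GrTwist.twist 𝒜 m, V)) (t t' : Γ(GrTwist.twist 𝒜 n, V)) :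
    mulSec 𝒜 hk s (t + t') = mulSec 𝒜 hk s t + mulSec 𝒜 hk s t' := by
  refine sec_ext 𝒜 k _ _ fun y => ?_
  rw [add_val, mulSec_val, mulSec_val, mulSec_val, add_val, mul_add]

theorem mulSec_smul_left {m n k : ℤ} (hk : k = m + n) {V : (Proj 𝒜).Opens} (r : Γ(Proj 𝒜, V))
    (s : Γ(GrTwist.twist 𝒜 m, V)) (t : Γ(GrTwist.twist 𝒜 n, V)) :
    mulSec 𝒜 hk (r • s) t = r • mulSec 𝒜 hk s t := by
  refine sec_ext 𝒜 k _ _ fun y => ?_
  rw [smul_val, mulSec_val, mulSec_val, smul_val, mul_assoc]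

theorem mulSec_smul_right {m n k : ℤ} (hk : k = m + n) {V : (Proj 𝒜).Opens} (r : Γ(Proj 𝒜, V))
    (s : Γ(GrTwist.twist 𝒜 m, V)) (t : Γ(GrTwist.twist 𝒜 n, V)) :
    mulSec 𝒜 hk s (r • t) = r • mulSec 𝒜 hk s t := by
  refine sec_ext 𝒜 k _ _ fun y => ?_
  rw [smul_val, mulSec_val, mulSec_val, smul_val, mul_left_comm]

theorem mulSec_res {m n k : ℤ} (hk : k = m + n) {V V' : (Proj 𝒜).Opens} (i : V' ⟶ V)
    (s : Γ(GrTwist.twist 𝒜 m, V)) (t : Γ(GrTwist.twist 𝒜 n, V)) :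
    (GrTwist.twist 𝒜 k).presheaf.map i.op (mulSec 𝒜 hk s t) =
      mulSec 𝒜 hk ((GrTwist.twist 𝒜 m).presheaf.map i.op s)
        ((GrTwist.twist 𝒜 n).presheaf.map i.op t) := rfl

theorem mulSec_fracSec {m n k : ℤ} (hk : k = m + n) {V : (Proj 𝒜).Opens}
    {i j i' j' : ℕ} (a : A) (ha : a ∈ 𝒜 i) (b : A) (hb : b ∈ 𝒜 j) (hij : (i : ℤ) = j + m)
    (hV : ∀ y ∈ V, b ∉ y.asHomogeneousIdeal)
    (a' : A) (ha' : a' ∈ 𝒜 i') (b' : A) (hb' : b' ∈ 𝒜 j') (hij' : (i' : ℤ) = j' + n)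
    (hV' : ∀ y ∈ V, b' ∉ y.asHomogeneousIdeal) :
    mulSec 𝒜 hk (fracSec 𝒜 a ha b hb hij V hV) (fracSec 𝒜 a' ha' b' hb' hij' V hV') =
      fracSec 𝒜 (a * a') (SetLike.mul_mem_graded ha ha') (b * b') (SetLike.mul_mem_graded hb hb')
        (by push_cast; omega) V
        (fun y hy h => (y.isPrime.mem_or_mem h).elim (hV y hy) (hV' y hy)) := by
  refine sec_ext 𝒜 k _ _ fun y => ?_
  rw [mulSec_val, fracSec_val, fracSec_val, fracSec_val, Localization.mk_mul]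
  rfl

end Groth.Agent.Lib.Helper74.TwistNat
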