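import Groth.Agent.Lib.Helper74.TwistFrac
import Groth.Agent.Lib.Helper74.TwistMul
import Groth.Agent.Lib.Helper74.FracBC

set_option autoImplicit false
universe u
open CategoryTheory AlgebraicGeometry TopologicalSpace Opposite
open scoped HomogeneousIdeal

namespace Groth.Agent.Lib.Helper74.TwistFrac

open Groth.Agent.Lib.Helper74.TwistNat Groth.Agent.Lib.Helper74.TwistGen
open Groth.Agent.Lib.Helper60.TildeSec

variable {A : Type u} [CommRing A] (𝒜 : ℕ → AddSubgroup A) [GradedRing 𝒜]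
  {d : ℕ} {f : A} (hf : f ∈ 𝒜 d) (n : ℤ)
  (V : (Proj 𝒜).Opens) (hV : ∀ y, y ∈ V ↔ f ∉ y.asHomogeneousIdeal)

/-- `fsec` as an additive map in the numerator -/
noncomputable def fsecHom (K e : ℕ) (he : (e : ℤ) = ((K • d : ℕ) : ℤ) + n) :
    𝒜 e →+ Γ(GrTwist.twist 𝒜 n, V) where
  toFun a := fsec 𝒜 hf n V hV K e a.1 a.2 he
  map_zero' := by
    refine sec_ext 𝒜 n _ _ fun y => ?_
    rw [fsec_val]
    exact Localization.mk_zero _
  map_add' a b := by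
    refine sec_ext 𝒜 n _ _ fun y => ?_
    rw [TwistNat.add_val, fsec_val, fsec_val, fsec_val,
      Localization.add_mk_self]
    rfl

theorem fsecHom_apply (K e : ℕ) (he : (e : ℤ) = ((K • d : ℕ) : ℤ) + n) (a : 𝒜 e) :
    fsecHom 𝒜 hf n V hV K e he a = fsec 𝒜 hf n V hV K e a.1 a.2 he := rfl

theorem fsecHom_raise (K e : ℕ) (he : (e : ℤ) = ((K • d : ℕ) : ℤ) + n) (N : ℕ) (a : 𝒜 e) :
    fsecHom 𝒜 hf n V hV K e he a =
      fsecHom 𝒜 hf n V hV (K + N) (e + N • d) (FracBC.he_raise he N)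
        ⟨f ^ N * a, FracBC.pow_mul_mem hf N a⟩ := by
  refine sec_ext 𝒜 n _ _ fun y => ?_
  rw [fsecHom_apply, fsecHom_apply, fsec_val, fsec_val, Localization.mk_eq_mk_iff,
    Localization.r_iff_exists]
  refine ⟨1, ?_⟩
  simp only [OneMemClass.coe_one, one_mul]
  ring

/-- multiplying a fraction by a function whose values are `c0 / 1` -/
theorem smul_fsecHom (c : Γ(Proj 𝒜, V)) (c0 : A) (hc0 : c0 ∈ 𝒜 0)
    (hc : ∀ y : V, ((show OSec 𝒜 V from c).1 y).val = Localization.mk c0 1)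
    (K e : ℕ) (he : (e : ℤ) = ((K • d : ℕ) : ℤ) + n) (a : 𝒜 e) :
    c • fsecHom 𝒜 hf n V hV K e he a =
      fsecHom 𝒜 hf n V hV K e he ⟨c0 * a, by simpa using SetLike.mul_mem_graded hc0 a.2⟩ := by
  refine sec_ext 𝒜 n _ _ fun y => ?_
  rw [TwistNat.smul_val, hc, fsecHom_apply, fsecHom_apply, fsec_val, fsec_val, Localization.mk_mul, one_mul]

theorem exists_eq_fsecHom (hd : 0 < d) (t : Γ(GrTwist.twist 𝒜 n, V)) :
    ∃ (K e : ℕ) (he : (e : ℤ) = ((K • d : ℕ) : ℤ) + n) (a : 𝒜 e),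
      t = fsecHom 𝒜 hf n V hV K e he a := by
  obtain ⟨K, e, a, ha, he, h⟩ := exists_eq_fsec 𝒜 hf n V hV hd t
  exact ⟨K, e, he, ⟨a, ha⟩, h⟩

theorem exists_pow_mul_eq_zero' (hd : 0 < d) (K e : ℕ)
    (he : (e : ℤ) = ((K • d : ℕ) : ℤ) + n) (a : 𝒜 e) (h0 : fsecHom 𝒜 hf n V hV K e he a = 0) :
    ∃ N : ℕ, f ^ N * (a : A) = 0 :=
  exists_pow_mul_eq_zero 𝒜 hf n V hV hd K e a.1 a.2 he h0

end Groth.Agent.Lib.Helper74.TwistFrac
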