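import Groth.Agent.Lib.Helper74.TwistFrac2

set_option autoImplicit false
universe u
open CategoryTheory AlgebraicGeometry TopologicalSpace Opposite
open scoped HomogeneousIdeal

namespace Groth.Agent.Lib.Helper74.TwistFrac

open Groth.Agent.Lib.Helper74.TwistNat Groth.Agent.Lib.Helper74.TwistGen
open Groth.Agent.Lib.Helper60.TildeSec

variable {A σ : Type u} [CommRing A] [SetLike σ A] [AddSubgroupClass σ A] (𝒜 : ℕ → σ) [GradedRing 𝒜]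
  {d : ℕ} {f : A} (hf : f ∈ 𝒜 d) (n : ℤ)
  (V : (Proj 𝒜).Opens) (hV : ∀ y, y ∈ V ↔ f ∉ y.asHomogeneousIdeal)

theorem fsec_zero (K e : ℕ) (he : (e : ℤ) = ((K • d : ℕ) : ℤ) + n) :
    fsec 𝒜 hf n V hV K e 0 (zero_mem _) he = 0 := by
  refine sec_ext 𝒜 n _ _ fun y => ?_
  rw [fsec_val]
  exact Localization.mk_zero _

theorem fsec_add (K e : ℕ) (he : (e : ℤ) = ((K • d : ℕ) : ℤ) + n) (a a' : A) (ha : a ∈ 𝒜 e)
    (ha' : a' ∈ 𝒜 e) :
    fsec 𝒜 hf n V hV K e (a + a') (add_mem ha ha') he =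
      fsec 𝒜 hf n V hV K e a ha he + fsec 𝒜 hf n V hV K e a' ha' he := by
  refine sec_ext 𝒜 n _ _ fun y => ?_
  rw [TwistNat.add_val, fsec_val, fsec_val, fsec_val, Localization.add_mk_self]

include hf in
theorem pow_mul_mem' {e : ℕ} (N : ℕ) {a : A} (ha : a ∈ 𝒜 e) : f ^ N * a ∈ 𝒜 (e + N • d) := by
  rw [add_comm]
  exact SetLike.mul_mem_graded (SetLike.pow_mem_graded N hf) ha

theorem fsec_raise (K e : ℕ) (he : (e : ℤ) = ((K • d : ℕ) : ℤ) + n) (N : ℕ) (a : A)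
    (ha : a ∈ 𝒜 e) :
    fsec 𝒜 hf n V hV K e a ha he =
      fsec 𝒜 hf n V hV (K + N) (e + N • d) (f ^ N * a) (pow_mul_mem' 𝒜 hf N ha)
        (FracBC.he_raise he N) := by
  refine sec_ext 𝒜 n _ _ fun y => ?_
  rw [fsec_val, fsec_val, Localization.mk_eq_mk_iff, Localization.r_iff_exists]
  refine ⟨1, ?_⟩
  simp only [OneMemClass.coe_one, one_mul]
  ring

theorem zero_mul_mem {e : ℕ} {c0 a : A} (hc0 : c0 ∈ 𝒜 0) (ha : a ∈ 𝒜 e) : c0 * a ∈ 𝒜 e := by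
  simpa using SetLike.mul_mem_graded hc0 ha

theorem smul_fsec (c : Γ(Proj 𝒜, V)) (c0 : A) (hc0 : c0 ∈ 𝒜 0)
    (hc : ∀ y : V, ((show OSec 𝒜 V from c).1 y).val = Localization.mk c0 1)
    (K e : ℕ) (he : (e : ℤ) = ((K • d : ℕ) : ℤ) + n) (a : A) (ha : a ∈ 𝒜 e) :
    c • fsec 𝒜 hf n V hV K e a ha he =
      fsec 𝒜 hf n V hV K e (c0 * a) (zero_mul_mem 𝒜 hc0 ha) he := by
  refine sec_ext 𝒜 n _ _ fun y => ?_
  rw [TwistNat.smul_val, hc, fsec_val, fsec_val, Localization.mk_mul, one_mul]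

end Groth.Agent.Lib.Helper74.TwistFrac
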