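import Groth.Agent.Lib.Helper74.TwistTN
import Groth.Agent.Lib.Helper74.ProjZeroBasicOpen

set_option autoImplicit false
universe u
open CategoryTheory CategoryTheory.Limits AlgebraicGeometry TopologicalSpace Opposite
open scoped HomogeneousIdeal
open HomogeneousLocalization

namespace Groth.Agent.Lib.Helper74.TwistLoc

open Groth.Agent.Lib.Helper74.TwistGen Groth.Agent.Lib.Helper74.TwistNat
open Groth.Agent.Lib.Helper74.PullbackBC Groth.Agent.Lib.Helper74.StrSec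
open Groth.Agent.Lib.Helper60.TildeSec Groth.Agent.Lib.Helper74.ModSec
open Groth.Agent.Lib.Helper74.TwistBCAbs

variable {R A : Type u} [CommRing R] [CommRing A] [Algebra R A] (𝒜 : ℕ → Submodule R A)
  [GradedAlgebra 𝒜] {B : Type u} [CommRing B] [Algebra R B] (ℬ : ℕ → Submodule R B)
  [GradedAlgebra ℬ] (ψ : 𝒜 →+*ᵍ ℬ)
  (g : A) (hg : g ∈ 𝒜 0) [Algebra A B] (hψA : ∀ a : A, ψ a = algebraMap A B a)
  [IsLocalization.Away g B]
  (hdeg : ∀ (n : ℕ) (b : B), b ∈ ℬ n ↔ ∃ (k : ℕ) (a : A), a ∈ 𝒜 n ∧ ψ g ^ k * b = ψ a)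
  (hψ : HomogeneousIdeal.irrelevant ℬ ≤ (HomogeneousIdeal.irrelevant 𝒜).map ψ)

omit [GradedAlgebra 𝒜] [GradedAlgebra ℬ] in
include hψA in
theorem isUnit_psi_g : IsUnit (ψ g) := by
  rw [hψA]
  exact IsLocalization.Away.algebraMap_isUnit g

omit [GradedAlgebra 𝒜] [GradedAlgebra ℬ] in
include hψA in
theorem exists_pow_mul_eq_zero_of_map_eq_zero {a : A} (h0 : ψ a = 0) : ∃ m : ℕ, g ^ m * a = 0 := by
  rw [hψA] at h0
  obtain ⟨⟨_, m, rfl⟩, hm⟩ := (IsLocalization.map_eq_zero_iff (Submonoid.powers g) B a).1 h0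
  exact ⟨m, hm⟩

omit [GradedAlgebra ℬ] in
include hψA hdeg in
theorem exists_inv_mem : ∃ c : B, c ∈ ℬ 0 ∧ ψ g * c = 1 := by
  obtain ⟨c, hc⟩ := (isUnit_psi_g 𝒜 ℬ ψ g hψA).exists_right_inv
  refine ⟨c, (hdeg 0 c).2 ⟨1, 1, SetLike.GradedOne.one_mem, ?_⟩, hc⟩
  rw [pow_one, hc, map_one]

section away

variable {i : ℕ} (hi : 0 < i) {s : A} (hs : s ∈ 𝒜 i)

/-- the element `g / 1` of the degree-zero localization -/
noncomputable def gz : Away 𝒜 s := Away.mk 𝒜 hs 0 g (by rwa [zero_smul])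

theorem gz_val : (gz 𝒜 g hg hs).val = Localization.mk g 1 := by
  rw [gz, Away.val_mk]
  congr 1
  exact Subtype.ext (pow_zero s)

include hψA hdeg in
theorem isLocalization_away_map :
    @IsLocalization.Away _ _ (gz 𝒜 g hg hs) (Away ℬ (ψ s)) _ (Away.map ψ s).toAlgebra := by
  let _ : Algebra (Away 𝒜 s) (Away ℬ (ψ s)) := (Away.map ψ s).toAlgebra
  have hmap : ∀ x : Away 𝒜 s, algebraMap (Away 𝒜 s) (Away ℬ (ψ s)) x = Away.map ψ s x :=
    fun x => rfl
  obtain ⟨c, hc0, hc⟩ := exists_inv_mem 𝒜 ℬ ψ g hψA hdeg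
  have hgzmap : (Away.map ψ s (gz 𝒜 g hg hs)).val = Localization.mk (ψ g) 1 := by
    rw [gz, Away.map_mk, Away.val_mk]
    congr 1
    exact Subtype.ext (pow_zero _)
  have hunit : IsUnit (Away.map ψ s (gz 𝒜 g hg hs)) := by
    refine IsUnit.of_mul_eq_one (Away.mk ℬ (ψ.map_mem hs) 0 c (by rwa [zero_smul])) ?_
    apply HomogeneousLocalization.val_injective
    rw [HomogeneousLocalization.val_mul, hgzmap, Away.val_mk, HomogeneousLocalization.val_one,
      Localization.mk_mul, hc]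
    rw [← Localization.mk_one]
    congr 1
    exact Subtype.ext (by simp)
  refine ⟨?_, ?_, ?_⟩
  · rintro ⟨_, m, rfl⟩
    rw [hmap, map_pow]
    exact hunit.pow m
  · intro z
    obtain ⟨k, b, hb, rfl⟩ := Away.mk_surjective ℬ (ψ.map_mem hs) z
    obtain ⟨m, a, ha, hab⟩ := (hdeg _ b).1 hb
    refine ⟨(Away.mk 𝒜 hs k a ha, ⟨gz 𝒜 g hg hs ^ m, m, rfl⟩), ?_⟩
    rw [hmap, hmap, map_pow, Away.map_mk]
    apply HomogeneousLocalization.val_injective
    rw [HomogeneousLocalization.val_mul, HomogeneousLocalization.val_pow, hgzmap, Away.val_mk,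
      Away.val_mk, Localization.mk_pow, Localization.mk_mul, Localization.mk_eq_mk_iff,
      Localization.r_iff_exists]
    refine ⟨1, ?_⟩
    simp only [OneMemClass.coe_one, one_mul, one_pow, mul_one]
    rw [← hab]
    exact congrArg (ψ s ^ k * ·) (mul_comm b (ψ g ^ m))
  · intro x y hxy
    rw [hmap, hmap] at hxy
    have h0 : Away.map ψ s (x - y) = 0 := by rw [map_sub, hxy, sub_self]
    obtain ⟨k, a, ha, hw⟩ := Away.mk_surjective 𝒜 hs (x - y)
    rw [← hw, Away.map_mk] at h0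
    have h0' := congrArg HomogeneousLocalization.val h0
    rw [Away.val_mk, HomogeneousLocalization.val_zero, Localization.mk_eq_mk',
      IsLocalization.mk'_eq_zero_iff] at h0'
    obtain ⟨⟨_, j, rfl⟩, hj⟩ := h0'
    have hj' : ψ (s ^ j * a) = 0 := by rw [map_mul, map_pow]; exact hj
    obtain ⟨m, hm⟩ := exists_pow_mul_eq_zero_of_map_eq_zero 𝒜 ℬ ψ g hψA hj'
    refine ⟨⟨gz 𝒜 g hg hs ^ m, m, rfl⟩, ?_⟩
    have hz : gz 𝒜 g hg hs ^ m * (x - y) = 0 := by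
      rw [← hw]
      apply HomogeneousLocalization.val_injective
      rw [HomogeneousLocalization.val_mul, HomogeneousLocalization.val_pow, gz_val, Away.val_mk,
        HomogeneousLocalization.val_zero, Localization.mk_pow, Localization.mk_mul,
        Localization.mk_eq_mk', IsLocalization.mk'_eq_zero_iff]
      refine ⟨⟨s ^ j, j, rfl⟩, ?_⟩
      rw [← hm]
      ring
    rw [mul_sub, sub_eq_zero] at hz
    exact hz

end away

include hg hψA hdeg in
theorem isOpenImmersion_specMap_awayMap {i : ℕ} {s : A} (hs : s ∈ 𝒜 i) :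
    IsOpenImmersion (Spec.map (CommRingCat.ofHom (Away.map ψ s))) := by
  let _ : Algebra (Away 𝒜 s) (Away ℬ (ψ s)) := (Away.map ψ s).toAlgebra
  have := isLocalization_away_map 𝒜 ℬ ψ g hg hψA hdeg hs
  exact IsOpenImmersion.of_isLocalization (R := Away 𝒜 s) (S := Away ℬ (ψ s)) (gz 𝒜 g hg hs)

include hg hψA hdeg in
/-- `Proj` of a localization at a degree-zero element is an open immersion -/
theorem isOpenImmersion_map : IsOpenImmersion (Proj.map ψ hψ) := by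
  refine IsZariskiLocalAtTarget.of_openCover (P := @IsOpenImmersion)
    (Proj.affineOpenCover 𝒜).openCover ?_
  intro i
  obtain ⟨⟨d, hd⟩, ⟨s, hs⟩⟩ := i
  have hoi := isOpenImmersion_specMap_awayMap 𝒜 ℬ ψ g hg hψA hdeg hs
  have hpb : IsPullback (Spec.map (CommRingCat.ofHom (Away.map ψ s)))
      (Proj.awayι ℬ (ψ s) (ψ.2 hs) hd) (Proj.awayι 𝒜 s hs hd) (Proj.map ψ hψ) := by
    refine IsOpenImmersion.isPullback _ _ _ _ (Proj.awayι_comp_map ψ hψ hd s hs) ?_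
    rw [Proj.opensRange_awayι, Proj.opensRange_awayι, Proj.map_preimage_basicOpen]
  change IsOpenImmersion (pullback.snd (Proj.map ψ hψ) (Proj.awayι 𝒜 s hs hd))
  have : pullback.snd (Proj.map ψ hψ) (Proj.awayι 𝒜 s hs hd) =
      hpb.flip.isoPullback.inv ≫ Spec.map (CommRingCat.ofHom (Away.map ψ s)) := by
    rw [Iso.eq_inv_comp]
    exact hpb.flip.isoPullback_hom_snd
  rw [this]
  infer_instance

include hg hψA hdeg in
/-- the image of `Proj` of the localization is `D₊(g)` -/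
theorem range_map :
    Set.range (Proj.map ψ hψ).base = (Proj.basicOpen 𝒜 g : Set (Proj 𝒜)) := by
  ext x
  constructor
  · rintro ⟨y, rfl⟩
    refine (Proj.mem_basicOpen 𝒜 g _).2 ?_
    intro hmem
    have hmem' : ψ g ∈ y.asHomogeneousIdeal.toIdeal := hmem
    exact y.isPrime.ne_top (Ideal.eq_top_of_isUnit_mem _ hmem' (isUnit_psi_g 𝒜 ℬ ψ g hψA))
  · intro hx
    obtain ⟨i, hi, s, hs, hxs⟩ := Groth.Agent.Lib.Helper74.QMap.exists_pos_homog_mem_basicOpen x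
    have hxs' := hxs
    rw [← Proj.opensRange_awayι 𝒜 s hs hi] at hxs
    obtain ⟨ξ, rfl⟩ := hxs
    have hgs : g * s ∈ 𝒜 i := by
      have := SetLike.mul_mem_graded hg hs
      rwa [zero_add] at this
    have h2 : Proj.awayι 𝒜 s hs hi ξ ∈ Proj.basicOpen 𝒜 (g * s) := by
      rw [Proj.basicOpen_mul]
      exact ⟨hx, hxs'⟩
    have h3 : ξ ∈ PrimeSpectrum.basicOpen (Away.isLocalizationElem hs hgs) := by
      rw [← Proj.awayι_preimage_basicOpen 𝒜 hs hi hgs hi]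
      exact h2
    have h4 : Away.isLocalizationElem hs hgs = (gz 𝒜 g hg hs) ^ i := by
      apply HomogeneousLocalization.val_injective
      rw [Away.val_mk, HomogeneousLocalization.val_pow, gz_val, Localization.mk_pow,
        Localization.mk_eq_mk_iff, Localization.r_iff_exists]
      refine ⟨1, ?_⟩
      simp only [OneMemClass.coe_one, one_mul, one_pow]
      rw [mul_pow]
      ring
    rw [h4, PrimeSpectrum.basicOpen_pow _ _ hi] at h3
    let _ : Algebra (Away 𝒜 s) (Away ℬ (ψ s)) := (Away.map ψ s).toAlgebra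
    have := isLocalization_away_map 𝒜 ℬ ψ g hg hψA hdeg hs
    have hrange := PrimeSpectrum.localization_away_comap_range (Away ℬ (ψ s)) (gz 𝒜 g hg hs)
    have h5 : ξ ∈ Set.range (PrimeSpectrum.comap (algebraMap (Away 𝒜 s) (Away ℬ (ψ s)))) := by
      rw [hrange]
      exact h3
    obtain ⟨η, hη⟩ := h5
    refine ⟨Proj.awayι ℬ (ψ s) (ψ.map_mem hs) hi η, ?_⟩
    have h6 := congrArg (fun f => f.base η) (Proj.awayι_comp_map ψ hψ hi s hs)
    refine Eq.trans h6 ?_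
    exact congrArg (Proj.awayι 𝒜 s hs hi).base hη

section theta

variable (n : ℤ)

omit [Algebra A B] in
/-- local bijectivity of `θ` from bijectivity of `comap` and of the map on functions -/
theorem theta_app_bijective_of (W : (Proj 𝒜).Opens) (hWaff : IsAffineOpen W)
    (hW'aff : IsAffineOpen (Proj.map ψ hψ ⁻¹ᵁ W))
    (hiso : IsIso ((Proj.map ψ hψ).appLE W (Proj.map ψ hψ ⁻¹ᵁ W) le_rfl))
    (hbc : Function.Bijective ((GrTwist.comap ψ hψ n).app W)) :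
    Function.Bijective ((((Scheme.Modules.pullbackPushforwardAdjunction (Proj.map ψ hψ)).homEquiv
      _ _).symm (GrTwist.comap ψ hψ n)).app (Proj.map ψ hψ ⁻¹ᵁ W)) := by
  have hcomp : ∀ t : Γ(GrTwist.twist 𝒜 n, W),
      ((((Scheme.Modules.pullbackPushforwardAdjunction (Proj.map ψ hψ)).homEquiv
        _ _).symm (GrTwist.comap ψ hψ n)).app (Proj.map ψ hψ ⁻¹ᵁ W)).hom
        (unitSec (Proj.map ψ hψ) (GrTwist.twist 𝒜 n) (le_refl (Proj.map ψ hψ ⁻¹ᵁ W)) t) =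
      ((GrTwist.comap ψ hψ n).app W).hom t := by
    intro t
    have h2 : unitSec (Proj.map ψ hψ) (GrTwist.twist 𝒜 n) (le_refl (Proj.map ψ hψ ⁻¹ᵁ W)) t =
        rs _ (le_refl (Proj.map ψ hψ ⁻¹ᵁ W))
          (Groth.Agent.Lib.Helper35.PbInv.pbSec (Proj.map ψ hψ) (GrTwist.twist 𝒜 n) W t) := rfl
    rw [h2, hom_rs, Groth.Agent.Lib.Helper35.PbInv.adj_app]
    exact rs_self _ _ _
  have hsurj : Function.Surjective
      (unitSec (Proj.map ψ hψ) (GrTwist.twist 𝒜 n) (le_refl (Proj.map ψ hψ ⁻¹ᵁ W))) := by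
    intro x
    have hspan := PbSpan.span_unitSec (Proj.map ψ hψ) (GrTwist.twist 𝒜 n) hW'aff hWaff
      (le_refl (Proj.map ψ hψ ⁻¹ᵁ W))
    have hx : x ∈ Submodule.span Γ(Proj ℬ, Proj.map ψ hψ ⁻¹ᵁ W)
        (Set.range (unitSec (Proj.map ψ hψ) (GrTwist.twist 𝒜 n)
          (le_refl (Proj.map ψ hψ ⁻¹ᵁ W)))) := by
      rw [hspan]; trivial
    induction hx using Submodule.span_induction with
    | mem x hx => exact hx
    | zero =>
      exact ⟨0, map_zero (unitSecHom (Proj.map ψ hψ) (GrTwist.twist 𝒜 n)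
        (le_refl (Proj.map ψ hψ ⁻¹ᵁ W)))⟩
    | add x y _ _ hx hy =>
      obtain ⟨a, rfl⟩ := hx
      obtain ⟨b, rfl⟩ := hy
      exact ⟨a + b, map_add (unitSecHom (Proj.map ψ hψ) (GrTwist.twist 𝒜 n)
        (le_refl (Proj.map ψ hψ ⁻¹ᵁ W))) a b⟩
    | smul c x _ hx =>
      obtain ⟨t, rfl⟩ := hx
      obtain ⟨s, rfl⟩ := (ConcreteCategory.bijective_of_isIso
        ((Proj.map ψ hψ).appLE W (Proj.map ψ hψ ⁻¹ᵁ W) le_rfl)).2 c
      exact ⟨s • t, unitSec_smul (Proj.map ψ hψ) (GrTwist.twist 𝒜 n) _ s t⟩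
  constructor
  · intro x y hxy
    obtain ⟨a, rfl⟩ := hsurj x
    obtain ⟨b, rfl⟩ := hsurj y
    have h1 := (hcomp a).symm.trans (hxy.trans (hcomp b))
    rw [hbc.1 h1]
  · intro t'
    obtain ⟨t, rfl⟩ := hbc.2 t'
    exact ⟨_, hcomp t⟩

include hψA hdeg in
theorem comap_app_bijective {d : ℕ} (hd : 0 < d) {s : A} (hs : s ∈ 𝒜 d)
    (W : (Proj 𝒜).Opens) (hV : ∀ y, y ∈ W ↔ g * s ∉ y.asHomogeneousIdeal)
    (hV' : ∀ z, z ∈ (Proj.map ψ hψ ⁻¹ᵁ W : (Proj ℬ).Opens) ↔ ψ (g * s) ∉ z.asHomogeneousIdeal)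
    (hgs : g * s ∈ 𝒜 d) :
    Function.Bijective ((GrTwist.comap ψ hψ n).app W) := by
  constructor
  · rw [injective_iff_map_eq_zero]
    intro t ht
    obtain ⟨K, e, a, ha, he, rfl⟩ := TwistFrac.exists_eq_fsec 𝒜 hgs n W hV hd t
    rw [show ((GrTwist.comap ψ hψ n).app W).hom (TwistFrac.fsec 𝒜 hgs n W hV K e a ha he) = _ from
      TwistTN.comap_fsec 𝒜 ℬ ψ hψ n hgs W hV hV' K e he a ha] at ht
    obtain ⟨N, hN⟩ := TwistFrac.exists_pow_mul_eq_zero ℬ (ψ.map_mem hgs) n _ hV' hd K e (ψ a)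
      (ψ.map_mem ha) he ht
    have hN' : ψ (g * s) ^ N * ψ a = 0 := hN
    have h0 : ψ ((g * s) ^ N * a) = 0 := by rw [map_mul, map_pow, hN']
    obtain ⟨m, hm⟩ := exists_pow_mul_eq_zero_of_map_eq_zero 𝒜 ℬ ψ g hψA h0
    have hz : (g * s) ^ (N + m) * a = 0 := by
      have : (g * s) ^ (N + m) * a = s ^ m * (g ^ m * ((g * s) ^ N * a)) := by
        rw [pow_add, mul_pow g s m]; ring
      rw [this, hm, mul_zero]
    rw [TwistFrac.fsec_raise 𝒜 hgs n W hV K e he (N + m) a ha,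
      fsec_congr 𝒜 n hgs W hV _ _ _ hz _ (zero_mem _)]
    exact TwistFrac.fsec_zero 𝒜 hgs n W hV _ _ _
  · intro t'
    obtain ⟨K, e, b', hb', he, rfl⟩ := TwistFrac.exists_eq_fsec ℬ (ψ.map_mem hgs) n _ hV' hd t'
    obtain ⟨m, a, ha, hab⟩ := (hdeg e b').1 hb'
    have hmem : s ^ m * a ∈ 𝒜 (e + m • d) := by
      have := SetLike.mul_mem_graded (SetLike.pow_mem_graded m hs) ha
      rwa [add_comm] at this
    refine ⟨TwistFrac.fsec 𝒜 hgs n W hV (K + m) (e + m • d) (s ^ m * a) hmem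
      (FracBC.he_raise he m), ?_⟩
    rw [show ((GrTwist.comap ψ hψ n).app W).hom
      (TwistFrac.fsec 𝒜 hgs n W hV (K + m) (e + m • d) (s ^ m * a) hmem
        (FracBC.he_raise he m)) = _ from
      TwistTN.comap_fsec 𝒜 ℬ ψ hψ n hgs W hV hV' _ _ _ (s ^ m * a) hmem,
      TwistFrac.fsec_raise ℬ (ψ.map_mem hgs) n _ hV' K e he m b' hb']
    refine fsec_congr ℬ n (ψ.map_mem hgs) _ hV' _ _ _ ?_ _ _
    have h1 : ψ (s ^ m * a) = ψ s ^ m * (ψ g ^ m * b') := by rw [map_mul, map_pow, hab]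
    refine h1.trans ?_
    have h2 : (ψ (g * s)) ^ m * b' = ψ s ^ m * (ψ g ^ m * b') := by
      rw [map_mul, mul_pow]; ring
    exact h2.symm

end theta

include hg hψA hdeg in
/-- **the comparison map of twisting sheaves is an isomorphism for a localization at a
degree-zero element** -/
theorem isIso_theta (n : ℤ) :
    IsIso (((Scheme.Modules.pullbackPushforwardAdjunction (Proj.map ψ hψ)).homEquiv _ _).symm
      (GrTwist.comap ψ hψ n)) := by
  refine Groth.Agent.Lib.Helper74.QCohBij.isIso_of_affine_cover _ fun x' => ?_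
  obtain ⟨d, hd, s, hs, hxs⟩ :=
    Groth.Agent.Lib.Helper74.QMap.exists_pos_homog_mem_basicOpen ((Proj.map ψ hψ) x')
  have hrange := range_map 𝒜 ℬ ψ g hg hψA hdeg hψ
  have hxg : (Proj.map ψ hψ) x' ∈ Proj.basicOpen 𝒜 g := by
    have h1 : (Proj.map ψ hψ) x' ∈ Set.range (Proj.map ψ hψ).base := ⟨x', rfl⟩
    rw [hrange] at h1
    exact h1
  have hgs : g * s ∈ 𝒜 d := by
    have := SetLike.mul_mem_graded hg hs
    rwa [zero_add] at this
  have hV : ∀ y, y ∈ Proj.basicOpen 𝒜 (g * s) ↔ g * s ∉ y.asHomogeneousIdeal :=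
    fun y => Proj.mem_basicOpen 𝒜 (g * s) y
  have hV' : ∀ z, z ∈ (Proj.map ψ hψ ⁻¹ᵁ Proj.basicOpen 𝒜 (g * s) : (Proj ℬ).Opens) ↔
      ψ (g * s) ∉ z.asHomogeneousIdeal := fun z => Proj.mem_basicOpen ℬ (ψ (g * s)) z
  have hWaff : IsAffineOpen (Proj.basicOpen 𝒜 (g * s)) :=
    Proj.isAffineOpen_basicOpen 𝒜 (g * s) hgs hd
  have hW'aff : IsAffineOpen (Proj.map ψ hψ ⁻¹ᵁ Proj.basicOpen 𝒜 (g * s)) :=
    Proj.isAffineOpen_basicOpen ℬ (ψ (g * s)) (ψ.map_mem hgs) hd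
  have hoi := isOpenImmersion_map 𝒜 ℬ ψ g hg hψA hdeg hψ
  have hWle : Proj.basicOpen 𝒜 (g * s) ≤ (Proj.map ψ hψ).opensRange := by
    intro y hy
    have h1 : y ∈ Proj.basicOpen 𝒜 g := by
      rw [Proj.basicOpen_mul] at hy
      exact hy.1
    change y ∈ Set.range (Proj.map ψ hψ).base
    rw [hrange]
    exact h1
  have hiso : IsIso ((Proj.map ψ hψ).appLE (Proj.basicOpen 𝒜 (g * s))
      (Proj.map ψ hψ ⁻¹ᵁ Proj.basicOpen 𝒜 (g * s)) le_rfl) := by
    rw [Scheme.Hom.appLE_eq_app]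
    exact Scheme.Hom.isIso_app (Proj.map ψ hψ) _ hWle
  refine ⟨_, hW'aff, ?_, theta_app_bijective_of 𝒜 ℬ ψ hψ n _ hWaff hW'aff hiso
    (comap_app_bijective 𝒜 ℬ ψ g hψA hdeg hψ n hd hs _ hV hV' hgs)⟩
  change (Proj.map ψ hψ) x' ∈ Proj.basicOpen 𝒜 (g * s)
  rw [Proj.basicOpen_mul]
  exact ⟨hxg, hxs⟩

end Groth.Agent.Lib.Helper74.TwistLoc
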