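import Groth.Agent.Lib.Helper74.TwistBCAbs
import Groth.Agent.Lib.Helper43.ProjIso

set_option autoImplicit false
universe u
open CategoryTheory CategoryTheory.Limits AlgebraicGeometry TopologicalSpace Opposite
open scoped HomogeneousIdeal
open HomogeneousLocalization

namespace Groth.Agent.Lib.Helper74.TwistTN

open Groth.Agent.Lib.Helper74.TwistGen Groth.Agent.Lib.Helper74.TwistNat
open Groth.Agent.Lib.Helper74.PullbackBC Groth.Agent.Lib.Helper74.StrSec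
open Groth.Agent.Lib.Helper60.TildeSec Groth.Agent.Lib.Helper74.ModSec
open Groth.Agent.Lib.Helper74.TwistBCAbs

variable {R A : Type u} [CommRing R] [CommRing A] [Algebra R A] (𝒜 : ℕ → Submodule R A)
  [GradedAlgebra 𝒜] {B : Type u} [CommRing B] [Algebra R B] (ℬ : ℕ → Submodule R B)
  [GradedAlgebra ℬ] (ψ : 𝒜 →+*ᵍ ℬ) (d₀ : ℕ)
  (hbij : ∀ d : ℕ, d₀ ≤ d → Set.BijOn ψ (𝒜 d) (ℬ d))
  (hψ : HomogeneousIdeal.irrelevant ℬ ≤ (HomogeneousIdeal.irrelevant 𝒜).map ψ) (n : ℤ)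

omit [GradedAlgebra 𝒜] [GradedAlgebra ℬ] in
include hbij in
theorem eq_zero_of_map_eq_zero {e : ℕ} (he : d₀ ≤ e) {c : A} (hc : c ∈ 𝒜 e) (h0 : ψ c = 0) :
    c = 0 :=
  (hbij e he).injOn hc (zero_mem _) (h0.trans (map_zero ψ).symm)

include hbij in
theorem away_map_bijective (i : ℕ) (hi : 0 < i) (s : A) (hs : s ∈ 𝒜 i) :
    Function.Bijective (Away.map ψ s) := by
  classical
  constructor
  · rw [injective_iff_map_eq_zero]
    intro x hx
    obtain ⟨m, a, ha, rfl⟩ := Away.mk_surjective 𝒜 hs x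
    rw [Away.map_mk] at hx
    have hx' := congrArg HomogeneousLocalization.val hx
    rw [Away.val_mk, HomogeneousLocalization.val_zero, Localization.mk_eq_mk',
      IsLocalization.mk'_eq_zero_iff] at hx'
    obtain ⟨⟨_, j, rfl⟩, hj⟩ := hx'
    have hj' : ψ (s ^ (j + d₀) * a) = 0 := by
      rw [map_mul, map_pow, pow_add, mul_right_comm, hj, zero_mul]
    have hmem : s ^ (j + d₀) * a ∈ 𝒜 ((j + d₀) • i + m • i) :=
      SetLike.mul_mem_graded (SetLike.pow_mem_graded _ hs) ha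
    have hz : s ^ (j + d₀) * a = 0 := by
      refine eq_zero_of_map_eq_zero 𝒜 ℬ ψ d₀ hbij ?_ hmem hj'
      simp only [smul_eq_mul]
      nlinarith
    apply HomogeneousLocalization.val_injective
    rw [Away.val_mk, HomogeneousLocalization.val_zero, Localization.mk_eq_mk',
      IsLocalization.mk'_eq_zero_iff]
    exact ⟨⟨s ^ (j + d₀), j + d₀, rfl⟩, hz⟩
  · intro y
    obtain ⟨m, b, hb, rfl⟩ := Away.mk_surjective ℬ (ψ.map_mem hs) y
    have hmem : (ψ s) ^ d₀ * b ∈ ℬ ((m + d₀) • i) := by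
      have := SetLike.mul_mem_graded (SetLike.pow_mem_graded d₀ (ψ.map_mem hs)) hb
      have e : d₀ • i + m • i = (m + d₀) • i := by simp only [smul_eq_mul]; ring
      rwa [e] at this
    have hge : d₀ ≤ (m + d₀) • i := by simp only [smul_eq_mul]; nlinarith
    obtain ⟨a, ha, hab⟩ := (hbij _ hge).surjOn hmem
    refine ⟨Away.mk 𝒜 hs (m + d₀) a ha, ?_⟩
    rw [Away.map_mk]
    apply HomogeneousLocalization.val_injective
    rw [Away.val_mk, Away.val_mk, Localization.mk_eq_mk_iff, Localization.r_iff_exists]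
    refine ⟨1, ?_⟩
    simp only [OneMemClass.coe_one, one_mul]
    rw [hab, pow_add]
    first | rfl | ring_nf; rfl

include hbij in
theorem isIso_map : IsIso (Proj.map ψ hψ) :=
  Groth.Agent.Lib.Helper43.proj_map_isIso ψ hψ
    (fun i hi s hs => away_map_bijective 𝒜 ℬ ψ d₀ hbij i hi s hs)

section local_

variable {d : ℕ} {f : A} (hf : f ∈ 𝒜 d)
  (W : (Proj 𝒜).Opens) (hV : ∀ y, y ∈ W ↔ f ∉ y.asHomogeneousIdeal)
  (hV' : ∀ z, z ∈ (Proj.map ψ hψ ⁻¹ᵁ W : (Proj ℬ).Opens) ↔ ψ f ∉ z.asHomogeneousIdeal)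

theorem comap_fsec (K e : ℕ) (he : (e : ℤ) = ((K • d : ℕ) : ℤ) + n) (a : A) (ha : a ∈ 𝒜 e) :
    (GrTwist.comap ψ hψ n).app W (TwistFrac.fsec 𝒜 hf n W hV K e a ha he) =
      TwistFrac.fsec ℬ (ψ.map_mem hf) n (Proj.map ψ hψ ⁻¹ᵁ W) hV' K e (ψ a) (ψ.map_mem ha) he := by
  refine sec_ext ℬ n _ _ fun z => ?_
  refine Eq.trans (GrTwist.comap_app_val ψ hψ n W _ z) ?_
  refine Eq.trans (congrArg (GrTwist.locMap ψ hψ z.1)
    (TwistFrac.fsec_val 𝒜 hf n W hV K e a ha he ⟨_, z.2⟩)) ?_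
  refine Eq.trans (GrTwist.locMap_mk ψ hψ z.1 a _) ?_
  refine Eq.trans ?_
    (TwistFrac.fsec_val ℬ (ψ.map_mem hf) n _ hV' K e (ψ a) (ψ.map_mem ha) he z).symm
  refine Groth.Agent.Lib.Helper74.TwistNat.mk_congr_tw rfl ?_
  exact map_pow _ _ _

include hbij hf hV hV' in
theorem comap_app_bijective (hd : 0 < d) :
    Function.Bijective ((GrTwist.comap ψ hψ n).app W) := by
  constructor
  · rw [injective_iff_map_eq_zero]
    intro t ht
    obtain ⟨K, e, a, ha, he, rfl⟩ := TwistFrac.exists_eq_fsec 𝒜 hf n W hV hd t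
    rw [show ((GrTwist.comap ψ hψ n).app W).hom (TwistFrac.fsec 𝒜 hf n W hV K e a ha he) = _ from
      comap_fsec 𝒜 ℬ ψ hψ n hf W hV hV' K e he a ha] at ht
    obtain ⟨N, hN⟩ := TwistFrac.exists_pow_mul_eq_zero ℬ (ψ.map_mem hf) n _ hV' hd K e (ψ a)
      (ψ.map_mem ha) he ht
    have hN' : ψ f ^ N * ψ a = 0 := hN
    have h0 : ψ (f ^ (N + d₀) * a) = 0 := by
      rw [map_mul, map_pow, pow_add, mul_right_comm, hN', zero_mul]
    have hmem := TwistFrac.pow_mul_mem' 𝒜 hf (N + d₀) ha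
    have hz : f ^ (N + d₀) * a = 0 := by
      refine eq_zero_of_map_eq_zero 𝒜 ℬ ψ d₀ hbij ?_ hmem h0
      simp only [smul_eq_mul]
      nlinarith
    rw [TwistFrac.fsec_raise 𝒜 hf n W hV K e he (N + d₀) a ha,
      fsec_congr 𝒜 n hf W hV _ _ _ hz _ (zero_mem _)]
    exact TwistFrac.fsec_zero 𝒜 hf n W hV _ _ _
  · intro t'
    obtain ⟨K, e, a', ha', he, rfl⟩ := TwistFrac.exists_eq_fsec ℬ (ψ.map_mem hf) n _ hV' hd t'
    have hmem := TwistFrac.pow_mul_mem' ℬ (ψ.map_mem hf) d₀ ha'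
    have hge : d₀ ≤ e + d₀ • d := by simp only [smul_eq_mul]; nlinarith
    obtain ⟨a, ha, hab⟩ := (hbij _ hge).surjOn hmem
    refine ⟨TwistFrac.fsec 𝒜 hf n W hV (K + d₀) (e + d₀ • d) a ha (FracBC.he_raise he d₀), ?_⟩
    rw [show ((GrTwist.comap ψ hψ n).app W).hom
      (TwistFrac.fsec 𝒜 hf n W hV (K + d₀) (e + d₀ • d) a ha (FracBC.he_raise he d₀)) = _ from
      comap_fsec 𝒜 ℬ ψ hψ n hf W hV hV' _ _ _ a ha,
      TwistFrac.fsec_raise ℬ (ψ.map_mem hf) n _ hV' K e he d₀ a' ha']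
    exact fsec_congr ℬ n (ψ.map_mem hf) _ hV' _ _ _ hab _ _

include hbij hf hV hV' in
theorem theta_app_bijective (hd : 0 < d) (hWaff : IsAffineOpen W)
    (hW'aff : IsAffineOpen (Proj.map ψ hψ ⁻¹ᵁ W)) :
    Function.Bijective ((((Scheme.Modules.pullbackPushforwardAdjunction (Proj.map ψ hψ)).homEquiv
      _ _).symm (GrTwist.comap ψ hψ n)).app (Proj.map ψ hψ ⁻¹ᵁ W)) := by
  have := isIso_map 𝒜 ℬ ψ d₀ hbij hψ
  have hcomp : ∀ t : Γ(GrTwist.twist 𝒜 n, W),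
      ((((Scheme.Modules.pullbackPushforwardAdjunction (Proj.map ψ hψ)).homEquiv
        _ _).symm (GrTwist.comap ψ hψ n)).app (Proj.map ψ hψ ⁻¹ᵁ W)).hom
        (unitSec (Proj.map ψ hψ) (GrTwist.twist 𝒜 n) (le_refl (Proj.map ψ hψ ⁻¹ᵁ W)) t) =
      ((GrTwist.comap ψ hψ n).app W).hom t := by
    intro t
    have h2 : unitSec (Proj.map ψ hψ) (GrTwist.twist 𝒜 n) (le_refl (Proj.map ψ hψ ⁻¹ᵁ W)) t =
        rs _ (le_refl (Proj.map ψ hψ ⁻¹ᵁ W))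
          (Groth.Agent.Lib.Helper35.PbInv.pbSec (Proj.map ψ hψ) (GrTwist.twist 𝒜 n) W t) := rfl
    rw [h2, hom_rs, Groth.Agent.Lib.Helper35.PbInv.adj_app]
    exact rs_self _ _ _
  have hsurj : Function.Surjective
      (unitSec (Proj.map ψ hψ) (GrTwist.twist 𝒜 n) (le_refl (Proj.map ψ hψ ⁻¹ᵁ W))) := by
    intro x
    have hspan := PbSpan.span_unitSec (Proj.map ψ hψ) (GrTwist.twist 𝒜 n) hW'aff hWaff
      (le_refl (Proj.map ψ hψ ⁻¹ᵁ W))
    have hx : x ∈ Submodule.span Γ(Proj ℬ, Proj.map ψ hψ ⁻¹ᵁ W)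
        (Set.range (unitSec (Proj.map ψ hψ) (GrTwist.twist 𝒜 n)
          (le_refl (Proj.map ψ hψ ⁻¹ᵁ W)))) := by
      rw [hspan]; trivial
    induction hx using Submodule.span_induction with
    | mem x hx => exact hx
    | zero =>
      exact ⟨0, map_zero (unitSecHom (Proj.map ψ hψ) (GrTwist.twist 𝒜 n)
        (le_refl (Proj.map ψ hψ ⁻¹ᵁ W)))⟩
    | add x y _ _ hx hy =>
      obtain ⟨a, rfl⟩ := hx
      obtain ⟨b, rfl⟩ := hy
      exact ⟨a + b, map_add (unitSecHom (Proj.map ψ hψ) (GrTwist.twist 𝒜 n)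
        (le_refl (Proj.map ψ hψ ⁻¹ᵁ W))) a b⟩
    | smul c x _ hx =>
      obtain ⟨t, rfl⟩ := hx
      have hiso : IsIso ((Proj.map ψ hψ).appLE W (Proj.map ψ hψ ⁻¹ᵁ W) le_rfl) := by
        rw [Scheme.Hom.appLE_eq_app]; infer_instance
      obtain ⟨s, rfl⟩ := (ConcreteCategory.bijective_of_isIso
        ((Proj.map ψ hψ).appLE W (Proj.map ψ hψ ⁻¹ᵁ W) le_rfl)).2 c
      exact ⟨s • t, unitSec_smul (Proj.map ψ hψ) (GrTwist.twist 𝒜 n) _ s t⟩
  have hbc := comap_app_bijective 𝒜 ℬ ψ d₀ hbij hψ n hf W hV hV' hd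
  constructor
  · intro x y hxy
    obtain ⟨a, rfl⟩ := hsurj x
    obtain ⟨b, rfl⟩ := hsurj y
    have h1 := (hcomp a).symm.trans (hxy.trans (hcomp b))
    rw [hbc.1 h1]
  · intro t'
    obtain ⟨t, rfl⟩ := hbc.2 t'
    exact ⟨_, hcomp t⟩

end local_

include hbij in
/-- **the comparison map of twisting sheaves is an isomorphism for a `(TN)`-isomorphism** -/
theorem isIso_theta :
    IsIso (((Scheme.Modules.pullbackPushforwardAdjunction (Proj.map ψ hψ)).homEquiv _ _).symm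
      (GrTwist.comap ψ hψ n)) := by
  refine Groth.Agent.Lib.Helper74.QCohBij.isIso_of_affine_cover _ fun x => ?_
  have hcov := (Proj.affineOpenCover 𝒜).covers ((Proj.map ψ hψ) x)
  have hz2 : (Proj.map ψ hψ) x ∈
      Proj.basicOpen 𝒜 ((Proj.affineOpenCover 𝒜).idx ((Proj.map ψ hψ) x)).2.1 := by
    rw [← Proj.opensRange_awayι 𝒜 _ ((Proj.affineOpenCover 𝒜).idx ((Proj.map ψ hψ) x)).2.2
      ((Proj.affineOpenCover 𝒜).idx ((Proj.map ψ hψ) x)).1.2]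
    exact hcov
  obtain ⟨d, hd, f, hf, hfz⟩ : ∃ d : ℕ, 0 < d ∧ ∃ f, f ∈ 𝒜 d ∧
      (Proj.map ψ hψ) x ∈ Proj.basicOpen 𝒜 f :=
    ⟨_, ((Proj.affineOpenCover 𝒜).idx ((Proj.map ψ hψ) x)).1.2, _,
      ((Proj.affineOpenCover 𝒜).idx ((Proj.map ψ hψ) x)).2.2, hz2⟩
  have hV : ∀ y, y ∈ Proj.basicOpen 𝒜 f ↔ f ∉ y.asHomogeneousIdeal :=
    fun y => Proj.mem_basicOpen 𝒜 f y
  have hV' : ∀ z, z ∈ (Proj.map ψ hψ ⁻¹ᵁ Proj.basicOpen 𝒜 f : (Proj ℬ).Opens) ↔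
      ψ f ∉ z.asHomogeneousIdeal := fun z => Proj.mem_basicOpen ℬ (ψ f) z
  have hWaff : IsAffineOpen (Proj.basicOpen 𝒜 f) := Proj.isAffineOpen_basicOpen 𝒜 f hf hd
  have hW'aff : IsAffineOpen (Proj.map ψ hψ ⁻¹ᵁ Proj.basicOpen 𝒜 f) :=
    Proj.isAffineOpen_basicOpen ℬ (ψ f) (ψ.map_mem hf) hd
  exact ⟨_, hW'aff, hfz,
    theta_app_bijective 𝒜 ℬ ψ d₀ hbij hψ n hf _ hV hV' hd hWaff hW'aff⟩

end Groth.Agent.Lib.Helper74.TwistTN
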