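import Groth.Agent.Lib.Helper74.RelTwistBC3
import Groth.Agent.Lib.Helper74.ProjBundleBC
import Groth.Agent.Lib.Helper74.GrSym
import Groth.Agent.Lib.Helper74.RelProjExists
import Groth.Agent.Lib.Helper35.RVA2

set_option autoImplicit false
universe u
open CategoryTheory CategoryTheory.Limits AlgebraicGeometry TopologicalSpace Opposite
open scoped HomogeneousIdeal

namespace Groth.Agent.Lib.Helper74.VABC

open Groth.Agent.Lib.Helper74.TwistNat Groth.Agent.Lib.Helper74.RelGlue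

/-- base change of a projective bundle with its `O(1)` -/
theorem exists_bundle_bc {Y Y' P : Scheme.{u}} (ψ : Y' ⟶ Y) (E : Y.Modules) (hE : Coh.IsQCoh E)
    (𝒮 : RelProj.QCGrAlg Y) (j : E ⟶ 𝒮.toModule) (hj : RelProj.IsGrSymAlg E 𝒮 j) (p : P ⟶ Y)
    (chart : ∀ (U : Y.Opens) (hU : IsAffineOpen U),
      ((p ⁻¹ᵁ U : P.Opens) : Scheme.{u}) ≅ Proj (𝒮.deg U hU))
    (hP : RelProj.IsRelProj 𝒮 p chart) (O1 : P.Modules)
    (lam : ∀ (U : Y.Opens) (hU : IsAffineOpen U),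
      O1 ⟶ (Scheme.Modules.pushforward (RelProj.emb p chart U hU)).obj
        (GrTwist.twist (𝒮.deg U hU) 1))
    (hO1 : RelProj.IsRelTwist 𝒮 p chart 1 O1 lam) :
    ∃ (_ : Coh.IsQCoh ((Scheme.Modules.pullback ψ).obj E)) (𝒮' : RelProj.QCGrAlg Y')
      (j' : (Scheme.Modules.pullback ψ).obj E ⟶ 𝒮'.toModule)
      (_ : RelProj.IsGrSymAlg ((Scheme.Modules.pullback ψ).obj E) 𝒮' j')
      (P' : Scheme.{u}) (p' : P' ⟶ Y')
      (chart' : ∀ (U : Y'.Opens) (hU : IsAffineOpen U),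
        ((p' ⁻¹ᵁ U : P'.Opens) : Scheme.{u}) ≅ Proj (𝒮'.deg U hU))
      (_ : RelProj.IsRelProj 𝒮' p' chart') (O1' : P'.Modules)
      (lam' : ∀ (U : Y'.Opens) (hU : IsAffineOpen U),
        O1' ⟶ (Scheme.Modules.pushforward (RelProj.emb p' chart' U hU)).obj
          (GrTwist.twist (𝒮'.deg U hU) 1))
      (_ : RelProj.IsRelTwist 𝒮' p' chart' 1 O1' lam') (h : P' ⟶ P),
      IsPullback h p' p ψ ∧ Nonempty ((Scheme.Modules.pullback h).obj O1 ≅ O1') := by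
  have : E.IsQuasicoherent := hE
  have hE' : ((Scheme.Modules.pullback ψ).obj E).IsQuasicoherent := inferInstance
  obtain ⟨𝒮', j', hj'⟩ := Groth.Agent.Lib.Helper74.GrSym.exists_isGrSymAlg
    ((Scheme.Modules.pullback ψ).obj E)
  have hP' := Groth.Agent.Lib.Helper74.RelProjLib.isRelProj_relProj 𝒮'
  obtain ⟨O1', lam', hG⟩ := (twistSys hP' (1 : ℤ)).exists_isGlued
  have hO1' := (isGluedTw_iff hP' (1 : ℤ) O1' lam').1 hG
  let u := Groth.Agent.Lib.Helper74.ProjBundleBC.symQGrHom ψ E 𝒮 j hj 𝒮' j' hj'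
  have hbc : RelSpec.IsQBaseChange u.toQHom :=
    Groth.Agent.Lib.Helper74.SymPullback.isQBaseChange ψ E 𝒮.toQCAlg j hj.1 𝒮'.toQCAlg j' hj'.1 _
      (Groth.Agent.Lib.Helper74.SymQHom.symQHom_j ψ E 𝒮.toQCAlg j hj.1 𝒮'.toQCAlg j')
  have hirr := fun U hU U' hU' hle =>
    Groth.Agent.Lib.Helper74.QMap.hirr_of_isQBaseChange u hbc U hU U' hU' hle
  have hdom := Groth.Agent.Lib.Helper74.QMap.domQ_eq_top_of_forall u
    (p' := Groth.Agent.Lib.Helper74.RelProjLib.relProjHom 𝒮')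
    (chart' := Groth.Agent.Lib.Helper74.RelProjLib.relProjChart 𝒮') hirr
  obtain ⟨h, hh⟩ := Groth.Agent.Lib.Helper74.QMap.exists_isProjQMap u hP hP' hdom
  refine ⟨hE', 𝒮', j', hj', _, _, _, hP', O1', lam', hO1', h,
    Groth.Agent.Lib.Helper74.QMap.isPullback_of_isProjQMap _ hP hP' hbc h hh, ?_⟩
  exact Groth.Agent.Lib.Helper74.TwistBC.nonempty_pullback_iso u hirr hh hP hP'
    (Groth.Agent.Lib.Helper35.RVA.isGenDegOne_of_isGrSymAlg hE hj) 1 hO1 hO1'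

end Groth.Agent.Lib.Helper74.VABC
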