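import Groth.Agent.Lib.Helper74.VAFtSys

set_option autoImplicit false
set_option linter.style.haveILetI false
universe u

open CategoryTheory CategoryTheory.Limits AlgebraicGeometry TopologicalSpace Opposite

noncomputable section

namespace Groth.Agent.Lib.Helper74.VAFtD6

open Groth.Agent.Lib.Helper74.SymQ

theorem qGrHom_ext_of_sym {X Y : Scheme.{u}} {q : X ⟶ Y} {E : Y.Modules} (hE : Coh.IsQCoh E)
    {𝒯' : RelProj.QCGrAlg Y} {jE : E ⟶ 𝒯'.toModule} (hGr : RelProj.IsGrSymAlg E 𝒯' jE)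
    {𝒮L : RelProj.QCGrAlg X} (u₁ u₂ : RelProj.QGrHom q 𝒯' 𝒮L)
    (h : ∀ (U : Y.Opens) (x : Γ(E, U)), (u₁.app U).hom ((jE.app U) x) = (u₂.app U).hom ((jE.app U) x)) :
    ∀ U : Y.Opens, u₁.app U = u₂.app U := by
  haveI : E.IsQuasicoherent := hE
  -- affine case
  have haff : ∀ (U : Y.Opens), IsAffineOpen U → ∀ s : 𝒯'.presheaf.obj (op U),
      (u₁.app U).hom s = (u₂.app U).hom s := by
    intro U hU s
    have hf := isSymmetricAlgebra_of_isSymAlg hGr.1 U hU
    induction s using hf.induction with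
    | algebraMap r =>
      rw [algebraMap_algSect]
      have e1 := congrArg (fun ψ => ψ.hom r) (u₁.str_app U)
      have e2 := congrArg (fun ψ => ψ.hom r) (u₂.str_app U)
      exact e1.trans e2.symm
    | ι m => exact h U m
    | mul a b ha hb => rw [map_mul, map_mul, ha, hb]
    | add a b ha hb => rw [map_add, map_add, ha, hb]
  intro U
  ext s
  refine TopCat.Sheaf.eq_of_locally_eq' (⟨𝒮L.presheaf, 𝒮L.isSheaf⟩ : TopCat.Sheaf CommRingCat.{u} X.carrier)
    (fun V : {V : Y.affineOpens // V.1 ≤ U} => q ⁻¹ᵁ (V.1.1 : Y.Opens)) (q ⁻¹ᵁ U)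
    (fun V => homOfLE (q.preimage_mono V.2)) ?_ _ _ (fun V => ?_)
  · intro x hx
    have hx' : q x ∈ U := hx
    obtain ⟨V, hV, hxV, hVU⟩ := Opens.isBasis_iff_nbhd.mp Y.isBasis_affineOpens hx'
    exact Opens.mem_iSup.mpr ⟨⟨⟨V, hV⟩, hVU⟩, hxV⟩
  · have n1 := congrArg (fun ψ => ψ.hom s) (u₁.naturality V.2)
    have n2 := congrArg (fun ψ => ψ.hom s) (u₂.naturality V.2)
    exact n1.trans ((haff V.1.1 V.1.2 _).trans n2.symm)

end Groth.Agent.Lib.Helper74.VAFtD6
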