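import Groth.Agent.Lib.Helper74.RLTw6

set_option autoImplicit false
set_option linter.style.haveILetI false
universe u

open CategoryTheory CategoryTheory.Limits AlgebraicGeometry TopologicalSpace Opposite
open scoped HomogeneousIdeal
open HomogeneousLocalization

noncomputable section

namespace Groth.Agent.Lib.Helper74.RLTw

open Groth.Agent.Lib.Helper74.QMap Groth.Agent.Lib.Helper74.QMapImm
open Groth.Agent.Lib.Helper74.QMapImmU Groth.Agent.Lib.Helper74.InvSym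
open Groth.Agent.Lib.Helper74.TwistNat
open Groth.Agent.Lib.Helper35.Gen Groth.Agent.Lib.Helper35.RL Groth.Agent.Lib.Helper35.PbInv
open Groth.Agent.Lib.Helper35.Ample Groth.Agent.Lib.Helper60.TensorLib

variable {Y X P PL : Scheme.{u}} {q : X ⟶ Y}
  {L : X.Modules} (hL : PicF.IsInvertible L) [hLq : L.IsQuasicoherent]
  {𝒮 : RelProj.QCGrAlg Y} {𝒮L : RelProj.QCGrAlg X} {jL : L ⟶ 𝒮L.toModule}
  (hj : RelProj.IsGrSymAlg L 𝒮L jL)
  (u : RelProj.QGrHom q 𝒮 𝒮L)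
  {p : P ⟶ Y} {chart : ∀ (U : Y.Opens) (hU : IsAffineOpen U),
    (((p ⁻¹ᵁ U : P.Opens) : Scheme.{u}) ≅ Proj (𝒮.deg U hU))}
  (hP : RelProj.IsRelProj 𝒮 p chart)
  {pL : PL ⟶ X} {chartL : ∀ (U : X.Opens) (hU : IsAffineOpen U),
    (((pL ⁻¹ᵁ U : PL.Opens) : Scheme.{u}) ≅ Proj (𝒮L.deg U hU))}
  (hPL : RelProj.IsRelProj 𝒮L pL chartL)
  (r : ((RelProj.domQ u pL chartL : PL.Opens) : Scheme.{u}) ⟶ P)
  (hr : RelProj.IsProjQMapOn u p chart pL chartL (RelProj.domQ u pL chartL) r)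
  (nn : ℕ)

include hL hj hP hPL hr in
/-- `X_{s·s} = X_s` -/
theorem mem_XTU_mul_self (U : Y.Opens) (hU : IsAffineOpen U) {n : ℕ} (hn : 0 < n)
    {s : 𝒮.presheaf.obj (op U)} (hs : s ∈ 𝒮.deg U hU n) (x : X) (hx : x ∈ XTU u U n s) :
    x ∈ XTU u U (n + n) (s * s) := by
  haveI : IsIso pL := isIso_pL hj hL hPL
  have hss : s * s ∈ 𝒮.deg U hU (n + n) := SetLike.mul_mem_graded hs hs
  have hnn : 0 < n + n := Nat.add_pos_left hn n
  have e1 := preimage_XTU hL hj u hP hPL r hr U hU hn hs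
  have e2 := preimage_XTU hL hj u hP hPL r hr U hU hnn hss
  have hb : Proj.basicOpen (𝒮.deg U hU) (s * s) = Proj.basicOpen (𝒮.deg U hU) s := by
    rw [Proj.basicOpen_mul, inf_idem]
  rw [hb, e1] at e2
  obtain ⟨w, hw⟩ : ∃ w, pL w = x :=
    ⟨(inv pL) x, by rw [← Scheme.Hom.comp_apply, IsIso.inv_hom_id]; rfl⟩
  have h1 : w ∈ pL ⁻¹ᵁ XTU u U n s := by
    change pL w ∈ XTU u U n s
    rw [hw]; exact hx
  rw [e2] at h1
  have h2 : pL w ∈ XTU u U (n + n) (s * s) := h1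
  rwa [hw] at h2

include hL hj hP hPL hr in
/-- the domain of definition is everything, from degree-one surjectivity -/
theorem domQ_eq_top_of_surj
    (hsurj : ∀ x : X, ∃ (U : Y.Opens) (hU : IsAffineOpen U) (e : 𝒮.presheaf.obj (op U)) (_ : e ∈ 𝒮.deg U hU 1)
        (V : X.Opens) (hV : IsAffineOpen V) (hVU : V ≤ q ⁻¹ᵁ U), x ∈ V ∧
          ((𝒮L.deg V hV 1 : AddSubgroup (𝒮L.presheaf.obj (op V))) : Set (𝒮L.presheaf.obj (op V))) ⊆
            (Ideal.span {(u.appLE U V hVU).hom e} : Set (𝒮L.presheaf.obj (op V)))) :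
    RelProj.domQ u pL chartL = ⊤ := by
  rw [eq_top_iff]
  intro w _
  obtain ⟨U, hU, e, he, V, hV, hVU, hxV, hspan⟩ := hsurj (pL w)
  have hxX : pL w ∈ XTU u U 1 e := by
    refine (TopologicalSpace.Opens.mem_iSup).2 ⟨⟨⟨V, hV⟩, hVU, hspan⟩, hxV⟩
  exact preimage_XTU_le_domQ hL hj u hP hPL r hr U hU Nat.one_pos he hxX

variable {hj u nn}

include hL hP hPL hr in
/-- the index opens cover, from membership in the non-vanishing loci -/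
theorem exists_idx_of_mem_XTU (U : Y.Opens) (hU : IsAffineOpen U) (j : ℕ) (hj0 : 0 < j)
    (g hh : 𝒮.presheaf.obj (op U)) (hgdeg : g ∈ 𝒮.deg U hU (j + nn)) (hhdeg : hh ∈ 𝒮.deg U hU j)
    (x : X) (hxU' : x ∈ q ⁻¹ᵁ U)
    (hxXh : x ∈ XTU u U j hh) (hxXg : x ∈ XTU u U (j + nn) g) :
    ∃ k : Idx (q := q) hj u nn, x ∈ k.V := by
  have hgpos : 0 < j + nn := Nat.add_pos_left hj0 nn
  -- a trivialising affine open
  obtain ⟨V₁, hV₁, hxV₁, e₁, he₁⟩ := exists_affine_isGen hL x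
  obtain ⟨_, ⟨V₀, hV₀, rfl⟩, hxV₀, hV₀le⟩ :=
    (X.isBasis_affineOpens).exists_subset_of_mem_open
      (show x ∈ V₁ ⊓ q ⁻¹ᵁ U from ⟨hxV₁, hxU'⟩) (V₁ ⊓ q ⁻¹ᵁ U).isOpen
  have hV₀V₁ : V₀ ≤ V₁ := fun z hz => (hV₀le hz).1
  have hle₀ : V₀ ≤ q ⁻¹ᵁ U := fun z hz => (hV₀le hz).2
  have he₀ : IsGen L V₀ (rs L hV₀V₁ e₁) := he₁.mono hV₀V₁
  set e₀ := rs L hV₀V₁ e₁ with he₀def
  set cg := coeff hj V₀ hV₀ e₀ he₀.bij ((u.gradedAt U hU V₀ hV₀ hle₀) g)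
    ((u.gradedAt U hU V₀ hV₀ hle₀).map_mem hgdeg) with hcg
  set ch := coeff hj V₀ hV₀ e₀ he₀.bij ((u.gradedAt U hU V₀ hV₀ hle₀) hh)
    ((u.gradedAt U hU V₀ hV₀ hle₀).map_mem hhdeg) with hch
  have spg : (u.gradedAt U hU V₀ hV₀ hle₀) g =
      (𝒮L.str.app (op V₀)).hom cg * SymQ.jLin jL V₀ e₀ ^ (j + nn) :=
    coeff_spec hj V₀ hV₀ e₀ he₀.bij _ _
  have sph : (u.gradedAt U hU V₀ hV₀ hle₀) hh =
      (𝒮L.str.app (op V₀)).hom ch * SymQ.jLin jL V₀ e₀ ^ j :=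
    coeff_spec hj V₀ hV₀ e₀ he₀.bij _ _
  have hxcg : x ∈ X.basicOpen cg :=
    mem_basicOpen_of_mem_XTU hL hj u hP hPL r hr U hU hgpos hgdeg V₀ hV₀ hle₀ cg _ spg x hxV₀ hxXg
  have hxch : x ∈ X.basicOpen ch :=
    mem_basicOpen_of_mem_XTU hL hj u hP hPL r hr U hU hj0 hhdeg V₀ hV₀ hle₀ ch _ sph x hxV₀ hxXh
  obtain ⟨_, ⟨V, hV, rfl⟩, hxV, hVle⟩ :=
    (X.isBasis_affineOpens).exists_subset_of_mem_open
      (show x ∈ X.basicOpen cg ⊓ X.basicOpen ch from ⟨hxcg, hxch⟩)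
      (X.basicOpen cg ⊓ X.basicOpen ch).isOpen
  have hVcg : V ≤ X.basicOpen cg := fun z hz => (hVle hz).1
  have hVch : V ≤ X.basicOpen ch := fun z hz => (hVle hz).2
  have hVV : V ≤ V₀ := hVcg.trans (X.basicOpen_le cg)
  have hle : V ≤ q ⁻¹ᵁ U := hVV.trans hle₀
  have he : IsGen L V (rs L hVV e₀) := he₀.mono hVV
  have ucg : IsUnit (rr X hVV cg) := by
    have h1 : IsUnit (rr X (X.basicOpen_le cg) cg) := RingedSpace.isUnit_res_basicOpen _ cg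
    have h2 := h1.map (rr X hVcg)
    rwa [rr_rr] at h2
  have uch : IsUnit (rr X hVV ch) := by
    have h1 : IsUnit (rr X (X.basicOpen_le ch) ch) := RingedSpace.isUnit_res_basicOpen _ ch
    have h2 := h1.map (rr X hVch)
    rwa [rr_rr] at h2
  have eg : (u.gradedAt U hU V hV hle) g = resA 𝒮L hVV ((u.gradedAt U hU V₀ hV₀ hle₀) g) :=
    congrArg (fun ψ => ψ.hom g) (u.appLE_map hle₀ hVV).symm
  have eh : (u.gradedAt U hU V hV hle) hh = resA 𝒮L hVV ((u.gradedAt U hU V₀ hV₀ hle₀) hh) :=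
    congrArg (fun ψ => ψ.hom hh) (u.appLE_map hle₀ hVV).symm
  have cgV : coeff hj V hV (rs L hVV e₀) he.bij ((u.gradedAt U hU V hV hle) g)
      ((u.gradedAt U hU V hV hle).map_mem hgdeg) = rr X hVV cg := by
    apply coeff_eq_of_eq
    have h5 : coeff hj V hV (rs L hVV e₀) he.bij
        (resA 𝒮L hVV ((u.gradedAt U hU V₀ hV₀ hle₀) g))
        (𝒮L.map_mem hV₀ hV hVV ((u.gradedAt U hU V₀ hV₀ hle₀).map_mem hgdeg)) = rr X hVV cg :=
      coeff_res hj hV₀ hV hVV e₀ he₀.bij he.bij _ _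
    have h6 := coeff_spec hj V hV (rs L hVV e₀) he.bij
        (resA 𝒮L hVV ((u.gradedAt U hU V₀ hV₀ hle₀) g))
        (𝒮L.map_mem hV₀ hV hVV ((u.gradedAt U hU V₀ hV₀ hle₀).map_mem hgdeg))
    rw [h5] at h6
    rw [eg]
    exact h6
  have chV : coeff hj V hV (rs L hVV e₀) he.bij ((u.gradedAt U hU V hV hle) hh)
      ((u.gradedAt U hU V hV hle).map_mem hhdeg) = rr X hVV ch := by
    apply coeff_eq_of_eq
    have h5 : coeff hj V hV (rs L hVV e₀) he.bij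
        (resA 𝒮L hVV ((u.gradedAt U hU V₀ hV₀ hle₀) hh))
        (𝒮L.map_mem hV₀ hV hVV ((u.gradedAt U hU V₀ hV₀ hle₀).map_mem hhdeg)) = rr X hVV ch :=
      coeff_res hj hV₀ hV hVV e₀ he₀.bij he.bij _ _
    have h6 := coeff_spec hj V hV (rs L hVV e₀) he.bij
        (resA 𝒮L hVV ((u.gradedAt U hU V₀ hV₀ hle₀) hh))
        (𝒮L.map_mem hV₀ hV hVV ((u.gradedAt U hU V₀ hV₀ hle₀).map_mem hhdeg))
    rw [h5] at h6
    rw [eh]
    exact h6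
  exact ⟨⟨U, hU, V, hV, hle, j, hj0, g, hh, hgdeg, hhdeg, rs L hVV e₀, he,
    cgV ▸ ucg, chV ▸ uch⟩, hxV⟩

include hL hP hPL hr in
/-- **the index opens cover**, from degree-one surjectivity (`nn = 1`) -/
theorem exists_idx_of_surj
    (hsurj : ∀ x : X, ∃ (U : Y.Opens) (hU : IsAffineOpen U) (e : 𝒮.presheaf.obj (op U)) (_ : e ∈ 𝒮.deg U hU 1)
        (V : X.Opens) (hV : IsAffineOpen V) (hVU : V ≤ q ⁻¹ᵁ U), x ∈ V ∧
          ((𝒮L.deg V hV 1 : AddSubgroup (𝒮L.presheaf.obj (op V))) : Set (𝒮L.presheaf.obj (op V))) ⊆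
            (Ideal.span {(u.appLE U V hVU).hom e} : Set (𝒮L.presheaf.obj (op V))))
    (x : X) : ∃ k : Idx (q := q) hj u 1, x ∈ k.V := by
  obtain ⟨U, hU, e, he, V, hV, hVU, hxV, hspan⟩ := hsurj x
  have hxX : x ∈ XTU u U 1 e := by
    refine (TopologicalSpace.Opens.mem_iSup).2 ⟨⟨⟨V, hV⟩, hVU, hspan⟩, hxV⟩
  have hxX2 : x ∈ XTU u U (1 + 1) (e * e) :=
    mem_XTU_mul_self hL hj u hP hPL r hr U hU Nat.one_pos he x hxX
  exact exists_idx_of_mem_XTU hL hP hPL r hr U hU 1 Nat.one_pos (e * e) e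
    (SetLike.mul_mem_graded he he) he x (hVU hxV) hxX hxX2

end Groth.Agent.Lib.Helper74.RLTw
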