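import Groth.Agent.Lib.Helper74.VAFtSys
import Groth.Agent.Lib.Helper74.VAIdx
import Groth.Agent.Lib.Helper74.QMapImmColimW
import Groth.Agent.Lib.Helper74.RelProjExists
import Groth.Agent.Lib.Helper19.FtSubD1
import Groth.Agent.Lib.Helper14.VAFtD7
import Groth.Agent.Lib.Helper95.FtSubD3
import Groth.Agent.Lib.Helper58.VAFtD5
import Groth.Agent.Lib.Helper74.VAFtD6

set_option autoImplicit false
set_option linter.style.haveILetI false
universe u

open CategoryTheory CategoryTheory.Limits AlgebraicGeometry TopologicalSpace Opposite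
open scoped HomogeneousIdeal

noncomputable section

namespace Groth.Agent.Lib.Helper74.VAFtMain

open Groth.Agent.Lib.Helper74.FtSub Groth.Agent.Lib.Helper74.VAFt
open Groth.Agent.Lib.Helper74.RelProjLib
open Groth.Agent.Lib.Helper19.FtSubD1 Groth.Agent.Lib.Helper14.VAFtD7 Groth.Agent.Lib.Helper95.FtSubD3
open Groth.Agent.Lib.Helper58.VAFtD5 Groth.Agent.Lib.Helper74.VAFtD6

theorem isGradedHom_id {Y : Scheme.{u}} (𝒜 : RelProj.QCGrAlg Y) :
    RelProj.IsGradedHom (𝟙 𝒜.toQCAlg) := fun _ _ _ _ hx => hx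

section

variable {X Y P PL : Scheme.{u}} (q : X ⟶ Y) [QuasiCompact q] [LocallyOfFiniteType q]
    (L : X.Modules) (hL : PicF.IsInvertible L) (hLq : Coh.IsQCoh L)
    (𝒮L : RelProj.QCGrAlg X) (jL : L ⟶ 𝒮L.toModule) (hjL : RelProj.IsGrSymAlg L 𝒮L jL)
    (pL : PL ⟶ X) (chartL : ∀ (U : X.Opens) (hU : IsAffineOpen U), (((pL ⁻¹ᵁ U : PL.Opens) : Scheme.{u}) ≅ Proj (𝒮L.deg U hU)))
    (hPL : RelProj.IsRelProj 𝒮L pL chartL)
    (F : Y.Modules) (hFq : Coh.IsQCoh F) (𝒯 : RelProj.QCGrAlg Y) (jF : F ⟶ 𝒯.toModule) (h𝒯 : RelProj.IsGrSymAlg F 𝒯 jF)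
    (u : RelProj.QGrHom q 𝒯 𝒮L)
    (p : P ⟶ Y) (chart : ∀ (U : Y.Opens) (hU : IsAffineOpen U), (((p ⁻¹ᵁ U : P.Opens) : Scheme.{u}) ≅ Proj (𝒯.deg U hU)))
    (hP : RelProj.IsRelProj 𝒯 p chart)
    (r : ((RelProj.domQ u pL chartL : PL.Opens) : Scheme.{u}) ⟶ P)
    (hr : RelProj.IsProjQMapOn u p chart pL chartL (RelProj.domQ u pL chartL) r)

include hL hLq hjL hPL hFq h𝒯 hP hr in
/-- (⇐) -/
theorem backward
    (H : ∃ (E : Y.Modules) (_ : Coh.IsQCoh E) (_ : CohB1.IsFT E) (ι : E ⟶ F) (_ : ∀ U : Y.Opens, Function.Injective (ι.app U))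
        (𝒯' : RelProj.QCGrAlg Y) (jE : E ⟶ 𝒯'.toModule) (_ : RelProj.IsGrSymAlg E 𝒯' jE)
        (u' : RelProj.QGrHom q 𝒯' 𝒮L)
        (_ : ∀ (U : Y.Opens) (x : Γ(E, U)), (u'.app U).hom ((jE.app U) x) = (u.app U).hom ((jF.app U) ((ι.app U) x))),
        (∀ x : X, ∃ (U : Y.Opens) (hU : IsAffineOpen U) (e : Γ(E, U)) (V : X.Opens) (hV : IsAffineOpen V)
            (hVU : V ≤ q ⁻¹ᵁ U), x ∈ V ∧
              ((𝒮L.deg V hV 1 : AddSubgroup (𝒮L.presheaf.obj (op V))) : Set (𝒮L.presheaf.obj (op V))) ⊆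
              (Ideal.span {(u'.appLE U V hVU).hom ((jE.app U) e)} : Set (𝒮L.presheaf.obj (op V)))) ∧
        ∀ (P' : Scheme.{u}) (p' : P' ⟶ Y)
            (chart' : ∀ (U : Y.Opens) (hU : IsAffineOpen U), (((p' ⁻¹ᵁ U : P'.Opens) : Scheme.{u}) ≅ Proj (𝒯'.deg U hU)))
            (_ : RelProj.IsRelProj 𝒯' p' chart')
            (r' : ((RelProj.domQ u' pL chartL : PL.Opens) : Scheme.{u}) ⟶ P')
            (_ : RelProj.IsProjQMapOn u' p' chart' pL chartL (RelProj.domQ u' pL chartL) r'),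
          RelProj.domQ u' pL chartL = ⊤ ∧ IsImmersion r') :
    IsImmersion r := by
  obtain ⟨E, hEq, -, ι, -, 𝒯', jE, hGr, u', hu', -, H'⟩ := H
  obtain ⟨v, hv, hvj⟩ := exists_symMap hEq hGr 𝒯 (ι ≫ jF) (fun U hU x => h𝒯.2 U hU ((ι.app U) x))
  have hvx : ∀ (U : Y.Opens) (x : Γ(E, U)),
      (v.hom.app (op U)).hom ((jE.app U) x) = jF.app U (ι.app U x) := by
    intro U x
    have := congrArg (fun η : E ⟶ 𝒯.toModule => (η.app U).hom x) hvj
    exact this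
  have hu'' : ∀ U : Y.Opens, u'.app U = v.hom.app (op U) ≫ u.app U := by
    refine qGrHom_ext_of_sym hEq hGr u' (Groth.Agent.Lib.Helper74.QMap.compGr u v hv) ?_
    intro U x
    rw [hu' U x, ← hvx U x]
    rfl
  have hPT := isRelProj_relProj 𝒯'
  obtain ⟨r', hr', -⟩ := Groth.Agent.Lib.Helper74.QMap.existsUnique_isProjQMapOn (u := u') hPT hPL
  obtain ⟨hdom', himm'⟩ := H' _ (relProjHom 𝒯') (relProjChart 𝒯') hPT r' hr'
  exact (Groth.Agent.Lib.Helper74.QMapImmU.isImmersion_of_comp u v hv hP hPT hPL r hr u' hu''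
    r' hr' hdom' himm').2

include hL hLq hjL hPL hFq h𝒯 hP hr in
/-- (⇒) -/
theorem forward (hYs : (CompactSpace Y ∧ Y.IsSeparated) ∨ NoetherianSpace Y)
    (hsurj : ∀ x : X, ∃ (U : Y.Opens) (hU : IsAffineOpen U) (e : Γ(F, U)) (V : X.Opens) (hV : IsAffineOpen V)
        (hVU : V ≤ q ⁻¹ᵁ U), x ∈ V ∧
          ((𝒮L.deg V hV 1 : AddSubgroup (𝒮L.presheaf.obj (op V))) : Set (𝒮L.presheaf.obj (op V))) ⊆
              (Ideal.span {(u.appLE U V hVU).hom ((jF.app U) e)} : Set (𝒮L.presheaf.obj (op V))))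
    (himm : IsImmersion r) :
    ∃ (E : Y.Modules) (_ : Coh.IsQCoh E) (_ : CohB1.IsFT E) (ι : E ⟶ F) (_ : ∀ U : Y.Opens, Function.Injective (ι.app U))
        (𝒯' : RelProj.QCGrAlg Y) (jE : E ⟶ 𝒯'.toModule) (_ : RelProj.IsGrSymAlg E 𝒯' jE)
        (u' : RelProj.QGrHom q 𝒯' 𝒮L)
        (_ : ∀ (U : Y.Opens) (x : Γ(E, U)), (u'.app U).hom ((jE.app U) x) = (u.app U).hom ((jF.app U) ((ι.app U) x))),
        (∀ x : X, ∃ (U : Y.Opens) (hU : IsAffineOpen U) (e : Γ(E, U)) (V : X.Opens) (hV : IsAffineOpen V)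
            (hVU : V ≤ q ⁻¹ᵁ U), x ∈ V ∧
              ((𝒮L.deg V hV 1 : AddSubgroup (𝒮L.presheaf.obj (op V))) : Set (𝒮L.presheaf.obj (op V))) ⊆
              (Ideal.span {(u'.appLE U V hVU).hom ((jE.app U) e)} : Set (𝒮L.presheaf.obj (op V)))) ∧
        ∀ (P' : Scheme.{u}) (p' : P' ⟶ Y)
            (chart' : ∀ (U : Y.Opens) (hU : IsAffineOpen U), (((p' ⁻¹ᵁ U : P'.Opens) : Scheme.{u}) ≅ Proj (𝒯'.deg U hU)))
            (_ : RelProj.IsRelProj 𝒯' p' chart')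
            (r' : ((RelProj.domQ u' pL chartL : PL.Opens) : Scheme.{u}) ⟶ P')
            (_ : RelProj.IsProjQMapOn u' p' chart' pL chartL (RelProj.domQ u' pL chartL) r'),
          RelProj.domQ u' pL chartL = ⊤ ∧ IsImmersion r' := by
  classical
  haveI : L.IsQuasicoherent := hLq
  haveI : F.IsQuasicoherent := hFq
  obtain ⟨hYc, hYqs⟩ := qcqs_of_hYs hYs
  haveI := hYc
  haveI := hYqs
  haveI : CompactSpace X := QuasiCompact.compactSpace_of_compactSpace q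
  haveI hdir : IsDirected (FtSub F) (· ≤ ·) := isDirected_ftSub F
  haveI hne : Nonempty (FtSub F) := nonempty_ftSub F
  -- `r` is everywhere defined
  have hsurj' : ∀ x : X, ∃ (U : Y.Opens) (hU : IsAffineOpen U) (e : 𝒯.presheaf.obj (op U)) (_ : e ∈ 𝒯.deg U hU 1)
        (V : X.Opens) (hV : IsAffineOpen V) (hVU : V ≤ q ⁻¹ᵁ U), x ∈ V ∧
          ((𝒮L.deg V hV 1 : AddSubgroup (𝒮L.presheaf.obj (op V))) : Set (𝒮L.presheaf.obj (op V))) ⊆
            (Ideal.span {(u.appLE U V hVU).hom e} : Set (𝒮L.presheaf.obj (op V))) := by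
    intro x
    obtain ⟨U, hU, e, V, hV, hVU, hxV, hspan⟩ := hsurj x
    exact ⟨U, hU, (jF.app U) e, h𝒯.2 U hU e, V, hV, hVU, hxV, hspan⟩
  have hdom : RelProj.domQ u pL chartL = ⊤ :=
    Groth.Agent.Lib.Helper74.RLTw.domQ_eq_top_of_surj hL hjL u hP hPL r hr hsurj'
  -- the projective bundles of the stages and the induced morphisms
  have hPi : ∀ a : FtSub F, RelProj.IsRelProj (sym a) (relProjHom (sym a)) (relProjChart (sym a)) :=
    fun a => isRelProj_relProj (sym a)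
  have hex : ∀ a : FtSub F, ∃ v : ((RelProj.domQ (ui h𝒯 u a) pL chartL : PL.Opens) : Scheme.{u}) ⟶ _,
      RelProj.IsProjQMapOn (ui h𝒯 u a) (relProjHom (sym a)) (relProjChart (sym a)) pL chartL
        (RelProj.domQ (ui h𝒯 u a) pL chartL) v := fun a => by
    obtain ⟨v, hv, -⟩ := Groth.Agent.Lib.Helper74.QMap.existsUnique_isProjQMapOn (u := ui h𝒯 u a) (hPi a) hPL
    exact ⟨v, hv⟩
  choose ri hri using hex
  have hmem : ∀ (U : Y.Opens) (_ : IsAffineOpen U) (m : Γ(F, U)),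
      ∃ (a : FtSub F) (e : Γ(a.E, U)), (a.ι.app U) e = m := fun U hU m => exists_ftSub_mem F hU m
  obtain ⟨a₀, hdom₀, himm₀⟩ := Groth.Agent.Lib.Helper74.QMapImmUW.exists_stage_isImmersion hL hjL u hPL
    (fun a : FtSub F => sym a) (φ h𝒯) (hφ h𝒯) t ht (hφt h𝒯) (ui h𝒯 u) (hui h𝒯 u) hPi ri hri
    (fun U hU x => exists_lift_sym hFq h𝒯 hdir hne hmem U hU x)
    (fun x => Groth.Agent.Lib.Helper74.QMapImmU.exists_local_data hL hjL u hP hPL r hr hdom x)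
  -- monotonicity
  have hmono : ∀ a b : FtSub F, a ≤ b →
      (RelProj.domQ (ui h𝒯 u a) pL chartL = ⊤ ∧ IsImmersion (ri a)) →
      (RelProj.domQ (ui h𝒯 u b) pL chartL = ⊤ ∧ IsImmersion (ri b)) := fun a b hab h =>
    Groth.Agent.Lib.Helper74.QMapImmU.isImmersion_of_comp (ui h𝒯 u b) (t a b hab) (ht a b hab) (hPi b) (hPi a) hPL
      (ri b) (hri b) (ui h𝒯 u a) (ui_app_eq h𝒯 u a b hab) (ri a) (hri a) h.1 h.2
  -- a finite subcover for the surjectivity clause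
  choose U hU e V hV hVU hxV hspan using hsurj
  obtain ⟨T, hT⟩ := isCompact_univ.elim_finite_subcover (fun x => ((V x : X.Opens) : Set X))
    (fun x => (V x).isOpen) (fun y _ => Set.mem_iUnion.mpr ⟨y, hxV y⟩)
  have hlift : ∀ x : X, ∃ (a : FtSub F) (e' : Γ(a.E, U x)), (a.ι.app (U x)) e' = e x :=
    fun x => hmem (U x) (hU x) (e x)
  choose ax ex hex' using hlift
  obtain ⟨b, hb⟩ := (insert a₀ (T.image ax)).exists_le
  have ha₀b : a₀ ≤ b := hb _ (Finset.mem_insert_self _ _)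
  have haxb : ∀ x ∈ T, ax x ≤ b := fun x hx =>
    hb _ (Finset.mem_insert_of_mem (Finset.mem_image_of_mem _ hx))
  obtain ⟨hdomb, himmb⟩ := hmono a₀ b ha₀b ⟨hdom₀, himm₀⟩
  haveI := b.mono
  refine ⟨b.E, b.qcoh, b.ft, b.ι, fun W => app_injective_of_mono b.ι W, sym b, symJ b, sym_spec b,
    ui h𝒯 u b, fun W x => ui_app_symJ h𝒯 u b W x, ?_, ?_⟩
  · intro y
    have hy := hT (Set.mem_univ y)
    simp only [Set.mem_iUnion] at hy
    obtain ⟨x, hxT, hyV⟩ := hy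
    refine ⟨U x, hU x, ((fac (haxb x hxT)).app (U x)) (ex x), V x, hV x, hVU x, hyV, ?_⟩
    have h1 : ((ui h𝒯 u b).appLE (U x) (V x) (hVU x)).hom
        (((symJ b).app (U x)) (((fac (haxb x hxT)).app (U x)) (ex x))) =
        (u.appLE (U x) (V x) (hVU x)).hom ((jF.app (U x)) (e x)) := by
      rw [Groth.Agent.Lib.Helper74.QMapImmUW.appLE_uiW u (fun a : FtSub F => sym a) (φ h𝒯) (ui h𝒯 u)
        (hui h𝒯 u) b (U x) (V x) (hVU x)]
      have h2 : ((φ h𝒯 b).hom.app (op (U x))).hom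
          (((symJ b).app (U x)) (((fac (haxb x hxT)).app (U x)) (ex x))) = (jF.app (U x)) (e x) := by
        rw [φ_symJ h𝒯 b (U x)]
        have h3 : (b.ι.app (U x)) (((fac (haxb x hxT)).app (U x)) (ex x)) = e x := by
          have := congrArg (fun η : (ax x).E ⟶ F => (η.app (U x)).hom (ex x)) (fac_ι (haxb x hxT))
          exact this.trans (hex' x)
        rw [h3]
      change (u.appLE (U x) (V x) (hVU x)).hom (((φ h𝒯 b).hom.app (op (U x))).hom _) = _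
      rw [h2]
    rw [h1]
    exact hspan x
  · intro P' p' chart' hP' r' hr'
    exact Groth.Agent.Lib.Helper74.QMapImmU.isImmersion_of_comp (ui h𝒯 u b) (𝟙 _) (isGradedHom_id (sym b))
      hP' (hPi b) hPL r' hr' (ui h𝒯 u b) (fun W => by
        change _ = (𝟙 (sym b).presheaf : _ ⟶ _).app (op W) ≫ _
        rw [NatTrans.id_app, Category.id_comp]) (ri b) (hri b) hdomb himmb

end

end Groth.Agent.Lib.Helper74.VAFtMain
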