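import Groth.Agent.Lib.Helper74.FtSub
import Groth.Agent.Lib.Helper74.GrSym
import Groth.Agent.Lib.Helper74.QMapComp
import Groth.Agent.Lib.Helper92.VAG1

set_option autoImplicit false
set_option linter.style.haveILetI false
universe u

open CategoryTheory CategoryTheory.Limits AlgebraicGeometry TopologicalSpace Opposite
open scoped HomogeneousIdeal

noncomputable section

namespace Groth.Agent.Lib.Helper74.VAFt

open Groth.Agent.Lib.Helper74.SymQ Groth.Agent.Lib.Helper74.FtSub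

variable {Y : Scheme.{u}}

/-- graded extension of a module map landing in degree one to the graded symmetric algebra -/
theorem exists_symMap {M : Y.Modules} (hM : Coh.IsQCoh M) {𝒯M : RelProj.QCGrAlg Y}
    {jM : M ⟶ 𝒯M.toModule} (hTM : RelProj.IsGrSymAlg M 𝒯M jM)
    (𝒜 : RelProj.QCGrAlg Y) (um : M ⟶ 𝒜.toModule)
    (hu1 : ∀ (U : Y.Opens) (hU : IsAffineOpen U) (x : Γ(M, U)), (um.app U) x ∈ 𝒜.deg U hU 1) :
    ∃ ubar : 𝒯M.toQCAlg ⟶ 𝒜.toQCAlg, RelProj.IsGradedHom ubar ∧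
      jM ≫ RelSpec.QCAlg.Hom.toModuleMap ubar = um := by
  haveI : M.IsQuasicoherent := hM
  obtain ⟨ubar, hub, -⟩ := hTM.1 𝒜.toQCAlg um
  have hstr : ∀ (U : Y.Opens) (r : Γ(Y, U)),
      (ubar.hom.app (op U)).hom ((𝒯M.str.app (op U)).hom r) = (𝒜.str.app (op U)).hom r := by
    intro U r
    have := congrArg (fun η => (η.app (op U)).hom r) ubar.comm
    exact this
  have hjm : ∀ (U : Y.Opens) (m : Γ(M, U)),
      (ubar.hom.app (op U)).hom ((jM.app U).hom m) = (um.app U).hom m := by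
    intro U m
    have := congrArg (fun η : M ⟶ 𝒜.toModule => (η.app U).hom m) hub
    exact this
  refine ⟨ubar, ?_, hub⟩
  intro U hU d x hx
  exact Groth.Agent.Lib.Helper92.VAG1.map_mem_of_isSymmetricAlgebra (𝒯M.deg U hU) (𝒜.deg U hU)
    (jLin (A := 𝒯M.toQCAlg) jM U)
    (isSymmetricAlgebra_of_isSymAlg hTM.1 U hU) (ubar.hom.app (op U)).hom
    (fun r => 𝒯M.str_mem U hU r)
    (fun r => by rw [algebraMap_algSect, hstr]; exact 𝒜.str_mem U hU r)
    (fun m => hTM.2 U hU m)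
    (fun m => by rw [jLin_apply, hjm]; exact hu1 U hU m) d x hx

theorem symMap_unique {M : Y.Modules} {𝒯M : RelProj.QCGrAlg Y}
    {jM : M ⟶ 𝒯M.toModule} (hTM : RelProj.IsGrSymAlg M 𝒯M jM) {B : RelSpec.QCAlg Y}
    (ψ₁ ψ₂ : 𝒯M.toQCAlg ⟶ B)
    (h : jM ≫ RelSpec.QCAlg.Hom.toModuleMap ψ₁ = jM ≫ RelSpec.QCAlg.Hom.toModuleMap ψ₂) : ψ₁ = ψ₂ := by
  obtain ⟨ψ, -, huniq⟩ := hTM.1 B (jM ≫ RelSpec.QCAlg.Hom.toModuleMap ψ₂)
  rw [huniq ψ₁ h, huniq ψ₂ rfl]

variable {F : Y.Modules} {𝒯 : RelProj.QCGrAlg Y} {jF : F ⟶ 𝒯.toModule}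
  (h𝒯 : RelProj.IsGrSymAlg F 𝒯 jF)

/-- the graded symmetric algebra of a member of the system (chosen) -/
def sym (a : FtSub F) : RelProj.QCGrAlg Y :=
  haveI := a.qcoh
  (Groth.Agent.Lib.Helper74.GrSym.exists_isGrSymAlg a.E).choose

/-- its structure map -/
def symJ (a : FtSub F) : a.E ⟶ (sym a).toModule :=
  haveI := a.qcoh
  (Groth.Agent.Lib.Helper74.GrSym.exists_isGrSymAlg a.E).choose_spec.choose

theorem sym_spec (a : FtSub F) : RelProj.IsGrSymAlg a.E (sym a) (symJ a) :=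
  haveI := a.qcoh
  (Groth.Agent.Lib.Helper74.GrSym.exists_isGrSymAlg a.E).choose_spec.choose_spec

include h𝒯 in
theorem exists_φ (a : FtSub F) : ∃ ubar : (sym a).toQCAlg ⟶ 𝒯.toQCAlg, RelProj.IsGradedHom ubar ∧
    symJ a ≫ RelSpec.QCAlg.Hom.toModuleMap ubar = a.ι ≫ jF :=
  exists_symMap (show Coh.IsQCoh a.E from a.qcoh) (sym_spec a) 𝒯 (a.ι ≫ jF)
    (fun U hU x => h𝒯.2 U hU ((a.ι.app U) x))

/-- `Sym` of the inclusion -/
def φ (a : FtSub F) : (sym a).toQCAlg ⟶ 𝒯.toQCAlg := (exists_φ h𝒯 a).choose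

theorem hφ (a : FtSub F) : RelProj.IsGradedHom (φ h𝒯 a) := (exists_φ h𝒯 a).choose_spec.1

theorem hφj (a : FtSub F) :
    symJ a ≫ RelSpec.QCAlg.Hom.toModuleMap (φ h𝒯 a) = a.ι ≫ jF := (exists_φ h𝒯 a).choose_spec.2

theorem φ_symJ (a : FtSub F) (U : Y.Opens) (x : Γ(a.E, U)) :
    ((φ h𝒯 a).hom.app (op U)).hom ((symJ a).app U x) = jF.app U (a.ι.app U x) := by
  have := congrArg (fun η : a.E ⟶ 𝒯.toModule => (η.app U).hom x) (hφj h𝒯 a)
  exact this

theorem exists_t {a b : FtSub F} (h : a ≤ b) :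
    ∃ ubar : (sym a).toQCAlg ⟶ (sym b).toQCAlg, RelProj.IsGradedHom ubar ∧
      symJ a ≫ RelSpec.QCAlg.Hom.toModuleMap ubar = fac h ≫ symJ b :=
  exists_symMap (show Coh.IsQCoh a.E from a.qcoh) (sym_spec a) (sym b) (fac h ≫ symJ b)
    (fun U hU x => (sym_spec b).2 U hU (((fac h).app U) x))

/-- the transition maps -/
def t (a b : FtSub F) (h : a ≤ b) : (sym a).toQCAlg ⟶ (sym b).toQCAlg := (exists_t h).choose

theorem ht (a b : FtSub F) (h : a ≤ b) : RelProj.IsGradedHom (t a b h) := (exists_t h).choose_spec.1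

theorem htj (a b : FtSub F) (h : a ≤ b) :
    symJ a ≫ RelSpec.QCAlg.Hom.toModuleMap (t a b h) = fac h ≫ symJ b := (exists_t h).choose_spec.2

theorem t_symJ (a b : FtSub F) (h : a ≤ b) (U : Y.Opens) (x : Γ(a.E, U)) :
    ((t a b h).hom.app (op U)).hom ((symJ a).app U x) = (symJ b).app U ((fac h).app U x) := by
  have := congrArg (fun η : a.E ⟶ (sym b).toModule => (η.app U).hom x) (htj a b h)
  exact this

theorem hφt (a b : FtSub F) (h : a ≤ b) : t a b h ≫ φ h𝒯 b = φ h𝒯 a := by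
  apply symMap_unique (sym_spec a)
  rw [toModuleMap_comp, ← Category.assoc, htj, Category.assoc, hφj, hφj, ← Category.assoc, fac_ι]

variable {X : Scheme.{u}} {q : X ⟶ Y} {𝒮L : RelProj.QCGrAlg X} (u : RelProj.QGrHom q 𝒯 𝒮L)

/-- the composite graded `q`-morphisms -/
def ui (a : FtSub F) : RelProj.QGrHom q (sym a) 𝒮L :=
  Groth.Agent.Lib.Helper74.QMap.compGr u (φ h𝒯 a) (hφ h𝒯 a)

theorem hui (a : FtSub F) (U : Y.Opens) :
    (ui h𝒯 u a).app U = (φ h𝒯 a).hom.app (op U) ≫ u.app U := rfl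

theorem ui_app_symJ (a : FtSub F) (U : Y.Opens) (x : Γ(a.E, U)) :
    ((ui h𝒯 u a).app U).hom ((symJ a).app U x) = (u.app U).hom (jF.app U (a.ι.app U x)) := by
  rw [← φ_symJ h𝒯 a U x]
  rfl

theorem ui_app_eq (a b : FtSub F) (h : a ≤ b) (U : Y.Opens) :
    (ui h𝒯 u a).app U = (t a b h).hom.app (op U) ≫ (ui h𝒯 u b).app U := by
  rw [hui, hui, ← Category.assoc]
  congr 1
  have := congrArg (fun ψ : (sym a).toQCAlg ⟶ 𝒯.toQCAlg => ψ.hom.app (op U)) (hφt h𝒯 a b h)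
  exact this.symm

end Groth.Agent.Lib.Helper74.VAFt
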