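import Groth.Agent.Lib.Helper74.RLTw6
import Groth.Agent.Lib.Helper74.GrSym
import Groth.Agent.Lib.Helper74.RelProjExists
import Groth.Agent.Lib.Helper74.RelProjClosed
import Groth.Agent.Lib.Helper2.QCAlgMod
import Groth.Agent.Lib.Helper35.AmpleFamily
import Groth.Agent.Lib.Helper35.RVA2
import Groth.Agent.Lib.Helper74.VAIdx
import Groth.Agent.Lib.Helper71.VAP1
import Groth.Agent.Lib.Helper14.VAL1
import Groth.Agent.Lib.Helper92.VAG1
import Groth.Agent.Lib.Helper92.VAG3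
import Groth.Agent.S8284
import Groth.Agent.S8262
import Groth.Agent.S8292
import Groth.Agent.S8287

set_option autoImplicit false
set_option linter.style.haveILetI false
universe u

open CategoryTheory CategoryTheory.Limits AlgebraicGeometry TopologicalSpace Opposite
open scoped HomogeneousIdeal

noncomputable section

namespace Groth.Agent.Lib.Helper74.VAMain

open Groth.Agent.Lib.Helper74.SymQ

theorem exists_ubar {Y : Scheme.{u}} (𝒜 : RelProj.QCGrAlg Y) (h1 : 𝒜.IsGenDegOne)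
    (h0 : ∀ (U : Y.Opens) (hU : IsAffineOpen U),
      ((𝒜.deg U hU 0 : AddSubgroup (𝒜.presheaf.obj (op U))) : Set (𝒜.presheaf.obj (op U))) =
        Set.range (𝒜.str.app (op U)).hom)
    (M : Y.Modules) (hM : Coh.IsQCoh M) (um : M ⟶ 𝒜.toModule)
    (hu1 : ∀ (U : Y.Opens) (hU : IsAffineOpen U) (x : Γ(M, U)), (um.app U) x ∈ 𝒜.deg U hU 1)
    (husurj : ∀ (U : Y.Opens) (hU : IsAffineOpen U) (s : 𝒜.presheaf.obj (op U)), s ∈ 𝒜.deg U hU 1 →
      ∃ x : Γ(M, U), (um.app U) x = s)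
    (𝒯 : RelProj.QCGrAlg Y) (j : M ⟶ 𝒯.toModule) (hT : RelProj.IsGrSymAlg M 𝒯 j) :
    ∃ (ubar : 𝒯.toQCAlg ⟶ 𝒜.toQCAlg) (hubar : RelProj.IsGradedHom ubar),
      j ≫ RelSpec.QCAlg.Hom.toModuleMap ubar = um ∧
      (∀ (U : Y.Opens) (hU : IsAffineOpen U), Function.Surjective (ubar.hom.app (op U)).hom) ∧
      ∀ (U : Y.Opens) (hU : IsAffineOpen U),
        (𝒜.deg U hU)₊ ≤ ((𝒯.deg U hU)₊).map (RelProj.gradedHomAt ubar hubar U hU) := by
  haveI : M.IsQuasicoherent := hM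
  obtain ⟨ubar, hub, -⟩ := hT.1 𝒜.toQCAlg um
  have hstr : ∀ (U : Y.Opens) (r : Γ(Y, U)),
      (ubar.hom.app (op U)).hom ((𝒯.str.app (op U)).hom r) = (𝒜.str.app (op U)).hom r := by
    intro U r
    have := congrArg (fun η => (η.app (op U)).hom r) ubar.comm
    exact this
  have hjm : ∀ (U : Y.Opens) (m : Γ(M, U)),
      (ubar.hom.app (op U)).hom ((j.app U).hom m) = (um.app U).hom m := by
    intro U m
    have := congrArg (fun η : M ⟶ 𝒜.toModule => (η.app U).hom m) hub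
    exact this
  have hubar : RelProj.IsGradedHom ubar := by
    intro U hU d x hx
    exact Groth.Agent.Lib.Helper92.VAG1.map_mem_of_isSymmetricAlgebra (𝒯.deg U hU) (𝒜.deg U hU) (jLin (A := 𝒯.toQCAlg) j U)
      (isSymmetricAlgebra_of_isSymAlg hT.1 U hU) (ubar.hom.app (op U)).hom
      (fun r => 𝒯.str_mem U hU r)
      (fun r => by rw [algebraMap_algSect, hstr]; exact 𝒜.str_mem U hU r)
      (fun m => hT.2 U hU m)
      (fun m => by rw [jLin_apply, hjm]; exact hu1 U hU m) d x hx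
  have hsurj1 : ∀ (U : Y.Opens) (hU : IsAffineOpen U), ∀ b ∈ 𝒜.deg U hU 1,
      ∃ a, (ubar.hom.app (op U)).hom a = b := by
    intro U hU b hb
    obtain ⟨x, hx⟩ := husurj U hU b hb
    exact ⟨(j.app U).hom x, (hjm U x).trans hx⟩
  refine ⟨ubar, hubar, hub, ?_, ?_⟩
  · intro U hU
    have htop : (ubar.hom.app (op U)).hom.range = ⊤ := by
      rw [eq_top_iff, ← h1 U hU, Subring.closure_le]
      rintro a (ha | ha)
      · have ha' : a ∈ Set.range (𝒜.str.app (op U)).hom := by rw [← h0 U hU]; exact ha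
        obtain ⟨r, rfl⟩ := ha'
        exact ⟨(𝒯.str.app (op U)).hom r, hstr U r⟩
      · exact hsurj1 U hU a ha
    intro a
    have : a ∈ (ubar.hom.app (op U)).hom.range := by rw [htop]; trivial
    exact this
  · intro U hU
    apply Groth.Agent.Lib.Helper92.VAG3.irrelevant_le_map_of_surj_pos
    exact Groth.Agent.Lib.Helper74.RelProjLib.surj_pos_of_genDegOne
      (RelProj.gradedHomAt ubar hubar U hU) (h1 U hU) (hsurj1 U hU)

open Groth.Agent.Lib.Helper74.RelProjLib in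
theorem main {X Y P PL : Scheme.{u}} (f : X ⟶ Y) [QuasiCompact f]
    (L : X.Modules) (hL : PicF.IsInvertible L) (hLq : Coh.IsQCoh L)
    (𝒮L : RelProj.QCGrAlg X) (jL : L ⟶ 𝒮L.toModule) (hjL : RelProj.IsGrSymAlg L 𝒮L jL)
    (pL : PL ⟶ X) (chartL : ∀ (U : X.Opens) (hU : IsAffineOpen U), (((pL ⁻¹ᵁ U : PL.Opens) : Scheme.{u}) ≅ Proj (𝒮L.deg U hU)))
    (hPL : RelProj.IsRelProj 𝒮L pL chartL)
    (𝒜 : RelProj.QCGrAlg Y) (h1 : 𝒜.IsGenDegOne)
    (h0 : ∀ (U : Y.Opens) (hU : IsAffineOpen U),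
      ((𝒜.deg U hU 0 : AddSubgroup (𝒜.presheaf.obj (op U))) : Set (𝒜.presheaf.obj (op U))) = Set.range (𝒜.str.app (op U)).hom)
    (u : RelProj.QGrHom f 𝒜 𝒮L)
    (hsurj : ∀ x : X, ∃ (U : Y.Opens) (hU : IsAffineOpen U) (e : 𝒜.presheaf.obj (op U)) (_ : e ∈ 𝒜.deg U hU 1)
        (V : X.Opens) (hV : IsAffineOpen V) (hVU : V ≤ f ⁻¹ᵁ U), x ∈ V ∧
          ((𝒮L.deg V hV 1 : AddSubgroup (𝒮L.presheaf.obj (op V))) : Set (𝒮L.presheaf.obj (op V))) ⊆
            (Ideal.span {(u.appLE U V hVU).hom e} : Set (𝒮L.presheaf.obj (op V))))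
    (p : P ⟶ Y) (chart : ∀ (U : Y.Opens) (hU : IsAffineOpen U), (((p ⁻¹ᵁ U : P.Opens) : Scheme.{u}) ≅ Proj (𝒜.deg U hU)))
    (hP : RelProj.IsRelProj 𝒜 p chart)
    (r : ((RelProj.domQ u pL chartL : PL.Opens) : Scheme.{u}) ⟶ P)
    (hr : RelProj.IsProjQMapOn u p chart pL chartL (RelProj.domQ u pL chartL) r)
    (himm : IsImmersion r) :
    RelProj.IsRelVeryAmple f L := by
  haveI : L.IsQuasicoherent := hLq
  obtain ⟨π, hπ1, hπ2⟩ := Groth.Agent.Lib.Helper14.VAL1.exists_projOne 𝒜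
  haveI hMq : 𝒜.toModule.IsQuasicoherent :=
    Groth.Agent.Lib.Helper2.QCAlgMod.toModule_isQuasicoherent 𝒜.toQCAlg
  have hM : Coh.IsQCoh 𝒜.toModule := hMq
  obtain ⟨𝒯, j, hT⟩ := Groth.Agent.Lib.Helper74.GrSym.exists_isGrSymAlg 𝒜.toModule
  have husurj : ∀ (U : Y.Opens) (hU : IsAffineOpen U) (s : 𝒜.presheaf.obj (op U)), s ∈ 𝒜.deg U hU 1 →
      ∃ x : Γ(𝒜.toModule, U), (π.app U) x = s := fun U hU s hs => ⟨s, hπ2 U hU s hs⟩
  obtain ⟨ubar, hubar, hju, hsurjU, hirr⟩ := exists_ubar 𝒜 h1 h0 𝒜.toModule hM π hπ1 husurj 𝒯 j hT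
  have hPT := isRelProj_relProj 𝒯
  obtain ⟨⟨h, hh, -⟩, hcomp⟩ := Groth.Agent.S8262.result ubar hubar hirr (relProjHom 𝒯) p
    (relProjChart 𝒯) chart hPT hP
  have hhp : h ≫ relProjHom 𝒯 = p := hcomp h hh
  haveI : IsClosedImmersion h := Groth.Agent.S8292.result 𝒜 𝒯 h1 𝒜.toModule hM π hπ1 husurj j hT
    ubar hubar hju hirr (relProjHom 𝒯) p (relProjChart 𝒯) chart hPT hP h hh
  obtain ⟨O1, lam, hO1⟩ := Groth.Agent.S8284.result 𝒯 (relProjHom 𝒯) (relProjChart 𝒯) hPT 1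
  obtain ⟨OA, lamA, hOA⟩ := Groth.Agent.S8284.result 𝒜 p chart hP ((1 : ℕ) : ℤ)
  have hgenT : 𝒯.IsGenDegOne := Groth.Agent.Lib.Helper35.RVA.isGenDegOne_of_isGrSymAlg hM hT
  have a : Nonempty ((Scheme.Modules.pullback h).obj O1 ≅ OA) :=
    Groth.Agent.S8287.result ubar hubar hgenT hsurjU hirr (relProjHom 𝒯) p (relProjChart 𝒯) chart
      hPT hP h hh 1 O1 lam hO1 OA lamA hOA
  have b : Nonempty ((Scheme.Modules.pullback r).obj OA ≅
      (Scheme.Modules.pullback ((RelProj.domQ u pL chartL).ι ≫ pL)).obj (CohB1.tensorPow L 1)) := by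
    refine Groth.Agent.Lib.Helper35.CocIso.nonempty_iso
      (ι := Groth.Agent.Lib.Helper74.RLTw.Idx (q := f) hjL u 1)
      (fun k => k.WG pL chartL)
      (fun k => k.mGen hL hP hPL r hr hOA)
      (fun k => k.isGen_mGen hL hP hPL r hr hOA)
      (fun k => k.nGen pL chartL)
      (fun k₁ k₂ => Groth.Agent.Lib.Helper74.RLTw.transition hL hP hPL r hr hOA k₁ k₂)
      (fun k => k.isGen_nGen)
      ?_
    intro w
    obtain ⟨k, hk⟩ := Groth.Agent.Lib.Helper74.RLTw.exists_idx_of_surj (hj := hjL) (u := u)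
      hL hP hPL r hr hsurj (pL w.1)
    exact ⟨k, hk⟩
  -- the domain is everything, so `ρ := ι ≫ pL` is an isomorphism
  have hdom := Groth.Agent.Lib.Helper74.RLTw.domQ_eq_top_of_surj hL hjL u hP hPL r hr hsurj
  haveI : IsIso pL := Groth.Agent.Lib.Helper74.InvSym.isIso_pL hjL hL hPL
  haveI : IsIso (RelProj.domQ u pL chartL).ι := by
    apply isIso_of_isOpenImmersion_of_opensRange_eq_top
    rw [Scheme.Opens.opensRange_ι]
    exact hdom
  set ρ := (RelProj.domQ u pL chartL).ι ≫ pL with hρ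
  haveI : IsIso ρ := by rw [hρ]; infer_instance
  have hκ : inv ρ ≫ ρ = 𝟙 X := IsIso.inv_hom_id ρ
  obtain ⟨c⟩ := Groth.Agent.Lib.Helper71.VAP1.nonempty_iso_of_chain (inv ρ) ρ hκ r h O1 OA
    (CohB1.tensorPow L 1) a b
  obtain ⟨d⟩ := Groth.Agent.Lib.Helper35.AmpleFamily.nonempty_tensorPow_one L
  haveI := himm
  refine ⟨𝒜.toModule, hM, 𝒯, j, hT, _, relProjHom 𝒯, relProjChart 𝒯, hPT, O1, lam, hO1,
    inv ρ ≫ r ≫ h, inferInstance, ?_, ⟨d ≪≫ c⟩⟩
  have hc := Groth.Agent.Lib.Helper74.QMap.isProjQMapOn_comp hP hPL r hr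
  rw [Category.assoc, Category.assoc, hhp, hc, ← Category.assoc (RelProj.domQ u pL chartL).ι, ← hρ,
    IsIso.inv_hom_id_assoc]

end Groth.Agent.Lib.Helper74.VAMain
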